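import Mathlib

set_option autoImplicit false

namespace Cfsg.Agent.Helper16

open scoped Pointwise

variable {G : Type*} [Group G]

/-- `P` is (the image in `G` of) a Sylow `p`-subgroup of the subgroup `K`. -/
def IsSylowIn (p : ℕ) (K P : Subgroup G) : Prop :=
  ∃ S : Sylow p K, (S : Subgroup K).map K.subtype = P

theorem IsSylowIn.le {p : ℕ} {K P : Subgroup G} (h : IsSylowIn p K P) : P ≤ K := by
  obtain ⟨S, rfl⟩ := h
  rintro _ ⟨x, _, rfl⟩
  exact x.2

theorem IsSylowIn.card [Finite G] {p : ℕ} [Fact p.Prime] {K P : Subgroup G}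
    (h : IsSylowIn p K P) : Nat.card P = p ^ (Nat.card K).factorization p := by
  obtain ⟨S, rfl⟩ := h
  rw [Subgroup.card_map_of_injective (Subgroup.subtype_injective _)]
  exact S.card_eq_multiplicity

theorem isSylowIn_of_card [Finite G] {p : ℕ} [Fact p.Prime] {K P : Subgroup G}
    (hle : P ≤ K) (hcard : Nat.card P = p ^ (Nat.card K).factorization p) : IsSylowIn p K P := by
  have h1 : Nat.card (P.subgroupOf K) = p ^ (Nat.card K).factorization p := by
    rw [← hcard]
    exact Nat.card_congr (Subgroup.subgroupOfEquivOfLe hle).toEquiv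
  refine ⟨Sylow.ofCard (P.subgroupOf K) h1, ?_⟩
  rw [Sylow.coe_ofCard, Subgroup.map_subgroupOf_eq_of_le hle]

theorem isSylowIn_iff_card [Finite G] {p : ℕ} [Fact p.Prime] {K P : Subgroup G} :
    IsSylowIn p K P ↔ P ≤ K ∧ Nat.card P = p ^ (Nat.card K).factorization p :=
  ⟨fun h => ⟨h.le, h.card⟩, fun h => isSylowIn_of_card h.1 h.2⟩

theorem IsSylowIn.isPGroup {p : ℕ} {K P : Subgroup G} (h : IsSylowIn p K P) : IsPGroup p P := by
  obtain ⟨S, rfl⟩ := h
  exact S.isPGroup'.map _

/-- Two Sylow subgroups of `K` are conjugate by an element of `K`. -/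
theorem IsSylowIn.exists_conj [Finite G] {p : ℕ} [Fact p.Prime] {K P Q : Subgroup G}
    (hP : IsSylowIn p K P) (hQ : IsSylowIn p K Q) :
    ∃ z ∈ K, ∀ x : G, x ∈ Q ↔ z⁻¹ * x * z ∈ P := by
  obtain ⟨S, rfl⟩ := hP
  obtain ⟨T, rfl⟩ := hQ
  obtain ⟨z, hz⟩ := MulAction.exists_smul_eq K S T
  refine ⟨z.1, z.2, ?_⟩
  intro x
  have hT : (T : Subgroup K) = MulAut.conj z • (S : Subgroup K) := by
    rw [← hz]; exact Sylow.coe_subgroup_smul
  constructor
  · rintro ⟨y, hy, rfl⟩
    have hy' : y ∈ (T : Subgroup K) := hy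
    rw [hT, Subgroup.mem_pointwise_smul_iff_inv_smul_mem] at hy'
    refine ⟨(MulAut.conj z)⁻¹ • y, hy', ?_⟩
    simp [MulAut.smul_def]
  · rintro ⟨y, hy, hyx⟩
    have hx : x = z.1 * y.1 * z.1⁻¹ := by
      have : (K.subtype y : G) = y.1 := rfl
      rw [this] at hyx
      rw [hyx]; group
    refine ⟨z * y * z⁻¹, ?_, ?_⟩
    · show z * y * z⁻¹ ∈ (T : Subgroup K)
      rw [hT, Subgroup.mem_pointwise_smul_iff_inv_smul_mem]
      have : (MulAut.conj z)⁻¹ • (z * y * z⁻¹) = y := by
        simp [MulAut.smul_def]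
        group
      rw [this]; exact hy
    · rw [hx]; rfl

/-- A `p`-subgroup of `K` that is a Sylow subgroup of `K ⊓ N(P)` is a Sylow subgroup of `K`. -/
theorem isSylowIn_of_isSylowIn_inf_normalizer [Finite G] {p : ℕ} [Fact p.Prime] {K P : Subgroup G}
    (h : IsSylowIn p (K ⊓ Subgroup.normalizer (P : Set G)) P) : IsSylowIn p K P := by
  have hp : p.Prime := Fact.out
  have hPK : P ≤ K := h.le.trans inf_le_left
  have hcard := h.card
  set n := (Nat.card ↥(K ⊓ Subgroup.normalizer (P : Set G))).factorization p with hn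
  refine isSylowIn_of_card hPK ?_
  rw [hcard]
  congr 1
  -- n = factorization of card K
  have hK0 : Nat.card K ≠ 0 := Nat.card_pos.ne'
  have hle : n ≤ (Nat.card K).factorization p := by
    have : p ^ n ∣ Nat.card K := by
      rw [← hcard]; exact Subgroup.card_dvd_of_le hPK
    exact (hp.pow_dvd_iff_le_factorization hK0).mp this
  by_contra hne
  have hlt : n + 1 ≤ (Nat.card K).factorization p := by omega
  have hdvd : p ^ (n + 1) ∣ Nat.card K := (hp.pow_dvd_iff_le_factorization hK0).mpr hlt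
  have hH : Nat.card (P.subgroupOf K) = p ^ n := by
    rw [← hcard]
    exact Nat.card_congr (Subgroup.subgroupOfEquivOfLe hPK).toEquiv
  have h2 := Sylow.prime_pow_dvd_card_normalizer hdvd hH
  rw [← Subgroup.subgroupOf_normalizer_eq hPK] at h2
  have h3 : Nat.card ((Subgroup.normalizer (P : Set G)).subgroupOf K)
      = Nat.card ↥(K ⊓ Subgroup.normalizer (P : Set G)) := by
    rw [← Subgroup.card_map_of_injective (Subgroup.subtype_injective K),
      Subgroup.subgroupOf_map_subtype, inf_comm]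
  rw [h3] at h2
  have h0 : Nat.card ↥(K ⊓ Subgroup.normalizer (P : Set G)) ≠ 0 := Nat.card_pos.ne'
  have := (hp.pow_dvd_iff_le_factorization h0).mp h2
  omega

end Cfsg.Agent.Helper16
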