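import Mathlib
import Cfsg.Agent.Lib.Helper93.U30
import Cfsg.Agent.Lib.Helper46.U2G6Core
import Cfsg.Agent.Lib.Helper78.U2B2

/-!
# U3 project (S2334), pieces O6b O6d O6e O6f O6g O6j: core versions

The group-level statements about `aElO` / `lElO` / `hEl`, with the matrix-level facts
(pieces O1a-c, O2a-b, O3, O4, T1-T3) taken as hypotheses.
-/

set_option autoImplicit false

namespace Cfsg.Agent.Helper16.U3

open Matrix Cfsg.Agent.Helper13 Cfsg.Agent.Helper93.U2 Cfsg.Agent.Helper93.U3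

section GRP

variable {F : Type*} [Field F] [Fintype F] {q : ℕ} (hF : Fintype.card F = q ^ 2)

/-- O6a, core (own copy) -/
theorem h16_aElO_val_of {n m : ℕ} (fr : FrameO hF n m) (ε : F) (a : ↥(hermSub hF m))
    (hdet : (aMatO hF fr ε a.1).det = 1)
    (hun : cT hF (aMatO hF fr ε a.1) * aMatO hF fr ε a.1 = 1) :
    (((aElO hF fr ε a : ↥(Cfsg.SU n F q)) : Matrix.SpecialLinearGroup (Fin n) F) :
      Matrix (Fin n) (Fin n) F) = aMatO hF fr ε a.1 := by
  unfold aElO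
  exact suOf_val _ hdet (Cfsg.Agent.Helper78.U2.unitary_preserves hF _ hun)

/-- O6b, core -/
theorem h16_lElO_val_of {n m : ℕ} (fr : FrameO hF n m) (E : Matrix (Fin m) (Fin m) F)
    (hdet : (lMatO hF fr E).det = 1)
    (hun : cT hF (lMatO hF fr E) * lMatO hF fr E = 1) :
    (((lElO hF fr E : ↥(Cfsg.SU n F q)) : Matrix.SpecialLinearGroup (Fin n) F) :
      Matrix (Fin n) (Fin n) F) = lMatO hF fr E := by
  unfold lElO
  exact suOf_val _ hdet (Cfsg.Agent.Helper78.U2.unitary_preserves hF _ hun)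

/-- O6d, core -/
theorem h16_hEl_val_of {n m : ℕ} (fr : FrameO hF n m) (t μ : F)
    (hdet : (hMat hF fr t μ).det = 1)
    (hun : cT hF (hMat hF fr t μ) * hMat hF fr t μ = 1) :
    (((hEl hF fr t μ : ↥(Cfsg.SU n F q)) : Matrix.SpecialLinearGroup (Fin n) F) :
      Matrix (Fin n) (Fin n) F) = hMat hF fr t μ := by
  unfold hEl
  exact suOf_val _ hdet (Cfsg.Agent.Helper78.U2.unitary_preserves hF _ hun)

/-- O6e, core -/
theorem h16_aElO_add_of {n m : ℕ} (fr : FrameO hF n m) (ε : F)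
    (hval : ∀ a : ↥(hermSub hF m),
      (((aElO hF fr ε a : ↥(Cfsg.SU n F q)) : Matrix.SpecialLinearGroup (Fin n) F) :
        Matrix (Fin n) (Fin n) F) = aMatO hF fr ε a.1)
    (hadd : ∀ H K : Matrix (Fin m) (Fin m) F,
      aMatO hF fr ε (H + K) = aMatO hF fr ε H * aMatO hF fr ε K)
    (a b : ↥(hermSub hF m)) :
    aElO hF fr ε (a + b) = (aElO hF fr ε a * aElO hF fr ε b : ↥(Cfsg.SU n F q)) := by
  apply Cfsg.Agent.Helper46.U2.h46_SU_ext
  rw [Cfsg.Agent.Helper46.U2.h46_SU_mul_val, hval, hval, hval, AddSubgroup.coe_add, hadd]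

/-- O6f, core -/
theorem h16_aElO_injective_of {n m : ℕ} (fr : FrameO hF n m) (ε : F)
    (hval : ∀ a : ↥(hermSub hF m),
      (((aElO hF fr ε a : ↥(Cfsg.SU n F q)) : Matrix.SpecialLinearGroup (Fin n) F) :
        Matrix (Fin n) (Fin n) F) = aMatO hF fr ε a.1)
    (hinj : ∀ H K : Matrix (Fin m) (Fin m) F, aMatO hF fr ε H = aMatO hF fr ε K → H = K) :
    Function.Injective (aElO hF fr ε : ↥(hermSub hF m) → ↥(Cfsg.SU n F q)) := by
  intro a b hab
  apply Subtype.ext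
  apply hinj
  rw [← hval a, ← hval b, hab]

/-- O6g, core -/
theorem h16_lElO_conj_of {n m : ℕ} (fr : FrameO hF n m) (ε : F)
    (E : Matrix (Fin m) (Fin m) F)
    (hval : ∀ a : ↥(hermSub hF m),
      (((aElO hF fr ε a : ↥(Cfsg.SU n F q)) : Matrix.SpecialLinearGroup (Fin n) F) :
        Matrix (Fin n) (Fin n) F) = aMatO hF fr ε a.1)
    (hlval : (((lElO hF fr E : ↥(Cfsg.SU n F q)) : Matrix.SpecialLinearGroup (Fin n) F) :
      Matrix (Fin n) (Fin n) F) = lMatO hF fr E)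
    (hcomm : ∀ H : Matrix (Fin m) (Fin m) F, lMatO hF fr E * aMatO hF fr ε H =
      aMatO hF fr ε ((1 + E) * H * cT hF (1 + E)) * lMatO hF fr E)
    (a : ↥(hermSub hF m)) :
    (lElO hF fr E * aElO hF fr ε a * (lElO hF fr E)⁻¹ : ↥(Cfsg.SU n F q)) =
      aElO hF fr ε (congH hF (1 + E) a) := by
  rw [mul_inv_eq_iff_eq_mul]
  apply Cfsg.Agent.Helper46.U2.h46_SU_ext
  rw [Cfsg.Agent.Helper46.U2.h46_SU_mul_val, Cfsg.Agent.Helper46.U2.h46_SU_mul_val, hval, hval,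
    hlval, congH_val, hcomm]

/-- O6j, core -/
theorem h16_hEl_conj_of {n : ℕ} (fr : FrameO hF n 1) (ε : F) (t μ : F)
    (hval : ∀ a : ↥(hermSub hF 1),
      (((aElO hF fr ε a : ↥(Cfsg.SU n F q)) : Matrix.SpecialLinearGroup (Fin n) F) :
        Matrix (Fin n) (Fin n) F) = aMatO hF fr ε a.1)
    (hhval : (((hEl hF fr t μ : ↥(Cfsg.SU n F q)) : Matrix.SpecialLinearGroup (Fin n) F) :
      Matrix (Fin n) (Fin n) F) = hMat hF fr t μ)
    (hcomm : ∀ H : Matrix (Fin 1) (Fin 1) F, hMat hF fr t μ * aMatO hF fr ε H =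
      aMatO hF fr ε ((t * t ^ q) • H) * hMat hF fr t μ)
    (a : ↥(hermSub hF 1)) :
    (hEl hF fr t μ * aElO hF fr ε a * (hEl hF fr t μ)⁻¹ : ↥(Cfsg.SU n F q)) =
      aElO hF fr ε (congH hF (t • (1 : Matrix (Fin 1) (Fin 1) F)) a) := by
  rw [mul_inv_eq_iff_eq_mul]
  apply Cfsg.Agent.Helper46.U2.h46_SU_ext
  rw [Cfsg.Agent.Helper46.U2.h46_SU_mul_val, Cfsg.Agent.Helper46.U2.h46_SU_mul_val, hval, hval,
    hhval, congH_val, hcomm]
  congr 2
  -- `(t • 1) * a * cT (t • 1) = (t * t ^ q) • a`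
  rw [cT_smul, cT_one, Matrix.smul_mul, Matrix.one_mul, Matrix.mul_smul, Matrix.mul_one,
    smul_smul]
  congr 1
  ring

end GRP

end Cfsg.Agent.Helper16.U3
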