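import Mathlib
import Cfsg.Agent.Lib.Helper93.U30
import Cfsg.Agent.Lib.Helper16.U3O6Core
import Cfsg.Agent.Lib.Helper40.U3O1a
import Cfsg.Agent.Lib.Helper40.U3O1b
import Cfsg.Agent.Lib.Helper40.U3O1c
import Cfsg.Agent.Lib.Helper40.U3O4

/-!
# U3 project (S2334), pieces O6e and O6f
-/

set_option autoImplicit false

namespace Cfsg.Agent.Helper16.U3

open Matrix Cfsg.Agent.Helper13 Cfsg.Agent.Helper93.U2 Cfsg.Agent.Helper93.U3

section GRP

variable {F : Type*} [Field F] [Fintype F] {q : ℕ} (hF : Fintype.card F = q ^ 2)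

/-- own copy of piece O6a (uses B2 of U2, O1b, O1c) -/
theorem h16_aElO_val {n m : ℕ} (fr : FrameO hF n m) (ε : F) (hε : ε ^ q = -ε) (a : ↥(hermSub hF m)) :
    (((aElO hF fr ε a : ↥(Cfsg.SU n F q)) : Matrix.SpecialLinearGroup (Fin n) F) :
      Matrix (Fin n) (Fin n) F) = aMatO hF fr ε a.1 :=
  h16_aElO_val_of hF fr ε a (Cfsg.Agent.Helper40.U3.aMatO_det hF fr ε a.1)
    (Cfsg.Agent.Helper40.U3.aMatO_unitary hF fr ε hε a.1 a.2)

/-- piece O6e (uses O6a, O1a) -/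
theorem aElO_add {n m : ℕ} (fr : FrameO hF n m) (ε : F) (hε : ε ^ q = -ε)
    (a b : ↥(hermSub hF m)) :
    aElO hF fr ε (a + b) = (aElO hF fr ε a * aElO hF fr ε b : ↥(Cfsg.SU n F q)) :=
  h16_aElO_add_of hF fr ε (h16_aElO_val hF fr ε hε)
    (Cfsg.Agent.Helper40.U3.aMatO_add hF fr ε) a b

/-- piece O6f (uses O6a, O4) -/
theorem aElO_injective {n m : ℕ} (fr : FrameO hF n m) (ε : F) (hε : ε ^ q = -ε) (hε0 : ε ≠ 0) :
    Function.Injective (aElO hF fr ε : ↥(hermSub hF m) → ↥(Cfsg.SU n F q)) :=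
  h16_aElO_injective_of hF fr ε (h16_aElO_val hF fr ε hε)
    (Cfsg.Agent.Helper40.U3.aMatO_injective hF fr ε hε0)

end GRP

end Cfsg.Agent.Helper16.U3
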