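import Mathlib
import Cfsg.Prelude.Def_Blocks
import Cfsg.Agent.Lib.Helper77.CentralChar
import Cfsg.Agent.Lib.Helper80.CharBasic

set_option autoImplicit false
set_option linter.unusedSectionVars false

namespace Cfsg.Agent.Helper16

open Cfsg Cfsg.Agent.Helper77

section classes

variable {G : Type*} [Group G] [Fintype G]

open scoped Classical in
/-- Grouping a sum over the group by conjugacy classes, for class functions. -/
theorem sum_eq_sum_conjClasses (f : G → ℂ) (hf : IsClassFunction G f) :
    ∑ g : G, f g = ∑ c : ConjClasses G,
      ((Subgroup.centralizer ({c.out} : Set G)).index : ℂ) * f c.out := by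
  rw [← Finset.sum_fiberwise Finset.univ (ConjClasses.mk : G → ConjClasses G) f]
  refine Finset.sum_congr rfl fun c _ => ?_
  have hrep : ConjClasses.mk c.out = c := Quotient.out_eq c
  have hconst : ∀ g ∈ Finset.univ.filter (fun g : G => ConjClasses.mk g = c), f g = f c.out := by
    intro g hg
    have hg' : ConjClasses.mk g = c := (Finset.mem_filter.mp hg).2
    have : IsConj c.out g := by
      rw [← ConjClasses.mk_eq_mk_iff_isConj, hrep, hg']
    obtain ⟨x, hx⟩ := isConj_iff.mp this
    rw [← hx]; exact hf _ x
  rw [Finset.sum_congr rfl hconst, Finset.sum_const, nsmul_eq_mul]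
  congr 2
  rw [← card_isConj_eq_index, Nat.card_eq_fintype_card, Fintype.card_subtype]
  congr 1
  ext g
  simp only [Finset.mem_filter, Finset.mem_univ, true_and]
  rw [← hrep, ConjClasses.mk_eq_mk_iff_isConj, hrep, isConj_comm]

open scoped Classical in
/-- `omega χ a` as a sum over classes of coefficients times central character values. -/
theorem omega_eq_sum_conjClasses (χ a : G → ℂ) (hχ : IsClassFunction G χ)
    (ha : IsClassFunction G a) :
    omega χ a = ∑ c : ConjClasses G, a c.out * centralChar χ c.out := by
  unfold omega
  have hf : IsClassFunction G (fun g => a g * χ g) := fun g h => by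
    show a (h * g * h⁻¹) * χ (h * g * h⁻¹) = a g * χ g
    rw [ha g h, hχ g h]
  rw [sum_eq_sum_conjClasses _ hf, Finset.sum_div]
  refine Finset.sum_congr rfl fun c _ => ?_
  unfold centralChar
  ring

end classes

section sameBlock

variable {G : Type*} [Group G] [Fintype G] {p : ℕ} {M : Ideal AlgInt}

/-- Characters in the same block have congruent central characters on every class function with
local-ring coefficients. -/
theorem omega_sub_memLocalIdeal (hM : IsPModular p M) {χ ψ : G → ℂ} (hχ : IsClassFunction G χ)
    (hψ : IsClassFunction G ψ) (h : SameBlock M χ ψ) {a : G → ℂ} (ha : IsClassFunction G a)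
    (haR : ∀ g, MemLocalRing M (a g)) : MemLocalIdeal M (omega χ a - omega ψ a) := by
  have := isPrime_of_isPModular hM
  rw [omega_eq_sum_conjClasses χ a hχ ha, omega_eq_sum_conjClasses ψ a hψ ha,
    ← Finset.sum_sub_distrib]
  apply memLocalIdeal_sum
  intro c _
  rw [← mul_sub]
  exact memLocalIdeal_mul_left (haR _) (h _)

theorem sameBlock_refl (hM : IsPModular p M) (χ : G → ℂ) : SameBlock M χ χ := by
  intro g
  rw [sub_self]
  exact memLocalIdeal_zero (ne_top_of_isPModular hM)

theorem sameBlock_symm (hM : IsPModular p M) {χ ψ : G → ℂ} (h : SameBlock M χ ψ) :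
    SameBlock M ψ χ := by
  have := isPrime_of_isPModular hM
  intro g
  have := memLocalIdeal_neg (h g)
  rwa [neg_sub] at this

theorem sameBlock_trans (hM : IsPModular p M) {χ ψ φ : G → ℂ} (h1 : SameBlock M χ ψ)
    (h2 : SameBlock M ψ φ) : SameBlock M χ φ := by
  have := isPrime_of_isPModular hM
  intro g
  have := memLocalIdeal_add (h1 g) (h2 g)
  rwa [sub_add_sub_cancel] at this

end sameBlock

section induced

variable {G : Type*} [Group G] [Fintype G]

/-- The indicator on `H` of the `G`-class of `g`. -/
noncomputable def fusInd (H : Subgroup G) (g : G) : H → ℂ := fun h => by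
  classical exact if IsConj g (h : G) then 1 else 0

theorem isClassFunction_fusInd (H : Subgroup G) (g : G) : IsClassFunction H (fusInd H g) := by
  classical
  intro x h
  unfold fusInd
  have : IsConj g ((h * x * h⁻¹ : H) : G) ↔ IsConj g (x : G) := by
    have hc : IsConj (x : G) ((h * x * h⁻¹ : H) : G) := isConj_iff.mpr ⟨(h : G), by simp⟩
    exact ⟨fun hh => hh.trans hc.symm, fun hh => hh.trans hc⟩
  simp only [this]

theorem inducedCentralChar_eq_omega (H : Subgroup G) [Fintype H] (ξ : H → ℂ) (g : G) :
    inducedCentralChar H ξ g = omega ξ (fusInd H g) := by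
  classical
  unfold inducedCentralChar omega fusInd
  rw [finsum_mem_eq_finite_toFinset_sum _ (Set.toFinite _), ← Finset.sum_div]
  congr 1
  simp only [ite_mul, one_mul, zero_mul]
  rw [← Finset.sum_filter]
  refine Finset.sum_congr ?_ fun _ _ => rfl
  ext h
  simp

/-- Induced central characters of characters in the same block are congruent. -/
theorem inducedCentralChar_sub_memLocalIdeal {p : ℕ} {M : Ideal AlgInt} (hM : IsPModular p M)
    (H : Subgroup G) {ξ ξ' : H → ℂ} (hξ : IsClassFunction H ξ) (hξ' : IsClassFunction H ξ')
    (h : SameBlock M ξ ξ') (g : G) :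
    MemLocalIdeal M (inducedCentralChar H ξ g - inducedCentralChar H ξ' g) := by
  classical
  have : Fintype H := Fintype.ofFinite H
  have := isPrime_of_isPModular hM
  rw [inducedCentralChar_eq_omega, inducedCentralChar_eq_omega]
  apply omega_sub_memLocalIdeal hM hξ hξ' h (isClassFunction_fusInd H g)
  intro x
  unfold fusInd
  split_ifs
  · exact memLocalRing_one (ne_top_of_isPModular hM)
  · exact memLocalRing_zero (ne_top_of_isPModular hM)

end induced

end Cfsg.Agent.Helper16
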