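import Mathlib
import Cfsg.Prelude.Def_Blocks
import Cfsg.Agent.Lib.Helper77.CentralChar
import Cfsg.Agent.Lib.Helper78.CharOrtho
import Cfsg.Agent.Lib.Helper16.BlockBasic

set_option autoImplicit false
set_option linter.unusedSectionVars false

namespace Cfsg.Agent.Helper16

open Cfsg Cfsg.Agent.Helper77
open scoped ComplexConjugate

section translate

variable {G : Type*} [Group G] [Fintype G]

/-- A central element acts on an irreducible character by translation as a scalar. -/
theorem sum_mul_char_translate {χ : G → ℂ} (hχ : IsIrrCharacter G χ) {a : G → ℂ}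
    (ha : IsClassFunction G a) (x : G) : ∑ g, a g * χ (g * x) = omega χ a * χ x := by
  obtain ⟨n, ρ, hirr, rfl⟩ := hχ
  have := hirr
  have h := opOf_eq_omega_smul ρ ha
  have h2 := congrArg (fun T : Module.End ℂ (Fin n → ℂ) => LinearMap.trace ℂ _ (T * ρ x)) h
  beta_reduce at h2
  rw [smul_mul_assoc, one_mul, map_smul, smul_eq_mul] at h2
  rw [show LinearMap.trace ℂ (Fin n → ℂ) (ρ x) = ρ.character x from rfl] at h2
  rw [← h2]
  unfold opOf
  rw [Finset.sum_mul, map_sum]
  refine Finset.sum_congr rfl fun g _ => ?_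
  rw [smul_mul_assoc, map_smul, smul_eq_mul, ← map_mul]
  rfl

theorem sum_eq_sum_subgroup (N : Subgroup G) [Fintype N] (f : G → ℂ)
    (hf : ∀ g, g ∉ N → f g = 0) : ∑ g, f g = ∑ m : N, f m := by
  classical
  have h1 : ∑ m : N, f m
      = ∑ g ∈ (Finset.univ : Finset N).map ⟨Subtype.val, Subtype.val_injective⟩, f g := by
    rw [Finset.sum_map]; rfl
  rw [h1]
  symm
  apply Finset.sum_subset (Finset.subset_univ _)
  intro g _ hg
  apply hf
  intro hgN
  apply hg
  rw [Finset.mem_map]
  exact ⟨⟨g, hgN⟩, Finset.mem_univ _, rfl⟩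

end translate

section restrict

variable {G : Type*} [Group G]

/-- Restriction of a character to a subgroup is a character. -/
theorem isCharacter_restrict (N : Subgroup G) {χ : G → ℂ} (hχ : IsCharacter G χ) :
    IsCharacter N (fun n : N => χ n) := by
  obtain ⟨k, ρ, rfl⟩ := hχ
  exact ⟨k, ρ.comp N.subtype, rfl⟩

end restrict

section normal

variable {G : Type*} [Group G] [Fintype G] (N : Subgroup G) [Fintype N]

theorem isClassFunction_restrict {a : G → ℂ} (ha : IsClassFunction G a) :
    IsClassFunction N (fun n : N => a n) := by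
  intro g h
  exact ha (g : G) (h : G)

/-- **Key theorem.** If `θ` is a constituent of `χ` restricted to `N`, then the central
characters of `χ` and `θ` agree on class functions of `G` supported on `N`. -/
theorem omega_eq_omega_of_constituent (χ : IrrCharacter G) (θ : IrrCharacter N)
    (hcon : classInner (fun n : N => (χ : G → ℂ) n) (θ : N → ℂ) ≠ 0)
    {a : G → ℂ} (ha : IsClassFunction G a) (hsupp : ∀ g, g ∉ N → a g = 0) :
    omega (χ : G → ℂ) a = omega (θ : N → ℂ) (fun n : N => a n) := by
  classical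
  have hχN : IsCharacter N (fun n : N => (χ : G → ℂ) n) :=
    isCharacter_restrict N (Cfsg.Agent.Helper78.IsIrrCharacter.isCharacter χ.2)
  obtain ⟨m, hm⟩ := Cfsg.Agent.Helper78.IsCharacter.exists_irr_decomp hχN
  have hmθ : (m θ : ℂ) = classInner (fun n : N => (χ : G → ℂ) n) (θ : N → ℂ) := by
    rw [hm, Cfsg.Agent.Helper78.classInner_decomp]
  have hmθ0 : (m θ : ℂ) ≠ 0 := by rw [hmθ]; exact hcon
  have haN := isClassFunction_restrict N ha
  set ω := omega (χ : G → ℂ) a with hω
  -- identity on N from G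
  have h1 : ∀ n' : N, ∑ k : N, a k * (χ : G → ℂ) ((k : G) * (n' : G)) = ω * (χ : G → ℂ) n' := by
    intro n'
    rw [← sum_mul_char_translate χ.2 ha (n' : G)]
    symm
    apply sum_eq_sum_subgroup N (fun g => a g * (χ : G → ℂ) (g * (n' : G)))
    intro g hg
    rw [hsupp g hg, zero_mul]
  -- identity for each irreducible character of N
  have h2 : ∀ θ' : IrrCharacter N, ∀ n' : N,
      ∑ k : N, a k * (θ' : N → ℂ) (k * n') = omega (θ' : N → ℂ) (fun n : N => a n) * (θ' : N → ℂ) n' :=
    fun θ' n' => sum_mul_char_translate θ'.2 haN n'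
  -- expand χ on N
  have hχval : ∀ n : N, (χ : G → ℂ) n = ∑ θ' : IrrCharacter N, (m θ' : ℂ) * (θ' : N → ℂ) n := by
    intro n
    have := congrFun hm n
    simp only [Finset.sum_apply, Pi.smul_apply, smul_eq_mul] at this
    exact this
  -- two expansions of the same function
  have h3 : (∑ θ' : IrrCharacter N,
        ((m θ' : ℂ) * omega (θ' : N → ℂ) (fun n : N => a n)) • (θ' : N → ℂ))
      = ∑ θ' : IrrCharacter N, (ω * (m θ' : ℂ)) • (θ' : N → ℂ) := by
    funext n'
    simp only [Finset.sum_apply, Pi.smul_apply, smul_eq_mul]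
    have e1 : ∑ θ' : IrrCharacter N, ω * (m θ' : ℂ) * (θ' : N → ℂ) n' = ω * (χ : G → ℂ) n' := by
      rw [hχval n', Finset.mul_sum]
      refine Finset.sum_congr rfl fun θ' _ => ?_
      ring
    rw [e1, ← h1 n']
    have e2 : ∀ k : N, a k * (χ : G → ℂ) ((k : G) * (n' : G))
        = ∑ θ' : IrrCharacter N, (m θ' : ℂ) * (a k * (θ' : N → ℂ) (k * n')) := by
      intro k
      have : ((k : G) * (n' : G)) = ((k * n' : N) : G) := rfl
      rw [this, hχval (k * n'), Finset.mul_sum]
      refine Finset.sum_congr rfl fun θ' _ => ?_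
      ring
    simp only [e2]
    rw [Finset.sum_comm]
    refine Finset.sum_congr rfl fun θ' _ => ?_
    rw [← Finset.mul_sum, h2 θ' n']
    ring
  have h4 := congrArg (fun f : N → ℂ => classInner f (θ : N → ℂ)) h3
  simp only [Cfsg.Agent.Helper78.classInner_decomp] at h4
  -- m θ * omega θ = ω * m θ
  have : omega (θ : N → ℂ) (fun n : N => a n) = ω := by
    apply mul_left_cancel₀ hmθ0
    rw [h4]; ring
  rw [this]

end normal

end Cfsg.Agent.Helper16
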