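import Mathlib
import Cfsg.Prelude.Def_Blocks
import Cfsg.Agent.Lib.Helper16.NormalSub

set_option autoImplicit false
set_option linter.unusedSectionVars false

namespace Cfsg.Agent.Helper16

open Cfsg Cfsg.Agent.Helper77
open scoped ComplexConjugate

section basic

theorem isClassFunction_of_isIrrCharacter' {G : Type*} [Group G] {χ : G → ℂ}
    (hχ : IsIrrCharacter G χ) : IsClassFunction G χ := by
  obtain ⟨n, ρ, _, rfl⟩ := hχ
  intro g h
  exact Representation.char_conj ρ g h

end basic

section compEquiv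

variable {H N V : Type*} [Group H] [Group N] [AddCommGroup V] [Module ℂ V]

/-- Composing a representation with a group isomorphism. -/
def repCompEquiv (σ : Representation ℂ N V) (φ : H ≃* N) : Representation ℂ H V :=
  MonoidHom.comp σ φ.toMonoidHom

theorem repCompEquiv_apply (σ : Representation ℂ N V) (φ : H ≃* N) (h : H) :
    repCompEquiv σ φ h = σ (φ h) := rfl

/-- Subrepresentations do not change under composition with an isomorphism. -/
def subrepCompEquiv (σ : Representation ℂ N V) (φ : H ≃* N) :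
    Subrepresentation (repCompEquiv σ φ) ≃o Subrepresentation σ where
  toFun W := ⟨W.toSubmodule, fun g v hv => by
    have := W.apply_mem_toSubmodule (φ.symm g) hv
    rwa [repCompEquiv_apply, MulEquiv.apply_symm_apply] at this⟩
  invFun W := ⟨W.toSubmodule, fun h v hv => W.apply_mem_toSubmodule (φ h) hv⟩
  left_inv W := rfl
  right_inv W := rfl
  map_rel_iff' := Iff.rfl

theorem isIrreducible_repCompEquiv (σ : Representation ℂ N V) (φ : H ≃* N)
    (h : σ.IsIrreducible) : (repCompEquiv σ φ).IsIrreducible :=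
  (OrderIso.isSimpleOrder_iff (subrepCompEquiv σ φ)).mpr h

theorem isIrrCharacter_comp_equiv {θ : N → ℂ} (hθ : IsIrrCharacter N θ) (φ : H ≃* N) :
    IsIrrCharacter H (fun h => θ (φ h)) := by
  obtain ⟨k, σ, hirr, rfl⟩ := hθ
  exact ⟨k, repCompEquiv σ φ, isIrreducible_repCompEquiv σ φ hirr, rfl⟩

end compEquiv

section conjIrr

variable {G : Type*} [Group G] (N : Subgroup G) [hN : N.Normal]

/-- The conjugate `θ^x` of an irreducible character of a normal subgroup:
`(conjIrr N x θ) n = θ (x⁻¹ n x)`. -/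
noncomputable def conjIrr (x : G) (θ : IrrCharacter N) : IrrCharacter N :=
  ⟨fun n => (θ : N → ℂ) ((MulAut.conjNormal x⁻¹ : MulAut N) n),
    isIrrCharacter_comp_equiv θ.2 (MulAut.conjNormal x⁻¹ : MulAut N)⟩

theorem conjIrr_apply (x : G) (θ : IrrCharacter N) (n : N) :
    (conjIrr N x θ : N → ℂ) n = (θ : N → ℂ) ((MulAut.conjNormal x⁻¹ : MulAut N) n) := rfl

theorem conjIrr_apply' (x : G) (θ : IrrCharacter N) (n : N) (h : x⁻¹ * (n : G) * x ∈ N) :
    (conjIrr N x θ : N → ℂ) n = (θ : N → ℂ) ⟨x⁻¹ * (n : G) * x, h⟩ := by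
  rw [conjIrr_apply]
  have : (MulAut.conjNormal x⁻¹ : MulAut N) n = ⟨x⁻¹ * (n : G) * x, h⟩ := by
    apply Subtype.ext
    simp
  rw [this]

theorem conjIrr_one (θ : IrrCharacter N) : conjIrr N 1 θ = θ := by
  apply Subtype.ext
  funext n
  rw [conjIrr_apply]
  simp

theorem conjIrr_mul (x y : G) (θ : IrrCharacter N) :
    conjIrr N (x * y) θ = conjIrr N x (conjIrr N y θ) := by
  apply Subtype.ext
  funext n
  rw [conjIrr_apply, conjIrr_apply, conjIrr_apply]
  rw [mul_inv_rev, map_mul]
  rfl

theorem conjIrr_inv_conjIrr (x : G) (θ : IrrCharacter N) : conjIrr N x⁻¹ (conjIrr N x θ) = θ := by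
  rw [← conjIrr_mul, inv_mul_cancel, conjIrr_one]

theorem conjIrr_conjIrr_inv (x : G) (θ : IrrCharacter N) : conjIrr N x (conjIrr N x⁻¹ θ) = θ := by
  rw [← conjIrr_mul, mul_inv_cancel, conjIrr_one]

theorem conjIrr_one_apply (x : G) (θ : IrrCharacter N) :
    (conjIrr N x θ : N → ℂ) 1 = (θ : N → ℂ) 1 := by
  rw [conjIrr_apply, map_one]

/-- Conjugation by an element of `N` does not change the character. -/
theorem conjIrr_of_mem (x : N) (θ : IrrCharacter N) : conjIrr N (x : G) θ = θ := by
  apply Subtype.ext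
  funext n
  rw [conjIrr_apply]
  have hcl := isClassFunction_of_isIrrCharacter' θ.2
  have : (MulAut.conjNormal (x : G)⁻¹ : MulAut N) n = x⁻¹ * n * x⁻¹⁻¹ := by
    apply Subtype.ext
    simp
  rw [this]
  exact hcl n x⁻¹

end conjIrr

end Cfsg.Agent.Helper16
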