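import Mathlib
import Cfsg.Prelude.Def_Blocks
import Cfsg.Agent.Lib.Helper16.ConjIrr
import Cfsg.Agent.Lib.Helper78.CharSchur

set_option autoImplicit false
set_option linter.unusedSectionVars false

namespace Cfsg.Agent.Helper16

open Cfsg Cfsg.Agent.Helper77
open scoped ComplexConjugate

section ext

variable {G : Type*} [Group G]

theorem extendByZero_of_mem (N : Subgroup G) (f : N → ℂ) {g : G} (hg : g ∈ N) :
    extendByZero N f g = f ⟨g, hg⟩ := by
  unfold extendByZero
  have : g = ((⟨g, hg⟩ : N) : G) := rfl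
  conv_lhs => rw [this]
  rw [Subtype.val_injective.extend_apply]

theorem extendByZero_of_not_mem (N : Subgroup G) (f : N → ℂ) {g : G} (hg : g ∉ N) :
    extendByZero N f g = 0 := by
  unfold extendByZero
  rw [Function.extend_apply']
  · rfl
  · rintro ⟨m, rfl⟩; exact hg m.2

theorem extendByZero_coe (N : Subgroup G) (f : N → ℂ) (n : N) :
    extendByZero N f (n : G) = f n := extendByZero_of_mem N f n.2

end ext

section idem

variable {G : Type*} [Group G] [Fintype G] (N : Subgroup G) [hN : N.Normal] [Fintype N]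

/-- The sum of the central primitive idempotents of `ℂN` attached to a finite set `C` of
irreducible characters of `N`, as a function on `G` vanishing off `N`. -/
noncomputable def idemFun (C : Finset (IrrCharacter N)) : G → ℂ :=
  extendByZero N
    (fun n => ∑ θ ∈ C, (θ : N → ℂ) 1 * conj ((θ : N → ℂ) n) / (Nat.card N : ℂ))

theorem idemFun_coe (C : Finset (IrrCharacter N)) (n : N) :
    idemFun N C (n : G) = ∑ θ ∈ C, (θ : N → ℂ) 1 * conj ((θ : N → ℂ) n) / (Nat.card N : ℂ) :=
  extendByZero_coe N _ n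

theorem idemFun_of_not_mem (C : Finset (IrrCharacter N)) {g : G} (hg : g ∉ N) :
    idemFun N C g = 0 := extendByZero_of_not_mem N _ hg

open scoped Classical in
theorem omega_idemFun_restrict (C : Finset (IrrCharacter N)) (θ₀ : IrrCharacter N) :
    omega (θ₀ : N → ℂ) (fun n : N => idemFun N C (n : G)) = if θ₀ ∈ C then 1 else 0 := by
  have h1 : (θ₀ : N → ℂ) 1 ≠ 0 := Cfsg.Agent.Helper78.irr_apply_one_ne_zero θ₀.2
  unfold omega
  simp only [idemFun_coe]
  have h2 : ∑ n : N, (∑ θ ∈ C, (θ : N → ℂ) 1 * conj ((θ : N → ℂ) n) / (Nat.card N : ℂ))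
        * (θ₀ : N → ℂ) n
      = ∑ θ ∈ C, (θ : N → ℂ) 1 * classInner (θ₀ : N → ℂ) (θ : N → ℂ) := by
    simp only [Finset.sum_mul]
    rw [Finset.sum_comm]
    refine Finset.sum_congr rfl fun θ _ => ?_
    unfold classInner
    rw [Finset.mul_sum, Finset.mul_sum]
    refine Finset.sum_congr rfl fun n _ => ?_
    ring
  rw [h2]
  simp only [Cfsg.Agent.Helper78.classInner_irr]
  split_ifs with hmem
  · rw [Finset.sum_eq_single θ₀]
    · rw [if_pos rfl, mul_one, div_self h1]
    · intro θ _ hne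
      rw [if_neg (Ne.symm hne), mul_zero]
    · intro h; exact absurd hmem h
  · rw [Finset.sum_eq_zero, zero_div]
    intro θ hθ
    rw [if_neg, mul_zero]
    intro h
    exact hmem (h ▸ hθ)

theorem isClassFunction_idemFun (C : Finset (IrrCharacter N))
    (hC : ∀ x : G, ∀ θ ∈ C, conjIrr N x θ ∈ C) : IsClassFunction G (idemFun N C) := by
  intro g x
  by_cases hg : g ∈ N
  · have hg' : x * g * x⁻¹ ∈ N := hN.conj_mem g hg x
    have e1 : idemFun N C (x * g * x⁻¹) = idemFun N C ((⟨x * g * x⁻¹, hg'⟩ : N) : G) := rfl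
    have e2 : idemFun N C g = idemFun N C ((⟨g, hg⟩ : N) : G) := rfl
    rw [e1, e2, idemFun_coe, idemFun_coe]
    refine Finset.sum_bij' (fun θ _ => conjIrr N x⁻¹ θ) (fun θ _ => conjIrr N x θ) ?_ ?_ ?_ ?_ ?_
    · intro θ hθ; exact hC _ _ hθ
    · intro θ hθ; exact hC _ _ hθ
    · intro θ _; exact conjIrr_conjIrr_inv N x θ
    · intro θ _
      have := conjIrr_inv_conjIrr N x θ
      exact this
    · intro θ _
      rw [conjIrr_one_apply]
      congr 3
      have h3 : x⁻¹⁻¹ * ((⟨g, hg⟩ : N) : G) * x⁻¹ ∈ N := by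
        rw [inv_inv]; exact hg'
      rw [conjIrr_apply' N x⁻¹ θ ⟨g, hg⟩ h3]
      have : (⟨x * g * x⁻¹, hg'⟩ : N) = ⟨x⁻¹⁻¹ * ((⟨g, hg⟩ : N) : G) * x⁻¹, h3⟩ := by
        apply Subtype.ext
        simp
      rw [this]
  · have hg' : x * g * x⁻¹ ∉ N := by
      intro h
      apply hg
      have := hN.conj_mem _ h x⁻¹
      simpa [mul_assoc] using this
    rw [idemFun_of_not_mem N C hg, idemFun_of_not_mem N C hg']

open scoped Classical in
theorem omega_idemFun_of_constituent (C : Finset (IrrCharacter N))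
    (hC : ∀ x : G, ∀ θ ∈ C, conjIrr N x θ ∈ C) (χ : IrrCharacter G) (θ₀ : IrrCharacter N)
    (hcon : classInner (fun n : N => (χ : G → ℂ) n) (θ₀ : N → ℂ) ≠ 0) :
    omega (χ : G → ℂ) (idemFun N C) = if θ₀ ∈ C then 1 else 0 := by
  rw [omega_eq_omega_of_constituent N χ θ₀ hcon (isClassFunction_idemFun N C hC)
    (fun g hg => idemFun_of_not_mem N C hg)]
  exact omega_idemFun_restrict N C θ₀

/-- If `p` does not divide `|N|`, the idempotent has local-ring coefficients. -/
theorem memLocalRing_idemFun {p : ℕ} {M : Ideal AlgInt} (hM : IsPModular p M)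
    (hpN : ¬ p ∣ Nat.card N) (C : Finset (IrrCharacter N)) (g : G) :
    MemLocalRing M (idemFun N C g) := by
  have := isPrime_of_isPModular hM
  have hne := ne_top_of_isPModular hM
  by_cases hg : g ∈ N
  · have e2 : idemFun N C g = idemFun N C ((⟨g, hg⟩ : N) : G) := rfl
    rw [e2, idemFun_coe]
    apply memLocalRing_sum
    intro θ _
    rw [div_eq_mul_inv]
    apply memLocalRing_mul
    · apply memLocalRing_mul
      · have hint := Cfsg.Agent.Helper78.IsIrrCharacter.isIntegral θ.2 (1 : N)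
        exact memLocalRing_algInt hne (⟨_, hint⟩ : AlgInt)
      · rw [← Cfsg.Agent.Helper78.IsIrrCharacter.inv θ.2]
        have hint := Cfsg.Agent.Helper78.IsIrrCharacter.isIntegral θ.2 (⟨g, hg⟩ : N)⁻¹
        exact memLocalRing_algInt hne (⟨_, hint⟩ : AlgInt)
    · apply memLocalRing_inv (memLocalRing_natCast _)
      rw [memLocalIdeal_natCast_iff hM]
      exact hpN
  · rw [idemFun_of_not_mem N C hg]
    exact memLocalRing_zero hne

open scoped Classical in
/-- Main transfer principle: characters in the same block of `G` lie over the same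
`G`-stable "idempotent-closed" sets of characters of `N`. -/
theorem mem_of_sameBlock {p : ℕ} {M : Ideal AlgInt} (hM : IsPModular p M)
    (χ ψ : IrrCharacter G) (h : SameBlock M (χ : G → ℂ) (ψ : G → ℂ))
    (C : Finset (IrrCharacter N)) (hC : ∀ x : G, ∀ θ ∈ C, conjIrr N x θ ∈ C)
    (hR : ∀ g, MemLocalRing M (idemFun N C g))
    (θ₀ θ₁ : IrrCharacter N)
    (h0 : classInner (fun n : N => (χ : G → ℂ) n) (θ₀ : N → ℂ) ≠ 0) (h0C : θ₀ ∈ C)
    (h1 : classInner (fun n : N => (ψ : G → ℂ) n) (θ₁ : N → ℂ) ≠ 0) : θ₁ ∈ C := by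
  have := isPrime_of_isPModular hM
  by_contra hcon
  have e := omega_sub_memLocalIdeal hM (isClassFunction_of_isIrrCharacter' χ.2)
    (isClassFunction_of_isIrrCharacter' ψ.2) h (isClassFunction_idemFun N C hC) hR
  rw [omega_idemFun_of_constituent N C hC χ θ₀ h0, omega_idemFun_of_constituent N C hC ψ θ₁ h1,
    if_pos h0C, if_neg hcon, sub_zero] at e
  exact not_memLocalIdeal_one e

end idem

section constituents

variable {G : Type*} [Group G] [Fintype G] (N : Subgroup G) [hN : N.Normal] [Fintype N]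

/-- Being a constituent of the restriction is invariant under conjugation. -/
theorem classInner_restrict_conjIrr (χ : IrrCharacter G) (x : G) (θ : IrrCharacter N) :
    classInner (fun n : N => (χ : G → ℂ) n) (conjIrr N x θ : N → ℂ)
      = classInner (fun n : N => (χ : G → ℂ) n) (θ : N → ℂ) := by
  unfold classInner
  congr 1
  rw [← Equiv.sum_comp (MulAut.conjNormal x⁻¹ : MulAut N).toEquiv
    (fun n : N => (χ : G → ℂ) n * conj ((θ : N → ℂ) n))]
  refine Finset.sum_congr rfl fun n _ => ?_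
  rw [conjIrr_apply]
  congr 1
  have hcl := isClassFunction_of_isIrrCharacter' χ.2
  have : (((MulAut.conjNormal x⁻¹ : MulAut N).toEquiv n : N) : G) = x⁻¹ * (n : G) * x⁻¹⁻¹ := rfl
  rw [this]
  exact (hcl (n : G) x⁻¹).symm

/-- Every irreducible character of `G` has an irreducible constituent on `N`. -/
theorem exists_constituent (χ : IrrCharacter G) :
    ∃ θ : IrrCharacter N, classInner (fun n : N => (χ : G → ℂ) n) (θ : N → ℂ) ≠ 0 := by
  classical
  have hχN : IsCharacter N (fun n : N => (χ : G → ℂ) n) :=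
    isCharacter_restrict N (Cfsg.Agent.Helper78.IsIrrCharacter.isCharacter χ.2)
  obtain ⟨m, hm⟩ := Cfsg.Agent.Helper78.IsCharacter.exists_irr_decomp hχN
  by_contra hcon
  push Not at hcon
  have hm0 : ∀ θ : IrrCharacter N, (m θ : ℂ) = 0 := by
    intro θ
    have := hcon θ
    rw [hm, Cfsg.Agent.Helper78.classInner_decomp] at this
    exact this
  have h1 := congrFun hm 1
  simp only [hm0, zero_smul, Finset.sum_const_zero, Pi.zero_apply] at h1
  exact Cfsg.Agent.Helper78.irr_apply_one_ne_zero χ.2 h1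

open scoped Classical in
/-- Characters in the same block have the same constituents on a normal `p'`-subgroup. -/
theorem constituent_of_sameBlock_of_pprime {p : ℕ} {M : Ideal AlgInt} (hM : IsPModular p M)
    (hpN : ¬ p ∣ Nat.card N) (χ ψ : IrrCharacter G) (h : SameBlock M (χ : G → ℂ) (ψ : G → ℂ))
    (θ : IrrCharacter N) (hθ : classInner (fun n : N => (χ : G → ℂ) n) (θ : N → ℂ) ≠ 0) :
    classInner (fun n : N => (ψ : G → ℂ) n) (θ : N → ℂ) ≠ 0 := by
  obtain ⟨θ₀, hθ₀⟩ := exists_constituent N ψ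
  set C : Finset (IrrCharacter N) := Finset.univ.filter
    (fun θ' => classInner (fun n : N => (ψ : G → ℂ) n) (θ' : N → ℂ) ≠ 0) with hCdef
  have hC : ∀ x : G, ∀ θ' ∈ C, conjIrr N x θ' ∈ C := by
    intro x θ' hθ'
    rw [hCdef, Finset.mem_filter] at hθ' ⊢
    refine ⟨Finset.mem_univ _, ?_⟩
    rw [classInner_restrict_conjIrr]
    exact hθ'.2
  have hmem := mem_of_sameBlock N hM ψ χ (sameBlock_symm hM h) C hC
    (memLocalRing_idemFun N hM hpN C) θ₀ θ hθ₀
    (by rw [hCdef, Finset.mem_filter]; exact ⟨Finset.mem_univ _, hθ₀⟩) hθ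
  rw [hCdef, Finset.mem_filter] at hmem
  exact hmem.2

end constituents

end Cfsg.Agent.Helper16
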