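import Mathlib
import Cfsg.Prelude.Def_Blocks
import Cfsg.Agent.Lib.Helper16.IdemFun
import Cfsg.Agent.Lib.Helper77.Principal
import Cfsg.Agent.Lib.Helper79.Inflation

set_option autoImplicit false
set_option linter.unusedSectionVars false

namespace Cfsg.Agent.Helper16

open Cfsg Cfsg.Agent.Helper77
open scoped ComplexConjugate

section quot

variable {G : Type*} [Group G] [Fintype G] (N : Subgroup G) [hN : N.Normal] [Fintype (G ⧸ N)]

theorem sum_comp_mk (f : G ⧸ N → ℂ) :
    ∑ g : G, f (QuotientGroup.mk g) = (Nat.card N : ℂ) * ∑ q : G ⧸ N, f q := by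
  classical
  rw [← Finset.sum_fiberwise Finset.univ (QuotientGroup.mk : G → G ⧸ N)
    (fun g => f (QuotientGroup.mk g)), Finset.mul_sum]
  refine Finset.sum_congr rfl fun q _ => ?_
  have hconst : ∀ g ∈ Finset.univ.filter (fun g : G => (QuotientGroup.mk g : G ⧸ N) = q),
      f (QuotientGroup.mk g) = f q := by
    intro g hg
    rw [(Finset.mem_filter.mp hg).2]
  rw [Finset.sum_congr rfl hconst, Finset.sum_const, nsmul_eq_mul]
  congr 2
  have h1 := QuotientGroup.card_preimage_mk N ({q} : Set (G ⧸ N))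
  have h2 : Nat.card (({q} : Set (G ⧸ N)) : Type _) = 1 := by
    rw [Nat.card_eq_fintype_card]; simp
  rw [h2, mul_one] at h1
  rw [← h1, Nat.card_eq_fintype_card, ← Fintype.card_coe]
  apply Fintype.card_congr
  refine Equiv.subtypeEquivRight fun g => ?_
  simp

/-- Inflation of a function on `G ⧸ N`, scaled by `1/|N|`. -/
noncomputable def inflFun (a : G ⧸ N → ℂ) : G → ℂ :=
  fun g => (Nat.card N : ℂ)⁻¹ * a (QuotientGroup.mk g)

theorem isClassFunction_inflFun {a : G ⧸ N → ℂ} (ha : IsClassFunction (G ⧸ N) a) :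
    IsClassFunction G (inflFun N a) := by
  intro g h
  unfold inflFun
  congr 1
  have : (QuotientGroup.mk (h * g * h⁻¹) : G ⧸ N)
      = (QuotientGroup.mk h : G ⧸ N) * QuotientGroup.mk g * (QuotientGroup.mk h : G ⧸ N)⁻¹ := by
    simp
  rw [this]
  exact ha _ _

theorem omega_inflFun (φ a : G ⧸ N → ℂ) :
    omega (φ ∘ (QuotientGroup.mk : G → G ⧸ N)) (inflFun N a) = omega φ a := by
  unfold omega inflFun
  have hN0 : (Nat.card N : ℂ) ≠ 0 := by exact_mod_cast Nat.card_pos.ne'
  have h1 : ∑ g : G, (Nat.card N : ℂ)⁻¹ * a (QuotientGroup.mk g)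
        * (φ ∘ (QuotientGroup.mk : G → G ⧸ N)) g
      = ∑ q : G ⧸ N, a q * φ q := by
    have := sum_comp_mk N (fun q => (Nat.card N : ℂ)⁻¹ * a q * φ q)
    simp only [Function.comp_apply]
    rw [this]
    simp only [mul_assoc]
    rw [← Finset.mul_sum, ← mul_assoc, mul_inv_cancel₀ hN0, one_mul]
  rw [h1]
  rfl

theorem memLocalRing_inflFun {p : ℕ} {M : Ideal AlgInt} (hM : IsPModular p M)
    (hpN : ¬ p ∣ Nat.card N) {a : G ⧸ N → ℂ} (ha : ∀ q, MemLocalRing M (a q)) (g : G) :
    MemLocalRing M (inflFun N a g) := by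
  have := isPrime_of_isPModular hM
  unfold inflFun
  apply memLocalRing_mul _ (ha _)
  apply memLocalRing_inv (memLocalRing_natCast _)
  rw [memLocalIdeal_natCast_iff hM]
  exact hpN

/-- Over a normal `p'`-subgroup, inflated characters in the same block of `G` come from the same
block of `G ⧸ N`. -/
theorem sameBlock_of_sameBlock_inflate {p : ℕ} {M : Ideal AlgInt} (hM : IsPModular p M)
    (hpN : ¬ p ∣ Nat.card N) {φ φ' : G ⧸ N → ℂ} (hφ : IsIrrCharacter (G ⧸ N) φ)
    (hφ' : IsIrrCharacter (G ⧸ N) φ')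
    (h : SameBlock M (φ ∘ (QuotientGroup.mk : G → G ⧸ N)) (φ' ∘ (QuotientGroup.mk : G → G ⧸ N))) :
    SameBlock M φ φ' := by
  classical
  have := isPrime_of_isPModular hM
  have hne := ne_top_of_isPModular hM
  intro q
  rw [← omega_classInd_of_irr hφ, ← omega_classInd_of_irr hφ', ← omega_inflFun N φ,
    ← omega_inflFun N φ']
  have hcl : ∀ ψ : G ⧸ N → ℂ, IsIrrCharacter (G ⧸ N) ψ →
      IsClassFunction G (ψ ∘ (QuotientGroup.mk : G → G ⧸ N)) := by
    intro ψ hψ g x
    have hc := isClassFunction_of_isIrrCharacter' hψ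
    simp only [Function.comp_apply]
    have : (QuotientGroup.mk (x * g * x⁻¹) : G ⧸ N)
        = (QuotientGroup.mk x : G ⧸ N) * QuotientGroup.mk g * (QuotientGroup.mk x : G ⧸ N)⁻¹ := by
      simp
    rw [this]
    exact hc _ _
  apply omega_sub_memLocalIdeal hM (hcl φ hφ) (hcl φ' hφ') h
    (isClassFunction_inflFun N (isClassFunction_classInd q))
  intro g
  apply memLocalRing_inflFun N hM hpN
  intro q'
  unfold classInd
  split_ifs
  · exact memLocalRing_one hne
  · exact memLocalRing_zero hne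

end quot

section triv

variable {G : Type*} [Group G] [Fintype G] (N : Subgroup G) [hN : N.Normal] [Fintype N]

theorem conjIrr_trivIrr (x : G) : conjIrr N x (trivIrr N) = trivIrr N := by
  apply Subtype.ext
  funext n
  rfl

/-- If the trivial character is the only constituent of `ψ` on `N` then `N ≤ ker ψ`. -/
theorem restrict_const_of_only_triv (ψ : IrrCharacter G)
    (h : ∀ θ : IrrCharacter N,
      classInner (fun n : N => (ψ : G → ℂ) n) (θ : N → ℂ) ≠ 0 → θ = trivIrr N) (n : N) :
    (ψ : G → ℂ) n = (ψ : G → ℂ) 1 := by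
  classical
  have hψN : IsCharacter N (fun n : N => (ψ : G → ℂ) n) :=
    isCharacter_restrict N (Cfsg.Agent.Helper78.IsIrrCharacter.isCharacter ψ.2)
  obtain ⟨m, hm⟩ := Cfsg.Agent.Helper78.IsCharacter.exists_irr_decomp hψN
  have hm0 : ∀ θ : IrrCharacter N, θ ≠ trivIrr N → (m θ : ℂ) = 0 := by
    intro θ hθ
    by_contra hne
    apply hθ
    apply h
    rw [hm, Cfsg.Agent.Helper78.classInner_decomp]
    exact hne
  have hval : ∀ k : N, (ψ : G → ℂ) k = (m (trivIrr N) : ℂ) := by
    intro k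
    have := congrFun hm k
    simp only [Finset.sum_apply, Pi.smul_apply, smul_eq_mul] at this
    rw [this, Finset.sum_eq_single (trivIrr N)]
    · rw [trivIrr_apply, mul_one]
    · intro θ _ hθ
      rw [hm0 θ hθ, zero_mul]
    · intro h; exact absurd (Finset.mem_univ _) h
  have h1 := hval 1
  rw [hval n]
  exact h1.symm

open scoped Classical in
/-- A character in the same block as a character with the normal `p'`-subgroup `N` in its
kernel also has `N` in its kernel. -/
theorem ker_of_sameBlock_of_pprime {p : ℕ} {M : Ideal AlgInt} (hM : IsPModular p M)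
    (hpN : ¬ p ∣ Nat.card N) (χ ψ : IrrCharacter G)
    (h : SameBlock M (χ : G → ℂ) (ψ : G → ℂ))
    (hχ : ∀ n : N, (χ : G → ℂ) n = (χ : G → ℂ) 1) (n : N) :
    (ψ : G → ℂ) n = (ψ : G → ℂ) 1 := by
  apply restrict_const_of_only_triv N ψ
  intro θ hθ
  have hC : ∀ x : G, ∀ θ' ∈ ({trivIrr N} : Finset (IrrCharacter N)),
      conjIrr N x θ' ∈ ({trivIrr N} : Finset (IrrCharacter N)) := by
    intro x θ' hθ'
    rw [Finset.mem_singleton] at hθ' ⊢
    rw [hθ', conjIrr_trivIrr]
  have hχtriv : classInner (fun n : N => (χ : G → ℂ) n) (trivIrr N : N → ℂ) ≠ 0 := by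
    unfold classInner
    have hN0 : (Nat.card N : ℂ) ≠ 0 := by exact_mod_cast Nat.card_pos.ne'
    simp only [hχ, trivIrr_apply, map_one, mul_one, Finset.sum_const, Finset.card_univ,
      nsmul_eq_mul]
    rw [← Nat.card_eq_fintype_card, ← mul_assoc, inv_mul_cancel₀ hN0, one_mul]
    exact Cfsg.Agent.Helper78.irr_apply_one_ne_zero χ.2
  have := mem_of_sameBlock N hM χ ψ h {trivIrr N} hC (memLocalRing_idemFun N hM hpN _)
    (trivIrr N) θ hχtriv (Finset.mem_singleton_self _) hθ
  exact Finset.mem_singleton.mp this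

end triv

end Cfsg.Agent.Helper16
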