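import Mathlib
import Cfsg.Prelude.Def_Blocks
import Cfsg.Agent.Lib.Helper77.LocalRing

set_option autoImplicit false
set_option linter.unusedSectionVars false
set_option linter.style.haveILetI false

namespace Cfsg.Agent.Helper16

open Cfsg Cfsg.Agent.Helper77

section det

variable {M : Ideal AlgInt} [hp : M.IsPrime]

theorem memLocalIdeal_prod_sub_one {ι : Type*} (s : Finset ι) (f : ι → ℂ)
    (hf : ∀ i ∈ s, MemLocalIdeal M (f i - 1)) : MemLocalIdeal M (∏ i ∈ s, f i - 1) := by
  classical
  have hne : M ≠ ⊤ := hp.ne_top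
  induction s using Finset.induction_on with
  | empty => simpa using memLocalIdeal_zero hne
  | insert a s ha ih =>
    rw [Finset.prod_insert ha]
    have h1 := hf a (Finset.mem_insert_self a s)
    have h2 := ih (fun i hi => hf i (Finset.mem_insert_of_mem hi))
    have hfa : MemLocalRing M (f a) := by
      have := memLocalRing_add (memLocalRing_of_memLocalIdeal h1) (memLocalRing_one hne)
      simpa using this
    have e : f a * ∏ i ∈ s, f i - 1 = f a * (∏ i ∈ s, f i - 1) + (f a - 1) := by ring
    rw [e]
    exact memLocalIdeal_add (memLocalIdeal_mul_left hfa h2) h1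

theorem memLocalIdeal_prod_of_mem {ι : Type*} (s : Finset ι) (f : ι → ℂ)
    (hf : ∀ i ∈ s, MemLocalRing M (f i)) {a : ι} (ha : a ∈ s) (hfa : MemLocalIdeal M (f a)) :
    MemLocalIdeal M (∏ i ∈ s, f i) := by
  classical
  rw [← Finset.mul_prod_erase s f ha]
  exact memLocalIdeal_mul_right hfa
    (memLocalRing_prod _ _ fun i hi => hf i (Finset.mem_of_mem_erase hi))

/-- A matrix congruent to the identity modulo the local ideal has determinant congruent to `1`. -/
theorem memLocalIdeal_det_one_add_sub_one {n : Type*} [Fintype n] [DecidableEq n]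
    (Z : Matrix n n ℂ) (hZ : ∀ i j, MemLocalIdeal M (Z i j)) :
    MemLocalIdeal M ((1 + Z).det - 1) := by
  have hne : M ≠ ⊤ := hp.ne_top
  have hR : ∀ i j, MemLocalRing M ((1 + Z) i j) := by
    intro i j
    rw [Matrix.add_apply]
    apply memLocalRing_add _ (memLocalRing_of_memLocalIdeal (hZ i j))
    rw [Matrix.one_apply]
    split_ifs
    · exact memLocalRing_one hne
    · exact memLocalRing_zero hne
  rw [Matrix.det_apply, ← Finset.add_sum_erase _ _ (Finset.mem_univ (1 : Equiv.Perm n))]
  have h1 : MemLocalIdeal M (Equiv.Perm.sign (1 : Equiv.Perm n) •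
      ∏ i, (1 + Z) ((1 : Equiv.Perm n) i) i - 1) := by
    rw [Equiv.Perm.sign_one, one_smul]
    apply memLocalIdeal_prod_sub_one
    intro i _
    rw [Equiv.Perm.one_apply, Matrix.add_apply, Matrix.one_apply_eq]
    simpa using hZ i i
  have h2 : MemLocalIdeal M (∑ σ ∈ (Finset.univ : Finset (Equiv.Perm n)).erase 1,
      Equiv.Perm.sign σ • ∏ i, (1 + Z) (σ i) i) := by
    apply memLocalIdeal_sum
    intro σ hσ
    have hσ1 : σ ≠ 1 := Finset.ne_of_mem_erase hσ
    obtain ⟨a, ha⟩ : ∃ a, σ a ≠ a := by
      by_contra hcon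
      push Not at hcon
      exact hσ1 (Equiv.ext hcon)
    have hprod : MemLocalIdeal M (∏ i, (1 + Z) (σ i) i) := by
      apply memLocalIdeal_prod_of_mem _ _ (fun i _ => hR _ _) (Finset.mem_univ a)
      rw [Matrix.add_apply, Matrix.one_apply_ne ha, zero_add]
      exact hZ _ _
    rcases Int.units_eq_one_or (Equiv.Perm.sign σ) with h | h
    · rw [h, one_smul]; exact hprod
    · rw [h]
      have := memLocalIdeal_neg hprod
      simpa using this
  have := memLocalIdeal_add h1 h2
  convert this using 1
  ring

end det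

section trace

variable {p : ℕ} {M : Ideal AlgInt}

/-- Two idempotent matrices with entries in the local ring that are congruent modulo the local
ideal have the same trace (they are conjugate). -/
theorem trace_eq_of_idem_congr {n : Type*} [Fintype n] [DecidableEq n] (hM : IsPModular p M)
    (A A' : Matrix n n ℂ) (hA : A * A = A) (hA' : A' * A' = A')
    (hR : ∀ i j, MemLocalRing M (A i j))
    (hcong : ∀ i j, MemLocalIdeal M (A' i j - A i j)) : A'.trace = A.trace := by
  have := isPrime_of_isPModular hM
  have hne := ne_top_of_isPModular hM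
  set Δ : Matrix n n ℂ := A' - A with hΔ
  set Z : Matrix n n ℂ := 2 • (Δ * A) - Δ with hZdef
  set W : Matrix n n ℂ := A' * A + (1 - A') * (1 - A) with hW
  have hA'eq : A' = A + Δ := by rw [hΔ]; abel
  have hWZ : W = 1 + Z := by
    rw [hW, hZdef, hA'eq]
    have : (A + Δ) * A + (1 - (A + Δ)) * (1 - A)
        = 1 + (2 • (A * A) - 2 • A) + (2 • (Δ * A) - Δ) := by
      noncomm_ring
    rw [this, hA]
    simp
  have hΔI : ∀ i j, MemLocalIdeal M (Δ i j) := fun i j => by
    rw [hΔ, Matrix.sub_apply]; exact hcong i j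
  have hZI : ∀ i j, MemLocalIdeal M (Z i j) := by
    intro i j
    rw [hZdef, Matrix.sub_apply, Matrix.smul_apply, Matrix.mul_apply]
    apply memLocalIdeal_sub _ (hΔI i j)
    rw [nsmul_eq_mul]
    apply memLocalIdeal_mul_left (memLocalRing_natCast 2)
    apply memLocalIdeal_sum
    intro k _
    exact memLocalIdeal_mul_right (hΔI i k) (hR k j)
  have hdet : W.det ≠ 0 := by
    intro h0
    have h1 := memLocalIdeal_det_one_add_sub_one Z hZI
    rw [← hWZ, h0, zero_sub] at h1
    have := memLocalIdeal_neg h1
    rw [neg_neg] at this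
    exact not_memLocalIdeal_one this
  have hcomm : A' * W = W * A := by
    rw [hW]
    have e1 : A' * (A' * A + (1 - A') * (1 - A)) = A' * A' * A + (A' - A' * A') * (1 - A) := by
      noncomm_ring
    have e2 : (A' * A + (1 - A') * (1 - A)) * A = A' * (A * A) + (1 - A') * (A - A * A) := by
      noncomm_ring
    rw [e1, e2, hA, hA']
    simp
  have hunit : IsUnit W.det := isUnit_iff_ne_zero.mpr hdet
  have hA'W : A' = W * A * W⁻¹ := by
    rw [← hcomm, Matrix.mul_assoc, Matrix.mul_nonsing_inv W hunit, Matrix.mul_one]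
  rw [hA'W, Matrix.trace_mul_comm, ← Matrix.mul_assoc, Matrix.nonsing_inv_mul W hunit,
    Matrix.one_mul]

end trace

end Cfsg.Agent.Helper16
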