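import Mathlib
import Cfsg.Prelude.Def_Blocks
import Cfsg.Agent.Lib.Helper16.IdemFun
import Cfsg.Agent.Lib.Helper16.BlockBasic
import Cfsg.Agent.Lib.Helper77.BlockIdem

set_option autoImplicit false
set_option linter.unusedSectionVars false

namespace Cfsg.Agent.Helper16

open Cfsg Cfsg.Agent.Helper77
open scoped ComplexConjugate

section index

variable {N : Type*} [Group N]

theorem centralizer_singleton_map_equiv (φ : N ≃* N) (n : N) :
    Subgroup.centralizer ({φ n} : Set N)
      = (Subgroup.centralizer ({n} : Set N)).map (φ : N →* N) := by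
  ext y
  simp only [Subgroup.mem_centralizer_iff, Set.mem_singleton_iff, forall_eq, Subgroup.mem_map,
    MonoidHom.coe_coe]
  constructor
  · intro h
    refine ⟨φ.symm y, ?_, φ.apply_symm_apply y⟩
    apply φ.injective
    rw [map_mul, map_mul, φ.apply_symm_apply]
    exact h
  · rintro ⟨z, hz, rfl⟩
    rw [← map_mul, ← map_mul, hz]

theorem index_centralizer_equiv (φ : N ≃* N) (n : N) :
    (Subgroup.centralizer ({φ n} : Set N)).index = (Subgroup.centralizer ({n} : Set N)).index := by
  rw [centralizer_singleton_map_equiv, Subgroup.index_map_equiv]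

end index

section conjB

variable {G : Type*} [Group G] (N : Subgroup G) [hN : N.Normal]

theorem centralChar_conjIrr (x : G) (θ : IrrCharacter N) (n : N) :
    centralChar (conjIrr N x θ : N → ℂ) n
      = centralChar (θ : N → ℂ) ((MulAut.conjNormal x⁻¹ : MulAut N) n) := by
  unfold centralChar
  rw [conjIrr_one_apply, conjIrr_apply, index_centralizer_equiv]

theorem sameBlock_conjIrr {M : Ideal AlgInt} (x : G) (θ θ' : IrrCharacter N)
    (h : SameBlock M (θ : N → ℂ) (θ' : N → ℂ)) :
    SameBlock M (conjIrr N x θ : N → ℂ) (conjIrr N x θ' : N → ℂ) := by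
  intro n
  rw [centralChar_conjIrr, centralChar_conjIrr]
  exact h _

end conjB

section closed

variable {G : Type*} [Group G] [Fintype G] (N : Subgroup G) [hN : N.Normal] [Fintype N]

open scoped Classical in
/-- If `C` is a union of blocks of `N`, its idempotent has local-ring coefficients. -/
theorem memLocalRing_idemFun_of_blockClosed {p : ℕ} {M : Ideal AlgInt} (hM : IsPModular p M)
    (C : Finset (IrrCharacter N))
    (hC : ∀ θ ∈ C, ∀ θ' : IrrCharacter N, SameBlock M (θ : N → ℂ) (θ' : N → ℂ) → θ' ∈ C)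
    (g : G) : MemLocalRing M (idemFun N C g) := by
  have := isPrime_of_isPModular hM
  have hne := ne_top_of_isPModular hM
  induction C using Finset.strongInduction generalizing g with
  | H C ih =>
    by_cases hg : g ∈ N
    swap
    · rw [idemFun_of_not_mem N C hg]
      exact memLocalRing_zero hne
    rcases C.eq_empty_or_nonempty with rfl | ⟨θ₀, hθ₀⟩
    · have e2 : idemFun N ∅ g = idemFun N ∅ ((⟨g, hg⟩ : N) : G) := rfl
      rw [e2, idemFun_coe, Finset.sum_empty]
      exact memLocalRing_zero hne
    set D : Finset (IrrCharacter N) := C.filter (fun θ : IrrCharacter N => SameBlock M (θ₀ : N → ℂ) (θ : N → ℂ)) with hD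
    set D' : Finset (IrrCharacter N) := C.filter (fun θ : IrrCharacter N => ¬ SameBlock M (θ₀ : N → ℂ) (θ : N → ℂ)) with hD'
    have hsplit : idemFun N C g = idemFun N D g + idemFun N D' g := by
      have e2 : ∀ E, idemFun N E g = idemFun N E ((⟨g, hg⟩ : N) : G) := fun _ => rfl
      rw [e2 C, e2 D, e2 D', idemFun_coe, idemFun_coe, idemFun_coe, hD, hD',
        Finset.sum_filter_add_sum_filter_not]
    rw [hsplit]
    apply memLocalRing_add
    · -- D is the block of θ₀
      have e2 : idemFun N D g = idemFun N D ((⟨g, hg⟩ : N) : G) := rfl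
      have hblock : idemFun N D g = blockCoeff (blockOf M (θ₀ : N → ℂ)) (⟨g, hg⟩ : N) := by
        rw [e2, idemFun_coe, blockCoeff_eq_sum, Finset.mul_sum]
        have hDeq : (Set.toFinite (blockOf M (θ₀ : N → ℂ))).toFinset = D := by
          ext θ
          rw [Set.Finite.mem_toFinset, hD, Finset.mem_filter]
          constructor
          · intro h
            exact ⟨hC θ₀ hθ₀ θ h, h⟩
          · intro h
            exact h.2
        rw [hDeq]
        refine Finset.sum_congr rfl fun θ _ => ?_
        rw [div_eq_mul_inv, mul_comm]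
      rw [hblock]
      exact memLocalRing_blockCoeff (isPBlock_blockOf θ₀) _
    · apply ih D'
      · rw [hD']
        refine Finset.filter_ssubset.mpr ⟨θ₀, hθ₀, ?_⟩
        rw [not_not]
        exact Cfsg.Agent.Helper77.sameBlock_refl _
      · intro θ hθ θ' hθθ'
        rw [hD', Finset.mem_filter] at hθ ⊢
        refine ⟨hC θ hθ.1 θ' hθθ', ?_⟩
        intro h0
        apply hθ.2
        exact Cfsg.Agent.Helper77.sameBlock_trans h0 (Cfsg.Agent.Helper77.sameBlock_symm hθθ')

end closed

section closure

variable {G : Type*} [Group G] [Fintype G] (N : Subgroup G) [hN : N.Normal] [Fintype N]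

open scoped Classical in
/-- The set of `G`-conjugates of the members of a set `b` of irreducible characters of `N`. -/
noncomputable def conjClosure (b : Set (IrrCharacter N)) : Finset (IrrCharacter N) :=
  Finset.univ.filter (fun θ' : IrrCharacter N => ∃ g : G, conjIrr N g θ' ∈ b)

theorem mem_conjClosure (b : Set (IrrCharacter N)) (θ' : IrrCharacter N) :
    θ' ∈ conjClosure N b ↔ ∃ g : G, conjIrr N g θ' ∈ b := by
  classical
  unfold conjClosure
  rw [Finset.mem_filter]
  exact ⟨fun h => h.2, fun h => ⟨Finset.mem_univ _, h⟩⟩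

theorem subset_conjClosure (b : Set (IrrCharacter N)) {θ : IrrCharacter N} (hθ : θ ∈ b) :
    θ ∈ conjClosure N b := by
  rw [mem_conjClosure]
  exact ⟨1, by rw [conjIrr_one]; exact hθ⟩

theorem conjClosure_conj_closed (b : Set (IrrCharacter N)) (x : G) (θ : IrrCharacter N)
    (hθ : θ ∈ conjClosure N b) : conjIrr N x θ ∈ conjClosure N b := by
  rw [mem_conjClosure] at hθ ⊢
  obtain ⟨g, hg⟩ := hθ
  refine ⟨g * x⁻¹, ?_⟩
  rw [conjIrr_mul, conjIrr_inv_conjIrr]
  exact hg

theorem conjClosure_block_closed {M : Ideal AlgInt} [M.IsPrime] {b : Set (IrrCharacter N)}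
    (hb : IsPBlock M b) (θ : IrrCharacter N) (hθ : θ ∈ conjClosure N b) (θ' : IrrCharacter N)
    (h : SameBlock M (θ : N → ℂ) (θ' : N → ℂ)) : θ' ∈ conjClosure N b := by
  rw [mem_conjClosure] at hθ ⊢
  obtain ⟨g, hg⟩ := hθ
  exact ⟨g, Cfsg.Agent.Helper77.mem_of_sameBlock hb hg (sameBlock_conjIrr N g θ θ' h)⟩

theorem memLocalRing_idemFun_conjClosure {p : ℕ} {M : Ideal AlgInt} (hM : IsPModular p M)
    {b : Set (IrrCharacter N)} (hb : IsPBlock M b) (g : G) :
    MemLocalRing M (idemFun N (conjClosure N b) g) := by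
  have := isPrime_of_isPModular hM
  exact memLocalRing_idemFun_of_blockClosed N hM _ (conjClosure_block_closed N hb) g

/-- If `χ` lies over `θ ∈ b` and `χ'` is in the same block as `χ`, then every constituent of
`χ'` on `N` is `G`-conjugate to a member of the block `b`. -/
theorem mem_conjClosure_of_sameBlock {p : ℕ} {M : Ideal AlgInt} (hM : IsPModular p M)
    {b : Set (IrrCharacter N)} (hb : IsPBlock M b) (χ χ' : IrrCharacter G)
    (h : SameBlock M (χ : G → ℂ) (χ' : G → ℂ)) (θ ψ : IrrCharacter N) (hθ : θ ∈ b)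
    (hcon : classInner (fun n : N => (χ : G → ℂ) n) (θ : N → ℂ) ≠ 0)
    (hψ : classInner (fun n : N => (χ' : G → ℂ) n) (ψ : N → ℂ) ≠ 0) :
    ψ ∈ conjClosure N b :=
  mem_of_sameBlock N hM χ χ' h (conjClosure N b) (fun x θ hθ => conjClosure_conj_closed N b x θ hθ)
    (memLocalRing_idemFun_conjClosure N hM hb) θ ψ hcon (subset_conjClosure N b hθ) hψ

end closure

end Cfsg.Agent.Helper16
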