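import Mathlib
import Cfsg.Prelude.Def_Blocks
import Cfsg.Agent.Lib.Helper16.BlockConj

set_option autoImplicit false
set_option linter.unusedSectionVars false

namespace Cfsg.Agent.Helper16

open Cfsg Cfsg.Agent.Helper77
open scoped ComplexConjugate

section adjoint

variable {G : Type*} [Group G] [Fintype G]

open scoped Classical in
/-- Adjointness: summing a class function of `G` against the induced central character of `ξ`
over the classes of `G` is the same as applying the central character of `ξ` to its
restriction. -/
theorem sum_conjClasses_mul_inducedCentralChar (H : Subgroup G) [Fintype H] (ξ : H → ℂ)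
    (a : G → ℂ) (ha : IsClassFunction G a) :
    ∑ c : ConjClasses G, a c.out * inducedCentralChar H ξ c.out
      = omega ξ (fun h : H => a h) := by
  simp only [inducedCentralChar_eq_omega]
  unfold omega
  simp only [mul_div_assoc', Finset.mul_sum]
  rw [← Finset.sum_div]
  congr 1
  rw [Finset.sum_comm]
  refine Finset.sum_congr rfl fun h _ => ?_
  rw [Finset.sum_eq_single (ConjClasses.mk (h : G))]
  · have hc : IsConj (ConjClasses.mk (h : G)).out (h : G) :=
      ConjClasses.mk_eq_mk_iff_isConj.mp (Quotient.out_eq _)
    unfold fusInd
    rw [if_pos hc, one_mul]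
    obtain ⟨x, hx⟩ := isConj_iff.mp hc
    rw [← ha _ x, hx]
  · intro c _ hne
    unfold fusInd
    rw [if_neg, zero_mul, mul_zero]
    intro hc
    apply hne
    rw [← Quotient.out_eq c]
    exact ConjClasses.mk_eq_mk_iff_isConj.mpr hc
  · intro h0
    exact absurd (Finset.mem_univ _) h0

end adjoint

section passman

variable {G : Type*} [Group G] [Fintype G] (N : Subgroup G) [hN : N.Normal] [Fintype N]

open scoped Classical in
/-- If the central character of `χ` is congruent on `N` to the induced central character of `θ`,
then `χ` and `θ` take congruent values on every class function of `G` supported on `N` with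
local-ring coefficients. -/
theorem omega_sub_omega_restrict_memLocalIdeal {p : ℕ} {M : Ideal AlgInt} (hM : IsPModular p M)
    (χ : IrrCharacter G) (θ : IrrCharacter N)
    (h : ∀ n : N, MemLocalIdeal M
      (centralChar (χ : G → ℂ) (n : G) - inducedCentralChar N (θ : N → ℂ) (n : G)))
    (a : G → ℂ) (ha : IsClassFunction G a) (hsupp : ∀ g, g ∉ N → a g = 0)
    (hR : ∀ g, MemLocalRing M (a g)) :
    MemLocalIdeal M (omega (χ : G → ℂ) a - omega (θ : N → ℂ) (fun n : N => a n)) := by
  have := isPrime_of_isPModular hM
  have hne := ne_top_of_isPModular hM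
  rw [← sum_conjClasses_mul_inducedCentralChar N (θ : N → ℂ) a ha,
    omega_eq_sum_conjClasses _ a (isClassFunction_of_isIrrCharacter' χ.2) ha,
    ← Finset.sum_sub_distrib]
  apply memLocalIdeal_sum
  intro c _
  rw [← mul_sub]
  by_cases hc : c.out ∈ N
  · exact memLocalIdeal_mul_left (hR _) (h ⟨c.out, hc⟩)
  · rw [hsupp _ hc, zero_mul]
    exact memLocalIdeal_zero hne

end passman

end Cfsg.Agent.Helper16
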