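import Mathlib
import Cfsg.Prelude.Def_Blocks
import Cfsg.Agent.Lib.Helper16.Passman
import Cfsg.Agent.Lib.Helper77.BrauerMap
import Cfsg.Agent.Lib.Helper74.LinChar

set_option autoImplicit false
set_option linter.unusedSectionVars false

namespace Cfsg.Agent.Helper16

open Cfsg Cfsg.Agent.Helper77
open scoped ComplexConjugate

universe u

section roots

variable {p : ℕ} {M : Ideal AlgInt}

/-- Roots of unity of `p`-power order are congruent to `1` modulo `M`. -/
theorem memLocalIdeal_sub_one_of_pow_eq_one (hM : IsPModular p M) (z : ℂ) (k : ℕ)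
    (hz : z ^ (p ^ k) = 1) : MemLocalIdeal M (z - 1) := by
  have hp : p.Prime := hM.1
  haveI : Fact p.Prime := ⟨hp⟩
  haveI : M.IsMaximal := hM.2.1
  have hne := ne_top_of_isPModular hM
  have hpos : 0 < p ^ k := pow_pos hp.pos k
  have hint : IsIntegral ℤ z := by
    apply IsIntegral.of_pow hpos
    rw [hz]
    exact isIntegral_one
  let a : AlgInt := ⟨z, hint⟩
  have ha : a ^ (p ^ k) = 1 := by
    apply Subtype.ext
    simpa using hz
  haveI : CharP (AlgInt ⧸ M) p := by
    rw [CharP.charP_iff_prime_eq_zero hp]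
    have : ((p : AlgInt) : AlgInt ⧸ M) = 0 := Ideal.Quotient.eq_zero_iff_mem.mpr hM.2.2
    simpa using this
  have h1 : (Ideal.Quotient.mk M a - 1) ^ (p ^ k) = 0 := by
    rw [sub_pow_char_pow, one_pow, ← map_pow, ha, map_one, sub_self]
  have h2 : Ideal.Quotient.mk M a - 1 = 0 := pow_eq_zero_iff (hpos.ne') |>.mp h1
  have h3 : a - 1 ∈ M := by
    rw [← Ideal.Quotient.eq_zero_iff_mem, map_sub, map_one]
    exact h2
  have := memLocalIdeal_algInt_of_mem hne h3
  simpa [a] using this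

end roots

section twist

variable {G : Type u} [Group G] [Fintype G] {p : ℕ} {M : Ideal AlgInt}

open Cfsg.Agent.Helper74.Lin

theorem centralChar_twistIrr (φ : G →* ℂˣ) (χ : IrrCharacter G) (g : G) :
    centralChar (twistIrr φ χ : G → ℂ) g = ((φ g : ℂˣ) : ℂ) * centralChar (χ : G → ℂ) g := by
  unfold centralChar
  rw [twistIrr_apply, twistIrr_apply, map_one]
  simp only [Units.val_one, one_mul]
  ring

/-- Twisting by a linear character of `p`-power order does not change the block. -/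
theorem sameBlock_twistIrr (hM : IsPModular p M) (φ : G →* ℂˣ) (k : ℕ)
    (hφ : ∀ g, ((φ g : ℂˣ) : ℂ) ^ (p ^ k) = 1) (χ : IrrCharacter G) :
    SameBlock M (χ : G → ℂ) (twistIrr φ χ : G → ℂ) := by
  have := isPrime_of_isPModular hM
  intro g
  rw [centralChar_twistIrr]
  have h1 := memLocalIdeal_sub_one_of_pow_eq_one hM _ k (hφ g)
  have h2 := memLocalIdeal_mul_right h1 (memLocalRing_centralChar χ.2 g)
  have h3 := memLocalIdeal_neg h2
  convert h3 using 1
  ring

theorem twistIrr_inv_twistIrr (φ : G →* ℂˣ) (χ : IrrCharacter G) :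
    twistIrr φ⁻¹ (twistIrr φ χ) = χ := by
  apply Subtype.ext
  funext g
  rw [twistIrr_apply, twistIrr_apply, ← mul_assoc]
  simp

theorem twistIrr_twistIrr_inv (φ : G →* ℂˣ) (χ : IrrCharacter G) :
    twistIrr φ (twistIrr φ⁻¹ χ) = χ := by
  apply Subtype.ext
  funext g
  rw [twistIrr_apply, twistIrr_apply, ← mul_assoc]
  simp

/-- The block idempotent is invariant under twisting by a linear character of `p`-power order;
hence it vanishes where that character is nontrivial. -/
theorem blockCoeff_eq_zero_of_twist (hM : IsPModular p M) (φ : G →* ℂˣ) (k : ℕ)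
    (hφ : ∀ g, ((φ g : ℂˣ) : ℂ) ^ (p ^ k) = 1) {B : Set (IrrCharacter G)} (hB : IsPBlock M B)
    (g : G) (hg : φ g ≠ 1) : blockCoeff B g = 0 := by
  classical
  have := isPrime_of_isPModular hM
  have hφ' : ∀ g, ((φ⁻¹ g : ℂˣ) : ℂ) ^ (p ^ k) = 1 := by
    intro g
    rw [MonoidHom.inv_apply, Units.val_inv_eq_inv_val, inv_pow, hφ g, inv_one]
  have hstab : ∀ (ψ : G →* ℂˣ), (∀ g, ((ψ g : ℂˣ) : ℂ) ^ (p ^ k) = 1) →
      ∀ χ ∈ B, twistIrr ψ χ ∈ B := fun ψ hψ χ hχ =>
    Cfsg.Agent.Helper77.mem_of_sameBlock hB hχ (sameBlock_twistIrr hM ψ k hψ χ)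
  have hsum : ∑ χ ∈ (Set.toFinite B).toFinset, (χ : G → ℂ) 1 * conj ((χ : G → ℂ) g)
      = conj ((φ g : ℂˣ) : ℂ) *
        ∑ χ ∈ (Set.toFinite B).toFinset, (χ : G → ℂ) 1 * conj ((χ : G → ℂ) g) := by
    rw [Finset.mul_sum]
    refine Finset.sum_bij' (fun χ _ => twistIrr φ⁻¹ χ) (fun χ _ => twistIrr φ χ) ?_ ?_ ?_ ?_ ?_
    · intro χ hχ
      rw [Set.Finite.mem_toFinset] at hχ ⊢
      exact hstab _ hφ' χ hχ
    · intro χ hχ
      rw [Set.Finite.mem_toFinset] at hχ ⊢
      exact hstab _ hφ χ hχ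
    · intro χ _; exact twistIrr_twistIrr_inv φ χ
    · intro χ _; exact twistIrr_inv_twistIrr φ χ
    · intro χ _
      rw [twistIrr_apply, twistIrr_apply, map_one, map_mul, MonoidHom.inv_apply,
        Units.val_inv_eq_inv_val]
      have hne : ((φ g : ℂˣ) : ℂ) ≠ 0 := Units.ne_zero _
      have hne' : conj ((φ g : ℂˣ) : ℂ) ≠ 0 := by
        rw [Ne, map_eq_zero]; exact hne
      simp only [Units.val_one, one_mul, map_inv₀]
      field_simp
  rw [blockCoeff_eq_sum]
  have hne1 : conj ((φ g : ℂˣ) : ℂ) ≠ 1 := by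
    intro h
    apply hg
    apply Units.ext
    have := congrArg conj h
    simpa using this
  set S := ∑ χ ∈ (Set.toFinite B).toFinset, (χ : G → ℂ) 1 * conj ((χ : G → ℂ) g) with hS
  have : S = 0 := by
    have h1 : (1 - conj ((φ g : ℂˣ) : ℂ)) * S = 0 := by
      rw [sub_mul, one_mul, ← hsum, sub_self]
    rcases mul_eq_zero.mp h1 with h | h
    · exact absurd (sub_eq_zero.mp h).symm hne1
    · exact h
  rw [this, mul_zero]

end twist

end Cfsg.Agent.Helper16
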