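import Mathlib
import Cfsg.Prelude.Def_Blocks
import Cfsg.Agent.Lib.Helper16.IdemTrace
import Cfsg.Agent.Lib.Helper16.PIndex

set_option autoImplicit false
set_option linter.unusedSectionVars false
set_option linter.style.haveILetI false

namespace Cfsg.Agent.Helper16

open Cfsg Cfsg.Agent.Helper77

section abstract

variable {p : ℕ} {M : Ideal AlgInt}

theorem memLocalRing_of_pow_eq_one (hM : IsPModular p M) (z : ℂ) (n : ℕ) (hn : 0 < n)
    (hz : z ^ n = 1) : MemLocalRing M z := by
  have hne := ne_top_of_isPModular hM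
  have hint : IsIntegral ℤ z := by
    apply IsIntegral.of_pow hn
    rw [hz]
    exact isIntegral_one
  exact memLocalRing_algInt hne (⟨z, hint⟩ : AlgInt)

/-- **Idempotents over the group ring of a cyclic group**: if a family `E i` (`i : ZMod n`) of
matrices with local-ring entries is idempotent under convolution, then the trace of `E k`
vanishes unless `k` is divisible by the `p`-part of `n`. -/
theorem trace_eq_zero_of_conv_idem {Y : Type*} [Fintype Y] [DecidableEq Y] (hM : IsPModular p M)
    (n : ℕ) [NeZero n] (a : ℕ) (hq : p ^ a ∣ n)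
    (E : ZMod n → Matrix Y Y ℂ) (hER : ∀ i y y', MemLocalRing M (E i y y'))
    (hE : ∀ k, ∑ i, E i * E (k - i) = E k)
    (k : ZMod n) (hk : ¬ (p ^ a ∣ k.val)) : (E k).trace = 0 := by
  classical
  have hpr := isPrime_of_isPModular hM
  have hne := ne_top_of_isPModular hM
  have hn0 : 0 < n := Nat.pos_of_ne_zero (NeZero.ne n)
  set ψ : AddChar (ZMod n) ℂ := ZMod.stdAddChar with hψ
  have hψprim : ψ.IsPrimitive := ZMod.isPrimitive_stdAddChar n
  have hψpow : ∀ x : ZMod n, ψ x ^ n = 1 := by
    intro x
    rw [← AddChar.map_nsmul_eq_pow]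
    have : n • x = 0 := by
      rw [nsmul_eq_mul, ZMod.natCast_self, zero_mul]
    rw [this, AddChar.map_zero_eq_one]
  have hψR : ∀ x : ZMod n, MemLocalRing M (ψ x) := fun x =>
    memLocalRing_of_pow_eq_one hM _ n hn0 (hψpow x)
  -- the evaluations
  set A : ZMod n → Matrix Y Y ℂ := fun j => ∑ i, ψ (j * i) • E i with hA
  have hAidem : ∀ j, A j * A j = A j := by
    intro j
    simp only [hA]
    rw [Finset.sum_mul]
    simp_rw [Finset.mul_sum, Matrix.smul_mul, Matrix.mul_smul, smul_smul]
    have h1 : ∀ i : ZMod n, ∑ i' : ZMod n, (ψ (j * i) * ψ (j * i')) • (E i * E i')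
        = ∑ k : ZMod n, ψ (j * k) • (E i * E (k - i)) := by
      intro i
      rw [← Equiv.sum_comp (Equiv.subRight i)]
      refine Finset.sum_congr rfl fun k _ => ?_
      simp only [Equiv.subRight_apply]
      rw [← AddChar.map_add_eq_mul]
      congr 2
      ring
    simp_rw [h1]
    rw [Finset.sum_comm]
    refine Finset.sum_congr rfl fun k _ => ?_
    rw [← Finset.smul_sum, hE k]
  have hAR : ∀ j y y', MemLocalRing M (A j y y') := by
    intro j y y'
    simp only [hA]
    rw [Matrix.sum_apply]
    apply memLocalRing_sum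
    intro i _
    rw [Matrix.smul_apply, smul_eq_mul]
    exact memLocalRing_mul (hψR _) (hER i y y')
  -- the shift
  set c : ZMod n := ((n / p ^ a : ℕ) : ZMod n) with hc
  have hcq : ∀ i : ZMod n, ψ (c * i) ^ (p ^ a) = 1 := by
    intro i
    rw [← AddChar.map_nsmul_eq_pow]
    have : (p ^ a) • (c * i) = 0 := by
      rw [nsmul_eq_mul, ← mul_assoc, hc, ← Nat.cast_mul, Nat.mul_div_cancel' hq,
        ZMod.natCast_self, zero_mul]
    rw [this, AddChar.map_zero_eq_one]
  have hAcong : ∀ j y y', MemLocalIdeal M (A (j + c) y y' - A j y y') := by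
    intro j y y'
    simp only [hA]
    rw [Matrix.sum_apply, Matrix.sum_apply, ← Finset.sum_sub_distrib]
    apply memLocalIdeal_sum
    intro i _
    rw [Matrix.smul_apply, Matrix.smul_apply, smul_eq_mul, smul_eq_mul, add_mul,
      AddChar.map_add_eq_mul]
    have e : ψ (j * i) * ψ (c * i) * E i y y' - ψ (j * i) * E i y y'
        = (ψ (c * i) - 1) * (ψ (j * i) * E i y y') := by ring
    rw [e]
    exact memLocalIdeal_mul_right (memLocalIdeal_sub_one_of_pow_eq_one hM _ a (hcq i))
      (memLocalRing_mul (hψR _) (hER i y y'))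
  have htr : ∀ j, (A (j + c)).trace = (A j).trace := fun j =>
    trace_eq_of_idem_congr hM (A j) (A (j + c)) (hAidem j) (hAidem (j + c)) (hAR j) (hAcong j)
  have hTj : ∀ j, (A j).trace = ∑ i, ψ (j * i) * (E i).trace := by
    intro j
    simp only [hA]
    rw [Matrix.trace_sum]
    refine Finset.sum_congr rfl fun i _ => ?_
    rw [Matrix.trace_smul, smul_eq_mul]
  -- Fourier inversion
  set S : ℂ := ∑ j : ZMod n, ψ (-(j * k)) * (A j).trace with hS
  have hS1 : S = (n : ℂ) * (E k).trace := by
    rw [hS]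
    simp_rw [hTj, Finset.mul_sum]
    rw [Finset.sum_comm]
    have h2 : ∀ i : ZMod n, ∑ j : ZMod n, ψ (-(j * k)) * (ψ (j * i) * (E i).trace)
        = (if i = k then (n : ℂ) else 0) * (E i).trace := by
      intro i
      have h3 : ∑ j : ZMod n, ψ (-(j * k)) * (ψ (j * i) * (E i).trace)
          = (∑ j : ZMod n, ψ (j * (i - k))) * (E i).trace := by
        rw [Finset.sum_mul]
        refine Finset.sum_congr rfl fun j _ => ?_
        rw [← mul_assoc, ← AddChar.map_add_eq_mul]
        congr 2
        ring
      rw [h3, AddChar.sum_mulShift (i - k) hψprim]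
      by_cases hik : i = k
      · rw [if_pos hik, if_pos (sub_eq_zero.mpr hik), ZMod.card]
      · rw [if_neg hik, if_neg (sub_ne_zero.mpr hik), Nat.cast_zero]
    simp_rw [h2]
    rw [Finset.sum_eq_single k]
    · rw [if_pos rfl]
    · intro i _ hik
      rw [if_neg hik, zero_mul]
    · intro h; exact absurd (Finset.mem_univ _) h
  have hS2 : S = ψ (-(c * k)) * S := by
    conv_lhs => rw [hS, ← Equiv.sum_comp (Equiv.addRight c)]
    rw [hS, Finset.mul_sum]
    refine Finset.sum_congr rfl fun j _ => ?_
    simp only [Equiv.coe_addRight]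
    rw [htr j, ← mul_assoc, ← AddChar.map_add_eq_mul]
    congr 2
    ring
  have hck : c * k ≠ 0 := by
    intro h0
    apply hk
    have hkv : ((k.val : ℕ) : ZMod n) = k := ZMod.natCast_zmod_val k
    have h1 : (((n / p ^ a) * k.val : ℕ) : ZMod n) = 0 := by
      rw [Nat.cast_mul, hkv]; exact h0
    have h2 : n ∣ (n / p ^ a) * k.val := (ZMod.natCast_eq_zero_iff _ _).mp h1
    obtain ⟨d, hd⟩ := hq
    have hd0 : 0 < d := by
      rcases Nat.eq_zero_or_pos d with h | h
      · rw [h, mul_zero] at hd; omega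
      · exact h
    have hpa : 0 < p ^ a := by
      rcases Nat.eq_zero_or_pos (p ^ a) with h | h
      · rw [h, zero_mul] at hd; omega
      · exact h
    have hdiv : n / p ^ a = d := by rw [hd]; exact Nat.mul_div_cancel_left d hpa
    have h3 : d * p ^ a ∣ (n / p ^ a) * k.val := by
      refine Dvd.dvd.trans ⟨1, ?_⟩ h2
      rw [mul_one, mul_comm]; exact hd
    rw [hdiv] at h3
    exact (Nat.mul_dvd_mul_iff_left hd0).mp h3
  have hψne : ψ (-(c * k)) ≠ 1 := by
    intro h1
    rw [← AddChar.map_zero_eq_one ψ] at h1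
    have := ZMod.injective_stdAddChar h1
    exact hck (neg_eq_zero.mp this)
  have hS0 : S = 0 := by
    have : (1 - ψ (-(c * k))) * S = 0 := by
      rw [sub_mul, one_mul, ← hS2, sub_self]
    rcases mul_eq_zero.mp this with h | h
    · exact absurd (sub_eq_zero.mp h).symm hψne
    · exact h
  rw [hS0] at hS1
  have hn' : (n : ℂ) ≠ 0 := by exact_mod_cast (NeZero.ne n)
  exact (mul_eq_zero.mp hS1.symm).resolve_left hn'

end abstract

end Cfsg.Agent.Helper16
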