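import Mathlib
import Cfsg.Prelude.Def_Blocks
import Cfsg.Agent.Lib.Helper16.ConvIdem
import Cfsg.Agent.Lib.Helper77.BrauerMap

set_option autoImplicit false
set_option linter.unusedSectionVars false
set_option linter.style.haveILetI false

namespace Cfsg.Agent.Helper16

open Cfsg Cfsg.Agent.Helper77

universe u

section powmap

variable {G : Type u} [Group G]

/-- `g ^ i` for `i : ZMod (orderOf g)`. -/
noncomputable def zpw (g : G) (i : ZMod (orderOf g)) : G := g ^ i.val

theorem zpw_add (g : G) [NeZero (orderOf g)] (i j : ZMod (orderOf g)) :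
    zpw g (i + j) = zpw g i * zpw g j := by
  unfold zpw
  rw [ZMod.val_add, pow_mod_orderOf, pow_add]

theorem zpw_zero (g : G) [NeZero (orderOf g)] : zpw g 0 = 1 := by
  unfold zpw
  rw [ZMod.val_zero, pow_zero]

theorem zpw_neg (g : G) [NeZero (orderOf g)] (i : ZMod (orderOf g)) :
    zpw g (-i) = (zpw g i)⁻¹ := by
  rw [eq_inv_iff_mul_eq_one, ← zpw_add, neg_add_cancel, zpw_zero]

theorem zpw_sub (g : G) [NeZero (orderOf g)] (i j : ZMod (orderOf g)) :
    zpw g (i - j) = zpw g i * (zpw g j)⁻¹ := by
  rw [sub_eq_add_neg, zpw_add, zpw_neg]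

theorem zpw_mem (g : G) (i : ZMod (orderOf g)) : zpw g i ∈ Subgroup.zpowers g :=
  Subgroup.pow_mem _ (Subgroup.mem_zpowers g) _

theorem zpw_injective (g : G) [NeZero (orderOf g)] : Function.Injective (zpw g) := by
  intro i j hij
  unfold zpw at hij
  have hi : i.val < orderOf g := ZMod.val_lt i
  have hj : j.val < orderOf g := ZMod.val_lt j
  have := pow_injOn_Iio_orderOf (x := g) (Set.mem_Iio.mpr hi) (Set.mem_Iio.mpr hj) hij
  exact ZMod.val_injective _ this

theorem zpw_comm (g : G) [NeZero (orderOf g)] (i j : ZMod (orderOf g)) :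
    zpw g i * zpw g j = zpw g j * zpw g i := by
  rw [← zpw_add, ← zpw_add, add_comm]

end powmap

section decomp

variable {G : Type u} [Group G] [Fintype G]

/-- Coset representatives of the cyclic subgroup generated by `g`. -/
noncomputable def crep (g : G) (y : G ⧸ Subgroup.zpowers g) : G := Quotient.out y

theorem mk_crep (g : G) (y : G ⧸ Subgroup.zpowers g) :
    (QuotientGroup.mk (crep g y) : G ⧸ Subgroup.zpowers g) = y := Quotient.out_eq y

/-- The decomposition `G = ⋃ rep y * ⟨g⟩`. -/
noncomputable def cosetProd (g : G) (yi : (G ⧸ Subgroup.zpowers g) × ZMod (orderOf g)) : G :=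
  crep g yi.1 * zpw g yi.2

theorem cosetProd_bijective (g : G) [NeZero (orderOf g)] :
    Function.Bijective (cosetProd g) := by
  classical
  have hinj : Function.Injective (cosetProd g) := by
    rintro ⟨y, i⟩ ⟨y', i'⟩ h
    unfold cosetProd at h
    simp only at h
    have hy : y = y' := by
      rw [← mk_crep g y, ← mk_crep g y']
      rw [QuotientGroup.eq]
      have : (crep g y)⁻¹ * crep g y' = zpw g i * (zpw g i')⁻¹ := by
        have h2 : crep g y' = crep g y * zpw g i * (zpw g i')⁻¹ := by
          rw [h]; group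
        rw [h2]; group
      rw [this]
      exact Subgroup.mul_mem _ (zpw_mem g i) (Subgroup.inv_mem _ (zpw_mem g i'))
    subst hy
    have := mul_left_cancel h
    rw [zpw_injective g this]
  have hfin : Finite (G ⧸ Subgroup.zpowers g) := inferInstance
  haveI : Fintype (G ⧸ Subgroup.zpowers g) := Fintype.ofFinite _
  rw [Fintype.bijective_iff_injective_and_card]
  refine ⟨hinj, ?_⟩
  rw [Fintype.card_prod, ZMod.card, ← Nat.card_eq_fintype_card, ← Nat.card_eq_fintype_card,
    ← Nat.card_zpowers g]
  exact (Subgroup.card_eq_card_quotient_mul_card_subgroup (Subgroup.zpowers g)).symm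

noncomputable def cosetEquiv (g : G) [NeZero (orderOf g)] :
    (G ⧸ Subgroup.zpowers g) × ZMod (orderOf g) ≃ G :=
  Equiv.ofBijective (cosetProd g) (cosetProd_bijective g)

theorem cosetEquiv_apply (g : G) [NeZero (orderOf g)]
    (yi : (G ⧸ Subgroup.zpowers g) × ZMod (orderOf g)) :
    cosetEquiv g yi = crep g yi.1 * zpw g yi.2 := rfl

end decomp

section main

variable {G : Type u} [Group G] [Fintype G] {p : ℕ} {M : Ideal AlgInt}

/-- **Projective characters vanish on `p`-singular elements** (idempotent form): if `a` is an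
idempotent of the group ring with local-ring coefficients, then the sum of `a` over the conjugates
of a power `g ^ k` vanishes whenever `k` is not divisible by the `p`-part of the order of `g`. -/
theorem sum_conj_zpw_eq_zero (hM : IsPModular p M) (a : G → ℂ)
    (haR : ∀ x, MemLocalRing M (a x)) (hidem : conv a a = a) (g : G) (e : ℕ)
    (he : p ^ e ∣ orderOf g) (k : ZMod (orderOf g)) (hk : ¬ p ^ e ∣ k.val) :
    ∑ z : G, a (z * zpw g k * z⁻¹) = 0 := by
  classical
  haveI : NeZero (orderOf g) := ⟨(orderOf_pos g).ne'⟩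
  haveI : Fintype (G ⧸ Subgroup.zpowers g) := Fintype.ofFinite _
  set E : ZMod (orderOf g) → Matrix (G ⧸ Subgroup.zpowers g) (G ⧸ Subgroup.zpowers g) ℂ :=
    fun i => Matrix.of fun y y' => a (crep g y * zpw g i * (crep g y')⁻¹) with hEdef
  have hER : ∀ i y y', MemLocalRing M (E i y y') := fun i y y' => haR _
  have hE : ∀ k, ∑ i, E i * E (k - i) = E k := by
    intro k
    ext y y''
    rw [Matrix.sum_apply]
    simp only [Matrix.mul_apply, hEdef, Matrix.of_apply]
    rw [← Finset.sum_product' (Finset.univ) (Finset.univ)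
      (fun i y' => a (crep g y * zpw g i * (crep g y')⁻¹) *
        a (crep g y' * zpw g (k - i) * (crep g y'')⁻¹))]
    have hx0 := congrFun hidem (crep g y * zpw g k * (crep g y'')⁻¹)
    rw [← hx0]
    unfold conv
    -- reindex
    let ε : ZMod (orderOf g) × (G ⧸ Subgroup.zpowers g) ≃ G :=
      ((Equiv.neg (ZMod (orderOf g))).prodCongr (Equiv.refl _)).trans
        ((Equiv.prodComm _ _).trans ((cosetEquiv g).trans
          ((Equiv.inv G).trans (Equiv.mulLeft (crep g y)))))
    rw [← Equiv.sum_comp ε]
    refine Finset.sum_congr rfl fun iy _ => ?_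
    obtain ⟨i, y'⟩ := iy
    have hε : ε (i, y') = crep g y * zpw g i * (crep g y')⁻¹ := by
      have h1 : ε (i, y') = crep g y * (crep g y' * zpw g (-i))⁻¹ := rfl
      rw [h1, zpw_neg, mul_inv_rev, inv_inv, mul_assoc]
    rw [hε]
    congr 2
    rw [zpw_sub]
    have hc := zpw_comm g k i
    simp only [mul_inv_rev, inv_inv, mul_assoc]
    rw [inv_mul_cancel_left]
    congr 1
    rw [← mul_assoc, ← mul_assoc]
    congr 1
    exact (Commute.inv_right (show Commute (zpw g k) (zpw g i) from hc)).eq
  have htr := trace_eq_zero_of_conv_idem hM (orderOf g) e he E hER hE k hk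
  have hsum : ∑ z : G, a (z * zpw g k * z⁻¹)
      = (orderOf g : ℂ) * (E k).trace := by
    rw [← Equiv.sum_comp (cosetEquiv g), Fintype.sum_prod_type, Matrix.trace, Finset.mul_sum]
    refine Finset.sum_congr rfl fun y _ => ?_
    have : ∀ i : ZMod (orderOf g), a (cosetEquiv g (y, i) * zpw g k * (cosetEquiv g (y, i))⁻¹)
        = a (crep g y * zpw g k * (crep g y)⁻¹) := by
      intro i
      rw [cosetEquiv_apply]
      congr 1
      simp only [mul_inv_rev, mul_assoc]
      congr 1
      rw [← mul_assoc, ← mul_assoc, zpw_comm g i k, mul_assoc, mul_assoc, mul_inv_cancel_left]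
    simp only [this, Finset.sum_const, Finset.card_univ, ZMod.card, nsmul_eq_mul]
    rfl
  rw [hsum, htr, mul_zero]


/-- An idempotent of the group ring with local-ring coefficients: the sum over the conjugates
of a `p`-singular element vanishes. -/
theorem sum_conj_eq_zero_of_singular (hM : IsPModular p M) (a : G → ℂ)
    (haR : ∀ x, MemLocalRing M (a x)) (hidem : conv a a = a) (g : G) (hg : p ∣ orderOf g) :
    ∑ z : G, a (z * g * z⁻¹) = 0 := by
  have hp : p.Prime := hM.1
  haveI : NeZero (orderOf g) := ⟨(orderOf_pos g).ne'⟩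
  have hn2 : 2 ≤ orderOf g := le_trans hp.two_le (Nat.le_of_dvd (orderOf_pos g) hg)
  have h1val : (1 : ZMod (orderOf g)).val = 1 := by
    rw [ZMod.val_one_eq_one_mod]
    exact Nat.mod_eq_of_lt hn2
  have h1 : zpw g 1 = g := by
    unfold zpw
    rw [h1val, pow_one]
  have := sum_conj_zpw_eq_zero hM a haR hidem g 1 (by rwa [pow_one]) 1
    (by rw [h1val, pow_one]; exact fun h => hp.one_lt.ne' (Nat.dvd_one.mp h))
  rwa [h1] at this

/-- **Osima's theorem (support)**: block idempotents vanish on `p`-singular elements. -/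
theorem blockCoeff_eq_zero_of_singular (hM : IsPModular p M) {B : Set (IrrCharacter G)}
    (hB : IsPBlock M B) (g : G) (hg : p ∣ orderOf g) : blockCoeff B g = 0 := by
  have := isPrime_of_isPModular hM
  have h := sum_conj_eq_zero_of_singular hM (blockCoeff B) (memLocalRing_blockCoeff hB)
    (conv_blockCoeff_self B) g hg
  have hcl := isClassFunction_blockCoeff B
  simp only [hcl g, Finset.sum_const, Finset.card_univ, nsmul_eq_mul] at h
  have hG : (Fintype.card G : ℂ) ≠ 0 := by exact_mod_cast Fintype.card_ne_zero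
  exact (mul_eq_zero.mp h).resolve_left hG

end main

end Cfsg.Agent.Helper16
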