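import Mathlib
import Cfsg.Prelude.Def_Blocks
import Cfsg.Agent.Lib.Helper16.Osima
import Cfsg.Agent.Lib.Helper16.BlockBasic
import Cfsg.Agent.Lib.Helper16.ConjIrr

set_option autoImplicit false
set_option linter.unusedSectionVars false
set_option linter.style.haveILetI false

namespace Cfsg.Agent.Helper16

open Cfsg Cfsg.Agent.Helper77

universe u

section regular

variable {G : Type u} [Group G] [Fintype G] {p : ℕ} {M : Ideal AlgInt}

open scoped Classical in
/-- Blocks are separated by the `p`-regular classes: two irreducible characters whose central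
characters are congruent on all `p`-regular elements lie in the same block. -/
theorem sameBlock_of_regular (hM : IsPModular p M) (χ ψ : IrrCharacter G)
    (h : ∀ g : G, ¬ p ∣ orderOf g →
      MemLocalIdeal M (centralChar (χ : G → ℂ) g - centralChar (ψ : G → ℂ) g)) :
    SameBlock M (χ : G → ℂ) (ψ : G → ℂ) := by
  have := isPrime_of_isPModular hM
  have hne := ne_top_of_isPModular hM
  set B := blockOf M (χ : G → ℂ) with hBdef
  have hB : IsPBlock M B := isPBlock_blockOf χ
  have hecl := isClassFunction_blockCoeff B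
  have key : MemLocalIdeal M (omega (χ : G → ℂ) (blockCoeff B) - omega (ψ : G → ℂ) (blockCoeff B)) := by
    rw [omega_eq_sum_conjClasses _ _ (isClassFunction_of_isIrrCharacter' χ.2) hecl,
      omega_eq_sum_conjClasses _ _ (isClassFunction_of_isIrrCharacter' ψ.2) hecl,
      ← Finset.sum_sub_distrib]
    apply memLocalIdeal_sum
    intro c _
    rw [← mul_sub]
    by_cases hc : p ∣ orderOf c.out
    · rw [blockCoeff_eq_zero_of_singular hM hB _ hc, zero_mul]
      exact memLocalIdeal_zero hne
    · exact memLocalIdeal_mul_left (memLocalRing_blockCoeff hB _) (h _ hc)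
  rw [omega_blockCoeff, omega_blockCoeff, if_pos (mem_blockOf_self χ)] at key
  by_contra hcon
  have hnot : ψ ∉ B := hcon
  rw [if_neg hnot, sub_zero] at key
  exact not_memLocalIdeal_one key

end regular

section lift

variable {G : Type u} [Group G] [Finite G] {p : ℕ} [Fact p.Prime]

/-- For a `p`-regular element `x` centralizing the normal `p`-subgroup `P`, the class of `x` in `G`
and the class of its image in `G ⧸ P` have the same size. -/
theorem index_centralizer_mk_eq (P : Subgroup G) [P.Normal] (hP : IsPGroup p P) (x : G)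
    (hx : x ∈ Subgroup.centralizer (P : Set G)) (hreg : ¬ p ∣ orderOf x) :
    (Subgroup.centralizer ({(QuotientGroup.mk x : G ⧸ P)} : Set (G ⧸ P))).index
      = (Subgroup.centralizer ({x} : Set G)).index := by
  have hcomap : (Subgroup.centralizer ({(QuotientGroup.mk x : G ⧸ P)} : Set (G ⧸ P))).comap
      (QuotientGroup.mk' P) = Subgroup.centralizer ({x} : Set G) := by
    ext g
    rw [Subgroup.mem_comap, Subgroup.mem_centralizer_iff, Subgroup.mem_centralizer_iff]
    simp only [Set.mem_singleton_iff, forall_eq, QuotientGroup.mk'_apply]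
    constructor
    · intro h
      -- `mk (x * g) = mk (g * x)`
      have h1 : ((x * g : G) : G ⧸ P) = ((g * x : G) : G ⧸ P) := by
        rw [QuotientGroup.mk_mul, QuotientGroup.mk_mul]; exact h
      have h2 : (x * g)⁻¹ * (g * x) ∈ P := QuotientGroup.eq.mp h1
      set v := (x * g)⁻¹ * (g * x) with hv
      -- g⁻¹ x⁻¹ g x = v, so x⁻¹ conjugated ... we show v = 1
      have hconj : g⁻¹ * x * g = x * v⁻¹ := by
        rw [hv]; group
      have hcomm : Commute x v⁻¹ := by
        have := (Subgroup.mem_centralizer_iff.mp hx) v⁻¹ (P.inv_mem h2)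
        exact this.symm
      have hpow : (x * v⁻¹) ^ orderOf x = (v⁻¹) ^ orderOf x := by
        rw [hcomm.mul_pow, pow_orderOf_eq_one, one_mul]
      have hpow2 : (g⁻¹ * x * g) ^ orderOf x = 1 := by
        have : g⁻¹ * x * g = g⁻¹ * x * g⁻¹⁻¹ := by rw [inv_inv]
        rw [this, conj_pow, pow_orderOf_eq_one]; group
      have hv1 : (v⁻¹) ^ orderOf x = 1 := by rw [← hpow, ← hconj, hpow2]
      have hvP : ∃ k : ℕ, orderOf (v⁻¹) = p ^ k := by
        obtain ⟨k, hk⟩ := hP ⟨v⁻¹, P.inv_mem h2⟩
        have : (v⁻¹) ^ p ^ k = 1 := by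
          have := congrArg Subtype.val hk
          simpa using this
        obtain ⟨j, -, hj⟩ := (Nat.dvd_prime_pow Fact.out).mp (orderOf_dvd_of_pow_eq_one this)
        exact ⟨j, hj⟩
      obtain ⟨k, hk⟩ := hvP
      have hdvd : p ^ k ∣ orderOf x := hk ▸ orderOf_dvd_of_pow_eq_one hv1
      have hk0 : k = 0 := by
        by_contra hk0
        apply hreg
        exact dvd_trans (dvd_pow_self p hk0) hdvd
      rw [hk0, pow_zero, orderOf_eq_one_iff, inv_eq_one] at hk
      rw [hk, inv_one, mul_one] at hconj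
      have : x * g = g * x := by
        have h3 : g * (g⁻¹ * x * g) = g * x := by rw [hconj]
        rw [← h3]; group
      exact this
    · intro h
      rw [← QuotientGroup.mk_mul, ← QuotientGroup.mk_mul, h]
  rw [← hcomap, Subgroup.index_comap_of_surjective _ (QuotientGroup.mk'_surjective P)]

/-- `p`-regular elements of `G ⧸ P` lift to `p`-regular elements of `G`. -/
theorem exists_regular_lift (P : Subgroup G) [P.Normal] (hP : IsPGroup p P) (q : G ⧸ P)
    (hq : ¬ p ∣ orderOf q) : ∃ x : G, (QuotientGroup.mk x : G ⧸ P) = q ∧ ¬ p ∣ orderOf x := by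
  obtain ⟨g, rfl⟩ := QuotientGroup.mk_surjective q
  obtain ⟨r, hr⟩ := IsPGroup.iff_card.mp hP
  have hp : p.Prime := Fact.out
  have hcop : (p ^ r).Coprime (orderOf (QuotientGroup.mk g : G ⧸ P)) :=
    Nat.Coprime.pow_left r ((Nat.Prime.coprime_iff_not_dvd hp).mpr hq)
  obtain ⟨s, hs⟩ := exists_pow_eq_self_of_coprime hcop
  refine ⟨(g ^ (p ^ r)) ^ s, ?_, ?_⟩
  · rw [QuotientGroup.mk_pow, QuotientGroup.mk_pow]; exact hs
  · set m := orderOf (QuotientGroup.mk g : G ⧸ P) with hm
    have hgm : g ^ m ∈ P := by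
      rw [← QuotientGroup.eq_one_iff, QuotientGroup.mk_pow, hm, pow_orderOf_eq_one]
    have hgm2 : (g ^ m) ^ (p ^ r) = 1 := by
      have := pow_card_eq_one' (G := P) (x := ⟨g ^ m, hgm⟩)
      rw [hr] at this
      have := congrArg Subtype.val this
      simpa using this
    have hx : ((g ^ (p ^ r)) ^ s) ^ m = 1 := by
      have e : p ^ r * (s * m) = m * p ^ r * s := by ring
      rw [← pow_mul, ← pow_mul, e, pow_mul, pow_mul, hgm2, one_pow]
    intro hdvd
    exact hq (dvd_trans hdvd (orderOf_dvd_of_pow_eq_one hx))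

/-- If `G ⧸ C` is a `p`-group, every `p`-regular element lies in `C`. -/
theorem mem_of_regular_of_pIndex (C : Subgroup G) [C.Normal] (hC : ∃ k : ℕ, C.index = p ^ k)
    (x : G) (hx : ¬ p ∣ orderOf x) : x ∈ C := by
  obtain ⟨k, hk⟩ := hC
  have hp : p.Prime := Fact.out
  have h1 : x ^ (p ^ k) ∈ C := hk ▸ C.pow_index_mem x
  have hcop : (p ^ k).Coprime (orderOf x) :=
    Nat.Coprime.pow_left k ((Nat.Prime.coprime_iff_not_dvd hp).mpr hx)
  obtain ⟨s, hs⟩ := exists_pow_eq_self_of_coprime hcop
  rw [← hs]
  exact C.pow_mem h1 s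

end lift

end Cfsg.Agent.Helper16
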