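import Mathlib
import Cfsg.Prelude.Def_LieTypeDatum
import Cfsg.Agent.Lib.Helper5.OrthAut

/-!
# Automorphisms of `PΩ(Q)` induced by semisimilarities

A `σ`-semilinear bijection `L` of `ι → F` with `Q (L x) = μ σ (Q x)` induces an automorphism of
`PΩ(Q)` lying in `gammaPOmega`; the inner automorphisms lie in `gammaPOmega` as well.
-/

set_option autoImplicit false
set_option linter.unusedSectionVars false
set_option linter.unusedSimpArgs false

namespace Cfsg.Agent.Helper16.OSemiAut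

open Matrix Cfsg.Agent.Helper5.OrthAut

/-! ### Generic part: an automorphism of a group acts on `commutator / center` -/

section generic

variable {H : Type*} [Group H]

theorem commutator_map_eq (φ : H ≃* H) :
    (commutator H).map φ.toMonoidHom = commutator H :=
  (Subgroup.characteristic_iff_map_eq.1
    (inferInstance : (commutator H).Characteristic)) φ

/-- The automorphism of the commutator subgroup induced by an automorphism. -/
noncomputable def commEquiv (φ : H ≃* H) : ↥(commutator H) ≃* ↥(commutator H) :=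
  (φ.subgroupMap (commutator H)).trans (MulEquiv.subgroupCongr (commutator_map_eq φ))

theorem commEquiv_coe (φ : H ≃* H) (s : ↥(commutator H)) :
    ((commEquiv φ s : ↥(commutator H)) : H) = φ s := rfl

theorem center_map_eq (ψ : ↥(commutator H) ≃* ↥(commutator H)) :
    (Subgroup.center ↥(commutator H)).map ψ.toMonoidHom = Subgroup.center ↥(commutator H) :=
  (Subgroup.characteristic_iff_map_eq.1
    (inferInstance : (Subgroup.center ↥(commutator H)).Characteristic)) ψ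

/-- The automorphism of `commutator / center` induced by an automorphism. -/
noncomputable def quotEquiv (φ : H ≃* H) :
    (↥(commutator H) ⧸ Subgroup.center ↥(commutator H)) ≃*
      (↥(commutator H) ⧸ Subgroup.center ↥(commutator H)) :=
  QuotientGroup.congr (Subgroup.center ↥(commutator H)) (Subgroup.center ↥(commutator H))
    (commEquiv φ) (center_map_eq (commEquiv φ))

theorem quotEquiv_mk (φ : H ≃* H) (s : ↥(commutator H)) :
    quotEquiv φ (QuotientGroup.mk s) = QuotientGroup.mk (commEquiv φ s) := rfl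

end generic

/-! ### The matrix of a semilinear bijection -/

section semilinear

variable {F : Type*} [Field F] {ι : Type} [Fintype ι] [DecidableEq ι]

/-- The matrix whose columns are the images of the standard basis vectors. -/
def colMat (L : (ι → F) → (ι → F)) : Matrix ι ι F :=
  Matrix.of fun i j => L (Pi.single j 1) i

theorem colMat_mulVec (σ : F ≃+* F) (L : (ι → F) ≃+ (ι → F))
    (hL : ∀ (c : F) (x : ι → F), L (c • x) = σ c • L x) (x : ι → F) :
    colMat (⇑L) *ᵥ (fun i => σ (x i)) = L x := by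
  have hx : x = ∑ j, x j • (Pi.single j (1 : F) : ι → F) := by
    ext i
    simp [Finset.sum_apply, Pi.single_apply]
  conv_rhs => rw [hx]
  rw [map_sum]
  ext i
  rw [Finset.sum_apply, Matrix.mulVec, dotProduct]
  apply Finset.sum_congr rfl
  intro j _
  rw [hL, Pi.smul_apply, smul_eq_mul, colMat, Matrix.of_apply, mul_comm]

theorem colMat_isUnit (σ : F ≃+* F) (L : (ι → F) ≃+ (ι → F))
    (hL : ∀ (c : F) (x : ι → F), L (c • x) = σ c • L x) : IsUnit (colMat (⇑L)) := by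
  rw [← Matrix.mulVec_injective_iff_isUnit]
  intro y y' hyy'
  have h1 : ∀ y : ι → F, colMat (⇑L) *ᵥ y = L (fun i => σ.symm (y i)) := by
    intro y
    rw [← colMat_mulVec σ L hL]
    congr 1
    ext i
    simp
  have h2 : colMat (⇑L) *ᵥ y = colMat (⇑L) *ᵥ y' := hyy'
  rw [h1, h1] at h2
  have h3 := L.injective h2
  ext i
  have h4 := congrFun h3 i
  exact σ.symm.injective h4

/-- The matrix of `L` as an element of `GL`. -/
noncomputable def colGL (σ : F ≃+* F) (L : (ι → F) ≃+ (ι → F))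
    (hL : ∀ (c : F) (x : ι → F), L (c • x) = σ c • L x) : GL ι F :=
  (colMat_isUnit σ L hL).unit

theorem colGL_coe (σ : F ≃+* F) (L : (ι → F) ≃+ (ι → F))
    (hL : ∀ (c : F) (x : ι → F), L (c • x) = σ c • L x) :
    ((colGL σ L hL : GL ι F) : Matrix ι ι F) = colMat (⇑L) := rfl

/-- Applying `σ` to all entries, as an automorphism of `GL`. -/
noncomputable def mapGL (σ : F ≃+* F) : GL ι F ≃* GL ι F :=
  Units.mapEquiv (σ.mapMatrix (m := ι)).toMulEquiv

theorem mapGL_coe (σ : F ≃+* F) (s : GL ι F) :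
    ((mapGL σ s : GL ι F) : Matrix ι ι F) = (s : Matrix ι ι F).map σ := rfl

/-- The automorphism `s ↦ g σ(s) g⁻¹` of `GL`. -/
noncomputable def semiGL (g : GL ι F) (σ : F ≃+* F) : GL ι F ≃* GL ι F :=
  (mapGL σ).trans (MulAut.conj g)

theorem semiGL_coe (g : GL ι F) (σ : F ≃+* F) (s : GL ι F) :
    ((semiGL g σ s : GL ι F) : Matrix ι ι F) =
      (g : Matrix ι ι F) * (s : Matrix ι ι F).map σ * ((g⁻¹ : GL ι F) : Matrix ι ι F) := rfl

theorem map_mulVec_sigma (σ : F ≃+* F) (M : Matrix ι ι F) (x : ι → F) :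
    M.map σ *ᵥ (fun i => σ (x i)) = fun i => σ ((M *ᵥ x) i) := by
  ext i
  have := RingHom.map_mulVec (σ : F →+* F) M x i
  simpa [Function.comp_def] using this.symm

theorem semiGL_mulVec (σ : F ≃+* F) (L : (ι → F) ≃+ (ι → F))
    (hL : ∀ (c : F) (x : ι → F), L (c • x) = σ c • L x) (s : GL ι F) (x : ι → F) :
    ((semiGL (colGL σ L hL) σ s : GL ι F) : Matrix ι ι F) *ᵥ (L x) =
      L ((s : Matrix ι ι F) *ᵥ x) := by
  rw [semiGL_coe, ← colMat_mulVec σ L hL x, ← colGL_coe σ L hL, Matrix.mulVec_mulVec,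
    Matrix.mul_assoc, ← Units.val_mul, inv_mul_cancel, Units.val_one, Matrix.mul_one,
    ← Matrix.mulVec_mulVec, map_mulVec_sigma, colGL_coe, colMat_mulVec σ L hL]

end semilinear

/-! ### The induced automorphism of the isometry group and of `PΩ` -/

section iso

variable {F : Type*} [Field F] {ι : Type} [Fintype ι] [DecidableEq ι] (Q : (ι → F) → F)

theorem semiGL_mem_iso_iff (σ : F ≃+* F) (L : (ι → F) ≃+ (ι → F))
    (hL : ∀ (c : F) (x : ι → F), L (c • x) = σ c • L x) (μ : Fˣ)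
    (hμ : ∀ x, Q (L x) = (μ : F) * σ (Q x)) (s : GL ι F) :
    semiGL (colGL σ L hL) σ s ∈ Cfsg.isometryGroup F Q ↔ s ∈ Cfsg.isometryGroup F Q := by
  rw [mem_iso_iff, mem_iso_iff]
  constructor
  · intro h x
    have h1 := h (L x)
    rw [semiGL_mulVec, hμ, hμ] at h1
    have h2 := mul_left_cancel₀ μ.ne_zero h1
    exact σ.injective h2
  · intro h u
    obtain ⟨x, rfl⟩ := L.surjective u
    rw [semiGL_mulVec, hμ, hμ, h]

theorem iso_map_semiGL (σ : F ≃+* F) (L : (ι → F) ≃+ (ι → F))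
    (hL : ∀ (c : F) (x : ι → F), L (c • x) = σ c • L x) (μ : Fˣ)
    (hμ : ∀ x, Q (L x) = (μ : F) * σ (Q x)) :
    (Cfsg.isometryGroup F Q).map (semiGL (colGL σ L hL) σ).toMonoidHom =
      Cfsg.isometryGroup F Q := by
  ext t
  constructor
  · rintro ⟨s, hs, rfl⟩
    exact (semiGL_mem_iso_iff Q σ L hL μ hμ s).2 hs
  · intro ht
    refine ⟨(semiGL (colGL σ L hL) σ).symm t, ?_, ?_⟩
    · apply (semiGL_mem_iso_iff Q σ L hL μ hμ _).1
      have : semiGL (colGL σ L hL) σ ((semiGL (colGL σ L hL) σ).symm t) = t :=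
        (semiGL (colGL σ L hL) σ).apply_symm_apply t
      rw [this]
      exact ht
    · exact (semiGL (colGL σ L hL) σ).apply_symm_apply t

/-- The automorphism of the isometry group induced by the semisimilarity `L`. -/
noncomputable def isoEquiv (σ : F ≃+* F) (L : (ι → F) ≃+ (ι → F))
    (hL : ∀ (c : F) (x : ι → F), L (c • x) = σ c • L x) (μ : Fˣ)
    (hμ : ∀ x, Q (L x) = (μ : F) * σ (Q x)) :
    ↥(Cfsg.isometryGroup F Q) ≃* ↥(Cfsg.isometryGroup F Q) :=
  ((semiGL (colGL σ L hL) σ).subgroupMap (Cfsg.isometryGroup F Q)).trans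
    (MulEquiv.subgroupCongr (iso_map_semiGL Q σ L hL μ hμ))

theorem isoEquiv_coe (σ : F ≃+* F) (L : (ι → F) ≃+ (ι → F))
    (hL : ∀ (c : F) (x : ι → F), L (c • x) = σ c • L x) (μ : Fˣ)
    (hμ : ∀ x, Q (L x) = (μ : F) * σ (Q x)) (s : ↥(Cfsg.isometryGroup F Q)) :
    ((isoEquiv Q σ L hL μ hμ s : ↥(Cfsg.isometryGroup F Q)) : GL ι F) =
      semiGL (colGL σ L hL) σ (s : GL ι F) := rfl

/-- The automorphism of `PΩ(Q)` induced by the semisimilarity `L`. -/
noncomputable def semiAut (σ : F ≃+* F) (L : (ι → F) ≃+ (ι → F))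
    (hL : ∀ (c : F) (x : ι → F), L (c • x) = σ c • L x) (μ : Fˣ)
    (hμ : ∀ x, Q (L x) = (μ : F) * σ (Q x)) : MulAut (Cfsg.POmega F Q) :=
  quotEquiv (isoEquiv Q σ L hL μ hμ)

theorem semiAut_mk (σ : F ≃+* F) (L : (ι → F) ≃+ (ι → F))
    (hL : ∀ (c : F) (x : ι → F), L (c • x) = σ c • L x) (μ : Fˣ)
    (hμ : ∀ x, Q (L x) = (μ : F) * σ (Q x)) (s : ↥(Cfsg.Omega F Q)) :
    semiAut Q σ L hL μ hμ (QuotientGroup.mk s) =
      QuotientGroup.mk (commEquiv (isoEquiv Q σ L hL μ hμ) s) := rfl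

theorem semiAut_coe (σ : F ≃+* F) (L : (ι → F) ≃+ (ι → F))
    (hL : ∀ (c : F) (x : ι → F), L (c • x) = σ c • L x) (μ : Fˣ)
    (hμ : ∀ x, Q (L x) = (μ : F) * σ (Q x)) (s : ↥(Cfsg.Omega F Q)) :
    ((((commEquiv (isoEquiv Q σ L hL μ hμ) s : ↥(Cfsg.Omega F Q)) :
      ↥(Cfsg.isometryGroup F Q)) : GL ι F) : Matrix ι ι F) =
      ((colGL σ L hL : GL ι F) : Matrix ι ι F) *
        ((((s : ↥(Cfsg.isometryGroup F Q)) : GL ι F) : Matrix ι ι F)).map σ *
          (((colGL σ L hL)⁻¹ : GL ι F) : Matrix ι ι F) := rfl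

theorem semisimilarityPair (σ : F ≃+* F) (L : (ι → F) ≃+ (ι → F))
    (hL : ∀ (c : F) (x : ι → F), L (c • x) = σ c • L x) (μ : Fˣ)
    (hμ : ∀ x, Q (L x) = (μ : F) * σ (Q x)) :
    Cfsg.IsSemisimilarityPair Q (colGL σ L hL) σ := by
  refine ⟨μ, fun v => ?_⟩
  rw [colGL_coe, colMat_mulVec σ L hL, hμ]

theorem semiAut_induced (σ : F ≃+* F) (L : (ι → F) ≃+ (ι → F))
    (hL : ∀ (c : F) (x : ι → F), L (c • x) = σ c • L x) (μ : Fˣ)
    (hμ : ∀ x, Q (L x) = (μ : F) * σ (Q x)) :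
    Cfsg.IsInducedBySemilinearPOmega Q (colGL σ L hL) σ (semiAut Q σ L hL μ hμ) := by
  intro s s' hs'
  rw [semiAut_mk]
  congr 1
  apply Subtype.ext
  apply Subtype.ext
  apply Units.ext
  rw [semiAut_coe, hs']

theorem semiAut_mem_gamma (σ : F ≃+* F) (L : (ι → F) ≃+ (ι → F))
    (hL : ∀ (c : F) (x : ι → F), L (c • x) = σ c • L x) (μ : Fˣ)
    (hμ : ∀ x, Q (L x) = (μ : F) * σ (Q x)) :
    semiAut Q σ L hL μ hμ ∈ Cfsg.gammaPOmega F Q :=
  Subgroup.subset_closure
    ⟨colGL σ L hL, σ, semisimilarityPair Q σ L hL μ hμ, semiAut_induced Q σ L hL μ hμ⟩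

theorem semiAut_spec (σ : F ≃+* F) (L : (ι → F) ≃+ (ι → F))
    (hL : ∀ (c : F) (x : ι → F), L (c • x) = σ c • L x) (μ : Fˣ)
    (hμ : ∀ x, Q (L x) = (μ : F) * σ (Q x)) (s s' : ↥(Cfsg.Omega F Q))
    (h : ∀ x : ι → F,
      (((s' : ↥(Cfsg.isometryGroup F Q)) : GL ι F) : Matrix ι ι F) *ᵥ (L x) =
        L ((((s : ↥(Cfsg.isometryGroup F Q)) : GL ι F) : Matrix ι ι F) *ᵥ x)) :
    semiAut Q σ L hL μ hμ (QuotientGroup.mk s) = QuotientGroup.mk s' := by
  rw [semiAut_mk]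
  congr 1
  apply Subtype.ext
  apply Subtype.ext
  apply Units.ext
  apply Matrix.mulVec_injective
  funext u
  obtain ⟨x, rfl⟩ := L.surjective u
  rw [h x]
  exact semiGL_mulVec σ L hL _ x

/-- Inner automorphisms of `PΩ(Q)` are induced by semisimilarities. -/
theorem inn_le_gamma' : Cfsg.Inn (Cfsg.POmega F Q) ≤ Cfsg.gammaPOmega F Q := by
  rw [inn_eq]
  rintro β ⟨g, hg, rfl⟩
  apply Subgroup.subset_closure
  refine ⟨(g : GL ι F), RingEquiv.refl F, ?_, (induced_iff Q g _).2 rfl⟩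
  have hiso : (g : GL ι F) ∈ Cfsg.isometryGroup F Q := OmGL_le_iso Q hg
  refine ⟨1, fun v => ?_⟩
  have := (mem_iso_iff Q (g : GL ι F)).1 hiso v
  simpa using this

end iso

/-! ### The requested statements -/

theorem exists_semiAut {F : Type*} [Field F] {ι : Type} [Fintype ι] [DecidableEq ι]
    (Q : QuadraticForm F (ι → F)) (σ : F ≃+* F) (L : (ι → F) ≃+ (ι → F))
    (hL : ∀ (c : F) (x : ι → F), L (c • x) = σ c • L x) (μ : Fˣ)
    (hμ : ∀ x, Q (L x) = (μ : F) * σ (Q x)) :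
    ∃ β : MulAut (Cfsg.POmega F ⇑Q), β ∈ Cfsg.gammaPOmega F ⇑Q ∧
      ∀ s s' : ↥(Cfsg.Omega F ⇑Q),
        (∀ x : ι → F,
          (((s' : ↥(Cfsg.isometryGroup F ⇑Q)) : GL ι F) : Matrix ι ι F) *ᵥ (L x) =
            L ((((s : ↥(Cfsg.isometryGroup F ⇑Q)) : GL ι F) : Matrix ι ι F) *ᵥ x)) →
        β (QuotientGroup.mk s) = QuotientGroup.mk s' :=
  ⟨semiAut (⇑Q) σ L hL μ hμ, semiAut_mem_gamma (⇑Q) σ L hL μ hμ,
    semiAut_spec (⇑Q) σ L hL μ hμ⟩

theorem inn_le_gamma {F : Type*} [Field F] {ι : Type} [Fintype ι] [DecidableEq ι]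
    (Q : QuadraticForm F (ι → F)) :
    Cfsg.Inn (Cfsg.POmega F ⇑Q) ≤ Cfsg.gammaPOmega F ⇑Q :=
  inn_le_gamma' (⇑Q)

end Cfsg.Agent.Helper16.OSemiAut
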