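import Mathlib

set_option autoImplicit false
set_option linter.unusedSectionVars false
set_option linter.unusedVariables false

/-!
# (OMO-GB) `A/I ≅ C₂ × C_{2f}` (requested by helper13 for S2606)
-/

namespace Cfsg.Agent.Helper16.OMinOdd

open Subgroup

/-- every element of the Klein four-group squares to one -/
theorem klein_sq (v : Multiplicative (ZMod 2 × ZMod 2)) : v * v = 1 := by
  revert v
  decide

/-- a third element of the Klein four-group -/
theorem klein_third (v : Multiplicative (ZMod 2 × ZMod 2)) :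
    ∃ w : Multiplicative (ZMod 2 × ZMod 2), w ≠ 1 ∧ w ≠ v := by
  revert v
  decide

theorem klein_pow (v : Multiplicative (ZMod 2 × ZMod 2)) (m : ℕ) : v ^ m = 1 ∨ v ^ m = v := by
  induction m with
  | zero => left; exact pow_zero v
  | succ k ih =>
    rcases ih with h | h
    · right; rw [pow_succ, h, one_mul]
    · left; rw [pow_succ, h]; exact klein_sq v

/-- (GB) `A/I ≅ C2 × C_2f`. -/
theorem out_klein {A : Type*} [Group A] [Finite A] (I P : Subgroup A) [I.Normal] [P.Normal]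
    (hIP : I ≤ P) (φ : ↥P →* Multiplicative (ZMod 2 × ZMod 2)) (hφ : Function.Surjective φ)
    (hker : φ.ker = I.subgroupOf P) (x : A) (f : ℕ) (hf : 1 ≤ f)
    (hgen : ∀ β : A, ∃ i : ℕ, β * x ^ i ∈ P)
    (hord : ∀ j : ℕ, x ^ j ∈ P → f ∣ j) (hxf : x ^ f ∈ P) (hxI : x ^ f ∉ I)
    (hcomm : ∀ β ∈ P, x * β * x⁻¹ * β⁻¹ ∈ I) :
    Nonempty (A ⧸ I ≃* Multiplicative (ZMod 2 × ZMod (2 * f))) := by
  classical
  -- membership in `I` through `φ`
  have hI : ∀ (p : A) (hp : p ∈ P), p ∈ I ↔ φ ⟨p, hp⟩ = 1 := by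
    intro p hp
    have h1 : (⟨p, hp⟩ : P) ∈ φ.ker ↔ φ ⟨p, hp⟩ = 1 := MonoidHom.mem_ker
    rw [hker, Subgroup.mem_subgroupOf] at h1
    exact h1
  have hsq : ∀ p ∈ P, p * p ∈ I := by
    intro p hp
    rw [hI _ (P.mul_mem hp hp)]
    have : (⟨p * p, P.mul_mem hp hp⟩ : P) = ⟨p, hp⟩ * ⟨p, hp⟩ := rfl
    rw [this, map_mul]
    exact klein_sq _
  have hPc : ∀ p ∈ P, ∀ q ∈ P, p * q * p⁻¹ * q⁻¹ ∈ I := by
    intro p hp q hq
    have hm : p * q * p⁻¹ * q⁻¹ ∈ P := P.mul_mem (P.mul_mem (P.mul_mem hp hq) (P.inv_mem hp)) (P.inv_mem hq)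
    rw [hI _ hm]
    have : (⟨p * q * p⁻¹ * q⁻¹, hm⟩ : P) = ⟨p, hp⟩ * ⟨q, hq⟩ * ⟨p, hp⟩⁻¹ * ⟨q, hq⟩⁻¹ := rfl
    rw [this, map_mul, map_mul, map_mul, map_inv, map_inv, mul_comm (φ ⟨p, hp⟩), mul_assoc,
      mul_assoc, mul_inv_cancel_left, mul_inv_cancel]
  -- the quotient
  set π : A →* A ⧸ I := QuotientGroup.mk' I with hπ
  have hπ1 : ∀ a : A, π a = 1 ↔ a ∈ I := fun a => QuotientGroup.eq_one_iff a
  have hπsurj : Function.Surjective π := QuotientGroup.mk'_surjective I
  set xb : A ⧸ I := π x with hxb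
  have hcomm_of : ∀ a b : A ⧸ I, a * b * a⁻¹ * b⁻¹ = 1 → a * b = b * a := by
    intro a b h
    have h1 : a * b * a⁻¹ = b := by
      have := mul_inv_eq_one.1 h
      exact this
    have := mul_inv_eq_iff_eq_mul.1 h1
    exact this
  have hxP : ∀ p ∈ P, xb * π p = π p * xb := by
    intro p hp
    apply hcomm_of
    have := (hπ1 _).2 (hcomm p hp)
    rw [map_mul, map_mul, map_mul, map_inv, map_inv] at this
    exact this
  have hPP : ∀ p ∈ P, ∀ q ∈ P, π p * π q = π q * π p := by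
    intro p hp q hq
    apply hcomm_of
    have := (hπ1 _).2 (hPc p hp q hq)
    rw [map_mul, map_mul, map_mul, map_inv, map_inv] at this
    exact this
  -- every element is `π p * (xb ^ i)⁻¹`
  have hdecomp : ∀ g : A ⧸ I, ∃ p ∈ P, ∃ i : ℕ, g = π p * (xb ^ i)⁻¹ := by
    intro g
    obtain ⟨β, rfl⟩ := hπsurj g
    obtain ⟨i, hi⟩ := hgen β
    refine ⟨β * x ^ i, hi, i, ?_⟩
    rw [map_mul, map_pow, mul_inv_cancel_right]
  -- the quotient is commutative
  have hxcen : xb ∈ Subgroup.center (A ⧸ I) := by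
    rw [Subgroup.mem_center_iff]
    intro g
    obtain ⟨p, hp, i, rfl⟩ := hdecomp g
    have h1 : Commute xb (π p) := hxP p hp
    have h2 : Commute xb ((xb ^ i)⁻¹) := ((Commute.refl xb).pow_right i).inv_right
    exact ((h1.mul_right h2).eq).symm
  have hPcen : ∀ q ∈ P, π q ∈ Subgroup.center (A ⧸ I) := by
    intro q hq
    rw [Subgroup.mem_center_iff]
    intro g
    obtain ⟨p, hp, i, rfl⟩ := hdecomp g
    have h1 : Commute (π q) (π p) := hPP q hq p hp
    have h2 : Commute (π q) ((xb ^ i)⁻¹) := by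
      have : Commute (π q) xb := (hxP q hq).symm
      exact (this.pow_right i).inv_right
    exact ((h1.mul_right h2).eq).symm
  have hGcomm : ∀ a b : A ⧸ I, a * b = b * a := by
    intro a b
    obtain ⟨p, hp, i, rfl⟩ := hdecomp a
    have hmem : π p * (xb ^ i)⁻¹ ∈ Subgroup.center (A ⧸ I) :=
      Subgroup.mul_mem _ (hPcen p hp) (Subgroup.inv_mem _ (Subgroup.pow_mem _ hxcen i))
    exact ((Subgroup.mem_center_iff.1 hmem) b).symm
  -- the order of the quotient
  have hcardK : Nat.card (Multiplicative (ZMod 2 × ZMod 2)) = 4 := by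
    rw [Nat.card_eq_fintype_card]
    rfl
  have hrel : I.relIndex P = 4 := by
    have h1 : (I.subgroupOf P).index = Nat.card φ.range := by
      rw [← hker]
      exact Subgroup.index_ker φ
    rw [MonoidHom.range_eq_top.2 hφ, Subgroup.card_top, hcardK] at h1
    exact h1
  have hPidx : P.index = f := by
    set πP : A →* A ⧸ P := QuotientGroup.mk' P with hπP
    set y : A ⧸ P := πP x with hy
    have hy1 : ∀ m : ℕ, y ^ m = 1 ↔ x ^ m ∈ P := by
      intro m
      rw [hy, ← map_pow]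
      exact QuotientGroup.eq_one_iff _
    have hoy : orderOf y = f := by
      rw [orderOf_eq_iff (by omega)]
      refine ⟨(hy1 f).2 hxf, ?_⟩
      intro m hm hm0 hcon
      have := hord m ((hy1 m).1 hcon)
      have := Nat.le_of_dvd hm0 this
      omega
    have htop : Subgroup.zpowers y = ⊤ := by
      rw [Subgroup.eq_top_iff']
      intro g
      obtain ⟨β, rfl⟩ := QuotientGroup.mk'_surjective P g
      obtain ⟨i, hi⟩ := hgen β
      have h1 : πP β * y ^ i = 1 := by
        rw [hy, ← map_pow, ← map_mul]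
        exact (QuotientGroup.eq_one_iff _).2 hi
      have h2 : πP β = (y ^ i)⁻¹ := eq_inv_of_mul_eq_one_left h1
      rw [h2]
      exact Subgroup.inv_mem _ (Subgroup.pow_mem _ (Subgroup.mem_zpowers y) i)
    have : Nat.card (A ⧸ P) = f := by
      rw [← hoy, ← Nat.card_zpowers, htop, Subgroup.card_top]
    exact this
  have hcardG : Nat.card (A ⧸ I) = 4 * f := by
    have h1 := Subgroup.relIndex_mul_index hIP
    rw [hrel, hPidx] at h1
    exact h1.symm
  -- the order of `xb`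
  have hxb1 : ∀ m : ℕ, xb ^ m = 1 ↔ x ^ m ∈ I := by
    intro m
    rw [hxb, ← map_pow]
    exact hπ1 _
  have hoxb : orderOf xb = 2 * f := by
    rw [orderOf_eq_iff (by omega)]
    constructor
    · rw [hxb1, two_mul, pow_add]
      exact hsq _ hxf
    · intro m hm hm0 hcon
      have h1 := (hxb1 m).1 hcon
      obtain ⟨k, rfl⟩ := hord m (hIP h1)
      have hk : k = 1 := by
        have h2 : 0 < k := Nat.pos_of_ne_zero (by rintro rfl; simp at hm0)
        have h3 : k < 2 := by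
          by_contra h4
          push Not at h4
          have : 2 * f ≤ f * k := by rw [mul_comm]; exact Nat.mul_le_mul_left f h4
          omega
        omega
      rw [hk, mul_one] at h1
      exact hxI h1
  -- the element `t`
  set u : P := ⟨x ^ f, hxf⟩ with hu
  have hφu : φ u ≠ 1 := fun h => hxI ((hI _ hxf).2 h)
  obtain ⟨w, hw1, hwu⟩ := klein_third (φ u)
  obtain ⟨t, ht⟩ := hφ w
  set tb : A ⧸ I := π (t : A) with htb
  have htb1 : tb ≠ 1 := by
    intro h
    have h1 := (hπ1 _).1 h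
    have h2 := (hI _ t.2).1 h1
    apply hw1
    rw [← ht]
    exact h2
  have htb2 : tb ^ 2 = 1 := by
    rw [htb, ← map_pow, hπ1, pow_two]
    exact hsq _ t.2
  have hotb : orderOf tb = 2 := orderOf_eq_prime htb2 htb1
  -- trivial intersection
  have hinter : Subgroup.zpowers tb ⊓ Subgroup.zpowers xb = ⊥ := by
    rw [eq_bot_iff]
    intro z hz
    rw [Subgroup.mem_inf] at hz
    rw [Subgroup.mem_bot]
    by_contra hz1
    -- `z = tb`
    have hzt : z = tb := by
      obtain ⟨n, hn⟩ := (mem_powers_iff_mem_zpowers.2 hz.1)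
      rw [← hn]
      rw [← hn] at hz1
      rcases Nat.even_or_odd n with ⟨k, rfl⟩ | ⟨k, rfl⟩
      · exfalso
        apply hz1
        show tb ^ (k + k) = 1
        rw [← two_mul, pow_mul, htb2, one_pow]
      · show tb ^ (2 * k + 1) = tb
        rw [pow_succ, pow_mul, htb2, one_pow, one_mul]
    obtain ⟨n, hn⟩ := (mem_powers_iff_mem_zpowers.2 hz.2)
    have hn' : π (x ^ n) = π (t : A) := by
      rw [map_pow]
      exact hn.trans hzt
    have h1 : (x ^ n)⁻¹ * (t : A) ∈ I := by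
      have := (QuotientGroup.eq (s := I) (a := x ^ n) (b := (t : A))).1 hn'
      exact this
    have hxnP : x ^ n ∈ P := by
      have h2 : (x ^ n)⁻¹ ∈ P := by
        have : (x ^ n)⁻¹ = ((x ^ n)⁻¹ * (t : A)) * (t : A)⁻¹ := by group
        rw [this]
        exact P.mul_mem (hIP h1) (P.inv_mem t.2)
      exact (P.inv_mem_iff).1 h2
    obtain ⟨k, rfl⟩ := hord n hxnP
    -- `φ t = φ u ^ k`
    have h3 : φ (⟨x ^ (f * k), hxnP⟩ : P) = φ u ^ k := by
      rw [← map_pow]
      congr 1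
      apply Subtype.ext
      rw [hu]
      simp [pow_mul]
    have h4 : φ (⟨x ^ (f * k), hxnP⟩ : P) = φ t := by
      have hm : (x ^ (f * k))⁻¹ * (t : A) ∈ P := hIP h1
      have h5 := (hI _ hm).1 h1
      have : (⟨(x ^ (f * k))⁻¹ * (t : A), hm⟩ : P) = (⟨x ^ (f * k), hxnP⟩ : P)⁻¹ * t := rfl
      rw [this, map_mul, map_inv] at h5
      exact (inv_mul_eq_one.1 h5)
    rw [h4, ht] at h3
    rcases klein_pow (φ u) k with h | h
    · exact hw1 (h3.trans h)
    · exact hwu (h3.trans h)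
  -- the product map
  let ψ : (Subgroup.zpowers tb) × (Subgroup.zpowers xb) →* A ⧸ I :=
    { toFun := fun ab => (ab.1 : A ⧸ I) * (ab.2 : A ⧸ I)
      map_one' := by simp
      map_mul' := by
        intro a b
        show ((a.1 * b.1 : Subgroup.zpowers tb) : A ⧸ I) * ((a.2 * b.2 : Subgroup.zpowers xb) : A ⧸ I)
          = ((a.1 : A ⧸ I) * (a.2 : A ⧸ I)) * ((b.1 : A ⧸ I) * (b.2 : A ⧸ I))
        rw [Subgroup.coe_mul, Subgroup.coe_mul, mul_assoc, ← mul_assoc (b.1 : A ⧸ I),
          hGcomm (b.1 : A ⧸ I) (a.2 : A ⧸ I), mul_assoc, ← mul_assoc] }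
  have hψinj : Function.Injective ψ := by
    rw [injective_iff_map_eq_one]
    rintro ⟨a, b⟩ hab
    have hab' : (a : A ⧸ I) * (b : A ⧸ I) = 1 := hab
    have ha : (a : A ⧸ I) = (b : A ⧸ I)⁻¹ := eq_inv_of_mul_eq_one_left hab'
    have hmem : (a : A ⧸ I) ∈ Subgroup.zpowers tb ⊓ Subgroup.zpowers xb := by
      refine Subgroup.mem_inf.2 ⟨a.2, ?_⟩
      rw [ha]
      exact Subgroup.inv_mem _ b.2
    rw [hinter, Subgroup.mem_bot] at hmem
    have hb : (b : A ⧸ I) = 1 := by
      rw [hmem, one_mul] at hab'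
      exact hab'
    exact Prod.ext (Subtype.ext hmem) (Subtype.ext hb)
  have hψbij : Function.Bijective ψ := by
    rw [Nat.bijective_iff_injective_and_card]
    refine ⟨hψinj, ?_⟩
    rw [Nat.card_prod, Nat.card_zpowers, Nat.card_zpowers, hotb, hoxb, hcardG]
    ring
  have e1 : (Subgroup.zpowers tb) × (Subgroup.zpowers xb) ≃* A ⧸ I := MulEquiv.ofBijective ψ hψbij
  have e2 : Multiplicative (ZMod 2) ≃* Subgroup.zpowers tb := by
    apply mulEquivOfCyclicCardEq
    rw [Nat.card_zpowers, hotb, Nat.card_eq_fintype_card]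
    rfl
  have e3 : Multiplicative (ZMod (2 * f)) ≃* Subgroup.zpowers xb := by
    apply mulEquivOfCyclicCardEq
    rw [Nat.card_zpowers, hoxb]
    show Nat.card (ZMod (2 * f)) = 2 * f
    exact Nat.card_zmod _
  exact ⟨((MulEquiv.prodMultiplicative _ _).trans ((MulEquiv.prodCongr e2 e3).trans e1)).symm⟩

end Cfsg.Agent.Helper16.OMinOdd
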