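import Mathlib
import Cfsg.Agent.Lib.Helper5.OAut8

set_option autoImplicit false
set_option linter.unusedSectionVars false
set_option linter.unusedVariables false

/-!
# (NG-non): two singular vectors in the perp of a hyperbolic pair have a common
non-perpendicular singular vector there (requested by helper5).
-/

namespace Cfsg.Agent.Helper16.OAutNG

open Matrix QuadraticMap Cfsg.Agent.Helper13 Cfsg.Agent.Helper43 Module Cfsg.Agent.Helper5.OAut

variable {F : Type*} [Field F] [Fintype F] {ι : Type} [Fintype ι] [DecidableEq ι]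
  {Q : QuadraticForm F (ι → F)}

theorem NG_non (C : Ctx Q) {u v : ι → F} (hu : Q u = 0) (hv : Q v = 0)
    (huv : polar (⇑Q) u v = 1) {e e' : ι → F} (he0 : e ≠ 0) (he0' : e' ≠ 0) (he : Q e = 0)
    (he' : Q e' = 0) (hue : polar (⇑Q) u e = 0) (hve : polar (⇑Q) v e = 0)
    (hue' : polar (⇑Q) u e' = 0) (hve' : polar (⇑Q) v e' = 0) :
    ∃ t, Q t = 0 ∧ polar (⇑Q) u t = 0 ∧ polar (⇑Q) v t = 0 ∧ polar (⇑Q) e t ≠ 0 ∧
      polar (⇑Q) e' t ≠ 0 := by
  have hee : polar (⇑Q) e e = 0 := polar_self_of_sing Q e he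
  have hee' : polar (⇑Q) e' e' = 0 := polar_self_of_sing Q e' he'
  by_cases ha : polar (⇑Q) e e' = 0
  · -- perpendicular case
    obtain ⟨p, hp, hup, hvp, hep⟩ := NG_part C hu hv huv he0 he hue hve
    by_cases hb : polar (⇑Q) e' p = 0
    · have hpe' : polar (⇑Q) p e' = 0 := by rw [polar_comm, hb]
      obtain ⟨p', hp', hup', hvp', hep', hpp', he'p'⟩ :=
        NG_part2 C hu hv huv he hp hep hue hup hve hvp he0' he' hue' hve' ha hpe'
      refine ⟨p + p', ?_, ?_, ?_, ?_, ?_⟩
      · rw [QuadraticMap.map_add Q p p', hp, hp', hpp']; simp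
      · rw [polar_add_right, hup, hup']; simp
      · rw [polar_add_right, hvp, hvp']; simp
      · rw [polar_add_right, hep, hep']; simp
      · rw [polar_add_right, hb, he'p']; simp
    · refine ⟨p, hp, hup, hvp, ?_, hb⟩
      rw [hep]; exact one_ne_zero
  · -- non-perpendicular case
    set a := polar (⇑Q) e e' with ha'
    set e2 : ι → F := a⁻¹ • e' with he2
    have he2Q : Q e2 = 0 := by rw [he2, QuadraticMap.map_smul, he']; simp
    have hue2 : polar (⇑Q) u e2 = 0 := by rw [he2, polar_smul_right, hue']; simp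
    have hve2 : polar (⇑Q) v e2 = 0 := by rw [he2, polar_smul_right, hve']; simp
    have hee2 : polar (⇑Q) e e2 = 1 := by
      rw [he2, polar_smul_right, ← ha', smul_eq_mul, inv_mul_cancel₀ ha]
    have he2e : polar (⇑Q) e2 e = 1 := by rw [polar_comm, hee2]
    have he2e2 : polar (⇑Q) e2 e2 = 0 := polar_self_of_sing Q e2 he2Q
    obtain ⟨s, hs0, hs, hus, hvs, hes, he's⟩ := NG_ex4 C u v e e'
    have he2s : polar (⇑Q) e2 s = 0 := by
      rw [polar_comm, he2, polar_smul_right, polar_comm, he's]; simp
    obtain ⟨r, hr, hur, hvr, her, he2r, hsr⟩ :=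
      NG_part2 C hu hv huv he he2Q hee2 hue hue2 hve hve2 hs0 hs hus hvs hes he2s
    have hse : polar (⇑Q) s e = 0 := by rw [polar_comm, hes]
    have hse2 : polar (⇑Q) s e2 = 0 := by rw [polar_comm, he2s]
    have hre : polar (⇑Q) r e = 0 := by rw [polar_comm, her]
    have hre2 : polar (⇑Q) r e2 = 0 := by rw [polar_comm, he2r]
    have hQ1 : Q (e + e2) = 1 := by
      rw [QuadraticMap.map_add Q e e2, he, he2Q, hee2]; simp
    have hQ2 : Q (s - r) = -1 := by
      have h1 : s - r = s + (-1 : F) • r := by rw [neg_smul, one_smul, sub_eq_add_neg]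
      rw [h1, QuadraticMap.map_add Q s ((-1 : F) • r), QuadraticMap.map_smul, hs, hr,
        polar_smul_right, hsr]
      simp
    have hP : polar (⇑Q) (e + e2) (s - r) = 0 := by
      rw [polar_sub_right, polar_add_left, polar_add_left, hes, he2s, her, he2r]; simp
    refine ⟨(e + e2) + (s - r), ?_, ?_, ?_, ?_, ?_⟩
    · rw [QuadraticMap.map_add Q (e + e2) (s - r), hQ1, hQ2, hP]; simp
    · rw [polar_add_right, polar_add_right, polar_sub_right, hue, hue2, hus, hur]; simp
    · rw [polar_add_right, polar_add_right, polar_sub_right, hve, hve2, hvs, hvr]; simp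
    · rw [polar_add_right, polar_add_right, polar_sub_right, hee, hee2, hes, her]; simp
    · have h1 : polar (⇑Q) e' e = a := by rw [polar_comm]
      have h2 : polar (⇑Q) e' e2 = 0 := by rw [he2, polar_smul_right, hee']; simp
      have h3 : polar (⇑Q) e' r = 0 := by
        have : e' = a • e2 := by rw [he2, smul_smul, mul_inv_cancel₀ ha, one_smul]
        rw [this, polar_smul_left, he2r]; simp
      rw [polar_add_right, polar_add_right, polar_sub_right, h1, h2, he's, h3]
      simpa using ha

end Cfsg.Agent.Helper16.OAutNG
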