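import Mathlib

/-!
Two Mathlib-only lemmas on additive maps that respect the singular vectors of a
quadratic form: such a map is semilinear, and a semilinear map preserving singular
vectors is a semisimilitude.
-/

namespace Cfsg.Agent.Helper16.OSemi

open QuadraticMap

section L1

variable {F V : Type*} [Field F] [AddCommGroup V] [Module F V]

theorem indep_image (Q : QuadraticForm F V) (f : V →+ V)
    (hinj : Function.Injective f)
    (hline' : ∀ w, Q w = 0 → ∀ c' : F, ∃ c : F, f (c • w) = c' • f w)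
    {w z : V} (hw : Q w = 0) (hz : Q z = 0) (hw0 : w ≠ 0)
    (hzw : ∀ c : F, z ≠ c • w) {a b : F} (hab : a • f z + b • f w = 0) :
    a = 0 ∧ b = 0 := by
  have hz0 : z ≠ 0 := by
    intro h
    exact hzw 0 (by rw [h, zero_smul])
  have hfz : f z ≠ 0 := fun h => hz0 (hinj (by rw [h, map_zero]))
  have hfw : f w ≠ 0 := fun h => hw0 (hinj (by rw [h, map_zero]))
  obtain ⟨a', ha'⟩ := hline' z hz a
  obtain ⟨b', hb'⟩ := hline' w hw b
  have h1 : f (a' • z + b' • w) = 0 := by rw [map_add, ha', hb', hab]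
  have h2 : a' • z + b' • w = 0 := hinj (by rw [h1, map_zero])
  have ha0 : a' = 0 := by
    by_contra hne
    apply hzw (-(a'⁻¹ * b'))
    have h3 : a' • z = -(b' • w) := eq_neg_of_add_eq_zero_left h2
    calc z = a'⁻¹ • (a' • z) := by rw [smul_smul, inv_mul_cancel₀ hne, one_smul]
      _ = -(a'⁻¹ * b') • w := by rw [h3, smul_neg, smul_smul, neg_smul]
  have hb0 : b' = 0 := by
    rw [ha0, zero_smul, zero_add] at h2
    rcases smul_eq_zero.mp h2 with h | h
    · exact h
    · exact absurd h hw0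
  rw [ha0, zero_smul, map_zero] at ha'
  rw [hb0, zero_smul, map_zero] at hb'
  constructor
  · rcases smul_eq_zero.mp ha'.symm with h | h
    · exact h
    · exact absurd h hfz
  · rcases smul_eq_zero.mp hb'.symm with h | h
    · exact h
    · exact absurd h hfw

theorem scalar_eq_of_perp (Q : QuadraticForm F V) (f : V →+ V)
    (hinj : Function.Injective f)
    (hline : ∀ w, Q w = 0 → ∀ c : F, ∃ c' : F, f (c • w) = c' • f w)
    (hline' : ∀ w, Q w = 0 → ∀ c' : F, ∃ c : F, f (c • w) = c' • f w)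
    {w z : V} (hw : Q w = 0) (hz : Q z = 0) (hw0 : w ≠ 0)
    (hp : polar Q z w = 0) (hzw : ∀ c : F, z ≠ c • w) {c c1 c2 : F}
    (h1 : f (c • w) = c1 • f w) (h2 : f (c • z) = c2 • f z) : c1 = c2 := by
  have hzw' : Q (z + w) = 0 := by
    have : polar Q z w = Q (z + w) - Q z - Q w := rfl
    rw [hz, hw, sub_zero, sub_zero] at this
    rw [← this, hp]
  obtain ⟨c3, h3⟩ := hline (z + w) hzw' c
  rw [smul_add, map_add, map_add, h1, h2, smul_add] at h3
  have h4 : (c2 - c3) • f z + (c1 - c3) • f w = 0 := by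
    rw [sub_smul, sub_smul]
    have : c2 • f z + c1 • f w - (c3 • f z + c3 • f w) = 0 := sub_eq_zero.mpr h3
    rw [← this]
    abel
  obtain ⟨h5, h6⟩ := indep_image Q f hinj hline' hw hz hw0 hzw h4
  rw [sub_eq_zero] at h5 h6
  rw [h5, h6]

theorem scalar_eq (Q : QuadraticForm F V)
    (hconn : ∀ w w' : V, w ≠ 0 → w' ≠ 0 → Q w = 0 → Q w' = 0 →
      ∃ z : V, Q z = 0 ∧ polar Q z w = 0 ∧ polar Q z w' = 0 ∧
        (∀ c : F, z ≠ c • w) ∧ (∀ c : F, z ≠ c • w'))
    (f : V →+ V) (hinj : Function.Injective f)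
    (hline : ∀ w, Q w = 0 → ∀ c : F, ∃ c' : F, f (c • w) = c' • f w)
    (hline' : ∀ w, Q w = 0 → ∀ c' : F, ∃ c : F, f (c • w) = c' • f w)
    {w w' : V} (hw : Q w = 0) (hw' : Q w' = 0) (hw0 : w ≠ 0) (hw'0 : w' ≠ 0)
    {c c1 c2 : F}
    (h1 : f (c • w) = c1 • f w) (h2 : f (c • w') = c2 • f w') : c1 = c2 := by
  obtain ⟨z, hz, hp, hp', hzw, hzw'⟩ := hconn w w' hw0 hw'0 hw hw'
  obtain ⟨c3, h3⟩ := hline z hz c
  rw [scalar_eq_of_perp Q f hinj hline hline' hw hz hw0 hp hzw h1 h3,
    scalar_eq_of_perp Q f hinj hline hline' hw' hz hw'0 hp' hzw' h2 h3]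

theorem semilinear_of_singular_lines (Q : QuadraticForm F V)
    (hex : ∃ w : V, w ≠ 0 ∧ Q w = 0)
    (hspan : Submodule.span F {w : V | Q w = 0} = ⊤)
    (hconn : ∀ w w' : V, w ≠ 0 → w' ≠ 0 → Q w = 0 → Q w' = 0 →
      ∃ z : V, Q z = 0 ∧ polar Q z w = 0 ∧ polar Q z w' = 0 ∧
        (∀ c : F, z ≠ c • w) ∧ (∀ c : F, z ≠ c • w'))
    (f : V →+ V) (hinj : Function.Injective f)
    (hline : ∀ w, Q w = 0 → ∀ c : F, ∃ c' : F, f (c • w) = c' • f w)
    (hline' : ∀ w, Q w = 0 → ∀ c' : F, ∃ c : F, f (c • w) = c' • f w) :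
    ∃ σ : F ≃+* F, ∀ (c : F) (w : V), f (c • w) = σ c • f w := by
  obtain ⟨w0, hw00, hw0⟩ := hex
  have hfw0 : f w0 ≠ 0 := fun h => hw00 (hinj (by rw [h, map_zero]))
  choose σ0 hσ0 using hline w0 hw0
  have hcancel : ∀ {a b : F}, a • f w0 = b • f w0 → a = b := fun {a b} h =>
    smul_left_injective F hfw0 h
  -- the key property on singular vectors
  have key : ∀ w, Q w = 0 → ∀ c, f (c • w) = σ0 c • f w := by
    intro w hw c
    by_cases hw1 : w = 0
    · rw [hw1, smul_zero, map_zero, smul_zero]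
    · obtain ⟨c1, h1⟩ := hline w hw c
      rw [h1, scalar_eq Q hconn f hinj hline hline' hw hw0 hw1 hw00 h1 (hσ0 c)]
  have h_zero : σ0 0 = 0 := by
    apply hcancel
    rw [← hσ0, zero_smul, zero_smul, map_zero]
  have h_one : σ0 1 = 1 := by
    apply hcancel
    rw [← hσ0, one_smul, one_smul]
  have h_add : ∀ a b, σ0 (a + b) = σ0 a + σ0 b := by
    intro a b
    apply hcancel
    rw [← hσ0, add_smul, map_add, hσ0, hσ0, add_smul]
  have h_mul : ∀ a b, σ0 (a * b) = σ0 a * σ0 b := by
    intro a b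
    apply hcancel
    have hb : Q (b • w0) = 0 := by
      rw [QuadraticMap.map_smul, hw0, smul_zero]
    rw [← hσ0, mul_smul, key _ hb, hσ0, smul_smul]
  have h_inj : Function.Injective σ0 := by
    intro a b hab
    have h1 : f (a • w0) = f (b • w0) := by rw [hσ0, hσ0, hab]
    have h2 : a • w0 = b • w0 := hinj h1
    exact smul_left_injective F hw00 h2
  have h_surj : Function.Surjective σ0 := by
    intro c'
    obtain ⟨c, hc⟩ := hline' w0 hw0 c'
    refine ⟨c, ?_⟩
    apply hcancel
    rw [← hσ0, hc]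
  let σr : F →+* F :=
    { toFun := σ0
      map_one' := h_one
      map_mul' := h_mul
      map_zero' := h_zero
      map_add' := h_add }
  refine ⟨RingEquiv.ofBijective σr ⟨h_inj, h_surj⟩, ?_⟩
  intro c v
  have hv : v ∈ Submodule.span F {w : V | Q w = 0} := by rw [hspan]; trivial
  show f (c • v) = σ0 c • f v
  have goal : ∀ c, f (c • v) = σ0 c • f v := by
    induction hv using Submodule.span_induction with
    | mem x hx => exact key x hx
    | zero => intro c; rw [smul_zero, map_zero, smul_zero]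
    | add x y _ _ ihx ihy =>
      intro c
      rw [smul_add, map_add, ihx, ihy, map_add, smul_add]
    | smul a x _ ih =>
      intro c
      rw [smul_smul, ih, ih, h_mul, mul_smul]
  exact goal c

end L1

section L2

variable {F V : Type*} [Field F] [AddCommGroup V] [Module F V]

theorem polar_image_zero_of_perp (Q : QuadraticForm F V) (f : V →+ V)
    (hsing : ∀ w, Q w = 0 → Q (f w) = 0) {e z : V} (he : Q e = 0) (hz : Q z = 0)
    (hp : polar Q e z = 0) : polar Q (f e) (f z) = 0 := by
  have h1 : Q (e + z) = 0 := by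
    rw [QuadraticMap.map_add (⇑Q), he, hz, hp, add_zero, add_zero]
  have h2 : Q (f e + f z) = 0 := by
    rw [← map_add]
    exact hsing _ h1
  rw [QuadraticMap.map_add (⇑Q), hsing e he, hsing z hz, zero_add, zero_add] at h2
  exact h2

theorem polar_image_smul_left (Q : QuadraticForm F V) (f : V →+ V) (σ : F ≃+* F)
    (hsemi : ∀ (c : F) (w : V), f (c • w) = σ c • f w) (a : F) (x y : V) :
    polar Q (f (a • x)) (f y) = σ a * polar Q (f x) (f y) := by
  rw [hsemi, polar_smul_left, smul_eq_mul]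

theorem polar_image_smul_right (Q : QuadraticForm F V) (f : V →+ V) (σ : F ≃+* F)
    (hsemi : ∀ (c : F) (w : V), f (c • w) = σ c • f w) (a : F) (x y : V) :
    polar Q (f x) (f (a • y)) = σ a * polar Q (f x) (f y) := by
  rw [hsemi, polar_smul_right, smul_eq_mul]

theorem polar_image_zero_of_perp' (Q : QuadraticForm F V) (f : V →+ V) (σ : F ≃+* F)
    (hsemi : ∀ (c : F) (w : V), f (c • w) = σ c • f w)
    (hsing : ∀ w, Q w = 0 → Q (f w) = 0)
    (hperp : ∀ e : V, e ≠ 0 → Q e = 0 → ∀ x, polar Q e x = 0 →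
      x ∈ Submodule.span F {z : V | Q z = 0 ∧ polar Q e z = 0})
    {e x : V} (he0 : e ≠ 0) (he : Q e = 0) (hp : polar Q e x = 0) :
    polar Q (f e) (f x) = 0 := by
  have hx := hperp e he0 he x hp
  clear hp
  induction hx using Submodule.span_induction with
  | mem z hz => exact polar_image_zero_of_perp Q f hsing he hz.1 hz.2
  | zero => rw [map_zero, polar_zero_right]
  | add y z _ _ ihy ihz => rw [map_add, polar_add_right, ihy, ihz, add_zero]
  | smul a y _ ih => rw [polar_image_smul_right Q f σ hsemi, ih, mul_zero]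

theorem exists_scalar_of_singular (Q : QuadraticForm F V) (f : V →+ V) (σ : F ≃+* F)
    (hsemi : ∀ (c : F) (w : V), f (c • w) = σ c • f w)
    (hsing : ∀ w, Q w = 0 → Q (f w) = 0)
    (hpart : ∀ e : V, e ≠ 0 → Q e = 0 → ∃ e', Q e' = 0 ∧ polar Q e e' = 1)
    (hperp : ∀ e : V, e ≠ 0 → Q e = 0 → ∀ x, polar Q e x = 0 →
      x ∈ Submodule.span F {z : V | Q z = 0 ∧ polar Q e z = 0})
    {e : V} (he0 : e ≠ 0) (he : Q e = 0) :
    ∃ m : F, ∀ x, polar Q (f e) (f x) = m * σ (polar Q e x) := by
  obtain ⟨e', he', hee'⟩ := hpart e he0 he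
  refine ⟨polar Q (f e) (f e'), ?_⟩
  intro x
  have h1 : polar Q e (x - polar Q e x • e') = 0 := by
    rw [polar_sub_right, polar_smul_right, hee', smul_eq_mul, mul_one, sub_self]
  have h2 := polar_image_zero_of_perp' Q f σ hsemi hsing hperp he0 he h1
  rw [map_sub, polar_sub_right, polar_image_smul_right Q f σ hsemi, sub_eq_zero] at h2
  rw [h2, mul_comm]

theorem semisim_of_singular (Q : QuadraticForm F V) (f : V →+ V) (σ : F ≃+* F)
    (hsemi : ∀ (c : F) (w : V), f (c • w) = σ c • f w)
    (hsing : ∀ w, Q w = 0 → Q (f w) = 0)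
    (hspan : Submodule.span F {w : V | Q w = 0} = ⊤)
    (hpart : ∀ e : V, e ≠ 0 → Q e = 0 → ∃ e', Q e' = 0 ∧ polar Q e e' = 1)
    (hperp : ∀ e : V, e ≠ 0 → Q e = 0 → ∀ x, polar Q e x = 0 →
      x ∈ Submodule.span F {z : V | Q z = 0 ∧ polar Q e z = 0})
    (hnon : ∀ e e' : V, e ≠ 0 → e' ≠ 0 → Q e = 0 → Q e' = 0 →
      ∃ t, Q t = 0 ∧ polar Q e t ≠ 0 ∧ polar Q e' t ≠ 0) :
    ∃ μ : F, ∀ w, Q (f w) = μ * σ (Q w) := by
  by_cases hex : ∃ e0 : V, e0 ≠ 0 ∧ Q e0 = 0
  · obtain ⟨e0, he00, he0⟩ := hex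
    obtain ⟨m, hm⟩ := exists_scalar_of_singular Q f σ hsemi hsing hpart hperp he00 he0
    refine ⟨m, ?_⟩
    -- the scalar does not depend on the singular vector
    have hm' : ∀ e, Q e = 0 → ∀ x, polar Q (f e) (f x) = m * σ (polar Q e x) := by
      intro e he x
      by_cases he1 : e = 0
      · rw [he1, map_zero, polar_zero_left, polar_zero_left, map_zero, mul_zero]
      · obtain ⟨m1, hm1⟩ :=
          exists_scalar_of_singular Q f σ hsemi hsing hpart hperp he1 he
        obtain ⟨t, ht, het, he0t⟩ := hnon e e0 he1 he00 he he0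
        have ht0 : t ≠ 0 := by
          intro h
          rw [h, polar_zero_right] at het
          exact het rfl
        obtain ⟨m2, hm2⟩ :=
          exists_scalar_of_singular Q f σ hsemi hsing hpart hperp ht0 ht
        have hσ : ∀ {a : F}, a ≠ 0 → σ a ≠ 0 := fun {a} ha h =>
          ha (by simpa using h)
        have e1 : m1 = m2 := by
          have h1 := hm1 t
          have h2 := hm2 e
          rw [polar_comm Q (f t) (f e), polar_comm Q t e, h1] at h2
          exact mul_right_cancel₀ (hσ het) h2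
        have e2 : m = m2 := by
          have h1 := hm t
          have h2 := hm2 e0
          rw [polar_comm Q (f t) (f e0), polar_comm Q t e0, h1] at h2
          exact mul_right_cancel₀ (hσ he0t) h2
        rw [hm1 x, e1, e2]
    have hall : ∀ v x, polar Q (f v) (f x) = m * σ (polar Q v x) := by
      intro v
      have hv : v ∈ Submodule.span F {w : V | Q w = 0} := by rw [hspan]; trivial
      induction hv using Submodule.span_induction with
      | mem e he => exact hm' e he
      | zero =>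
        intro x
        rw [map_zero, polar_zero_left, polar_zero_left, map_zero, mul_zero]
      | add y z _ _ ihy ihz =>
        intro x
        rw [map_add, polar_add_left, polar_add_left, ihy, ihz, map_add, mul_add]
      | smul a y _ ih =>
        intro x
        rw [polar_image_smul_left Q f σ hsemi, ih, polar_smul_left, smul_eq_mul, map_mul]
        ring
    intro w
    have hw : w ∈ Submodule.span F {w : V | Q w = 0} := by rw [hspan]; trivial
    induction hw using Submodule.span_induction with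
    | mem e he => rw [hsing e he, he, map_zero, mul_zero]
    | zero => rw [map_zero, QuadraticMap.map_zero, map_zero, mul_zero]
    | add y z _ _ ihy ihz =>
      rw [map_add, QuadraticMap.map_add (⇑Q) (f y), QuadraticMap.map_add (⇑Q) y, ihy, ihz,
        hall, map_add, map_add]
      ring
    | smul a y _ ih =>
      rw [hsemi, QuadraticMap.map_smul, QuadraticMap.map_smul, ih, smul_eq_mul, smul_eq_mul,
        map_mul, map_mul]
      ring
  · refine ⟨0, ?_⟩
    intro w
    have hw : w ∈ Submodule.span F {w : V | Q w = 0} := by rw [hspan]; trivial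
    have hle : Submodule.span F {w : V | Q w = 0} ≤ ⊥ := by
      rw [Submodule.span_le]
      intro x hx
      by_contra hx0
      exact hex ⟨x, fun h => hx0 (by rw [h]; exact Submodule.zero_mem _), hx⟩
    have hw0 : w = 0 := by
      have := hle hw
      simpa using this
    rw [hw0, map_zero, QuadraticMap.map_zero, zero_mul]

end L2

end Cfsg.Agent.Helper16.OSemi
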