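import Mathlib
import Cfsg.Prelude.Def_Blocks
import Cfsg.Agent.Lib.Helper16.Osima
import Cfsg.Agent.Lib.Helper80.CharBasic
import Cfsg.Agent.Lib.Helper78.CharSchur

set_option autoImplicit false
set_option linter.unusedSectionVars false
set_option linter.style.haveILetI false

namespace Cfsg.Agent.Helper16

open Cfsg Cfsg.Agent.Helper77
open scoped ComplexConjugate

universe u

section translate

variable {G : Type u} [Group G] [Fintype G]

theorem classFunction_comm {e : G → ℂ} (he : IsClassFunction G e) (u v : G) :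
    e (u * v) = e (v * u) := by
  have := he (u * v) v
  rw [← this]
  congr 1
  group

/-- Convolution of two left translates of a central idempotent. -/
theorem conv_translate_translate {e : G → ℂ} (he : IsClassFunction G e) (hidem : conv e e = e)
    (h h' w : G) :
    ∑ z : G, e (h⁻¹ * z) * e (h'⁻¹ * (z⁻¹ * w)) = e ((h * h')⁻¹ * w) := by
  rw [← Equiv.sum_comp (Equiv.mulLeft h)]
  simp only [Equiv.coe_mulLeft, inv_mul_cancel_left]
  have h1 : ∀ z : G, e (h'⁻¹ * ((h * z)⁻¹ * w)) = e (z⁻¹ * (h⁻¹ * w * h'⁻¹)) := by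
    intro z
    rw [classFunction_comm he]
    congr 1
    group
  simp only [h1]
  have h2 := congrFun hidem (h⁻¹ * w * h'⁻¹)
  unfold conv at h2
  rw [h2, classFunction_comm he]
  congr 1
  group

end translate

section wbo

variable {G : Type u} [Group G] [Fintype G] {p : ℕ} {M : Ideal AlgInt}

/-- **Weak block orthogonality** (idempotent form): for a central idempotent `e` with local-ring
coefficients, `x` a `p`-regular and `y` a `p`-singular element, the sum of `e (x⁻¹ * y')` over the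
conjugates `y'` of `y` vanishes. -/
theorem sum_conj_translate_eq_zero (hM : IsPModular p M) (e : G → ℂ)
    (he : IsClassFunction G e) (heR : ∀ w, MemLocalRing M (e w)) (hidem : conv e e = e)
    (x y : G) (hx : ¬ p ∣ orderOf x) (hy : p ∣ orderOf y) :
    ∑ z : G, e (x⁻¹ * (z * y * z⁻¹)) = 0 := by
  classical
  have hpr := isPrime_of_isPModular hM
  have hne := ne_top_of_isPModular hM
  haveI : NeZero (orderOf x) := ⟨(orderOf_pos x).ne'⟩
  set m := orderOf x with hm
  have hm0 : (m : ℂ) ≠ 0 := by exact_mod_cast (orderOf_pos x).ne'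
  have hmR : MemLocalRing M ((m : ℂ)⁻¹) := by
    apply memLocalRing_inv (memLocalRing_natCast _)
    rw [memLocalIdeal_natCast_iff hM]
    exact hx
  set ψ : AddChar (ZMod m) ℂ := ZMod.stdAddChar with hψ
  have hψprim : ψ.IsPrimitive := ZMod.isPrimitive_stdAddChar m
  have hψpow : ∀ t : ZMod m, ψ t ^ m = 1 := by
    intro t
    rw [← AddChar.map_nsmul_eq_pow]
    have : m • t = 0 := by rw [nsmul_eq_mul, ZMod.natCast_self, zero_mul]
    rw [this, AddChar.map_zero_eq_one]
  have hψR : ∀ t : ZMod m, MemLocalRing M (ψ t) := fun t =>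
    memLocalRing_of_pow_eq_one hM _ m (orderOf_pos x) (hψpow t)
  -- the idempotents
  set a : ZMod m → G → ℂ := fun t w =>
    (m : ℂ)⁻¹ * ∑ j : ZMod m, ψ (-(t * j)) * e ((zpw x j)⁻¹ * w) with ha
  have haR : ∀ t w, MemLocalRing M (a t w) := by
    intro t w
    simp only [ha]
    apply memLocalRing_mul hmR
    apply memLocalRing_sum
    intro j _
    exact memLocalRing_mul (hψR _) (heR _)
  have haidem : ∀ t, conv (a t) (a t) = a t := by
    intro t
    funext w
    unfold conv
    simp only [ha]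
    have h1 : ∀ z : G,
        ((m : ℂ)⁻¹ * ∑ j : ZMod m, ψ (-(t * j)) * e ((zpw x j)⁻¹ * z)) *
          ((m : ℂ)⁻¹ * ∑ j' : ZMod m, ψ (-(t * j')) * e ((zpw x j')⁻¹ * (z⁻¹ * w)))
        = (m : ℂ)⁻¹ * (m : ℂ)⁻¹ * ∑ j : ZMod m, ∑ j' : ZMod m,
            ψ (-(t * j)) * ψ (-(t * j')) *
              (e ((zpw x j)⁻¹ * z) * e ((zpw x j')⁻¹ * (z⁻¹ * w))) := by
      intro z
      rw [mul_mul_mul_comm, Finset.sum_mul_sum]
      congr 1
      refine Finset.sum_congr rfl fun j _ => Finset.sum_congr rfl fun j' _ => ?_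
      ring
    simp only [h1]
    rw [← Finset.mul_sum, Finset.sum_comm]
    have h2 : ∀ j : ZMod m, ∑ z : G, ∑ j' : ZMod m,
        ψ (-(t * j)) * ψ (-(t * j')) * (e ((zpw x j)⁻¹ * z) * e ((zpw x j')⁻¹ * (z⁻¹ * w)))
        = ∑ k : ZMod m, ψ (-(t * k)) * e ((zpw x k)⁻¹ * w) := by
      intro j
      rw [Finset.sum_comm, ← Equiv.sum_comp (Equiv.subRight j)]
      refine Finset.sum_congr rfl fun k _ => ?_
      simp only [Equiv.subRight_apply]
      rw [← Finset.mul_sum, conv_translate_translate he hidem, ← zpw_add, add_sub_cancel,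
        ← AddChar.map_add_eq_mul]
      congr 2
      ring
    simp only [h2, Finset.sum_const, Finset.card_univ, ZMod.card, nsmul_eq_mul]
    field_simp
  -- apply the vanishing theorem
  have hvan : ∀ t, ∑ z : G, a t (z * y * z⁻¹) = 0 := fun t =>
    sum_conj_eq_zero_of_singular hM (a t) (haR t) (haidem t) y hy
  set F : ZMod m → ℂ := fun j => ∑ z : G, e ((zpw x j)⁻¹ * (z * y * z⁻¹)) with hF
  have hvan' : ∀ t, ∑ j : ZMod m, ψ (-(t * j)) * F j = 0 := by
    intro t
    have := hvan t
    simp only [ha] at this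
    rw [← Finset.mul_sum, Finset.sum_comm] at this
    have h3 := (mul_eq_zero.mp this).resolve_left (inv_ne_zero hm0)
    rw [← h3]
    refine Finset.sum_congr rfl fun j _ => ?_
    rw [hF, Finset.mul_sum]
  -- Fourier inversion
  have hinv : ∑ t : ZMod m, ψ t * ∑ j : ZMod m, ψ (-(t * j)) * F j = (m : ℂ) * F 1 := by
    simp_rw [Finset.mul_sum]
    rw [Finset.sum_comm]
    have h4 : ∀ j : ZMod m, ∑ t : ZMod m, ψ t * (ψ (-(t * j)) * F j)
        = (if j = 1 then (m : ℂ) else 0) * F j := by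
      intro j
      have h5 : ∑ t : ZMod m, ψ t * (ψ (-(t * j)) * F j)
          = (∑ t : ZMod m, ψ (t * (1 - j))) * F j := by
        rw [Finset.sum_mul]
        refine Finset.sum_congr rfl fun t _ => ?_
        rw [← mul_assoc, ← AddChar.map_add_eq_mul]
        congr 2
        ring
      rw [h5, AddChar.sum_mulShift (1 - j) hψprim]
      by_cases hj : j = 1
      · rw [if_pos hj, if_pos (sub_eq_zero.mpr hj.symm), ZMod.card]
      · rw [if_neg hj, if_neg (sub_ne_zero.mpr (Ne.symm hj)), Nat.cast_zero]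
    simp_rw [h4]
    rw [Finset.sum_eq_single 1]
    · rw [if_pos rfl]
    · intro j _ hj
      rw [if_neg hj, zero_mul]
    · intro h; exact absurd (Finset.mem_univ _) h
  simp only [hvan', mul_zero, Finset.sum_const_zero] at hinv
  have hF1 : F 1 = 0 := (mul_eq_zero.mp hinv.symm).resolve_left hm0
  have hz1 : zpw x 1 = x := by
    unfold zpw
    rw [ZMod.val_one_eq_one_mod]
    by_cases h1 : orderOf x = 1
    · rw [h1, Nat.mod_self, pow_zero]
      exact (orderOf_eq_one_iff.mp h1).symm
    · have : 1 % orderOf x = 1 := Nat.mod_eq_of_lt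
        (lt_of_le_of_ne (orderOf_pos x) (Ne.symm h1))
      rw [this, pow_one]
  rw [hF] at hF1
  simpa only [hz1] using hF1

end wbo

section wbochar

variable {G : Type u} [Group G] [Fintype G] {p : ℕ} {M : Ideal AlgInt}

theorem irr_conj_one (χ : IrrCharacter G) : conj ((χ : G → ℂ) 1) = (χ : G → ℂ) 1 := by
  have := Cfsg.Agent.Helper78.IsIrrCharacter.inv χ.2 (1 : G)
  rw [inv_one] at this
  exact this.symm

/-- **Weak block orthogonality**: for `x` a `p`-regular and `y` a `p`-singular element,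
`∑_{χ ∈ B} χ x * conj (χ y) = 0`. -/
theorem weak_block_orthogonality (hM : IsPModular p M) {B : Set (IrrCharacter G)}
    (hB : IsPBlock M B) (x y : G) (hx : ¬ p ∣ orderOf x) (hy : p ∣ orderOf y) :
    ∑ χ ∈ (Set.toFinite B).toFinset, (χ : G → ℂ) x * conj ((χ : G → ℂ) y) = 0 := by
  classical
  have := isPrime_of_isPModular hM
  have hecl := isClassFunction_blockCoeff B
  have h0 := sum_conj_translate_eq_zero hM (blockCoeff B) hecl (memLocalRing_blockCoeff hB)
    (conv_blockCoeff_self B) x y hx hy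
  have h1 : ∀ z : G, blockCoeff B (x⁻¹ * (z * y * z⁻¹)) = blockCoeff B (z * y * z⁻¹ * x⁻¹) :=
    fun z => classFunction_comm hecl _ _
  simp only [h1, blockCoeff_eq_sum] at h0
  rw [← Finset.mul_sum, Finset.sum_comm] at h0
  have hG : (Nat.card G : ℂ) ≠ 0 := by exact_mod_cast Nat.card_pos.ne'
  have h2 := (mul_eq_zero.mp h0).resolve_left (inv_ne_zero hG)
  have h3 : ∀ χ ∈ (Set.toFinite B).toFinset,
      ∑ z : G, (χ : G → ℂ) 1 * conj ((χ : G → ℂ) (z * y * z⁻¹ * x⁻¹))
        = (Nat.card G : ℂ) * ((χ : G → ℂ) x * conj ((χ : G → ℂ) y)) := by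
    intro χ _
    rw [← Finset.mul_sum, ← map_sum, Cfsg.Agent.Helper80.irr_sum_conj_mul χ y x⁻¹]
    have h1ne : (χ : G → ℂ) 1 ≠ 0 := Cfsg.Agent.Helper78.irr_apply_one_ne_zero χ.2
    rw [map_div₀, map_mul, map_mul, Complex.conj_natCast, irr_conj_one,
      ← Cfsg.Agent.Helper78.IsIrrCharacter.inv χ.2 x⁻¹, inv_inv]
    field_simp
  rw [Finset.sum_congr rfl h3, ← Finset.mul_sum] at h2
  exact (mul_eq_zero.mp h2).resolve_left hG

end wbochar

end Cfsg.Agent.Helper16
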