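import Mathlib
import Cfsg.Prelude.Def_Characters
import Cfsg.Agent.Lib.Helper79.FiniteOrder
import Cfsg.Agent.Lib.Helper78.CharCount

set_option autoImplicit false
set_option linter.style.haveILetI false
open Cfsg

namespace Cfsg.Agent.Helper16

open scoped ComplexConjugate

section
variable {G : Type*} [Group G]
variable {V : Type*} [AddCommGroup V] [Module ℂ V] [FiniteDimensional ℂ V]

/-- If `e` is an idempotent commuting with `A`, then `(e * A + (1 - e)) ^ k = e * A ^ k + (1 - e)`. -/
theorem idem_mul_add_pow {R : Type*} [Ring R] (e A : R) (he : e * e = e) (hc : e * A = A * e)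
    (k : ℕ) : (e * A + (1 - e)) ^ k = e * A ^ k + (1 - e) := by
  induction k with
  | zero => simp
  | succ k ih =>
    rw [pow_succ, ih]
    have h1 : e * (1 - e) = 0 := by rw [mul_sub, mul_one, he, sub_self]
    have h2 : (1 - e) * e = 0 := by rw [sub_mul, one_mul, he, sub_self]
    have h3 : (1 - e) * (1 - e) = 1 - e := by
      rw [mul_sub, mul_one, h2, sub_zero]
    have h4 : e * A ^ k * (e * A) = e * A ^ (k + 1) := by
      have hck : e * A ^ k = A ^ k * e := by
        have : Commute e A := hc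
        exact (this.pow_right k).eq
      calc e * A ^ k * (e * A) = e * (A ^ k * e) * A := by noncomm_ring
        _ = e * (e * A ^ k) * A := by rw [hck]
        _ = (e * e) * (A ^ k * A) := by noncomm_ring
        _ = e * A ^ (k + 1) := by rw [he, pow_succ]
    have h5 : e * A ^ k * (1 - e) = 0 := by
      have hck : e * A ^ k = A ^ k * e := by
        have : Commute e A := hc
        exact (this.pow_right k).eq
      rw [hck, mul_assoc, h1, mul_zero]
    have h6 : (1 - e) * (e * A) = 0 := by rw [← mul_assoc, h2, zero_mul]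
    calc (e * A ^ k + (1 - e)) * (e * A + (1 - e))
        = e * A ^ k * (e * A) + e * A ^ k * (1 - e) + (1 - e) * (e * A) + (1 - e) * (1 - e) := by
          noncomm_ring
      _ = e * A ^ (k + 1) + (1 - e) := by rw [h4, h5, h6, h3]; abel

/-- The average over a subgroup `P` centralizing `x` of `ρ.character (u * x)` is an algebraic
integer. -/
theorem isIntegral_avg_rep [Finite G] (ρ : Representation ℂ G V) (P : Subgroup G) [Fintype P] (x : G)
    (hx : ∀ u ∈ P, u * x = x * u) :
    IsIntegral ℤ ((Nat.card P : ℂ)⁻¹ * ∑ u : P, ρ.character ((u : G) * x)) := by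
  classical
  have hne : (Nat.card P : ℂ) ≠ 0 := by
    have : 0 < Nat.card P := Nat.card_pos
    exact_mod_cast this.ne'
  set S : Module.End ℂ V := ∑ u : P, ρ (u : G) with hS
  set e : Module.End ℂ V := (Nat.card P : ℂ)⁻¹ • S with he
  have hSS : S * S = (Nat.card P : ℂ) • S := by
    rw [hS, Finset.sum_mul]
    have h1 : ∀ u : P, ρ (u : G) * ∑ v : P, ρ (v : G) = ∑ v : P, ρ (v : G) := by
      intro u
      rw [Finset.mul_sum]
      have : ∀ v : P, ρ (u : G) * ρ (v : G) = ρ ((u * v : P) : G) := by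
        intro v
        rw [Subgroup.coe_mul, map_mul]
      simp_rw [this]
      exact Fintype.sum_bijective (fun v => u * v) (Group.mulLeft_bijective u) _ _ (fun _ => rfl)
    rw [Finset.sum_congr rfl (fun u _ => h1 u), Finset.sum_const, Finset.card_univ,
      Nat.card_eq_fintype_card, ← Nat.cast_smul_eq_nsmul ℂ]
  have hee : e * e = e := by
    rw [he, smul_mul_smul_comm, hSS, smul_smul, mul_assoc, inv_mul_cancel₀ hne, mul_one]
  have hcomm : e * ρ x = ρ x * e := by
    rw [he, smul_mul_assoc, mul_smul_comm, hS, Finset.sum_mul, Finset.mul_sum]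
    congr 1
    refine Finset.sum_congr rfl fun u _ => ?_
    rw [← map_mul, ← map_mul, hx u u.2]
  set N := orderOf x with hN
  have hNpos : 0 < N := orderOf_pos x
  set T : Module.End ℂ V := e * ρ x + (1 - e) with hT
  have hTN : T ^ N = 1 := by
    rw [hT, idem_mul_add_pow e (ρ x) hee hcomm N, ← map_pow, hN, pow_orderOf_eq_one, map_one,
      mul_one]
    abel
  have hint := Cfsg.Agent.Helper79.isIntegral_trace T N hNpos hTN
  -- trace computations
  have htr_e : ∃ m : ℕ, LinearMap.trace ℂ V e = (m : ℂ) := by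
    obtain ⟨m, hm⟩ := Cfsg.Agent.Helper78.sum_subgroup_rep_char ρ P
    refine ⟨m, ?_⟩
    rw [he, map_smul, hS, map_sum, smul_eq_mul]
    have : ∑ u : P, LinearMap.trace ℂ V (ρ (u : G)) = ∑ w : P, ρ.character (w : G) := rfl
    rw [this, hm, ← mul_assoc, inv_mul_cancel₀ hne, one_mul]
  obtain ⟨m, hm⟩ := htr_e
  have htr_ex : LinearMap.trace ℂ V (e * ρ x) =
      (Nat.card P : ℂ)⁻¹ * ∑ u : P, ρ.character ((u : G) * x) := by
    rw [he, smul_mul_assoc, map_smul, hS, Finset.sum_mul, map_sum, smul_eq_mul]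
    congr 1
    refine Finset.sum_congr rfl fun u _ => ?_
    rw [← map_mul]
    rfl
  have htrT : LinearMap.trace ℂ V T =
      (Nat.card P : ℂ)⁻¹ * ∑ u : P, ρ.character ((u : G) * x) +
        ((Module.finrank ℂ V : ℂ) - (m : ℂ)) := by
    rw [hT, map_add, map_sub, htr_ex, hm, LinearMap.trace_one]
  have h9 : (Nat.card P : ℂ)⁻¹ * ∑ u : P, ρ.character ((u : G) * x) =
      LinearMap.trace ℂ V T - ((Module.finrank ℂ V : ℂ) - (m : ℂ)) := by
    rw [htrT]; ring
  rw [h9]
  exact IsIntegral.sub hint (IsIntegral.sub (isIntegral_natCast (R := ℤ) _) (isIntegral_natCast (R := ℤ) _))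

/-- Character version. -/
theorem isIntegral_avg [Finite G] {χ : G → ℂ} (hχ : IsCharacter G χ) (P : Subgroup G) [Fintype P]
    (x : G) (hx : ∀ u ∈ P, u * x = x * u) :
    IsIntegral ℤ ((Nat.card P : ℂ)⁻¹ * ∑ u : P, χ ((u : G) * x)) := by
  obtain ⟨n, ρ, rfl⟩ := hχ
  exact isIntegral_avg_rep ρ P x hx

end

end Cfsg.Agent.Helper16
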