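import Mathlib
import Cfsg.Agent.Lib.Helper48.HallHigmanPCore

set_option autoImplicit false
set_option linter.unusedSectionVars false
set_option linter.unusedVariables false

/-!
# (R4) Frobenius step (requested by helper53 for S1378)
-/

namespace Cfsg.Agent.Helper16.BG139Req

open Subgroup

/-- (R4) Frobenius step. -/
theorem le_centralizer_of_fpf {G : Type*} [Group G] [Finite G] {t q p : ℕ} (ht : t.Prime) (hq : q.Prime)
    (hp : p.Prime) (htq : t ≠ q) (htp : t ≠ p) (hqp : q ≠ p) (hq2 : q ≠ 2)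
    (T S : Subgroup G) (x : G) (hT : IsPGroup t T) (hS : IsPGroup q S) (hSc : IsMulCommutative S)
    (hST : S ≤ Subgroup.normalizer (T : Set G)) (hxT : x ∈ Subgroup.normalizer (T : Set G))
    (hxS : x ∈ Subgroup.normalizer (S : Set G)) (hx : x ^ p = 1)
    (hfS : S ⊓ Subgroup.centralizer ({x} : Set G) = ⊥)
    (hfT : T ⊓ Subgroup.centralizer ({x} : Set G) = ⊥) :
    S ≤ Subgroup.centralizer (T : Set G) := by
  classical
  -- commutativity of `S`, elementwise
  have hcomm : ∀ a ∈ S, ∀ b ∈ S, a * b = b * a := by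
    intro a ha b hb
    have := hSc.is_comm.comm (⟨a, ha⟩ : S) ⟨b, hb⟩
    exact congrArg Subtype.val this
  have hxSmem : ∀ u ∈ S, x * u * x⁻¹ ∈ S := fun u hu => (Subgroup.mem_normalizer_iff.1 hxS u).1 hu
  -- work inside the normalizer of `T`
  have hTK : T ≤ Subgroup.normalizer (T : Set G) := Subgroup.le_normalizer
  have key := Cfsg.Agent.Helper48.HHC.commutator_centralizes_normal_pgroup
    (G := ↥(Subgroup.normalizer (T : Set G))) ht hq hp htq htp hqp hq2
    (T.subgroupOf (Subgroup.normalizer (T : Set G))) (S.subgroupOf (Subgroup.normalizer (T : Set G)))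
    (hT.comap_subtype) ⟨x, hxT⟩ (Subtype.ext (by simpa using hx)) ?_ (hS.comap_subtype) ?_
  · -- every commutator `[x,u]` centralizes `T`
    have hc : ∀ u ∈ S, x * u * x⁻¹ * u⁻¹ ∈ Subgroup.centralizer (T : Set G) := by
      intro u hu
      have h1 := key ⟨u, hST hu⟩ (by rw [Subgroup.mem_subgroupOf]; exact hu)
      rw [Subgroup.mem_centralizer_iff] at h1 ⊢
      intro τ hτ
      have h2 := h1 ⟨τ, hTK hτ⟩ (by
        show (⟨τ, hTK hτ⟩ : ↥(Subgroup.normalizer (T : Set G))) ∈
          T.subgroupOf (Subgroup.normalizer (T : Set G))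
        rw [Subgroup.mem_subgroupOf]; exact hτ)
      exact congrArg Subtype.val h2
    -- the map `u ↦ [x,u]` is injective on `S`
    set φ : S → S := fun u =>
      ⟨x * (u : G) * x⁻¹ * (u : G)⁻¹, S.mul_mem (hxSmem u u.2) (S.inv_mem u.2)⟩ with hφ
    have hinj : Function.Injective φ := by
      intro u v huv
      have h1 : x * (u : G) * x⁻¹ * (u : G)⁻¹ = x * (v : G) * x⁻¹ * (v : G)⁻¹ :=
        congrArg Subtype.val huv
      -- `w := v⁻¹ u` is fixed by `x`
      have hw : (v : G)⁻¹ * (u : G) ∈ S := S.mul_mem (S.inv_mem v.2) u.2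
      have hfix : x * ((v : G)⁻¹ * (u : G)) * x⁻¹ = (v : G)⁻¹ * (u : G) := by
        have ha := hxSmem u u.2
        have hb := hxSmem v v.2
        have e1 : x * ((v : G)⁻¹ * (u : G)) * x⁻¹ = (x * (v : G) * x⁻¹)⁻¹ * (x * (u : G) * x⁻¹) := by
          group
        have e2 : x * (u : G) * x⁻¹ = x * (v : G) * x⁻¹ * (v : G)⁻¹ * (u : G) := by
          rw [← h1]; group
        rw [e1, e2]
        group
      have hmem : (v : G)⁻¹ * (u : G) ∈ S ⊓ Subgroup.centralizer ({x} : Set G) := by
        refine Subgroup.mem_inf.2 ⟨hw, ?_⟩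
        refine Subgroup.mem_centralizer_iff.2 ?_
        intro h hh
        rw [Set.mem_singleton_iff.1 hh]
        exact (mul_inv_eq_iff_eq_mul.1 hfix)
      rw [hfS, Subgroup.mem_bot] at hmem
      apply Subtype.ext
      exact (inv_mul_eq_one.1 hmem).symm
    have hsurj : Function.Surjective φ := Finite.injective_iff_surjective.1 hinj
    intro s hs
    obtain ⟨u, hu⟩ := hsurj ⟨s, hs⟩
    have h3 : x * (u : G) * x⁻¹ * (u : G)⁻¹ = s := congrArg Subtype.val hu
    rw [← h3]
    exact hc u u.2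
  · -- `x` is fixed-point-free on `T`
    rw [eq_bot_iff]
    intro k hk
    rw [Subgroup.mem_inf, Subgroup.mem_subgroupOf, Subgroup.mem_centralizer_iff] at hk
    have hmem : (k : G) ∈ T ⊓ Subgroup.centralizer ({x} : Set G) := by
      refine Subgroup.mem_inf.2 ⟨hk.1, ?_⟩
      refine Subgroup.mem_centralizer_iff.2 ?_
      intro h hh
      rw [Set.mem_singleton_iff.1 hh]
      have := hk.2 ⟨x, hxT⟩ (Set.mem_singleton _)
      exact congrArg Subtype.val this
    rw [hfT, Subgroup.mem_bot] at hmem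
    rw [Subgroup.mem_bot]
    exact Subtype.ext hmem
  · -- `x` normalizes `S`
    intro u hu
    rw [Subgroup.mem_subgroupOf] at hu ⊢
    exact hxSmem _ hu

end Cfsg.Agent.Helper16.BG139Req
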