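import Mathlib
import Cfsg.Prelude.Def_OddOrder
import Cfsg.Prelude.Def_OddOrderLocal
import Cfsg.Agent.Lib.Helper41.BGAsymZ

set_option autoImplicit false
set_option linter.unusedSectionVars false
set_option linter.unusedVariables false

/-!
# (R5) Hall `{r,s}`-subgroup + minimal normal subgroup (requested by helper53 for S1378)
-/

namespace Cfsg.Agent.Helper16.BG139Req

open Subgroup
open scoped Pointwise
open Cfsg.Agent.Helper33 (mem_conj_smul)

/-- type-level form of (R5) -/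
theorem r5_type {K : Type*} [Group K] [Finite K] [Group.IsSolvable K] {r s : ℕ}
    [hr : Fact r.Prime] [hs : Fact s.Prime] (hrs : r ≠ s) (R Rs : Subgroup K)
    (hR : Nat.card R = r) (hRs : Nat.card Rs = s) :
    ∃ (V : Subgroup K) (c : K), V ≠ ⊥ ∧ (∀ a ∈ V, ∀ b ∈ V, a * b = b * a) ∧
      (((∀ x ∈ V, x ^ s = 1) ∧ ∀ u ∈ R, c * u * c⁻¹ ∈ normalizer (V : Set K)) ∨
       ((∀ x ∈ V, x ^ r = 1) ∧ ∀ u ∈ Rs, c * u * c⁻¹ ∈ normalizer (V : Set K))) := by
  classical
  set N := Nat.card K with hN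
  have hN0 : N ≠ 0 := Nat.card_pos.ne'
  set vr := N.factorization r with hvr
  set vs := N.factorization s with hvs
  have hcoprs : (r ^ vr).Coprime (s ^ vs) :=
    Nat.Coprime.pow _ _ ((Nat.coprime_primes hr.out hs.out).mpr hrs)
  have hmdvd : r ^ vr * s ^ vs ∣ N :=
    Nat.Coprime.mul_dvd_of_dvd_of_dvd hcoprs (Nat.ordProj_dvd N r) (Nat.ordProj_dvd N s)
  obtain ⟨n, hn⟩ := hmdvd
  have hrn : ¬ r ∣ n := by
    intro hd
    obtain ⟨n', rfl⟩ := hd
    have : r ^ (vr + 1) ∣ N := by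
      rw [hn, pow_succ]
      exact ⟨s ^ vs * n', by ring⟩
    exact Nat.pow_succ_factorization_not_dvd hN0 hr.out this
  have hsn : ¬ s ∣ n := by
    intro hd
    obtain ⟨n', rfl⟩ := hd
    have : s ^ (vs + 1) ∣ N := by
      rw [hn, pow_succ]
      exact ⟨r ^ vr * n', by ring⟩
    exact Nat.pow_succ_factorization_not_dvd hN0 hs.out this
  have hcr : r.Coprime n := (Nat.Prime.coprime_iff_not_dvd hr.out).mpr hrn
  have hcs : s.Coprime n := (Nat.Prime.coprime_iff_not_dvd hs.out).mpr hsn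
  have hcop : (r ^ vr * s ^ vs).Coprime n :=
    Nat.Coprime.mul_left (Nat.Coprime.pow_left _ hcr) (Nat.Coprime.pow_left _ hcs)
  obtain ⟨H, hH, hdom⟩ := Cfsg.Agent.Helper1.hall_exists_dominant (G := K) (r ^ vr * s ^ vs) n hn hcop
  obtain ⟨g1, hg1⟩ := hdom R (by rw [hR]; exact hcr)
  obtain ⟨g2, hg2⟩ := hdom Rs (by rw [hRs]; exact hcs)
  -- `H` is nontrivial since it contains a conjugate of `R`
  have hHnt : Nontrivial H := by
    rw [← Finite.one_lt_card_iff_nontrivial]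
    have h1 : Nat.card R ≤ Nat.card (MulAut.conj g1 • H : Subgroup K) :=
      Nat.le_of_dvd Nat.card_pos (Subgroup.card_dvd_of_le hg1)
    rw [Cfsg.Agent.Helper33.card_conj_smul, hR] at h1
    exact lt_of_lt_of_le hr.out.one_lt h1
  obtain ⟨p, hp, A, hAn, hA1, hAc, hAp⟩ := Cfsg.Agent.Helper1.exists_normal_elementary_of_solvable H
  set V : Subgroup K := A.map H.subtype with hV
  have hVH : V ≤ H := by
    rintro x ⟨y, -, rfl⟩
    exact y.2
  have hHV : H ≤ normalizer (V : Set K) := Cfsg.Agent.Helper55.BGB.le_normalizer_map_subtype H A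
  have hVp : ∀ x ∈ V, x ^ p = 1 := by
    rintro x ⟨y, hy, rfl⟩
    have := hAp y hy
    have h2 := congrArg (H.subtype) this
    simpa using h2
  have hVne : V ≠ ⊥ := by
    intro h
    apply hA1
    rw [hV] at h
    exact (Subgroup.map_eq_bot_iff_of_injective A H.subtype_injective).mp h
  have hVc : ∀ a ∈ V, ∀ b ∈ V, a * b = b * a := by
    rintro a ⟨a', ha', rfl⟩ b ⟨b', hb', rfl⟩
    have h1 : a' * b' * a'⁻¹ * b'⁻¹ ∈ ⁅A, A⁆ := Subgroup.commutator_mem_commutator ha' hb'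
    rw [hAc, Subgroup.mem_bot] at h1
    have h1 : a' * b' = b' * a' := by
      have : a' * b' = (a' * b' * a'⁻¹ * b'⁻¹) * (b' * a') := by group
      rw [this, h1, one_mul]
    have h2 := congrArg (H.subtype) h1
    simpa using h2
  -- `p` divides the order of `H`
  have hpdvd : p ∣ r ^ vr * s ^ vs := by
    obtain ⟨x, hxV, hx1⟩ : ∃ x ∈ V, x ≠ 1 := by
      by_contra hcon
      push Not at hcon
      exact hVne ((Subgroup.eq_bot_iff_forall V).mpr hcon)
    have hord : orderOf x = p := by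
      have h1 : orderOf x ∣ p := orderOf_dvd_of_pow_eq_one (hVp x hxV)
      rcases (Nat.dvd_prime hp).mp h1 with h | h
      · exact absurd (orderOf_eq_one_iff.mp h) hx1
      · exact h
    rw [← hH, ← hord]
    have hxH : x ∈ H := hVH hxV
    have h3 : orderOf (⟨x, hxH⟩ : H) = orderOf x := by
      rw [← Subgroup.orderOf_coe]
    rw [← h3]
    exact orderOf_dvd_natCard _
  have hmove : ∀ (g : K) (X : Subgroup K), X ≤ MulAut.conj g • H →
      ∀ u ∈ X, g⁻¹ * u * g⁻¹⁻¹ ∈ normalizer (V : Set K) := by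
    intro g X hX u hu
    have h1 := hX hu
    rw [mem_conj_smul] at h1
    rw [inv_inv]
    exact hHV h1
  rcases (Nat.Prime.dvd_mul hp).mp hpdvd with h | h
  · have hpr : p = r := (Nat.prime_dvd_prime_iff_eq hp hr.out).mp (hp.dvd_of_dvd_pow h)
    subst hpr
    exact ⟨V, g2⁻¹, hVne, hVc, Or.inr ⟨hVp, hmove g2 Rs hg2⟩⟩
  · have hps : p = s := (Nat.prime_dvd_prime_iff_eq hp hs.out).mp (hp.dvd_of_dvd_pow h)
    subst hps
    exact ⟨V, g1⁻¹, hVne, hVc, Or.inl ⟨hVp, hmove g1 R hg1⟩⟩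

/-- (R5) Hall `{r,s}`-subgroup + minimal normal subgroup. -/
theorem exists_elemAb_normalized {G : Type*} [Group G] [Finite G] (C : Subgroup G)
    (hC : Group.IsSolvable C) (r s : ℕ) [Fact r.Prime] [Fact s.Prime] (hrs : r ≠ s)
    (R Rs : Subgroup G) (hRC : R ≤ C) (hRsC : Rs ≤ C) (hR : Nat.card R = r) (hRs : Nat.card Rs = s) :
    ∃ (V : Subgroup G) (c : G), c ∈ C ∧ V ≤ C ∧ V ≠ ⊥ ∧
      ((Cfsg.IsElementaryAbelian s V ∧
          R.map (MulAut.conj c).toMonoidHom ≤ Subgroup.normalizer (V : Set G)) ∨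
       (Cfsg.IsElementaryAbelian r V ∧
          Rs.map (MulAut.conj c).toMonoidHom ≤ Subgroup.normalizer (V : Set G))) := by
  have eR : R.subgroupOf C ≃* R := subgroupOfEquivOfLe hRC
  have eRs : Rs.subgroupOf C ≃* Rs := subgroupOfEquivOfLe hRsC
  have hcR : Nat.card (R.subgroupOf C) = r := by rw [Nat.card_congr eR.toEquiv, hR]
  have hcRs : Nat.card (Rs.subgroupOf C) = s := by rw [Nat.card_congr eRs.toEquiv, hRs]
  obtain ⟨V', c, hV'ne, hV'c, hcase⟩ := r5_type (K := C) hrs (R.subgroupOf C) (Rs.subgroupOf C) hcR hcRs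
  have hVC : V'.map C.subtype ≤ C := by
    rintro x ⟨y, -, rfl⟩
    exact y.2
  have hVne : V'.map C.subtype ≠ ⊥ := by
    intro h
    exact hV'ne ((Subgroup.map_eq_bot_iff_of_injective V' C.subtype_injective).mp h)
  have hVcomm : IsMulCommutative (V'.map C.subtype : Subgroup G) := by
    refine ⟨⟨?_⟩⟩
    rintro ⟨a, a', ha', rfl⟩ ⟨b, b', hb', rfl⟩
    apply Subtype.ext
    have := hV'c a' ha' b' hb'
    have h2 := congrArg (C.subtype) this
    simpa using h2
  have hexp : ∀ p : ℕ, (∀ x ∈ V', x ^ p = 1) → ∀ a ∈ V'.map C.subtype, a ^ p = 1 := by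
    rintro p hp a ⟨a', ha', rfl⟩
    have := hp a' ha'
    have h2 := congrArg (C.subtype) this
    simpa using h2
  have hnorm : ∀ X : Subgroup G, X ≤ C →
      (∀ u ∈ X.subgroupOf C, c * u * c⁻¹ ∈ normalizer (V' : Set C)) →
      X.map (MulAut.conj (c : G)).toMonoidHom ≤ Subgroup.normalizer ((V'.map C.subtype : Subgroup G) : Set G) := by
    rintro X hXC hX y ⟨u, hu, rfl⟩
    have huC : u ∈ C := hXC hu
    have h1 := hX ⟨u, huC⟩ (mem_subgroupOf.mpr hu)
    have h2 := Cfsg.Agent.Helper41.BGAsym.coe_mem_normalizer_map h1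
    simpa using h2
  refine ⟨V'.map C.subtype, (c : G), c.2, hVC, hVne, ?_⟩
  rcases hcase with ⟨hs', hn'⟩ | ⟨hr', hn'⟩
  · left
    exact ⟨⟨hVcomm, hexp s hs'⟩, hnorm R hRC hn'⟩
  · right
    exact ⟨⟨hVcomm, hexp r hr'⟩, hnorm Rs hRsC hn'⟩

end Cfsg.Agent.Helper16.BG139Req
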