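import Mathlib

set_option autoImplicit false
set_option linter.unusedSectionVars false
set_option linter.unusedVariables false
set_option linter.style.haveILetI false

/-!
# (G1) FrobFix (requested by helper73 for B–G Lemma 16.1)

A "Frobenius-like" group `F ⋊ Y` acting on an abelian group `W` of order prime to `|F|`, with every
nonidentity element of `Y` fixed-point-free on `F` and on `W`: then `F` centralizes `W`.
-/

namespace Cfsg.Agent.Helper16.BG161

open Subgroup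

/-- abstract form, for a `MulDistribMulAction` on a commutative group -/
theorem frob_fix_aux {Γ A : Type*} [Group Γ] [Finite Γ] [Group A] [Finite A]
    [MulDistribMulAction Γ A] (hc : ∀ a b : A, a * b = b * a)
    (F Y : Subgroup Γ) (hY1 : ∃ y ∈ Y, y ≠ 1) (hYF : ∀ y ∈ Y, ∀ f ∈ F, y * f * y⁻¹ ∈ F)
    (hcop : (Nat.card F).Coprime (Nat.card A))
    (hF : ∀ y ∈ Y, y ≠ 1 → ∀ f ∈ F, f * y = y * f → f = 1)
    (hA : ∀ y ∈ Y, y ≠ 1 → ∀ a : A, y • a = a → a = 1) :
    ∀ f ∈ F, ∀ a : A, f • a = a := by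
  classical
  letI : CommGroup A := { ‹Group A› with mul_comm := hc }
  have := Fintype.ofFinite F
  have := Fintype.ofFinite Y
  -- the norm over `Y` is trivial
  have hNY1 : ∀ a : A, ∏ y : Y, (y : Γ) • a = 1 := by
    intro a
    obtain ⟨y0, hy0, hy01⟩ := hY1
    apply hA y0 hy0 hy01
    rw [Finset.smul_prod']
    apply Fintype.prod_equiv (Equiv.mulLeft (⟨y0, hy0⟩ : Y))
    intro y
    simp [mul_smul]
  -- the two families of products
  have hQ : ∀ (a : A) (y : Γ), y ∈ Y → y ≠ 1 →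
      ∏ f : F, ((f : Γ) * y * (f : Γ)⁻¹) • a = ∏ f : F, ((f : Γ) * y) • a := by
    intro a y hy hy1
    have hmem : ∀ f : F, (f : Γ) * y * (f : Γ)⁻¹ * y⁻¹ ∈ F := by
      intro f
      have h1 := hYF y hy (f : Γ)⁻¹ (F.inv_mem f.2)
      have h2 := F.mul_mem f.2 h1
      have e : (f : Γ) * (y * (f : Γ)⁻¹ * y⁻¹) = (f : Γ) * y * (f : Γ)⁻¹ * y⁻¹ := by group
      rw [e] at h2
      exact h2
    set φ : F → F := fun f => ⟨(f : Γ) * y * (f : Γ)⁻¹ * y⁻¹, hmem f⟩ with hφ
    have hinj : Function.Injective φ := by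
      intro f g hfg
      have h1 : (f : Γ) * y * (f : Γ)⁻¹ * y⁻¹ = (g : Γ) * y * (g : Γ)⁻¹ * y⁻¹ :=
        congrArg Subtype.val hfg
      have h2 : (f : Γ) * y * (f : Γ)⁻¹ = (g : Γ) * y * (g : Γ)⁻¹ := mul_right_cancel h1
      have h3 : ((g : Γ)⁻¹ * (f : Γ)) * y = y * ((g : Γ)⁻¹ * (f : Γ)) := by
        have : (g : Γ)⁻¹ * ((f : Γ) * y * (f : Γ)⁻¹) * (f : Γ) =
            (g : Γ)⁻¹ * ((g : Γ) * y * (g : Γ)⁻¹) * (f : Γ) := by rw [h2]
        calc ((g : Γ)⁻¹ * (f : Γ)) * y = (g : Γ)⁻¹ * ((f : Γ) * y * (f : Γ)⁻¹) * (f : Γ) := by group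
          _ = (g : Γ)⁻¹ * ((g : Γ) * y * (g : Γ)⁻¹) * (f : Γ) := this
          _ = y * ((g : Γ)⁻¹ * (f : Γ)) := by group
      have h4 := hF y hy hy1 _ (F.mul_mem (F.inv_mem g.2) f.2) h3
      apply Subtype.ext
      have : (f : Γ) = (g : Γ) := by
        have := inv_mul_eq_one.1 h4
        exact this.symm
      exact this
    have hbij : Function.Bijective φ := Finite.injective_iff_bijective.1 hinj
    apply Fintype.prod_bijective φ hbij
    intro f
    have e : ((φ f : F) : Γ) * y = (f : Γ) * y * (f : Γ)⁻¹ := by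
      simp only [hφ]
      group
    rw [e]
  intro g hg a
  -- first total product
  have hT1 : ∏ y : Y, ∏ f : F, ((f : Γ) * (y : Γ)) • a = 1 := by
    rw [Finset.prod_comm]
    apply Finset.prod_eq_one
    intro f _
    have : ∏ y : Y, ((f : Γ) * (y : Γ)) • a = (f : Γ) • ∏ y : Y, (y : Γ) • a := by
      rw [Finset.smul_prod']
      simp only [mul_smul]
    rw [this, hNY1, smul_one]
  -- second total product
  have hT2 : ∏ y : Y, ∏ f : F, ((f : Γ) * (y : Γ) * (f : Γ)⁻¹) • a = 1 := by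
    rw [Finset.prod_comm]
    apply Finset.prod_eq_one
    intro f _
    have : ∏ y : Y, ((f : Γ) * (y : Γ) * (f : Γ)⁻¹) • a =
        (f : Γ) • ∏ y : Y, (y : Γ) • ((f : Γ)⁻¹ • a) := by
      rw [Finset.smul_prod']
      simp only [mul_smul]
    rw [this, hNY1, smul_one]
  rw [Fintype.prod_eq_mul_prod_compl (1 : Y)] at hT1 hT2
  have hR : ∏ y ∈ ({(1 : Y)}ᶜ : Finset Y), ∏ f : F, ((f : Γ) * (y : Γ) * (f : Γ)⁻¹) • a =
      ∏ y ∈ ({(1 : Y)}ᶜ : Finset Y), ∏ f : F, ((f : Γ) * (y : Γ)) • a := by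
    apply Finset.prod_congr rfl
    intro y hy
    rw [Finset.mem_compl, Finset.mem_singleton] at hy
    apply hQ a (y : Γ) y.2
    intro e
    exact hy (Subtype.ext e)
  rw [hR] at hT2
  have hS : ∏ f : F, ((f : Γ) * ((1 : Y) : Γ)) • a =
      ∏ f : F, ((f : Γ) * ((1 : Y) : Γ) * (f : Γ)⁻¹) • a :=
    mul_right_cancel (hT1.trans hT2.symm)
  have hS1 : ∏ f : F, ((f : Γ) * ((1 : Y) : Γ)) • a = ∏ f : F, (f : Γ) • a := by
    apply Finset.prod_congr rfl
    intro f _
    rw [Subgroup.coe_one, mul_one]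
  have hS2 : ∏ f : F, ((f : Γ) * ((1 : Y) : Γ) * (f : Γ)⁻¹) • a = a ^ Fintype.card F := by
    have : ∀ f ∈ (Finset.univ : Finset F), ((f : Γ) * ((1 : Y) : Γ) * (f : Γ)⁻¹) • a = a := by
      intro f _
      rw [Subgroup.coe_one, mul_one, mul_inv_cancel, one_smul]
    rw [Finset.prod_congr rfl this, Finset.prod_const, Finset.card_univ]
  rw [hS1, hS2] at hS
  -- the sum over `F` is `F`-fixed
  have hfix : g • ∏ f : F, (f : Γ) • a = ∏ f : F, (f : Γ) • a := by
    rw [Finset.smul_prod']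
    apply Fintype.prod_equiv (Equiv.mulLeft (⟨g, hg⟩ : F))
    intro f
    simp [mul_smul]
  rw [hS, smul_pow'] at hfix
  -- coprimality
  set b : A := g • a * a⁻¹ with hb
  have hbpow : b ^ Fintype.card F = 1 := by
    rw [hb, mul_pow, inv_pow, hfix, mul_inv_cancel]
  have h1 : orderOf b ∣ Nat.card F := by
    rw [Nat.card_eq_fintype_card]
    exact orderOf_dvd_of_pow_eq_one hbpow
  have h2 : orderOf b ∣ Nat.card A := orderOf_dvd_natCard b
  have h3 : orderOf b = 1 := Nat.eq_one_of_dvd_coprimes hcop h1 h2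
  have h4 : b = 1 := orderOf_eq_one_iff.1 h3
  rw [hb] at h4
  exact mul_inv_eq_one.1 h4

variable {G : Type*} [Group G] [Finite G]

/-- (G1) FrobFix. -/
theorem frob_fix (F Y W : Subgroup G) (hY1 : Y ≠ ⊥)
    (hYF : Y ≤ normalizer (F : Set G)) (hFW : F ≤ normalizer (W : Set G))
    (hYW : Y ≤ normalizer (W : Set G)) (hWc : ∀ a ∈ W, ∀ b ∈ W, a * b = b * a)
    (hcop : (Nat.card F).Coprime (Nat.card W))
    (hF : ∀ y ∈ Y, y ≠ 1 → F ⊓ centralizer ({y} : Set G) = ⊥)
    (hW : ∀ y ∈ Y, y ≠ 1 → W ⊓ centralizer ({y} : Set G) = ⊥) :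
    F ≤ centralizer (W : Set G) := by
  have key := frob_fix_aux (Γ := ↥(normalizer (W : Set G))) (A := ↥W)
    (fun a b => Subtype.ext (hWc a a.2 b b.2)) (F.subgroupOf (normalizer (W : Set G)))
    (Y.subgroupOf (normalizer (W : Set G))) ?_ ?_ ?_ ?_ ?_
  · intro f hf
    rw [Subgroup.mem_centralizer_iff]
    intro w hw
    have h1 := key ⟨f, hFW hf⟩ (by rw [Subgroup.mem_subgroupOf]; exact hf) ⟨w, hw⟩
    have h2 : f * w * f⁻¹ = w := congrArg Subtype.val h1
    exact (mul_inv_eq_iff_eq_mul.1 h2).symm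
  · -- `Y` is nontrivial
    obtain ⟨y, hy, hy1⟩ : ∃ y ∈ Y, y ≠ 1 := by
      by_contra hcon
      push Not at hcon
      exact hY1 ((Subgroup.eq_bot_iff_forall Y).2 hcon)
    refine ⟨⟨y, hYW hy⟩, by rw [Subgroup.mem_subgroupOf]; exact hy, ?_⟩
    intro e
    exact hy1 (congrArg Subtype.val e)
  · -- `Y` normalizes `F`
    intro y hy f hf
    rw [Subgroup.mem_subgroupOf] at hy hf ⊢
    exact (Subgroup.le_normalizer_iff.1 hYF) _ hy _ hf
  · -- coprimality
    rw [Nat.card_congr (Subgroup.subgroupOfEquivOfLe hFW).toEquiv]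
    exact hcop
  · -- `Y` fixed-point-free on `F`
    intro y hy hy1 f hf hcomm
    rw [Subgroup.mem_subgroupOf] at hy hf
    have hy1' : (y : G) ≠ 1 := fun e => hy1 (Subtype.ext e)
    have hmem : (f : G) ∈ F ⊓ centralizer ({(y : G)} : Set G) := by
      refine Subgroup.mem_inf.2 ⟨hf, ?_⟩
      refine Subgroup.mem_centralizer_iff.2 ?_
      intro h hh
      rw [Set.mem_singleton_iff.1 hh]
      have := congrArg Subtype.val hcomm
      exact this.symm
    rw [hF _ hy hy1', Subgroup.mem_bot] at hmem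
    exact Subtype.ext hmem
  · -- `Y` fixed-point-free on `W`
    intro y hy hy1 a ha
    rw [Subgroup.mem_subgroupOf] at hy
    have hy1' : (y : G) ≠ 1 := fun e => hy1 (Subtype.ext e)
    have h2 : (y : G) * (a : G) * (y : G)⁻¹ = (a : G) := congrArg Subtype.val ha
    have hmem : (a : G) ∈ W ⊓ centralizer ({(y : G)} : Set G) := by
      refine Subgroup.mem_inf.2 ⟨a.2, ?_⟩
      refine Subgroup.mem_centralizer_iff.2 ?_
      intro h hh
      rw [Set.mem_singleton_iff.1 hh]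
      exact mul_inv_eq_iff_eq_mul.1 h2
    rw [hW _ hy hy1', Subgroup.mem_bot] at hmem
    exact Subtype.ext hmem

end Cfsg.Agent.Helper16.BG161
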