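import Mathlib
import Cfsg.Prelude.Def_OddOrder
import Cfsg.Prelude.Def_OddOrderLocal
import Cfsg.Agent.Lib.Helper15.BGV.Tools
import Cfsg.Agent.Lib.Helper22.Factorization
import Cfsg.Agent.Lib.Helper82.BG142Q12
import Cfsg.Agent.Lib.Helper19.PRank

set_option autoImplicit false
set_option linter.unusedSectionVars false
set_option linter.unusedVariables false

/-!
# B-G 13.8 (tau1 asymmetry), package (AS4): pure preliminaries (helper16 for helper96)
-/

namespace Cfsg.Agent.Helper16.BGAsym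

open Subgroup Cfsg
open Cfsg.Agent.Helper52 (sylCard)

variable {G : Type*} [Group G] [Finite G]

/-- a `p`-subgroup of `H` lies in a normal subgroup of `H` of index prime to `p` -/
theorem le_of_isPGroup_of_not_dvd_relIndex {p : ℕ} [hp : Fact p.Prime] {N H T : Subgroup G}
    (hNH : N ≤ H) (hHN : H ≤ normalizer (N : Set G)) (hnd : ¬ p ∣ N.relIndex H)
    (hTH : T ≤ H) (hT : IsPGroup p T) : T ≤ N := by
  have hTN : T ≤ normalizer (N : Set G) := hTH.trans hHN
  have hle : N ⊔ T ≤ H := sup_le hNH hTH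
  have h1 : Nat.card N * N.relIndex (N ⊔ T) = Nat.card (N ⊔ T : Subgroup G) :=
    Cfsg.Agent.Helper52.card_mul_relIndex_eq le_sup_left
  have h2 : Nat.card (N ⊔ T : Subgroup G) ∣ Nat.card N * Nat.card T :=
    Cfsg.Agent.Helper54.card_sup_dvd_of_le_normalizer N T hTN
  rw [← h1] at h2
  have h3 : N.relIndex (N ⊔ T) ∣ Nat.card T := Nat.dvd_of_mul_dvd_mul_left Nat.card_pos h2
  have h4 : N.relIndex (N ⊔ T) ∣ N.relIndex H :=
    Dvd.intro _ (Subgroup.relIndex_mul_relIndex N (N ⊔ T) H le_sup_left hle)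
  obtain ⟨k, hk⟩ := IsPGroup.iff_card.mp hT
  rw [hk] at h3
  have h5 : N.relIndex (N ⊔ T) = 1 := by
    obtain ⟨j, -, hj⟩ := (Nat.dvd_prime_pow hp.out).mp h3
    rcases Nat.eq_zero_or_pos j with rfl | hjpos
    · rw [hj, pow_zero]
    · exfalso
      apply hnd
      have : p ∣ N.relIndex (N ⊔ T) := by rw [hj]; exact dvd_pow_self p hjpos.ne'
      exact this.trans h4
  have h6 : N ⊔ T ≤ N := Subgroup.relIndex_eq_one.mp h5
  exact le_sup_right.trans h6

theorem sylCard_eq_of_not_dvd_relIndex {p : ℕ} [hp : Fact p.Prime] {U L : Subgroup G}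
    (hUL : U ≤ L) (h : ¬ p ∣ U.relIndex L) : sylCard p U = sylCard p L := by
  have h1 : Nat.card U * U.relIndex L = Nat.card L := Cfsg.Agent.Helper52.card_mul_relIndex_eq hUL
  have hU0 : Nat.card U ≠ 0 := Nat.card_pos.ne'
  have hr0 : U.relIndex L ≠ 0 := by
    intro h0
    rw [h0, mul_zero] at h1
    exact (Nat.card_pos (α := L)).ne' h1.symm
  unfold sylCard
  rw [← h1, Nat.factorization_mul hU0 hr0, Finsupp.add_apply,
    Nat.factorization_eq_zero_of_not_dvd h, add_zero]

theorem sylCard_le_of_le {p : ℕ} [hp : Fact p.Prime] {U L : Subgroup G} (hUL : U ≤ L) :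
    sylCard p U ≤ sylCard p L := by
  unfold sylCard
  apply Nat.pow_le_pow_right hp.out.pos
  have hd : Nat.card U ∣ Nat.card L := Subgroup.card_dvd_of_le hUL
  exact (Nat.factorization_le_iff_dvd Nat.card_pos.ne' Nat.card_pos.ne').mpr hd p

/-- a normal `q`-complement when `q` does not divide the order of the derived subgroup -/
theorem hasNormalPComplement_of_not_dvd_commutator {q : ℕ} [hq : Fact q.Prime] (M : Subgroup G)
    (h : ¬ q ∣ Nat.card ↥⁅M, M⁆) : HasNormalPComplement q ↥M := by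
  obtain ⟨P⟩ : Nonempty (Sylow q ↥M) := inferInstance
  have hcard : Nat.card (commutator ↥M) = Nat.card ↥⁅M, M⁆ := by
    rw [← Subgroup.map_subtype_commutator M]
    exact (Subgroup.card_map_of_injective M.subtype_injective).symm
  have hcomm : ∀ a b : ↥M, (a * b)⁻¹ * (b * a) ∈ commutator ↥M := by
    intro a b
    have e : (a * b)⁻¹ * (b * a) = b⁻¹ * a⁻¹ * b⁻¹⁻¹ * a⁻¹⁻¹ := by group
    rw [e, _root_.commutator_def]
    exact Subgroup.commutator_mem_commutator (Subgroup.mem_top b⁻¹) (Subgroup.mem_top a⁻¹)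
  obtain ⟨U, hUn, -, hcompl, -⟩ :=
    Cfsg.Agent.Helper82.BG142Req.exists_normal_compl_of_comm_quot (E := ↥M) ({q} : Set ℕ)
      (commutator ↥M) hcomm
      (by
        intro p hp hdvd hpq
        rw [Set.mem_singleton_iff] at hpq
        subst hpq
        rw [hcard] at hdvd
        exact h hdvd)
      (P : Subgroup ↥M)
      (by
        intro p hp hdvd
        rw [Set.mem_singleton_iff]
        obtain ⟨k, hk⟩ := IsPGroup.iff_card.mp P.isPGroup'
        rw [hk] at hdvd
        exact (Nat.prime_dvd_prime_iff_eq hp hq.out).mp (hp.dvd_of_dvd_pow hdvd))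
      (by
        intro p hp hpq
        rw [Set.mem_singleton_iff] at hpq
        subst hpq
        exact P.not_dvd_index)
  exact ⟨P, U, hUn, hcompl⟩

end Cfsg.Agent.Helper16.BGAsym
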