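import Mathlib
import Cfsg.Prelude.Def_OddOrder
import Cfsg.Prelude.Def_OddOrderLocal
import Cfsg.Agent.Lib.Helper16.BGAsymAS4a
import Cfsg.Agent.Lib.Helper22.BGAsymAS3a
import Cfsg.Agent.Lib.Helper49.BGAsymAS1
import Cfsg.Agent.Lib.Helper96.BGAsymPure
import Cfsg.Agent.S1403
import Cfsg.Agent.S1405

set_option autoImplicit false
set_option linter.unusedSectionVars false
set_option linter.unusedVariables false

/-!
# B-G 13.8 (tau1 asymmetry), package (AS4): `one_sided` (helper16 for helper96)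
-/

namespace Cfsg.Agent.Helper16.BGAsym

open Subgroup Cfsg
open Cfsg.Agent.Helper52 (sylCard)

variable {G : Type*} [Group G] [Finite G]

theorem not_mem_alpha_of_mem_tau1 {M : Subgroup G} {q : ℕ} (h : q ∈ tau1 M) : q ∉ alpha M := by
  intro hα
  apply hα.2
  intro A hA he
  have h1 := h.2.2.2.2 A hA he
  have hq : 0 < q := h.1.pos
  calc Nat.card A ≤ q ^ 1 := h1
    _ ≤ q ^ 2 := Nat.pow_le_pow_right hq (by norm_num)

theorem dvd_card_of_mem_alpha {H : Subgroup G} {t : ℕ} (h : t ∈ alpha H) : t ∣ Nat.card H := by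
  have ht : t.Prime := h.1
  have : Fact t.Prime := ⟨ht⟩
  have h2 := h.2
  unfold PRankLE at h2
  push Not at h2
  obtain ⟨A, hA, he, hc⟩ := h2
  have hAp : IsPGroup t A := by
    intro a
    refine ⟨1, ?_⟩
    rw [pow_one]
    apply Subtype.ext
    have := he a.1 a.2
    simpa using this
  obtain ⟨k, hk⟩ := IsPGroup.iff_card.mp hAp
  have hk0 : k ≠ 0 := by
    rintro rfl
    rw [pow_zero] at hk
    rw [hk] at hc
    have : 1 ≤ t ^ 2 := Nat.one_le_pow _ _ ht.pos
    omega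
  have h1 : t ∣ Nat.card A := by
    rw [hk]
    exact dvd_pow_self t hk0
  exact h1.trans (Subgroup.card_subgroup_dvd_card A)

theorem ne_two_of_dvd_card (hG : IsMinSimpleOddOrder G) {p : ℕ} (K : Subgroup G)
    (h : p ∣ Nat.card K) : p ≠ 2 := by
  rintro rfl
  have h1 : 2 ∣ Nat.card G := h.trans (Subgroup.card_subgroup_dvd_card K)
  have h2 : Odd (Nat.card G) := hG.1
  rw [Nat.odd_iff] at h2
  omega

/-- a Sylow `t`-subgroup of `H` has rank at least 3 when `t ∈ α(H)` -/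
theorem not_rankLE_two_of_sylow {H S : Subgroup G} {t : ℕ} [ht : Fact t.Prime]
    (hα : t ∈ alpha H) (hSH : S ≤ H) (hSc : Nat.card S = sylCard t H) : ¬ RankLE 2 ↥S := by
  intro hr
  have h2 := hα.2
  rw [Cfsg.Agent.Helper19.prankLE_subgroup_iff] at h2
  push Not at h2
  obtain ⟨X, hXH, hXc, hXe, hXcard⟩ := h2
  have hXp : IsPGroup t X := by
    intro a
    refine ⟨1, ?_⟩
    rw [pow_one]
    apply Subtype.ext
    have := hXe a.1 a.2
    simpa using this
  obtain ⟨l, hl, hle⟩ := Cfsg.Agent.Helper15.BGV.exists_conj_le_sylow hXp hXH hSH hSc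
  have h3 := (Cfsg.Agent.Helper19.prankLE_subgroup_iff t 2 S).mp (hr t ht.out)
    (X.map (MulAut.conj l).toMonoidHom) hle
    (by
      rintro a ⟨a', ha', rfl⟩ b ⟨b', hb', rfl⟩
      rw [← map_mul, ← map_mul, hXc a' ha' b' hb'])
    (by
      rintro a ⟨a', ha', rfl⟩
      rw [← map_pow, hXe a' ha', map_one])
  rw [Subgroup.card_map_of_injective (MulAut.conj l).injective] at h3
  omega

/-- (AS4) steps (5),(6) of B-G 13.8 -/
theorem one_sided (hG : IsMinSimpleOddOrder G) {M H Q W' B : Subgroup G} {q w' t' : ℕ}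
    [Fact q.Prime] [Fact w'.Prime] [Fact t'.Prime]
    (hM : IsCoatom M) (hH : IsCoatom H) (hne : M ≠ H)
    (hqM : q ∈ tau1 M) (hqH : q ∈ tau1 H) (hQ : Nat.card Q = q) (hQI : Q ≤ M ⊓ H)
    (hfacM : M ≤ alphaCore M ⊔ (M ⊓ H))
    (hW' : IsPGroup w' W') (hW'1 : W' ≠ ⊥) (hW'I : W' ≤ M ⊓ H) (hw'q : w' ≠ q)
    (hw'α : w' ∉ alpha H) (hQW' : Q ≤ normalizer (W' : Set G))
    (hfpf' : ∀ x ∈ W', (∀ y ∈ Q, y * x = x * y) → x = 1)
    (hN' : normalizer (W' : Set G) ≤ M)
    (ht'H : t' ∈ alpha H) (ht'M : t' ∉ alpha M)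
    (hBM : B ≤ M ⊓ centralizer (Q : Set G))
    (hB : Nat.card B = sylCard t' (centralizer (Q : Set G))) : False := by
  classical
  have hq : q.Prime := Fact.out
  have hw' : w'.Prime := Fact.out
  have ht' : t'.Prime := Fact.out
  -- primes
  have hqαH : q ∉ alpha H := not_mem_alpha_of_mem_tau1 hqH
  have hqαM : q ∉ alpha M := not_mem_alpha_of_mem_tau1 hqM
  have ht'q : t' ≠ q := by
    rintro rfl
    exact hqαH ht'H
  have ht'w' : t' ≠ w' := by
    rintro rfl
    exact hw'α ht'H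
  have hq2 : q ≠ 2 := ne_two_of_dvd_card hG M hqM.2.2.1
  have ht'2 : t' ≠ 2 := ne_two_of_dvd_card hG H (dvd_card_of_mem_alpha ht'H)
  have hw'2 : w' ≠ 2 := by
    obtain ⟨k, hk⟩ := IsPGroup.iff_card.mp hW'
    have hk0 : k ≠ 0 := by
      rintro rfl
      rw [pow_zero] at hk
      exact hW'1 (Subgroup.card_eq_one.mp hk)
    apply ne_two_of_dvd_card hG W'
    rw [hk]
    exact dvd_pow_self w' hk0
  -- basic containments
  have hMtop : M ≠ ⊤ := hM.1
  have hHtop : H ≠ ⊤ := hH.1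
  have hQM : Q ≤ M := hQI.trans inf_le_left
  have hQH : Q ≤ H := hQI.trans inf_le_right
  have hW'M : W' ≤ M := hW'I.trans inf_le_left
  have hW'H : W' ≤ H := hW'I.trans inf_le_right
  -- generator of Q
  have : Fact (Nat.card Q).Prime := ⟨hQ.symm ▸ hq⟩
  have hQcyc : IsCyclic ↥Q := isCyclic_of_prime_card rfl
  obtain ⟨g, hg⟩ := IsCyclic.exists_generator (α := ↥Q)
  set x : G := (g : G) with hxdef
  have hxQ : x ∈ Q := g.2
  have hQx : ∀ y ∈ Q, ∃ k : ℤ, x ^ k = y := by
    intro y hy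
    obtain ⟨k, hk⟩ := Subgroup.mem_zpowers_iff.mp (hg ⟨y, hy⟩)
    refine ⟨k, ?_⟩
    have := congrArg (Subtype.val) hk
    simpa using this
  have hxq : x ^ q = 1 := by
    have h1 : g ^ Nat.card Q = 1 := pow_card_eq_one'
    rw [hQ] at h1
    have := congrArg (Subtype.val) h1
    simpa using this
  have hCeq : centralizer ({x} : Set G) = centralizer (Q : Set G) := by
    apply le_antisymm
    · intro c hc
      rw [Subgroup.mem_centralizer_iff] at hc ⊢
      intro y hy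
      obtain ⟨k, rfl⟩ := hQx y hy
      have h1 : Commute x c := hc x rfl
      exact (h1.zpow_left k).eq
    · apply Subgroup.centralizer_le
      intro y hy
      rw [Set.mem_singleton_iff] at hy
      rw [hy]
      exact hxQ
  have hfpf : ∀ u ∈ W', x * u = u * x → u = 1 := by
    intro u hu hxu
    apply hfpf' u hu
    intro y hy
    obtain ⟨k, rfl⟩ := hQx y hy
    have h1 : Commute x u := hxu
    exact (h1.zpow_left k).eq
  have hQcomm : ∀ a ∈ Q, ∀ b ∈ Q, a * b = b * a := by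
    intro a ha b hb
    obtain ⟨k, rfl⟩ := hQx a ha
    obtain ⟨j, rfl⟩ := hQx b hb
    exact ((Commute.refl x).zpow_zpow k j).eq
  -- Hall subgroups
  have hHallH := (Cfsg.Agent.S1405.result hG H hH).1
  have hHαH : alphaCore H ≤ H := hHallH.1
  have hHnorm : H ≤ normalizer ((alphaCore H : Subgroup G) : Set G) :=
    Cfsg.Agent.Helper22.BGAsym.le_normalizer_alphaCore' H
  have hMαM : alphaCore M ≤ M := (Cfsg.Agent.S1405.result hG M hM).1.1
  have hMnorm : M ≤ normalizer ((alphaCore M : Subgroup G) : Set G) :=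
    Cfsg.Agent.Helper22.BGAsym.le_normalizer_alphaCore' M
  have ht'ndH : ¬ t' ∣ (alphaCore H).relIndex H := hHallH.2.2 t' ht' ht'H
  have ht'ndM : ¬ t' ∣ Nat.card (alphaCore M) := fun hd =>
    ht'M (Cfsg.Agent.Helper22.BGAsym.isPi_alphaCore M t' ht' hd)
  -- A := W' ⊔ Q
  set A : Subgroup G := W' ⊔ Q with hAdef
  have hAM : A ≤ M := sup_le hW'M hQM
  have hAH : A ≤ H := sup_le hW'H hQH
  have hAtop : A ≠ ⊤ := by
    rintro h
    apply hMtop
    rw [eq_top_iff, ← h]
    exact hAM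
  have hAsolv : Group.IsSolvable ↥A := hG.2.2.2 A hAtop
  have hcopH : (Nat.card A).Coprime (Nat.card (alphaCore H)) :=
    Cfsg.Agent.Helper22.BGAsym.coprime_card_sup_alphaCore hqαH hw'α hQ hW' hQW'
  have hAK : A ≤ normalizer ((alphaCore H : Subgroup G) : Set G) := hAH.trans hHnorm
  set D : Subgroup G := M ⊓ alphaCore H with hDdef
  have hAD : A ≤ normalizer ((D : Subgroup G) : Set G) := by
    intro a ha
    exact Cfsg.Agent.Helper48.mem_normalizer_inf' (Subgroup.le_normalizer (hAM ha)) (hAK ha)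
  have hcopD : (Nat.card A).Coprime (Nat.card D) :=
    Nat.Coprime.coprime_dvd_right (Subgroup.card_dvd_of_le inf_le_right) hcopH
  -- invariant Sylow subgroups
  obtain ⟨R, hRD, hRc, hAR⟩ :=
    Cfsg.Agent.Helper52.exists_invariant_sylow A D hAD hcopD (Or.inl hAsolv) t'
  have hRt : IsPGroup t' R := Cfsg.Agent.Helper22.isPGroup_of_card_sylCard hRc
  obtain ⟨S, hSK, hSc, hRS, hAS⟩ :=
    Cfsg.Agent.Helper52.exists_invariant_sylow_ge A (alphaCore H) hAK hcopH (Or.inl hAsolv) t' R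
      (hRD.trans inf_le_right) hRt hAR
  have hSt : IsPGroup t' S := Cfsg.Agent.Helper22.isPGroup_of_card_sylCard hSc
  have hRM : R ≤ M := hRD.trans inf_le_left
  have hSH : S ≤ H := hSK.trans hHαH
  -- R is Sylow in M
  have hIM : sylCard t' (M ⊓ H) = sylCard t' M := by
    apply sylCard_eq_of_not_dvd_relIndex inf_le_left
    have h1 : (M ⊓ H).relIndex (alphaCore M) = (M ⊓ H).relIndex M := by
      apply Cfsg.Agent.Helper52.relIndex_eq_of_forall_mul (M ⊓ H) (alphaCore M) M hMαM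
      intro m hm
      exact Cfsg.Agent.Helper15.BGV.mem_sup_decomp
        ((inf_le_left : M ⊓ H ≤ M).trans hMnorm) (hfacM hm)
    rw [← h1]
    intro hd
    exact ht'ndM (hd.trans (Subgroup.relIndex_dvd_card _ _))
  have hDI : sylCard t' D = sylCard t' (M ⊓ H) := by
    have hDle : D ≤ M ⊓ H := inf_le_inf le_rfl hHαH
    apply le_antisymm (sylCard_le_of_le hDle)
    obtain ⟨T0, hT0I, hT0c⟩ := Cfsg.Agent.Helper15.BGV.exists_syl t' (M ⊓ H)
    have hT0t : IsPGroup t' T0 := Cfsg.Agent.Helper22.isPGroup_of_card_sylCard hT0c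
    have hT0α : T0 ≤ alphaCore H :=
      le_of_isPGroup_of_not_dvd_relIndex hHαH hHnorm ht'ndH (hT0I.trans inf_le_right) hT0t
    have hT0D : T0 ≤ D := le_inf (hT0I.trans inf_le_left) hT0α
    rw [← hT0c]
    exact Cfsg.Agent.Helper15.BGU.card_le_sylCard t' hT0t hT0D
  have hRcM : Nat.card R = sylCard t' M := by rw [hRc, hDI, hIM]
  -- the normal q-complement of M
  obtain ⟨K, hKM, hMK, hKcop, hKmax⟩ := Cfsg.Agent.Helper15.BGV.exists_normal_compl
    (hasNormalPComplement_of_not_dvd_commutator M hqM.2.2.2.1)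
  have hcop_of_t : ∀ T : Subgroup G, IsPGroup t' T → (Nat.card T).Coprime q := by
    intro T hT
    obtain ⟨k, hk⟩ := IsPGroup.iff_card.mp hT
    rw [hk]
    apply Nat.Coprime.pow_left
    exact (Nat.coprime_primes ht' hq).mpr ht'q
  have hRK : R ≤ K := hKmax R hRM (hcop_of_t R hRt)
  have hBt : IsPGroup t' B := Cfsg.Agent.Helper22.isPGroup_of_card_sylCard hB
  have hBK : B ≤ K := hKmax B (hBM.trans inf_le_left) (hcop_of_t B hBt)
  have hRcK : Nat.card R = sylCard t' K := by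
    apply le_antisymm (Cfsg.Agent.Helper15.BGU.card_le_sylCard t' hRt hRK)
    rw [hRcM]
    exact sylCard_le_of_le hKM
  -- centralizers of x in R and S
  have h9 : Nat.card (R ⊓ centralizer {x} : Subgroup G) = sylCard t' (K ⊓ centralizer {x}) :=
    Cfsg.Agent.Helper22.card_inf_centralizer_of_invariant_sylow (A := Q) (L := K) (S := R)
      hQcomm (hG.2.2.2 Q (fun h => hMtop (eq_top_iff.mpr (h ▸ hQM))))
      (hQM.trans hMK) (by rw [hQ]; exact hKcop.symm) hRK hRcK (le_sup_right.trans hAR) hxQ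
  have hBle : B ≤ K ⊓ centralizer {x} := by
    rw [hCeq]
    exact le_inf hBK (hBM.trans inf_le_right)
  have hc1 : Nat.card B ≤ Nat.card (R ⊓ centralizer {x} : Subgroup G) := by
    rw [h9]
    exact Cfsg.Agent.Helper15.BGU.card_le_sylCard t' hBt hBle
  have hRSle : R ⊓ centralizer {x} ≤ S ⊓ centralizer {x} := inf_le_inf hRS le_rfl
  have hc2 : Nat.card (S ⊓ centralizer {x} : Subgroup G) ≤ Nat.card B := by
    rw [hB, ← hCeq]
    exact Cfsg.Agent.Helper15.BGU.card_le_sylCard t' (hSt.to_le inf_le_left) inf_le_right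
  have hEq : R ⊓ centralizer {x} = S ⊓ centralizer {x} :=
    Subgroup.eq_of_le_of_card_ge hRSle (hc2.trans hc1)
  have hCx : S ⊓ centralizer ({x} : Set G) ≤ M := by
    rw [← hEq]
    exact inf_le_left.trans hRM
  -- S ≤ M
  have hxNW : x ∈ normalizer (W' : Set G) := hQW' hxQ
  have hSM : S ≤ M :=
    Cfsg.Agent.Helper49.BGAsym.le_of_centralizer_le ht' hw' hq ht'2 hw'2 ht'w' ht'q hw'q
      S W' M x hSt hW' (le_sup_left.trans hAS) (hAS ((le_sup_right : Q ≤ W' ⊔ Q) hxQ)) hxNW hxq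
      (Cfsg.Agent.Helper96.BGAsym.le_closure_comm_of_fpf W' x hxNW hfpf)
      hW'M (hQM hxQ)
      (inf_le_right.trans ((Subgroup.centralizer_le_normalizer _).trans hN')) hCx
  -- S has rank at least 3
  have hScH : Nat.card S = sylCard t' H := by
    rw [hSc]
    exact sylCard_eq_of_not_dvd_relIndex hHαH ht'ndH
  have hr2 : ¬ RankLE 2 ↥S := not_rankLE_two_of_sylow ht'H hSH hScH
  have hr1 : ¬ RankLE 1 ↥S := by
    intro h1
    apply hr2
    intro p hp A hA he
    have h2 := h1 p hp A hA he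
    calc Nat.card A ≤ p ^ 1 := h2
      _ ≤ p ^ 2 := Nat.pow_le_pow_right hp.pos (by norm_num)
  have hStop : S ≠ ⊤ := by
    rintro h
    apply hMtop
    rw [eq_top_iff, ← h]
    exact hSM
  obtain ⟨M₀, -, huniq⟩ := Cfsg.Agent.S1403.result hG S hStop hr1 (Or.inl hr2)
  apply hne
  rw [huniq M ⟨hM, hSM⟩, huniq H ⟨hH, hSH⟩]

end Cfsg.Agent.Helper16.BGAsym
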