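import Mathlib
import Cfsg.Agent.Lib.Helper45.BrauerLeonardGT

/-!
# The order-three action on an abelian Sylow subgroup (helper16, requested by helper46, D3)

`P` an abelian Sylow `p`-subgroup, `|N_G(P) : C_G(P)| = 3`, `C_G(y) ∩ N_G(P) = C_G(P)` for all
`1 ≠ y ∈ P`: conjugation by an element `n₀ ∈ N ∖ C` is an endomorphism `c` of `P` of order three
with `w · c w · c² w = 1`, fusion in `P` and the `N`-classes of linear characters of `P` are the
`⟨c⟩`-orbits.
-/

set_option autoImplicit false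
set_option linter.unusedSectionVars false
set_option linter.style.haveILetI false
set_option linter.unusedVariables false
set_option maxHeartbeats 800000

namespace Cfsg.Agent.Helper16.BLRot

open Cfsg.Agent.Helper45.BLGT

theorem exists_rot {G : Type*} [Group G] [Finite G] (p : ℕ) [Fact p.Prime] (P : Sylow p G)
    (hab : IsMulCommutative P)
    (hCN : (Subgroup.centralizer ((P : Subgroup G) : Set G)).relIndex
      (Subgroup.normalizer ((P : Subgroup G) : Set G)) = 3)
    (hfrob : ∀ y : G, y ∈ (P : Subgroup G) → y ≠ 1 →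
      Subgroup.centralizer ({y} : Set G) ⊓ Subgroup.normalizer ((P : Subgroup G) : Set G) =
        Subgroup.centralizer ((P : Subgroup G) : Set G)) :
    ∃ c : ↥(P : Subgroup G) →* ↥(P : Subgroup G),
      (∀ w, c (c (c w)) = w) ∧ (∀ w, w * c w * c (c w) = 1) ∧
      (∀ w w' : ↥(P : Subgroup G), IsConj (w : G) (w' : G) →
        w' = w ∨ w' = c w ∨ w' = c (c w)) ∧
      (∀ w : ↥(P : Subgroup G), IsConj (w : G) (c w : G)) ∧
      (∀ ψ : ↥(P : Subgroup G) →* ℂˣ, ψ ≠ 1 →
        (∀ ψ', Cfsg.Agent.Helper45.BLGT.Rel p P ψ ψ' ↔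
          (ψ' = ψ ∨ ψ' = ψ.comp c ∨ ψ' = ψ.comp (c.comp c))) ∧
        ψ ≠ ψ.comp c ∧ ψ ≠ ψ.comp (c.comp c) ∧ ψ.comp c ≠ ψ.comp (c.comp c)) := by
  classical
  haveI : Fact (Nat.Prime 3) := ⟨Nat.prime_three⟩
  obtain ⟨N, hN⟩ : ∃ N : Subgroup G, N = Subgroup.normalizer ((P : Subgroup G) : Set G) :=
    ⟨_, rfl⟩
  obtain ⟨C, hC⟩ : ∃ C : Subgroup G, C = Subgroup.centralizer ((P : Subgroup G) : Set G) :=
    ⟨_, rfl⟩
  rw [← hN, ← hC] at hCN
  have hcommP : ∀ a b : ↥(P : Subgroup G), a * b = b * a := fun a b => hab.is_comm.comm a b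
  -- the action of `N` on `P`
  have hconjmem : ∀ n : G, n ∈ N → ∀ w : ↥(P : Subgroup G), n * (w : G) * n⁻¹ ∈ (P : Subgroup G) := by
    intro n hn w
    rw [hN] at hn
    exact (Subgroup.mem_normalizer_iff.mp hn (w : G)).mp w.2
  obtain ⟨φ, hφ⟩ : ∃ φ : ↥(Subgroup.normalizer ((P : Subgroup G) : Set G)) →*
      MulAut ↥(P : Subgroup G), φ = (P : Subgroup G).normalizerMonoidHom := ⟨_, rfl⟩
  have hφc : ∀ (n : ↥(Subgroup.normalizer ((P : Subgroup G) : Set G))) (w : ↥(P : Subgroup G)),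
      ((φ n w : ↥(P : Subgroup G)) : G) = (n : G) * w * (n : G)⁻¹ := by
    intro n w
    rw [hφ]
    rfl
  have hker : φ.ker = (Subgroup.centralizer ((P : Subgroup G) : Set G)).subgroupOf
      (Subgroup.normalizer ((P : Subgroup G) : Set G)) := by
    rw [hφ]
    exact Subgroup.normalizerMonoidHom_ker _
  have hcardR : Nat.card φ.range = 3 := by
    rw [← Subgroup.index_ker, hker, ← hN, ← hC]
    exact hCN
  -- an element outside `C`
  have hnotle : ¬ N ≤ C := by
    intro h
    have := Subgroup.relIndex_eq_one.2 h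
    omega
  obtain ⟨n₀, hn₀N, hn₀C⟩ := SetLike.not_le_iff_exists.1 hnotle
  have hn₀N' : n₀ ∈ Subgroup.normalizer ((P : Subgroup G) : Set G) := hN ▸ hn₀N
  obtain ⟨σ, hσ⟩ : ∃ σ : MulAut ↥(P : Subgroup G), σ = φ ⟨n₀, hn₀N'⟩ := ⟨_, rfl⟩
  have hσc : ∀ w : ↥(P : Subgroup G), ((σ w : ↥(P : Subgroup G)) : G) = n₀ * w * n₀⁻¹ := by
    intro w
    rw [hσ, hφc]
  have hmemC : ∀ n : ↥(Subgroup.normalizer ((P : Subgroup G) : Set G)), φ n = 1 → (n : G) ∈ C := by
    intro n hn
    have : n ∈ φ.ker := hn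
    rw [hker, Subgroup.mem_subgroupOf] at this
    rw [hC]
    exact this
  have hσ1 : σ ≠ 1 := by
    intro h
    rw [hσ] at h
    exact hn₀C (hmemC _ h)
  have hσR : σ ∈ φ.range := ⟨⟨n₀, hn₀N'⟩, hσ.symm⟩
  have hgen : ∀ τ ∈ φ.range, τ = 1 ∨ τ = σ ∨ τ = σ ^ 2 := by
    intro τ hτ
    have hg1 : (⟨σ, hσR⟩ : φ.range) ≠ 1 := by
      intro h
      exact hσ1 (congrArg Subtype.val h)
    have hmem := mem_powers_of_prime_card (G := φ.range) (g' := ⟨τ, hτ⟩) hcardR hg1
    obtain ⟨k, hk⟩ := (Submonoid.mem_powers_iff _ _).1 hmem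
    have h3 : (⟨σ, hσR⟩ : φ.range) ^ 3 = 1 := by
      have := pow_card_eq_one' (G := φ.range) (x := ⟨σ, hσR⟩)
      rwa [hcardR] at this
    have hk' : (⟨σ, hσR⟩ : φ.range) ^ (k % 3) = ⟨τ, hτ⟩ := by
      rw [← pow_eq_pow_mod k h3, hk]
    have hk'' : σ ^ (k % 3) = τ := by
      have := congrArg Subtype.val hk'
      simpa using this
    have hlt : k % 3 < 3 := Nat.mod_lt _ (by norm_num)
    interval_cases h : k % 3
    · left; rw [← hk'', pow_zero]
    · right; left; rw [← hk'', pow_one]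
    · right; right; exact hk''.symm
  have hσ3 : σ ^ 3 = 1 := by
    have h3 : (⟨σ, hσR⟩ : φ.range) ^ 3 = 1 := by
      have := pow_card_eq_one' (G := φ.range) (x := ⟨σ, hσR⟩)
      rwa [hcardR] at this
    have := congrArg Subtype.val h3
    simpa using this
  have hσσσ : ∀ w, σ (σ (σ w)) = w := by
    intro w
    have : (σ ^ 3) w = w := by rw [hσ3]; rfl
    rw [pow_succ, pow_succ, pow_one] at this
    exact this
  -- the endomorphism `c`
  obtain ⟨c, hc⟩ : ∃ c : ↥(P : Subgroup G) →* ↥(P : Subgroup G),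
      c = conjHom p P ⟨n₀, hn₀N'⟩ := ⟨_, rfl⟩
  have hcσ : ∀ w, c w = σ w := by
    intro w
    apply Subtype.ext
    rw [hσc, hc, conjHom_coe]
  have hccc : ∀ w, c (c (c w)) = w := by
    intro w
    rw [hcσ, hcσ, hcσ]
    exact hσσσ w
  have hcG : ∀ w : ↥(P : Subgroup G), ((c w : ↥(P : Subgroup G)) : G) = n₀ * w * n₀⁻¹ := by
    intro w
    rw [hcσ, hσc]
  -- the norm is trivial
  have hnorm : ∀ w, w * c w * c (c w) = 1 := by
    intro w
    by_contra hz
    obtain ⟨z, hzdef⟩ : ∃ z : ↥(P : Subgroup G), z = w * c w * c (c w) := ⟨_, rfl⟩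
    rw [← hzdef] at hz
    have hcz : c z = z := by
      rw [hzdef, map_mul, map_mul, hccc]
      rw [hcommP (c w * c (c w)) w, mul_assoc]
    have hz1 : (z : G) ≠ 1 := fun h => hz (Subtype.ext h)
    apply hn₀C
    rw [hC, ← hfrob (z : G) z.2 hz1]
    refine ⟨?_, hn₀N'⟩
    show n₀ ∈ Subgroup.centralizer ({(z : G)} : Set G)
    rw [Subgroup.mem_centralizer_iff]
    intro y hy
    rw [Set.mem_singleton_iff.mp hy]
    have h1 : n₀ * (z : G) * n₀⁻¹ = (z : G) := by
      rw [← hcG, hcz]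
    calc (z : G) * n₀ = (n₀ * (z : G) * n₀⁻¹) * n₀ := by rw [h1]
      _ = n₀ * (z : G) := by group
  -- every element of `N` acts as a power of `c`
  have hact : ∀ n : G, n ∈ N → (∀ w : ↥(P : Subgroup G), n * (w : G) * n⁻¹ = w) ∨
      (∀ w : ↥(P : Subgroup G), n * (w : G) * n⁻¹ = c w) ∨
      (∀ w : ↥(P : Subgroup G), n * (w : G) * n⁻¹ = c (c w)) := by
    intro n hn
    have hn' : n ∈ Subgroup.normalizer ((P : Subgroup G) : Set G) := hN ▸ hn
    rcases hgen (φ ⟨n, hn'⟩) ⟨⟨n, hn'⟩, rfl⟩ with h | h | h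
    · left
      intro w
      rw [← hφc ⟨n, hn'⟩ w, h]
      rfl
    · right; left
      intro w
      rw [← hφc ⟨n, hn'⟩ w, h, hcσ]
    · right; right
      intro w
      rw [← hφc ⟨n, hn'⟩ w, h, hcσ, hcσ, pow_succ, pow_one]
      rfl
  have hn₀inv : ∀ w : ↥(P : Subgroup G), n₀⁻¹ * (w : G) * n₀⁻¹⁻¹ = c (c w) := by
    intro w
    have h := hcG (c (c w))
    rw [hccc] at h
    rw [h]
    group
  refine ⟨c, hccc, hnorm, ?_, ?_, ?_⟩
  · -- fusion
    intro w w' hww'
    obtain ⟨g, hg⟩ := isConj_iff.1 hww'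
    haveI : IsMulCommutative P := hab
    have hy : g⁻¹⁻¹ * (w : G) * g⁻¹ ∈ (P : Subgroup G) := by
      rw [inv_inv, hg]
      exact w'.2
    obtain ⟨n, hn, hgn⟩ := P.conj_eq_normalizer_conj_of_mem (w : G) g⁻¹ w.2 hy
    rw [inv_inv, hg] at hgn
    have hnN : n⁻¹ ∈ N := hN ▸ Subgroup.inv_mem _ hn
    have hgn' : (w' : G) = n⁻¹ * (w : G) * n⁻¹⁻¹ := by rw [hgn, inv_inv]
    rcases hact n⁻¹ hnN with h | h | h
    · left
      apply Subtype.ext
      rw [hgn', h]
    · right; left
      apply Subtype.ext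
      rw [hgn', h]
    · right; right
      apply Subtype.ext
      rw [hgn', h]
  · intro w
    exact isConj_iff.2 ⟨n₀, (hcG w).symm⟩
  · intro ψ hψ
    have hne1 : ψ ≠ ψ.comp c := by
      intro h
      apply hn₀C
      rw [hC]
      refine char_stabilizer p P hab hfrob ψ hψ n₀ hn₀N' ?_
      intro w w' hw
      have : w' = c w := Subtype.ext (by rw [hw, hcG])
      rw [this]
      have := congrArg (fun f : ↥(P : Subgroup G) →* ℂˣ => f w) h
      simp only [MonoidHom.comp_apply] at this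
      exact this.symm
    have hne2 : ψ ≠ ψ.comp (c.comp c) := by
      intro h
      apply hne1
      ext w
      have h1 := congrArg (fun f : ↥(P : Subgroup G) →* ℂˣ => f (c (c w))) h
      simp only [MonoidHom.comp_apply] at h1
      have h2 := congrArg (fun f : ↥(P : Subgroup G) →* ℂˣ => f w) h
      simp only [MonoidHom.comp_apply] at h2
      rw [MonoidHom.comp_apply]
      rw [hccc] at h1
      -- ψ (c (c w)) = ψ (c w), ψ w = ψ (c (c w))
      rw [h2, h1]
    have hne3 : ψ.comp c ≠ ψ.comp (c.comp c) := by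
      intro h
      apply hne1
      ext w
      have h1 := congrArg (fun f : ↥(P : Subgroup G) →* ℂˣ => f (c (c w))) h
      simp only [MonoidHom.comp_apply] at h1
      rw [hccc] at h1
      rw [MonoidHom.comp_apply, h1]
    refine ⟨?_, hne1, hne2, hne3⟩
    intro ψ'
    constructor
    · rintro ⟨n, hn, h⟩
      have hnN : n ∈ N := hN ▸ hn
      rcases hact n hnN with ha | ha | ha
      · left
        ext w
        have := h w w (ha w).symm
        rw [this]
      · right; right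
        ext w
        -- ψ' (c v) = ψ v; take v = c (c w)
        have := h (c (c w)) w (by rw [ha, hccc])
        exact congrArg Units.val this
      · right; left
        ext w
        have := h (c w) w (by rw [ha, hccc])
        exact congrArg Units.val this
    · rintro (h | h | h) <;> rw [h]
      · exact (rel_equivalence p P hab hfrob).refl ψ
      · refine ⟨n₀⁻¹, Subgroup.inv_mem _ hn₀N', ?_⟩
        intro w w' hw
        rw [MonoidHom.comp_apply]
        congr 1
        apply Subtype.ext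
        rw [hcG, hw]
        group
      · refine ⟨n₀, hn₀N', ?_⟩
        intro w w' hw
        rw [MonoidHom.comp_apply, MonoidHom.comp_apply]
        congr 1
        have : w' = c w := Subtype.ext (by rw [hw, hcG])
        rw [this, hccc]

end Cfsg.Agent.Helper16.BLRot
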