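import Mathlib
import Cfsg.Prelude.Def_Blocks
import Cfsg.Agent.Lib.Helper77.BlockIdem
import Cfsg.Agent.Lib.Helper16.WBO

set_option autoImplicit false
set_option linter.unusedSectionVars false
set_option linter.style.haveILetI false

namespace Cfsg.Agent.Helper16

open Cfsg Cfsg.Agent.Helper77

section convalg

variable {G : Type*} [Group G] [Fintype G]

theorem conv_assoc (a b c : G → ℂ) : conv (conv a b) c = conv a (conv b c) := by
  funext g
  unfold conv
  simp_rw [Finset.sum_mul, Finset.mul_sum]
  rw [Finset.sum_comm]
  refine Finset.sum_congr rfl fun y _ => ?_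
  rw [← Equiv.sum_comp (Equiv.mulLeft y)]
  refine Finset.sum_congr rfl fun z _ => ?_
  simp only [Equiv.coe_mulLeft, inv_mul_cancel_left, mul_inv_rev, mul_assoc]

/-- A class function is central for convolution. -/
theorem conv_comm_central {e : G → ℂ} (he : IsClassFunction G e) (b : G → ℂ) :
    conv e b = conv b e := by
  funext g
  unfold conv
  rw [← Equiv.sum_comp ((Equiv.inv G).trans (Equiv.mulLeft g))]
  refine Finset.sum_congr rfl fun y _ => ?_
  simp only [Equiv.trans_apply, Equiv.inv_apply, Equiv.coe_mulLeft]
  have h1 : (g * y⁻¹)⁻¹ * g = y := by group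
  rw [h1, classFunction_comm he g y⁻¹, mul_comm]

end convalg

end Cfsg.Agent.Helper16
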