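import Mathlib
import Cfsg.Prelude.Def_Blocks
import Cfsg.Agent.Lib.Helper77.NormalPair
import Cfsg.Agent.Lib.Helper77.Induced
import Cfsg.Agent.Lib.Helper77.DefectInd
import Cfsg.Agent.Lib.Helper77.Radical
import Cfsg.Agent.Lib.Helper16.ConvAlg

set_option autoImplicit false
set_option linter.unusedSectionVars false
set_option linter.style.haveILetI false

namespace Cfsg.Agent.Helper16

open Cfsg Cfsg.Agent.Helper77

universe u

section basics

variable {G : Type u} [Group G]

theorem mem_centralizer_zpowers_iff (π z : G) :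
    z ∈ Subgroup.centralizer ((Subgroup.zpowers π : Subgroup G) : Set G) ↔ π * z = z * π := by
  rw [Subgroup.mem_centralizer_iff]
  constructor
  · intro h
    exact h π (Subgroup.mem_zpowers π)
  · intro h v hv
    obtain ⟨k, rfl⟩ := Subgroup.mem_zpowers_iff.1 hv
    have hc : Commute π z := h
    exact (hc.zpow_left k)

theorem mem_centralizer_singleton_iff' (π z : G) :
    z ∈ Subgroup.centralizer ({π} : Set G) ↔ π * z = z * π := by
  rw [Subgroup.mem_centralizer_iff]
  constructor
  · intro h
    exact h π rfl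
  · intro h v hv
    rw [Set.mem_singleton_iff] at hv
    rw [hv]
    exact h

theorem isPGroup_zpowers {p : ℕ} {π : G} (hπ : ∃ k : ℕ, orderOf π = p ^ k) :
    IsPGroup p (Subgroup.zpowers π) := by
  obtain ⟨k, hk⟩ := hπ
  exact IsPGroup.of_card (n := k) (by rw [Nat.card_zpowers, hk])

end basics

section modhom

variable {G : Type u} [Group G] [Fintype G] {p : ℕ} {M : Ideal AlgInt}

/-- A homomorphism modulo the local ideal kills the idempotents of the blocks other than its
own. -/
theorem IsModHom.memLocalIdeal_of_ne [hpr : M.IsPrime] {w : G → ℂ} (hw : IsModHom M w)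
    {B B' : Set (IrrCharacter G)} (hB : IsPBlock M B) (hB' : IsPBlock M B')
    (h : MemLocalIdeal M (wsum w (blockCoeff B) - 1)) (hne : B ≠ B') :
    MemLocalIdeal M (wsum w (blockCoeff B')) := by
  have h1 := hw.mul _ _ (isClassFunction_blockCoeff B)
    (isClassFunction_blockCoeff B') (isRValued_blockCoeff hB) (isRValued_blockCoeff hB')
  rw [conv_blockCoeff_of_disjoint (disjoint_of_isPBlock_of_ne hB hB' hne), wsum_zero,
    zero_sub] at h1
  have h1' := memLocalIdeal_neg h1
  rw [neg_neg] at h1'
  have hRB' := hw.memR _ (isClassFunction_blockCoeff B') (isRValued_blockCoeff hB')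
  have e1 := memLocalIdeal_mul_right h hRB'
  have e2 := memLocalIdeal_sub h1' e1
  convert e2 using 1
  ring

end modhom

section restrict

variable {G : Type u} [Group G] [Fintype G] {p : ℕ} {M : Ideal AlgInt}

theorem wsum_restr_wOf (H C : Subgroup G) [Fintype H] [Fintype C] (θ : C → ℂ) (a : H → ℂ) :
    wsum (fun k : H => wOf C θ (k : G)) a = omega θ (restr C (extZ H a)) := by
  rw [← wsum_wOf]
  unfold wsum
  rw [← sum_subgroup_eq H (fun g => extZ H a g * wOf C θ g)
    (fun x hx => by rw [extZ_of_notMem H a hx, zero_mul])]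
  refine Finset.sum_congr rfl fun k _ => ?_
  rw [extZ_of_mem]

theorem wsum_restr_wOf' (H C : Subgroup G) [Fintype H] (hCH : C ≤ H) (θ : C → ℂ) (a : G → ℂ) :
    wsum (fun k : H => wOf C θ (k : G)) (restr H a) = wsum (wOf C θ) a := by
  unfold wsum
  rw [← sum_subgroup_eq H (fun g => a g * wOf C θ g)
    (fun x hx => by rw [wOf_of_notMem C θ (fun h => hx (hCH h)), mul_zero])]
  rfl

theorem cutC_eq_restr (P : Subgroup G) (a : G → ℂ) :
    cutC P (Subgroup.centralizer (P : Set G)) a = restr (Subgroup.centralizer (P : Set G)) a := by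
  funext k
  exact cutC_of_mem P _ a k.2

/-- The functional `a ↦ ω_θ (a restricted to C_G(P))` on the class functions of a subgroup
`H ≥ C_G(P)` containing `P` is a homomorphism modulo the local ideal. -/
theorem isModHom_restr_wOf [Fact p.Prime] (hM : IsPModular p M) (P H : Subgroup G) [Fintype H]
    [Fintype (Subgroup.centralizer (P : Set G))]
    (hP : IsPGroup p P) (hPH : P ≤ H) (hCH : Subgroup.centralizer (P : Set G) ≤ H)
    {θ : Subgroup.centralizer (P : Set G) → ℂ}
    (hθ : IsIrrCharacter (Subgroup.centralizer (P : Set G)) θ) :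
    IsModHom M (fun k : H => wOf (Subgroup.centralizer (P : Set G)) θ (k : G)) := by
  haveI hpr := isPrime_of_isPModular hM
  have hCN : Subgroup.centralizer (P : Set G) ≤ Subgroup.normalizer (P : Set G) :=
    Subgroup.centralizer_le_normalizer _
  have hcl : ∀ a : H → ℂ, IsClassFunction H a →
      ∀ k ∈ H, ∀ x, extZ H a (k * x * k⁻¹) = extZ H a x :=
    fun a ha k hk x => extZ_conj_of_class H ha k hk x
  have hRext : ∀ a : H → ℂ, IsRValued M a → IsRValued M (extZ H a) := by
    intro a ha g
    by_cases hg : g ∈ H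
    · rw [extZ_of_mem' H _ hg]; exact ha _
    · rw [extZ_of_notMem H _ hg]; exact memLocalRing_zero hpr.ne_top
  refine ⟨?_, ?_, ?_⟩
  · intro a ha haR
    rw [wsum_restr_wOf]
    exact memLocalRing_omega hθ
      (isClassFunction_restr _ (fun k hk x => hcl a ha k (hCH hk) x))
      (isRValued_restr _ (hRext a haR))
  · rw [wsum_delta]
    have h1 : wOf (Subgroup.centralizer (P : Set G)) θ ((1 : H) : G) = 1 := by
      have : ((1 : H) : G) = ((1 : Subgroup.centralizer (P : Set G)) : G) := rfl
      rw [this, wOf_of_mem, div_self (irrChar_one_ne_zero hθ)]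
    rw [h1, sub_self]
    exact memLocalIdeal_zero hpr.ne_top
  · intro a b ha hb haR hbR
    rw [wsum_restr_wOf, wsum_restr_wOf, wsum_restr_wOf, ← conv_extZ, ← cutC_eq_restr,
      ← cutC_eq_restr, ← cutC_eq_restr]
    exact omega_cutC_conv hM P _ hP le_rfl hCN (hRext a haR) (hRext b hbR)
      (fun k hk x => hcl a ha k (hPH hk) x) (fun k hk x => hcl b hb k (hPH hk) x)
      (fun k hk x => hcl a ha k (hCH hk) x) (fun k hk x => hcl b hb k (hCH hk) x) hθ

end restrict

section claimA

variable {G : Type u} [Group G] [Fintype G] {p : ℕ} {M : Ideal AlgInt}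

/-- The radical computation: for `θ` an irreducible character of `C = C_G(P)`, the central
character of `θ` kills `f_b` or `e_{B'}` when `b^G = B ≠ B'`. -/
theorem memLocalIdeal_omega_mul_of_induced [Fact p.Prime] (hM : IsPModular p M)
    (P H : Subgroup G) [Fintype H] [Fintype (Subgroup.centralizer (P : Set G))]
    (hP : IsPGroup p P) (hPH : P ≤ H) (hPC : P ≤ Subgroup.centralizer (P : Set G))
    (hCH : Subgroup.centralizer (P : Set G) ≤ H)
    {b : Set (IrrCharacter H)} {B B' : Set (IrrCharacter G)}
    (hind : IsInducedBlock M H b B) (hB' : IsPBlock M B') (hne : B' ≠ B)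
    (θ : IrrCharacter (Subgroup.centralizer (P : Set G))) :
    MemLocalIdeal M
      (omega (θ : Subgroup.centralizer (P : Set G) → ℂ)
          (restr (Subgroup.centralizer (P : Set G)) (subgroupBlockCoeff H b)) *
        omega (θ : Subgroup.centralizer (P : Set G) → ℂ)
          (restr (Subgroup.centralizer (P : Set G)) (blockCoeff B'))) := by
  classical
  haveI hpr := isPrime_of_isPModular hM
  haveI : Fintype (ConjClasses G) := Fintype.ofFinite _
  obtain ⟨hb, hB, hcong⟩ := hind
  have hCN : Subgroup.centralizer (P : Set G) ≤ Subgroup.normalizer (P : Set G) :=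
    Subgroup.centralizer_le_normalizer _
  have hfR : IsRValued M (subgroupBlockCoeff H b) := isRValued_subgroupBlockCoeff H hb
  have he'R : IsRValued M (blockCoeff B') := isRValued_blockCoeff hB'
  have he'cl : IsClassFunction G (blockCoeff B') := isClassFunction_blockCoeff B'
  have hfH : ∀ k ∈ H, ∀ x, subgroupBlockCoeff H b (k * x * k⁻¹) = subgroupBlockCoeff H b x :=
    fun k hk x => subgroupBlockCoeff_conj_of_mem H b k hk x
  have hwG : IsModHom M (wOf (Subgroup.centralizer (P : Set G)) (θ : _ → ℂ)) :=
    isModHom_wOf hM P _ hP hPC le_rfl hCN θ.2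
  have hwH := isModHom_restr_wOf hM P H hP hPH hCH θ.2
  set x₁ := omega (θ : Subgroup.centralizer (P : Set G) → ℂ)
    (restr (Subgroup.centralizer (P : Set G)) (subgroupBlockCoeff H b)) with hx₁
  set x₂ := omega (θ : Subgroup.centralizer (P : Set G) → ℂ)
    (restr (Subgroup.centralizer (P : Set G)) (blockCoeff B')) with hx₂
  have hx₁R : MemLocalRing M x₁ :=
    memLocalRing_omega θ.2 (isClassFunction_restr _ (fun k hk x => hfH k (hCH hk) x))
      (isRValued_restr _ hfR)
  have hx₂R : MemLocalRing M x₂ :=
    memLocalRing_omega θ.2 (isClassFunction_restr _ (fun k _ x => he'cl x k))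
      (isRValued_restr _ he'R)
  have hx₂w : x₂ = wsum (wOf (Subgroup.centralizer (P : Set G)) (θ : _ → ℂ)) (blockCoeff B') := by
    rw [wsum_wOf]
  have hx₁w : x₁ = wsum (fun k : H => wOf (Subgroup.centralizer (P : Set G)) (θ : _ → ℂ) (k : G))
      (blockCoeff b) := by
    rw [wsum_restr_wOf, ← subgroupBlockCoeff_eq_extZ]
  obtain ⟨B₁, hB₁, h1⟩ := hwG.exists_block
  by_cases hB₁B' : B₁ = B'
  · apply memLocalIdeal_mul_right _ hx₂R
    by_contra hx₁I
    obtain ⟨b₁, hb₁, h2⟩ := hwH.exists_block
    have hb₁b : b₁ = b := by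
      by_contra hne'
      apply hx₁I
      rw [hx₁w]
      exact IsModHom.memLocalIdeal_of_ne hwH hb₁ hb h2 hne'
    rw [hb₁b] at h2
    obtain ⟨ξ, hξ⟩ := nonempty_of_isPBlock hb
    obtain ⟨χ₀, hχ₀⟩ := nonempty_of_isPBlock hB
    have hcls : ∀ g : G, MemLocalIdeal M
        (wsum (wOf (Subgroup.centralizer (P : Set G)) (θ : _ → ℂ)) (classInd g) -
          centralChar (χ₀ : G → ℂ) g) := by
      intro g
      have e1 := hwH.congr_omega hb h2 hξ
        (isClassFunction_restr H (fun u _ x => isClassFunction_classInd g x u))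
        (isRValued_restr H (isRValued_classInd g))
      rw [wsum_restr_wOf' H _ hCH, ← Cfsg.Agent.Helper77.inducedCentralChar_eq_omega] at e1
      have e2 := hcong ξ hξ χ₀ hχ₀ g
      have := memLocalIdeal_add e1 e2
      convert this using 1
      ring
    have h3 : MemLocalIdeal M
        (wsum (wOf (Subgroup.centralizer (P : Set G)) (θ : _ → ℂ)) (blockCoeff B) - 1) := by
      have hω : omega (χ₀ : G → ℂ) (blockCoeff B) = 1 := by
        rw [omega_blockCoeff, if_pos hχ₀]
      rw [← hω, wsum_eq_sum_conjClasses _ (isClassFunction_blockCoeff B),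
        Cfsg.Agent.Helper77.omega_eq_sum_conjClasses (isClassFunction_of_isIrrCharacter χ₀.2)
          (isClassFunction_blockCoeff B), ← Finset.sum_sub_distrib]
      refine memLocalIdeal_sum _ _ fun K _ => ?_
      rw [← mul_sub]
      exact memLocalIdeal_mul_left (memLocalRing_blockCoeff hB _) (hcls _)
    have := hwG.block_unique hB₁ hB h1 h3
    exact hne (hB₁B'.symm.trans this)
  · apply memLocalIdeal_mul_left hx₁R
    rw [hx₂w]
    exact IsModHom.memLocalIdeal_of_ne hwG hB₁ hB' h1 hB₁B'

end claimA

section claimA2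

variable {G : Type u} [Group G] [Fintype G] {p : ℕ} {M : Ideal AlgInt}

/-- The product `f_b * e_{B'}` is an idempotent. -/
theorem conv_subgroupBlockCoeff_blockCoeff_idem (H : Subgroup G) [Fintype H]
    (b : Set (IrrCharacter H)) (B' : Set (IrrCharacter G)) :
    conv (conv (subgroupBlockCoeff H b) (blockCoeff B'))
      (conv (subgroupBlockCoeff H b) (blockCoeff B')) =
      conv (subgroupBlockCoeff H b) (blockCoeff B') := by
  set f := subgroupBlockCoeff H b with hf
  set e' := blockCoeff B' with he'
  have he'cl : IsClassFunction G e' := isClassFunction_blockCoeff B'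
  have hfidem : conv f f = f := conv_subgroupBlockCoeff_self H b
  have he'idem : conv e' e' = e' := conv_blockCoeff_self B'
  calc conv (conv f e') (conv f e') = conv f (conv e' (conv f e')) := conv_assoc _ _ _
    _ = conv f (conv (conv e' f) e') := by rw [conv_assoc e' f e']
    _ = conv f (conv (conv f e') e') := by rw [conv_comm_central he'cl f]
    _ = conv f (conv f (conv e' e')) := by rw [conv_assoc f e' e']
    _ = conv (conv f f) (conv e' e') := (conv_assoc _ _ _).symm
    _ = conv f e' := by rw [hfidem, he'idem]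

/-- **Brauer-map vanishing**: if `b^G = B ≠ B'` and `C_G(π) ≤ H` for the `p`-element `π ∈ H`, the
idempotent `f_b * e_{B'}` has coefficients in the local ideal on `C_G(π)`. -/
theorem memLocalIdeal_conv_of_induced [Fact p.Prime] (hM : IsPModular p M) (H : Subgroup G)
    {b : Set (IrrCharacter H)} {B B' : Set (IrrCharacter G)}
    (hind : IsInducedBlock M H b B) (hB' : IsPBlock M B') (hne : B' ≠ B)
    (π : G) (hπ : ∃ k : ℕ, orderOf π = p ^ k) (hπH : π ∈ H)
    (hCH : Subgroup.centralizer ({π} : Set G) ≤ H) (c : G) (hc : π * c = c * π) :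
    MemLocalIdeal M (conv (subgroupBlockCoeff H b) (blockCoeff B') c) := by
  classical
  haveI hpr := isPrime_of_isPModular hM
  haveI : Fintype H := Fintype.ofFinite H
  set P : Subgroup G := Subgroup.zpowers π with hPdef
  haveI : Fintype (Subgroup.centralizer (P : Set G)) := Fintype.ofFinite _
  have hP : IsPGroup p P := isPGroup_zpowers hπ
  have hPH : P ≤ H := (Subgroup.zpowers_le).2 hπH
  have hPC : P ≤ Subgroup.centralizer (P : Set G) := by
    intro z hz
    rw [mem_centralizer_zpowers_iff]
    obtain ⟨k, rfl⟩ := Subgroup.mem_zpowers_iff.1 hz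
    exact ((Commute.refl π).zpow_right k)
  have hCleH : Subgroup.centralizer (P : Set G) ≤ H := by
    intro z hz
    apply hCH
    rw [mem_centralizer_singleton_iff']
    exact (mem_centralizer_zpowers_iff π z).1 hz
  have hCN : Subgroup.centralizer (P : Set G) ≤ Subgroup.normalizer (P : Set G) :=
    Subgroup.centralizer_le_normalizer _
  have hb := hind.1
  set f := subgroupBlockCoeff H b with hf
  set e' := blockCoeff B' with he'
  set u := conv f e' with hu
  have hfR : IsRValued M f := isRValued_subgroupBlockCoeff H hb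
  have he'R : IsRValued M e' := isRValued_blockCoeff hB'
  have he'cl : IsClassFunction G e' := isClassFunction_blockCoeff B'
  have hfH : ∀ k ∈ H, ∀ x, f (k * x * k⁻¹) = f x :=
    fun k hk x => subgroupBlockCoeff_conj_of_mem H b k hk x
  have he'G : ∀ k x, e' (k * x * k⁻¹) = e' x := fun k x => he'cl x k
  have huH : ∀ k ∈ H, ∀ x, u (k * x * k⁻¹) = u x :=
    fun k hk x => conv_conj_invariant k (hfH k hk) (he'G k) x
  have huR : IsRValued M u := isRValued_conv hfR he'R
  have huidem : conv u u = u := conv_subgroupBlockCoeff_blockCoeff_idem H b B'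
  set ε : Subgroup.centralizer (P : Set G) → ℂ := cutC P _ u with hε
  have hεcl : IsClassFunction _ ε := isClassFunction_cutC hCN (fun k hk x => huH k (hCleH hk) x)
  have hεR : IsRValued M ε := isRValued_cutC P _ huR
  have hεidem : EqMod M (conv ε ε) ε := by
    obtain ⟨r, hrR, hr⟩ := cutC_conv hM P (Subgroup.centralizer (P : Set G)) hP le_rfl u u huR huR
      (fun k hk x => huH k (hPH hk) x) (fun k hk x => huH k (hPH hk) x)
    rw [huidem] at hr
    intro g
    have h1 : conv ε ε g - ε g = -((p : ℂ) * r g) := by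
      have h2 := congrFun hr g
      simp only [Pi.add_apply, Pi.smul_apply, smul_eq_mul] at h2
      rw [hε, h2]
      ring
    rw [h1]
    exact memLocalIdeal_neg (memLocalIdeal_mul_right
      ((memLocalIdeal_natCast_iff hM p).2 dvd_rfl) (hrR g))
  have hrad : ∀ θ : IrrCharacter (Subgroup.centralizer (P : Set G)),
      MemLocalIdeal M (omega (θ : _ → ℂ) ε) := by
    intro θ
    have hmul := omega_cutC_conv hM P _ hP le_rfl hCN hfR he'R
      (fun k hk x => hfH k (hPH hk) x) (fun k _ x => he'G k x)
      (fun k hk x => hfH k (hCleH hk) x) (fun k _ x => he'G k x) θ.2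
    have hprod := memLocalIdeal_omega_mul_of_induced hM P H hP hPH hPC hCleH hind hB' hne θ
    rw [← cutC_eq_restr, ← cutC_eq_restr] at hprod
    have := memLocalIdeal_add hmul hprod
    rw [sub_add_cancel] at this
    exact this
  have hcmem : c ∈ Subgroup.centralizer (P : Set G) := (mem_centralizer_zpowers_iff π c).2 hc
  have := eqMod_zero_of_idem_of_radical hεcl hεR hεidem hrad ⟨c, hcmem⟩
  rw [hε, cutC_of_mem P _ u (h := ⟨c, hcmem⟩) hcmem] at this
  exact this

end claimA2

end Cfsg.Agent.Helper16
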