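import Mathlib

set_option autoImplicit false

namespace Cfsg.Agent.Helper16

section corner

variable {R : Type*} [Ring R]

theorem comm_of_inv {N w x : R} (hNw : N * w = 1) (hwN : w * N = 1) (hx : x * N = N * x) :
    w * x = x * w := by
  calc w * x = w * x * (N * w) := by rw [hNw, mul_one]
    _ = w * (x * N) * w := by simp only [mul_assoc]
    _ = w * (N * x) * w := by rw [hx]
    _ = (w * N) * x * w := by simp only [mul_assoc]
    _ = x * w := by rw [hwN, one_mul]

/-- Cutting an idempotent down to a corner: abstract ring identities. -/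
theorem corner_reduction {S : Type*} [AddCommGroup S] (τ : R →+ S)
    (hτ : ∀ x y, τ (x * y) = τ (y * x))
    (a e t w n N v e1 c a0 : R) (ha : a * a = a) (he : e * e = e) (hat : a * t = t * a)
    (het : e * t = t * e) (hn : n = a * e * a) (hN : N = 1 - n * n)
    (hNw : N * w = 1) (hwN : w * N = 1) (hv : v = (1 + n) * w) (he1def : e1 = 1 - e)
    (hc : c = a * v * a) (ha0 : a0 = e1 * c * e1) :
    a0 * a0 = a0 ∧ a0 * t = t * a0 ∧ τ (a0 * t) = τ (a * t) := by
  have F1 : a * n = n := by rw [hn, ← mul_assoc, ← mul_assoc, ha]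
  have F2 : n * a = n := by rw [hn, mul_assoc, ha]
  have F3 : n * t = t * n := by
    rw [hn]
    calc a * e * a * t = a * e * (a * t) := by rw [mul_assoc]
      _ = a * e * (t * a) := by rw [hat]
      _ = a * (e * t) * a := by simp only [mul_assoc]
      _ = a * (t * e) * a := by rw [het]
      _ = (a * t) * e * a := by simp only [mul_assoc]
      _ = t * a * e * a := by rw [hat]
      _ = t * (a * e * a) := by simp only [mul_assoc]
  have F4 : a * N = N * a := by
    have h1 : a * N = a - (a * n) * n := by rw [hN, mul_sub, mul_one, mul_assoc]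
    have h2 : N * a = a - n * (n * a) := by rw [hN, sub_mul, one_mul, mul_assoc]
    rw [h1, h2, F1, F2]
  have F5 : t * N = N * t := by
    have h1 : t * N = t - (t * n) * n := by rw [hN, mul_sub, mul_one, mul_assoc]
    have h2 : N * t = t - n * (n * t) := by rw [hN, sub_mul, one_mul, mul_assoc]
    rw [h1, h2, F3, ← F3, mul_assoc, F3]
  have F6 : n * N = N * n := by
    have h1 : n * N = n - n * n * n := by rw [hN, mul_sub, mul_one, mul_assoc]
    have h2 : N * n = n - n * n * n := by rw [hN, sub_mul, one_mul]
    rw [h1, h2]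
  have hwa : w * a = a * w := comm_of_inv hNw hwN F4
  have hwt : w * t = t * w := comm_of_inv hNw hwN F5
  have hwn : w * n = n * w := comm_of_inv hNw hwN F6
  have hva : v * a = a * v := by
    have h1 : v * a = (1 + n) * (w * a) := by rw [hv, mul_assoc]
    have h2 : a * v = (a + a * n) * w := by rw [hv, ← mul_assoc, mul_add, mul_one]
    have h3 : (1 + n) * (a * w) = (a + n * a) * w := by rw [← mul_assoc, add_mul, one_mul]
    rw [h1, h2, hwa, h3, F1, F2]
  have hvt : v * t = t * v := by
    have h1 : v * t = (1 + n) * (w * t) := by rw [hv, mul_assoc]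
    have h2 : t * v = (t + t * n) * w := by rw [hv, ← mul_assoc, mul_add, mul_one]
    have h3 : (1 + n) * (t * w) = (t + n * t) * w := by rw [← mul_assoc, add_mul, one_mul]
    rw [h1, h2, hwt, h3, F3]
  have hvn : v * n = n * v := by
    have h1 : v * n = (1 + n) * (w * n) := by rw [hv, mul_assoc]
    have h2 : n * v = (n + n * n) * w := by rw [hv, ← mul_assoc, mul_add, mul_one]
    have h3 : (1 + n) * (n * w) = (n + n * n) * w := by rw [← mul_assoc, add_mul, one_mul]
    rw [h1, h2, hwn, h3]
  have F8 : (1 - n) * v = 1 := by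
    have h1 : (1 - n) * (1 + n) = N := by
      rw [hN]; noncomm_ring
    rw [hv, ← mul_assoc, h1, hNw]
  have F8' : v * (1 - n) = 1 := by
    have h1 : v * (1 - n) = v - v * n := by rw [mul_sub, mul_one]
    have h2 : (1 - n) * v = v - n * v := by rw [sub_mul, one_mul]
    rw [h1, hvn, ← h2, F8]
  have he1 : e1 * e1 = e1 := by
    rw [he1def]
    have : (1 - e) * (1 - e) = 1 - e - e + e * e := by noncomm_ring
    rw [this, he]
    noncomm_ring
  have he1t : e1 * t = t * e1 := by
    rw [he1def, sub_mul, mul_sub, one_mul, mul_one, het]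
  have hc' : c = a * v := by rw [hc, mul_assoc, hva, ← mul_assoc, ha]
  have hct : c * t = t * c := by
    rw [hc', mul_assoc, hvt, ← mul_assoc, hat, mul_assoc]
  have hae1a : a * e1 * a = (1 - n) * a := by
    have h1 : a * e1 * a = a * a - a * e * a := by rw [he1def, mul_sub, mul_one, sub_mul]
    have h2 : (1 - n) * a = a - n * a := by rw [sub_mul, one_mul]
    rw [h1, h2, ha, F2, ← hn]
  have F9 : c * e1 * c = c := by
    calc c * e1 * c = a * v * (a * e1 * a) * (v * a) := by
          rw [hc]; simp only [mul_assoc]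
      _ = a * v * ((1 - n) * a) * (v * a) := by rw [hae1a]
      _ = a * (v * (1 - n)) * a * (v * a) := by simp only [mul_assoc]
      _ = a * a * (v * a) := by rw [F8', mul_one]
      _ = c := by rw [ha, ← mul_assoc, ← hc]
  refine ⟨?_, ?_, ?_⟩
  · calc a0 * a0 = e1 * c * (e1 * e1) * c * e1 := by rw [ha0]; simp only [mul_assoc]
      _ = e1 * (c * e1 * c) * e1 := by rw [he1]; simp only [mul_assoc]
      _ = a0 := by rw [F9, ← ha0]
  · calc a0 * t = e1 * c * (e1 * t) := by rw [ha0, mul_assoc]
      _ = e1 * (c * t) * e1 := by rw [he1t]; simp only [mul_assoc]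
      _ = (e1 * t) * c * e1 := by rw [hct]; simp only [mul_assoc]
      _ = t * a0 := by rw [he1t, ha0]; simp only [mul_assoc]
  · calc τ (a0 * t) = τ (e1 * (c * e1 * t)) := by rw [ha0]; simp only [mul_assoc]
      _ = τ (c * e1 * t * e1) := hτ _ _
      _ = τ (c * (e1 * e1) * t) := by
          congr 1
          rw [mul_assoc (c * e1), ← he1t]
          simp only [mul_assoc]
      _ = τ (a * (v * a * e1 * t)) := by rw [he1, hc]; simp only [mul_assoc]
      _ = τ (v * a * e1 * t * a) := hτ _ _
      _ = τ (v * (a * e1 * a) * t) := by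
          congr 1
          rw [mul_assoc (v * a * e1), ← hat]
          simp only [mul_assoc]
      _ = τ (v * (1 - n) * a * t) := by rw [hae1a]; simp only [mul_assoc]
      _ = τ (a * t) := by rw [F8', one_mul]

end corner

end Cfsg.Agent.Helper16
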