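import Mathlib
import Cfsg.Prelude.Def_Blocks
import Cfsg.Agent.Lib.Helper77.LocalRing
import Cfsg.Agent.Lib.Helper16.IdemTrace
import Cfsg.Agent.Lib.Helper16.PIndex
import Cfsg.Agent.Lib.Helper16.Corner

set_option autoImplicit false
set_option linter.unusedSectionVars false
set_option linter.style.haveILetI false

namespace Cfsg.Agent.Helper16

open Cfsg Cfsg.Agent.Helper77

section inv

variable {M : Ideal AlgInt} [hp : M.IsPrime]

/-- The determinant of a matrix with local-ring entries is in the local ring. -/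
theorem memLocalRing_det {n : Type*} [Fintype n] [DecidableEq n]
    (A : Matrix n n ℂ) (hA : ∀ i j, MemLocalRing M (A i j)) : MemLocalRing M A.det := by
  have hne : M ≠ ⊤ := hp.ne_top
  rw [Matrix.det_apply]
  apply memLocalRing_sum
  intro σ _
  have hprod : MemLocalRing M (∏ i, A (σ i) i) := memLocalRing_prod _ _ fun i _ => hA _ _
  rcases Int.units_eq_one_or (Equiv.Perm.sign σ) with h | h
  · rw [h, one_smul]; exact hprod
  · rw [h]
    have := memLocalRing_neg hprod
    simpa using this

/-- A matrix congruent to the identity modulo the local ideal is invertible, with inverse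
having local-ring entries. -/
theorem memLocalRing_inv_one_add {n : Type*} [Fintype n] [DecidableEq n]
    (Z : Matrix n n ℂ) (hZ : ∀ i j, MemLocalIdeal M (Z i j)) :
    (1 + Z).det ≠ 0 ∧ ∀ i j, MemLocalRing M ((1 + Z)⁻¹ i j) := by
  have hne : M ≠ ⊤ := hp.ne_top
  have hR : ∀ i j, MemLocalRing M ((1 + Z) i j) := by
    intro i j
    rw [Matrix.add_apply]
    apply memLocalRing_add _ (memLocalRing_of_memLocalIdeal (hZ i j))
    rw [Matrix.one_apply]
    split_ifs
    · exact memLocalRing_one hne
    · exact memLocalRing_zero hne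
  have h1 := memLocalIdeal_det_one_add_sub_one Z hZ
  have hdetR := memLocalRing_det (1 + Z) hR
  have hdetI : ¬ MemLocalIdeal M (1 + Z).det := by
    intro h
    have := memLocalIdeal_sub h h1
    rw [sub_sub_cancel] at this
    exact not_memLocalIdeal_one this
  have hdet : (1 + Z).det ≠ 0 := by
    intro h0
    apply hdetI
    rw [h0]
    exact memLocalIdeal_zero hne
  refine ⟨hdet, ?_⟩
  intro i j
  rw [Matrix.inv_def, Matrix.smul_apply, Ring.inverse_eq_inv', smul_eq_mul]
  apply memLocalRing_mul (memLocalRing_inv hdetR hdetI)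
  rw [Matrix.adjugate_apply]
  apply memLocalRing_det
  intro k l
  rw [Matrix.updateRow_apply]
  split_ifs
  · rw [Pi.single_apply]
    split_ifs
    · exact memLocalRing_one hne
    · exact memLocalRing_zero hne
  · exact hR k l

end inv

section twisted

variable {p : ℕ} {M : Ideal AlgInt}

/-- **Twisted trace lemma**: two idempotent matrices with local-ring entries, congruent modulo the
local ideal and both commuting with a matrix `T`, have the same trace against `T`. -/
theorem trace_mul_eq_of_idem_congr {n : Type*} [Fintype n] [DecidableEq n] (hM : IsPModular p M)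
    (A A' T : Matrix n n ℂ) (hA : A * A = A) (hA' : A' * A' = A')
    (hR : ∀ i j, MemLocalRing M (A i j))
    (hcong : ∀ i j, MemLocalIdeal M (A' i j - A i j))
    (hAT : A * T = T * A) (hA'T : A' * T = T * A') : (A' * T).trace = (A * T).trace := by
  have := isPrime_of_isPModular hM
  have hne := ne_top_of_isPModular hM
  set Δ : Matrix n n ℂ := A' - A with hΔ
  set Z : Matrix n n ℂ := 2 • (Δ * A) - Δ with hZdef
  set W : Matrix n n ℂ := A' * A + (1 - A') * (1 - A) with hW
  have hA'eq : A' = A + Δ := by rw [hΔ]; abel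
  have hWZ : W = 1 + Z := by
    rw [hW, hZdef, hA'eq]
    have : (A + Δ) * A + (1 - (A + Δ)) * (1 - A)
        = 1 + (2 • (A * A) - 2 • A) + (2 • (Δ * A) - Δ) := by
      noncomm_ring
    rw [this, hA]
    simp
  have hΔI : ∀ i j, MemLocalIdeal M (Δ i j) := fun i j => by
    rw [hΔ, Matrix.sub_apply]; exact hcong i j
  have hZI : ∀ i j, MemLocalIdeal M (Z i j) := by
    intro i j
    rw [hZdef, Matrix.sub_apply, Matrix.smul_apply, Matrix.mul_apply]
    apply memLocalIdeal_sub _ (hΔI i j)
    rw [nsmul_eq_mul]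
    apply memLocalIdeal_mul_left (memLocalRing_natCast 2)
    apply memLocalIdeal_sum
    intro k _
    exact memLocalIdeal_mul_right (hΔI i k) (hR k j)
  have hdet : W.det ≠ 0 := by
    rw [hWZ]
    exact (memLocalRing_inv_one_add Z hZI).1
  have hcomm : A' * W = W * A := by
    rw [hW]
    have e1 : A' * (A' * A + (1 - A') * (1 - A)) = A' * A' * A + (A' - A' * A') * (1 - A) := by
      noncomm_ring
    have e2 : (A' * A + (1 - A') * (1 - A)) * A = A' * (A * A) + (1 - A') * (A - A * A) := by
      noncomm_ring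
    rw [e1, e2, hA, hA']
    simp
  have hWT : W * T = T * W := by
    rw [hW]
    have e1 : (A' * A + (1 - A') * (1 - A)) * T
        = A' * (A * T) + (1 - A') * (T - A * T) := by noncomm_ring
    have e2 : T * (A' * A + (1 - A') * (1 - A))
        = (T * A') * A + (T - T * A') * (1 - A) := by noncomm_ring
    rw [e1, e2, hAT, ← hA'T]
    have e3 : A' * (T * A) = (A' * T) * A := by rw [Matrix.mul_assoc]
    have e4 : (1 - A') * (T - T * A) = (T - A' * T) * (1 - A) := by
      rw [hA'T]
      have : (1 - A') * (T - T * A) = T - A' * T - (T * A - A' * T * A) := by noncomm_ring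
      rw [this, hA'T]
      noncomm_ring
    rw [e3, e4]
  have hunit : IsUnit W.det := isUnit_iff_ne_zero.mpr hdet
  have hA'W : A' = W * A * W⁻¹ := by
    rw [← hcomm, Matrix.mul_assoc, Matrix.mul_nonsing_inv W hunit, Matrix.mul_one]
  have hTW : W⁻¹ * T = T * W⁻¹ := by
    calc W⁻¹ * T = W⁻¹ * T * (W * W⁻¹) := by
          rw [Matrix.mul_nonsing_inv W hunit, Matrix.mul_one]
      _ = W⁻¹ * (T * W) * W⁻¹ := by simp only [Matrix.mul_assoc]
      _ = W⁻¹ * (W * T) * W⁻¹ := by rw [hWT]
      _ = (W⁻¹ * W) * T * W⁻¹ := by simp only [Matrix.mul_assoc]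
      _ = T * W⁻¹ := by rw [Matrix.nonsing_inv_mul W hunit, Matrix.one_mul]
  calc (A' * T).trace = (W * A * W⁻¹ * T).trace := by rw [← hA'W]
    _ = (W * A * (T * W⁻¹)).trace := by rw [Matrix.mul_assoc (W * A), hTW]
    _ = (W * (A * T) * W⁻¹).trace := by simp only [Matrix.mul_assoc]
    _ = (W⁻¹ * (W * (A * T))).trace := by rw [Matrix.trace_mul_comm]
    _ = (A * T).trace := by
        rw [← Matrix.mul_assoc, Matrix.nonsing_inv_mul W hunit, Matrix.one_mul]

end twisted

section deg

theorem perm_pow_fix_of_eq {X : Type*} (ρ : Equiv.Perm X) (r : X) {a b : ℕ} (hab : a ≤ b)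
    (h : (ρ ^ a) r = (ρ ^ b) r) : (ρ ^ (b - a)) r = r := by
  have hb : b = a + (b - a) := by omega
  rw [hb, pow_add, Equiv.Perm.mul_apply] at h
  exact ((ρ ^ a).injective h).symm

/-- A degree function on the points whose stabilizer lies inside `⟨ρ ^ p⟩`. -/
theorem exists_deg {X : Type*} [Finite X] (p : ℕ) (ρ : Equiv.Perm X) :
    ∃ deg : X → ZMod p,
      ∀ x : X, (∀ i : ℕ, (ρ ^ i) x = x → p ∣ i) → deg (ρ x) = deg x + 1 := by
  classical
  let s := Equiv.Perm.SameCycle.setoid ρ
  let rep : X → X := fun x => Quotient.out (Quotient.mk s x)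
  have hrep : ∀ x, Equiv.Perm.SameCycle ρ (rep x) x := fun x => Quotient.mk_out (s := s) x
  have hex : ∀ x, ∃ i : ℕ, (ρ ^ i) (rep x) = x := fun x => (hrep x).exists_nat_pow_eq
  choose k hk using hex
  refine ⟨fun x => (k x : ZMod p), ?_⟩
  intro x hx
  have hrepeq : rep (ρ x) = rep x := by
    show Quotient.out (Quotient.mk s (ρ x)) = Quotient.out (Quotient.mk s x)
    congr 1
    exact Quotient.sound (Equiv.Perm.sameCycle_apply_left.2 (Equiv.Perm.SameCycle.refl ρ x))
  have h1 : (ρ ^ (k (ρ x))) (rep x) = (ρ ^ (k x + 1)) (rep x) := by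
    rw [← hrepeq, hk (ρ x), hrepeq, pow_succ', Equiv.Perm.mul_apply, hk x]
  have hstab : ∀ j : ℕ, (ρ ^ j) (rep x) = rep x → p ∣ j := by
    intro j hj
    apply hx
    have : (ρ ^ j) ((ρ ^ (k x)) (rep x)) = (ρ ^ (k x)) (rep x) := by
      rw [← Equiv.Perm.mul_apply, ← pow_add, add_comm, pow_add, Equiv.Perm.mul_apply, hj]
    rwa [hk x] at this
  show ((k (ρ x) : ℕ) : ZMod p) = (k x : ZMod p) + 1
  have hcast : ((k x : ℕ) : ZMod p) + 1 = ((k x + 1 : ℕ) : ZMod p) := by push_cast; rfl
  rw [hcast, ZMod.natCast_eq_natCast_iff]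
  rcases le_total (k (ρ x)) (k x + 1) with hle | hle
  · have := hstab _ (perm_pow_fix_of_eq ρ (rep x) hle h1)
    exact (Nat.modEq_iff_dvd' hle).2 this
  · have := hstab _ (perm_pow_fix_of_eq ρ (rep x) hle h1.symm)
    exact ((Nat.modEq_iff_dvd' hle).2 this).symm

end deg

section perm

variable {p : ℕ} {M : Ideal AlgInt}

/-- The permutation matrix used for traces: `permT ρ y x = 1` iff `x = ρ y`. -/
def permT {X : Type*} [DecidableEq X] (ρ : Equiv.Perm X) : Matrix X X ℂ :=
  Matrix.of fun y x => if x = ρ y then 1 else 0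

theorem mul_permT_apply {X : Type*} [Fintype X] [DecidableEq X] (ρ : Equiv.Perm X)
    (A : Matrix X X ℂ) (x z : X) : (A * permT ρ) x z = A x (ρ.symm z) := by
  rw [Matrix.mul_apply, Finset.sum_eq_single (ρ.symm z)]
  · simp [permT]
  · intro y _ hy
    have : z ≠ ρ y := by
      intro h
      apply hy
      rw [h, Equiv.symm_apply_apply]
    simp [permT, this]
  · intro h; exact absurd (Finset.mem_univ _) h

theorem permT_mul_apply {X : Type*} [Fintype X] [DecidableEq X] (ρ : Equiv.Perm X)
    (A : Matrix X X ℂ) (x z : X) : (permT ρ * A) x z = A (ρ x) z := by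
  rw [Matrix.mul_apply, Finset.sum_eq_single (ρ x)]
  · simp [permT]
  · intro y _ hy
    simp [permT, hy]
  · intro h; exact absurd (Finset.mem_univ _) h

theorem trace_mul_permT {X : Type*} [Fintype X] [DecidableEq X] (ρ : Equiv.Perm X)
    (A : Matrix X X ℂ) : (A * permT ρ).trace = ∑ x, A (ρ x) x := by
  unfold Matrix.trace
  simp only [Matrix.diag_apply, mul_permT_apply]
  rw [← Equiv.sum_comp ρ]
  refine Finset.sum_congr rfl fun x _ => ?_
  rw [Equiv.symm_apply_apply]

theorem mul_permT_comm {X : Type*} [Fintype X] [DecidableEq X] (ρ : Equiv.Perm X)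
    (A : Matrix X X ℂ) (h : ∀ x y, A (ρ x) (ρ y) = A x y) : A * permT ρ = permT ρ * A := by
  ext x z
  rw [mul_permT_apply, permT_mul_apply]
  have := h x (ρ.symm z)
  rw [Equiv.apply_symm_apply] at this
  exact this.symm

/-- **Free case**: an idempotent with local-ring entries, invariant under the permutation `ρ` and
supported on points whose `⟨ρ⟩`-stabilizer lies in `⟨ρ ^ p⟩`, has zero trace against `ρ`. -/
theorem trace_perm_eq_zero_of_supported (hM : IsPModular p M) {X : Type*} [Fintype X]
    [DecidableEq X] (ρ : Equiv.Perm X) (a : Matrix X X ℂ)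
    (haR : ∀ x y, MemLocalRing M (a x y)) (hidem : a * a = a)
    (hinv : ∀ x y, a (ρ x) (ρ y) = a x y)
    (hsupp : ∀ x y, a x y ≠ 0 →
      (∀ i : ℕ, (ρ ^ i) x = x → p ∣ i) ∧ (∀ i : ℕ, (ρ ^ i) y = y → p ∣ i)) :
    ∑ x, a (ρ x) x = 0 := by
  classical
  have hpr := isPrime_of_isPModular hM
  have hne := ne_top_of_isPModular hM
  have hp : p.Prime := hM.1
  haveI : NeZero p := ⟨hp.ne_zero⟩
  obtain ⟨deg, hdeg⟩ := exists_deg p ρ
  set ψ : AddChar (ZMod p) ℂ := ZMod.stdAddChar with hψ
  have hψpow : ∀ t : ZMod p, ψ t ^ (p ^ 1) = 1 := by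
    intro t
    rw [pow_one, ← AddChar.map_nsmul_eq_pow]
    have : p • t = 0 := by rw [nsmul_eq_mul, ZMod.natCast_self, zero_mul]
    rw [this, AddChar.map_zero_eq_one]
  have hψI : ∀ t : ZMod p, MemLocalIdeal M (ψ t - 1) := fun t =>
    memLocalIdeal_sub_one_of_pow_eq_one hM _ 1 (hψpow t)
  have hψR : ∀ t : ZMod p, MemLocalRing M (ψ t) := by
    intro t
    have := memLocalRing_add (memLocalRing_of_memLocalIdeal (hψI t)) (memLocalRing_one hne)
    simpa using this
  have hω : ψ 1 ≠ 1 := by
    intro h1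
    rw [← AddChar.map_zero_eq_one ψ] at h1
    have := ZMod.injective_stdAddChar h1
    have h2 : (1 : ZMod p) ≠ 0 := by
      haveI : Fact (1 < p) := ⟨hp.one_lt⟩
      exact one_ne_zero
    exact h2 this
  set a' : Matrix X X ℂ := Matrix.of fun x y => ψ (deg x - deg y) * a x y with ha'
  have ha'apply : ∀ x y, a' x y = ψ (deg x - deg y) * a x y := fun x y => rfl
  have ha'idem : a' * a' = a' := by
    ext x z
    rw [Matrix.mul_apply, ha'apply]
    have h1 : ∀ y, a' x y * a' y z = ψ (deg x - deg z) * (a x y * a y z) := by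
      intro y
      rw [ha'apply, ha'apply]
      have : ψ (deg x - deg z) = ψ (deg x - deg y) * ψ (deg y - deg z) := by
        rw [← AddChar.map_add_eq_mul]
        congr 1
        ring
      rw [this]
      ring
    simp_rw [h1]
    rw [← Finset.mul_sum, ← Matrix.mul_apply, hidem]
  have ha'cong : ∀ x y, MemLocalIdeal M (a' x y - a x y) := by
    intro x y
    rw [ha'apply]
    have : ψ (deg x - deg y) * a x y - a x y = (ψ (deg x - deg y) - 1) * a x y := by ring
    rw [this]
    exact memLocalIdeal_mul_right (hψI _) (haR x y)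
  have ha'inv : ∀ x y, a' (ρ x) (ρ y) = a' x y := by
    intro x y
    rw [ha'apply, ha'apply, hinv]
    by_cases h0 : a x y = 0
    · rw [h0, mul_zero, mul_zero]
    · obtain ⟨hx, hy⟩ := hsupp x y h0
      rw [hdeg x hx, hdeg y hy]
      congr 2
      ring
  have hK := trace_mul_eq_of_idem_congr hM a a' (permT ρ) hidem ha'idem haR ha'cong
    (mul_permT_comm ρ a hinv) (mul_permT_comm ρ a' ha'inv)
  rw [trace_mul_permT, trace_mul_permT] at hK
  have h2 : ∑ x, a' (ρ x) x = ψ 1 * ∑ x, a (ρ x) x := by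
    rw [Finset.mul_sum]
    refine Finset.sum_congr rfl fun x _ => ?_
    rw [ha'apply]
    by_cases h0 : a (ρ x) x = 0
    · rw [h0, mul_zero, mul_zero]
    · obtain ⟨_, hx⟩ := hsupp (ρ x) x h0
      rw [hdeg x hx]
      congr 2
      ring
  rw [h2] at hK
  have h3 : (ψ 1 - 1) * ∑ x, a (ρ x) x = 0 := by
    rw [sub_mul, one_mul, hK, sub_self]
  exact (mul_eq_zero.1 h3).resolve_left (sub_ne_zero.2 hω)

end perm

section general

variable {p : ℕ} {M : Ideal AlgInt}

theorem rmat_mul [hpr : M.IsPrime] {X : Type*} [Fintype X] {A B : Matrix X X ℂ}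
    (hA : ∀ i j, MemLocalRing M (A i j)) (hB : ∀ i j, MemLocalRing M (B i j)) :
    ∀ i j, MemLocalRing M ((A * B) i j) := by
  intro i j
  rw [Matrix.mul_apply]
  exact memLocalRing_sum _ _ fun k _ => memLocalRing_mul (hA i k) (hB k j)

theorem imat_mul_left [hpr : M.IsPrime] {X : Type*} [Fintype X] {A B : Matrix X X ℂ}
    (hA : ∀ i j, MemLocalRing M (A i j)) (hB : ∀ i j, MemLocalIdeal M (B i j)) :
    ∀ i j, MemLocalIdeal M ((A * B) i j) := by
  intro i j
  rw [Matrix.mul_apply]
  exact memLocalIdeal_sum _ _ fun k _ => memLocalIdeal_mul_left (hA i k) (hB k j)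

theorem imat_mul_right [hpr : M.IsPrime] {X : Type*} [Fintype X] {A B : Matrix X X ℂ}
    (hA : ∀ i j, MemLocalIdeal M (A i j)) (hB : ∀ i j, MemLocalRing M (B i j)) :
    ∀ i j, MemLocalIdeal M ((A * B) i j) := by
  intro i j
  rw [Matrix.mul_apply]
  exact memLocalIdeal_sum _ _ fun k _ => memLocalIdeal_mul_right (hA i k) (hB k j)

/-- **General trace-vanishing principle.**  Let `a` be an idempotent matrix with entries in the
local ring, invariant under a permutation `ρ` of the index set.  Suppose the entries `a x y` lie in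
the local ideal whenever both `x` and `y` are fixed by some power `ρ ^ i` with `p ∤ i`.  Then the
trace of `a` against `ρ` vanishes. -/
theorem trace_perm_eq_zero (hM : IsPModular p M) {X : Type*} [Fintype X] [DecidableEq X]
    (ρ : Equiv.Perm X) (a : Matrix X X ℂ)
    (haR : ∀ x y, MemLocalRing M (a x y)) (hidem : a * a = a)
    (hinv : ∀ x y, a (ρ x) (ρ y) = a x y)
    (hfix : ∀ x y, (∃ i : ℕ, ¬ p ∣ i ∧ (ρ ^ i) x = x) → (∃ j : ℕ, ¬ p ∣ j ∧ (ρ ^ j) y = y) →
      MemLocalIdeal M (a x y)) :
    ∑ x, a (ρ x) x = 0 := by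
  classical
  haveI hpr := isPrime_of_isPModular hM
  have hne := ne_top_of_isPModular hM
  set X0 : X → Prop := fun x => ∃ i : ℕ, ¬ p ∣ i ∧ (ρ ^ i) x = x with hX0
  have hX0ρ : ∀ x, X0 (ρ x) ↔ X0 x := by
    intro x
    constructor
    · rintro ⟨i, hi, h⟩
      refine ⟨i, hi, ?_⟩
      have : ρ ((ρ ^ i) x) = ρ x := by
        rw [← Equiv.Perm.mul_apply, ← pow_succ', pow_succ, Equiv.Perm.mul_apply]
        exact h
      exact ρ.injective this
    · rintro ⟨i, hi, h⟩
      refine ⟨i, hi, ?_⟩
      rw [← Equiv.Perm.mul_apply, ← pow_succ, pow_succ', Equiv.Perm.mul_apply, h]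
  set d0 : X → ℂ := fun x => if X0 x then 1 else 0 with hd0
  set d1 : X → ℂ := fun x => if X0 x then 0 else 1 with hd1
  set e : Matrix X X ℂ := Matrix.diagonal d0 with he
  set e1 : Matrix X X ℂ := 1 - e with he1
  have he1diag : e1 = Matrix.diagonal d1 := by
    ext i j
    rw [he1, he, Matrix.sub_apply, Matrix.one_apply, Matrix.diagonal_apply, Matrix.diagonal_apply]
    simp only [hd0, hd1]
    by_cases hij : i = j
    · rw [if_pos hij, if_pos hij, if_pos hij]
      by_cases hi : X0 i
      · rw [if_pos hi, if_pos hi]; ring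
      · rw [if_neg hi, if_neg hi]; ring
    · rw [if_neg hij, if_neg hij, if_neg hij]; ring
  have hd0R : ∀ x, MemLocalRing M (d0 x) := by
    intro x
    simp only [hd0]
    split_ifs
    · exact memLocalRing_one hne
    · exact memLocalRing_zero hne
  have hd1R : ∀ x, MemLocalRing M (d1 x) := by
    intro x
    simp only [hd1]
    split_ifs
    · exact memLocalRing_zero hne
    · exact memLocalRing_one hne
  have hdiagR : ∀ (d : X → ℂ), (∀ x, MemLocalRing M (d x)) →
      ∀ i j, MemLocalRing M (Matrix.diagonal d i j) := by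
    intro d hd i j
    rw [Matrix.diagonal_apply]
    split_ifs
    · exact hd i
    · exact memLocalRing_zero hne
  have heR : ∀ i j, MemLocalRing M (e i j) := hdiagR d0 hd0R
  have he1R : ∀ i j, MemLocalRing M (e1 i j) := by rw [he1diag]; exact hdiagR d1 hd1R
  have hee : e * e = e := by
    rw [he, Matrix.diagonal_mul_diagonal]
    congr 1
    funext x
    simp only [hd0]
    split_ifs <;> simp
  have heinv : ∀ x y, e (ρ x) (ρ y) = e x y := by
    intro x y
    rw [he, Matrix.diagonal_apply, Matrix.diagonal_apply]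
    by_cases hxy : x = y
    · subst hxy
      rw [if_pos rfl, if_pos rfl]
      simp only [hd0]
      by_cases hx : X0 x
      · rw [if_pos hx, if_pos ((hX0ρ x).2 hx)]
      · rw [if_neg hx, if_neg (fun h => hx ((hX0ρ x).1 h))]
    · rw [if_neg hxy, if_neg (fun h => hxy (ρ.injective h))]
  set T := permT ρ with hT
  have hat : a * T = T * a := mul_permT_comm ρ a hinv
  have het : e * T = T * e := mul_permT_comm ρ e heinv
  set n : Matrix X X ℂ := a * e * a with hn
  have hnR : ∀ i j, MemLocalRing M (n i j) := rmat_mul (rmat_mul haR heR) haR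
  have heae : ∀ i j, MemLocalIdeal M ((e * a * e) i j) := by
    intro i j
    rw [he, Matrix.mul_diagonal, Matrix.diagonal_mul]
    simp only [hd0]
    by_cases hi : X0 i
    · by_cases hj : X0 j
      · rw [if_pos hi, if_pos hj, one_mul, mul_one]
        exact hfix i j hi hj
      · rw [if_neg hj, mul_zero]
        exact memLocalIdeal_zero hne
    · rw [if_neg hi, zero_mul, zero_mul]
      exact memLocalIdeal_zero hne
  have hnn : n * n = a * (e * a * e) * a := by
    rw [hn]
    calc a * e * a * (a * e * a) = a * e * (a * a) * e * a := by simp only [Matrix.mul_assoc]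
      _ = a * (e * a * e) * a := by rw [hidem]; simp only [Matrix.mul_assoc]
  have hnnI : ∀ i j, MemLocalIdeal M ((n * n) i j) := by
    rw [hnn]
    exact imat_mul_right (imat_mul_left haR heae) haR
  set Z : Matrix X X ℂ := -(n * n) with hZ
  have hZI : ∀ i j, MemLocalIdeal M (Z i j) := by
    intro i j
    rw [hZ, Matrix.neg_apply]
    exact memLocalIdeal_neg (hnnI i j)
  obtain ⟨hdet, hwR⟩ := memLocalRing_inv_one_add Z hZI
  set N : Matrix X X ℂ := 1 + Z with hNdef
  have hN : N = 1 - n * n := by rw [hNdef, hZ, sub_eq_add_neg]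
  have hunit : IsUnit N.det := isUnit_iff_ne_zero.mpr hdet
  set w : Matrix X X ℂ := N⁻¹ with hw
  have hNw : N * w = 1 := Matrix.mul_nonsing_inv N hunit
  have hwN : w * N = 1 := Matrix.nonsing_inv_mul N hunit
  set v : Matrix X X ℂ := (1 + n) * w with hv
  set c : Matrix X X ℂ := a * v * a with hc
  set a0 : Matrix X X ℂ := e1 * c * e1 with ha0
  obtain ⟨h0idem, h0T, h0tr⟩ := corner_reduction (Matrix.traceAddMonoidHom X ℂ)
    (fun x y => Matrix.trace_mul_comm x y) a e T w n N v e1 c a0 hidem hee hat het hn hN hNw hwN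
    hv he1 hc ha0
  have h1R : ∀ i j, MemLocalRing M ((1 : Matrix X X ℂ) i j) := by
    intro i j
    rw [Matrix.one_apply]
    split_ifs
    · exact memLocalRing_one hne
    · exact memLocalRing_zero hne
  have hvR : ∀ i j, MemLocalRing M (v i j) := by
    apply rmat_mul _ hwR
    intro i j
    rw [Matrix.add_apply]
    exact memLocalRing_add (h1R i j) (hnR i j)
  have hcR : ∀ i j, MemLocalRing M (c i j) := rmat_mul (rmat_mul haR hvR) haR
  have h0R : ∀ i j, MemLocalRing M (a0 i j) := rmat_mul (rmat_mul he1R hcR) he1R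
  have h0inv : ∀ x y, a0 (ρ x) (ρ y) = a0 x y := by
    intro x y
    have := congrFun (congrFun h0T x) (ρ y)
    rw [mul_permT_apply, permT_mul_apply, Equiv.symm_apply_apply] at this
    exact this.symm
  have h0apply : ∀ x y, a0 x y = d1 x * c x y * d1 y := by
    intro x y
    rw [ha0, he1diag, Matrix.mul_diagonal, Matrix.diagonal_mul]
  have hnotX0 : ∀ x, ¬ X0 x → ∀ i : ℕ, (ρ ^ i) x = x → p ∣ i := by
    intro x hx i hi
    by_contra hpi
    exact hx ⟨i, hpi, hi⟩
  have h0supp : ∀ x y, a0 x y ≠ 0 →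
      (∀ i : ℕ, (ρ ^ i) x = x → p ∣ i) ∧ (∀ i : ℕ, (ρ ^ i) y = y → p ∣ i) := by
    intro x y hxy
    rw [h0apply] at hxy
    constructor
    · apply hnotX0
      intro hx
      apply hxy
      simp only [hd1]
      rw [if_pos hx, zero_mul, zero_mul]
    · apply hnotX0
      intro hy
      apply hxy
      simp only [hd1]
      rw [if_pos hy, mul_zero]
  have hfree := trace_perm_eq_zero_of_supported hM ρ a0 h0R h0idem h0inv h0supp
  have h0tr' : (a0 * T).trace = (a * T).trace := h0tr
  rw [hT, trace_mul_permT, trace_mul_permT, hfree] at h0tr'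
  exact h0tr'.symm

end general

end Cfsg.Agent.Helper16
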