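import Mathlib
import Cfsg.Prelude.Def_Blocks
import Cfsg.Agent.Lib.Helper77.BlockIdem
import Cfsg.Agent.Lib.Helper16.PermTrace

set_option autoImplicit false
set_option linter.unusedSectionVars false
set_option linter.style.haveILetI false

namespace Cfsg.Agent.Helper16

open Cfsg Cfsg.Agent.Helper77

section grp

variable {G : Type*} [Group G] [Fintype G] {p : ℕ} {M : Ideal AlgInt}

/-- The permutation `w ↦ h⁻¹ * w * g` of a group. -/
def twoSided (h g : G) : Equiv.Perm G := (Equiv.mulLeft h⁻¹).trans (Equiv.mulRight g)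

theorem twoSided_apply (h g w : G) : twoSided h g w = h⁻¹ * w * g := rfl

theorem twoSided_pow_apply (h g w : G) (i : ℕ) :
    ((twoSided h g) ^ i) w = (h⁻¹) ^ i * w * g ^ i := by
  induction i with
  | zero => simp
  | succ i ih =>
    rw [pow_succ', Equiv.Perm.mul_apply, ih, twoSided_apply, pow_succ', pow_succ]
    simp only [mul_assoc]

theorem twoSided_pow_fix_iff (h g w : G) (i : ℕ) :
    ((twoSided h g) ^ i) w = w ↔ w * g ^ i = h ^ i * w := by
  rw [twoSided_pow_apply, inv_pow]
  constructor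
  · intro hh
    calc w * g ^ i = h ^ i * ((h ^ i)⁻¹ * w * g ^ i) := by group
      _ = h ^ i * w := by rw [hh]
  · intro hh
    calc (h ^ i)⁻¹ * w * g ^ i = (h ^ i)⁻¹ * (w * g ^ i) := by group
      _ = w := by rw [hh]; group

/-- **Trace vanishing, group form.**  Let `u` be an idempotent of the group algebra with
local-ring coefficients commuting with `h`.  If `u (w * w'⁻¹)` lies in the local ideal whenever
`w, w'` both conjugate a `p'`-power of `g` to the same power of `h`, then
`∑ w, u (h⁻¹ * w * g * w⁻¹) = 0`. -/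
theorem sum_twoSided_eq_zero (hM : IsPModular p M) (u : G → ℂ) (huR : IsRValued M u)
    (hidem : conv u u = u) (g h : G) (hinv : ∀ y : G, u (h⁻¹ * y * h) = u y)
    (hfix : ∀ w w' : G, (∃ i : ℕ, ¬ p ∣ i ∧ w * g ^ i = h ^ i * w) →
      (∃ j : ℕ, ¬ p ∣ j ∧ w' * g ^ j = h ^ j * w') → MemLocalIdeal M (u (w * w'⁻¹))) :
    ∑ w : G, u (h⁻¹ * w * g * w⁻¹) = 0 := by
  classical
  set a : Matrix G G ℂ := Matrix.of fun w w' => u (w * w'⁻¹) with ha
  have haapply : ∀ w w', a w w' = u (w * w'⁻¹) := fun _ _ => rfl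
  have haidem : a * a = a := by
    ext w w''
    rw [Matrix.mul_apply, haapply]
    have h1 : u (w * w''⁻¹) = conv u u (w * w''⁻¹) := by rw [hidem]
    rw [h1]
    unfold conv
    rw [← Equiv.sum_comp ((Equiv.inv G).trans (Equiv.mulRight w))]
    refine Finset.sum_congr rfl fun y _ => ?_
    simp only [Equiv.trans_apply, Equiv.inv_apply, Equiv.coe_mulRight, haapply]
    have e1 : w * (y⁻¹ * w)⁻¹ = y := by group
    have e2 : y⁻¹ * w * w''⁻¹ = y⁻¹ * (w * w''⁻¹) := by group
    rw [e1, e2]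
  have hainv : ∀ w w', a (twoSided h g w) (twoSided h g w') = a w w' := by
    intro w w'
    rw [haapply, haapply, twoSided_apply, twoSided_apply, ← hinv (w * w'⁻¹)]
    congr 1
    group
  have hafix : ∀ w w', (∃ i : ℕ, ¬ p ∣ i ∧ ((twoSided h g) ^ i) w = w) →
      (∃ j : ℕ, ¬ p ∣ j ∧ ((twoSided h g) ^ j) w' = w') → MemLocalIdeal M (a w w') := by
    rintro w w' ⟨i, hi, hiw⟩ ⟨j, hj, hjw⟩
    rw [haapply]
    exact hfix w w' ⟨i, hi, (twoSided_pow_fix_iff h g w i).1 hiw⟩
      ⟨j, hj, (twoSided_pow_fix_iff h g w' j).1 hjw⟩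
  have := trace_perm_eq_zero hM (twoSided h g) a (fun w w' => huR _) haidem hainv hafix
  simp only [haapply, twoSided_apply] at this
  exact this

end grp

end Cfsg.Agent.Helper16
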