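import Mathlib
import Cfsg.Prelude.Def_Blocks

set_option autoImplicit false
set_option linter.unusedSectionVars false
set_option linter.style.haveILetI false

namespace Cfsg.Agent.Helper16

open Cfsg

section ppart

variable {G : Type*} [Group G] {p : ℕ}

/-- Every element of a finite group has a `p`-part. -/
theorem exists_isPPart [Finite G] (hp : p.Prime) (g : G) : ∃ x, IsPPart p g x := by
  obtain ⟨a, m, hm, hn⟩ := Nat.exists_eq_pow_mul_and_not_dvd (orderOf_pos g).ne' p hp.ne_one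
  have hcop : Nat.Coprime (p ^ a) m := ((Nat.Prime.coprime_iff_not_dvd hp).2 hm).pow_left a
  obtain ⟨k, hk1, hk2⟩ := Nat.chineseRemainder hcop 1 0
  obtain ⟨k', hk'1, hk'2⟩ := Nat.chineseRemainder hcop 0 1
  refine ⟨g ^ k, g ^ k', ?_, ?_, ?_, ?_⟩
  · rw [← pow_add]
    conv_rhs => rw [← pow_one g]
    rw [pow_eq_pow_iff_modEq, hn]
    apply (Nat.modEq_and_modEq_iff_modEq_mul hcop).1
    constructor
    · have := hk1.add hk'1
      simpa using this
    · have := hk2.add hk'2
      simpa using this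
  · exact (Commute.refl g).pow_pow k k'
  · have h1 : (g ^ k) ^ (p ^ a) = 1 := by
      rw [← pow_mul, ← orderOf_dvd_iff_pow_eq_one, hn, mul_comm k]
      exact Nat.mul_dvd_mul_left _ ((Nat.modEq_zero_iff_dvd).1 hk2)
    have h2 := orderOf_dvd_of_pow_eq_one h1
    obtain ⟨j, _, hj⟩ := (Nat.dvd_prime_pow hp).1 h2
    exact ⟨j, hj⟩
  · have h1 : (g ^ k') ^ m = 1 := by
      rw [← pow_mul, ← orderOf_dvd_iff_pow_eq_one, hn]
      exact Nat.mul_dvd_mul ((Nat.modEq_zero_iff_dvd).1 hk'1) dvd_rfl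
    have h2 := orderOf_dvd_of_pow_eq_one h1
    intro h3
    exact hm (h3.trans h2)

/-- If `w` conjugates a `p'`-power of `g` to the same power of `h`, it conjugates the `p`-part of
`g` to that of `h`. -/
theorem semiconj_ppart (hp : p.Prime) {g h x y w : G} (hx : IsPPart p g x) (hy : IsPPart p h y)
    {i : ℕ} (hi : ¬ p ∣ i) (hw : w * g ^ i = h ^ i * w) : w * x = y * w := by
  obtain ⟨s, hxs, hcxs, ⟨a, ha⟩, hs⟩ := hx
  obtain ⟨t, hyt, hcyt, ⟨b, hb⟩, ht⟩ := hy
  set K := orderOf s * orderOf t with hK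
  set N := i * K with hN
  have hNp : ¬ p ∣ N := by
    intro h
    rcases (Nat.Prime.dvd_mul hp).1 h with h | h
    · exact hi h
    · rcases (Nat.Prime.dvd_mul hp).1 h with h | h
      · exact hs h
      · exact ht h
  have hsc : SemiconjBy w (g ^ i) (h ^ i) := hw
  have hsc2 : SemiconjBy w ((g ^ i) ^ K) ((h ^ i) ^ K) := hsc.pow_right K
  rw [← pow_mul, ← pow_mul, ← hN] at hsc2
  have hgN : g ^ N = x ^ N := by
    rw [← hxs, hcxs.mul_pow]
    have : s ^ N = 1 := by
      rw [← orderOf_dvd_iff_pow_eq_one, hN, hK]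
      exact Dvd.dvd.mul_left (Dvd.intro _ rfl) _
    rw [this, mul_one]
  have hhN : h ^ N = y ^ N := by
    rw [← hyt, hcyt.mul_pow]
    have : t ^ N = 1 := by
      rw [← orderOf_dvd_iff_pow_eq_one, hN, hK]
      exact Dvd.dvd.mul_left (Dvd.intro_left _ rfl) _
    rw [this, mul_one]
  rw [hgN, hhN] at hsc2
  by_cases hE : a + b = 0
  · have ha0 : a = 0 := by omega
    have hb0 : b = 0 := by omega
    rw [ha0, pow_zero, orderOf_eq_one_iff] at ha
    rw [hb0, pow_zero, orderOf_eq_one_iff] at hb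
    rw [ha, hb, mul_one, one_mul]
  · have hcop : Nat.Coprime N (p ^ (a + b)) :=
      (((Nat.Prime.coprime_iff_not_dvd hp).2 hNp).symm).pow_right _
    have h1lt : 1 < p ^ (a + b) := Nat.one_lt_pow hE hp.one_lt
    obtain ⟨j, _, hj⟩ := Nat.exists_mul_mod_eq_one_of_coprime hcop h1lt
    have hmod : N * j ≡ 1 [MOD p ^ (a + b)] := by
      unfold Nat.ModEq
      rw [hj, Nat.mod_eq_of_lt h1lt]
    have hxj : (x ^ N) ^ j = x := by
      rw [← pow_mul]
      conv_rhs => rw [← pow_one x]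
      rw [pow_eq_pow_iff_modEq, ha]
      exact hmod.of_dvd (pow_dvd_pow p (Nat.le_add_right a b))
    have hyj : (y ^ N) ^ j = y := by
      rw [← pow_mul]
      conv_rhs => rw [← pow_one y]
      rw [pow_eq_pow_iff_modEq, hb]
      exact hmod.of_dvd (pow_dvd_pow p (Nat.le_add_left b a))
    have := hsc2.pow_right j
    rw [hxj, hyj] at this
    exact this

/-- The `p`-part of an element is unique. -/
theorem isPPart_unique (hp : p.Prime) {g z z' : G} (h : IsPPart p g z) (h' : IsPPart p g z') :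
    z = z' := by
  have hpow : ∀ {x : G}, IsPPart p g x → ∃ k : ℕ, x = g ^ k := by
    intro x hx
    obtain ⟨y, hxy, hc, ⟨a, ha⟩, hy⟩ := hx
    have hcop : Nat.Coprime (orderOf y) (orderOf x) := by
      rw [ha]
      exact ((Nat.Prime.coprime_iff_not_dvd hp).2 hy).symm.pow_right a
    obtain ⟨j, hj⟩ := exists_pow_eq_self_of_coprime hcop
    refine ⟨orderOf y * j, ?_⟩
    rw [pow_mul, ← hxy, hc.mul_pow, pow_orderOf_eq_one, mul_one, hj]
  obtain ⟨k, hk⟩ := hpow h
  obtain ⟨k', hk'⟩ := hpow h'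
  obtain ⟨y, hzy, hc, ⟨a, ha⟩, hy⟩ := h
  obtain ⟨y', hzy', hc', ⟨a', ha'⟩, hy'⟩ := h'
  have hzz' : Commute z z' := by
    rw [hk, hk']
    exact (Commute.refl g).pow_pow _ _
  have hzg : Commute z g := by
    rw [hk]
    exact (Commute.refl g).pow_left _
  have hz'g : Commute z' g := by
    rw [hk']
    exact (Commute.refl g).pow_left _
  have hyeq : y = z⁻¹ * g := by rw [← hzy]; group
  have hy'eq : y' = z'⁻¹ * g := by rw [← hzy']; group
  have hyg : Commute y g := by
    rw [hyeq]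
    exact (hzg.inv_left).mul_left (Commute.refl g)
  have hyz' : Commute y z' := by
    rw [hk']
    exact hyg.pow_right _
  have hyy' : Commute y y' := by
    rw [hy'eq]
    exact (hyz'.inv_right).mul_right hyg
  set w := z'⁻¹ * z with hw
  have hw2 : w = y' * y⁻¹ := by
    calc w = z'⁻¹ * (z * y) * y⁻¹ := by rw [hw]; group
      _ = z'⁻¹ * (z' * y') * y⁻¹ := by rw [hzy, hzy']
      _ = y' * y⁻¹ := by group
  have h1 : w ^ (p ^ (a + a')) = 1 := by
    rw [hw, (hzz'.symm.inv_left).mul_pow, inv_pow]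
    have e1 : z ^ (p ^ (a + a')) = 1 := by
      rw [← orderOf_dvd_iff_pow_eq_one, ha]
      exact pow_dvd_pow p (Nat.le_add_right a a')
    have e2 : z' ^ (p ^ (a + a')) = 1 := by
      rw [← orderOf_dvd_iff_pow_eq_one, ha']
      exact pow_dvd_pow p (Nat.le_add_left a' a)
    rw [e1, e2, inv_one, mul_one]
  have h2 : w ^ (orderOf y * orderOf y') = 1 := by
    rw [hw2, (hyy'.symm.inv_right).mul_pow, inv_pow]
    have e1 : y ^ (orderOf y * orderOf y') = 1 := by
      rw [← orderOf_dvd_iff_pow_eq_one]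
      exact Dvd.intro _ rfl
    have e2 : y' ^ (orderOf y * orderOf y') = 1 := by
      rw [← orderOf_dvd_iff_pow_eq_one]
      exact Dvd.intro_left _ rfl
    rw [e1, e2, inv_one, mul_one]
  have hcop : Nat.Coprime (p ^ (a + a')) (orderOf y * orderOf y') := by
    apply Nat.Coprime.pow_left
    apply Nat.Coprime.mul_right
    · exact (Nat.Prime.coprime_iff_not_dvd hp).2 hy
    · exact (Nat.Prime.coprime_iff_not_dvd hp).2 hy'
  have hd1 := orderOf_dvd_of_pow_eq_one h1
  have hd2 := orderOf_dvd_of_pow_eq_one h2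
  have hd3 := Nat.dvd_gcd hd1 hd2
  rw [hcop.gcd_eq_one, Nat.dvd_one, orderOf_eq_one_iff] at hd3
  calc z = z' * w := by rw [hw]; group
    _ = z' := by rw [hd3, mul_one]

theorem isConj_of_semiconj {x y w : G} (h : w * x = y * w) : IsConj x y :=
  isConj_iff.2 ⟨w, by rw [h]; group⟩

end ppart

end Cfsg.Agent.Helper16
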