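import Mathlib
import Cfsg.Prelude.Def_Blocks
import Cfsg.Agent.Lib.Helper16.BrauerVanish
import Cfsg.Agent.Lib.Helper16.GroupTrace
import Cfsg.Agent.Lib.Helper16.PPart
import Cfsg.Agent.Lib.Helper16.NormalSub

set_option autoImplicit false
set_option linter.unusedSectionVars false
set_option linter.style.haveILetI false

namespace Cfsg.Agent.Helper16

open Cfsg Cfsg.Agent.Helper77

universe u

section ppow

variable {G : Type u} [Group G] {p : ℕ}

theorem isPPart_eq_pow (hp : p.Prime) {g x : G} (hx : IsPPart p g x) : ∃ k : ℕ, x = g ^ k := by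
  obtain ⟨y, hxy, hc, ⟨a, ha⟩, hy⟩ := hx
  have hcop : Nat.Coprime (orderOf y) (orderOf x) := by
    rw [ha]
    exact ((Nat.Prime.coprime_iff_not_dvd hp).2 hy).symm.pow_right a
  obtain ⟨j, hj⟩ := exists_pow_eq_self_of_coprime hcop
  refine ⟨orderOf y * j, ?_⟩
  rw [pow_mul, ← hxy, hc.mul_pow, pow_orderOf_eq_one, mul_one, hj]

end ppow

section main

variable {G : Type u} [Group G] [Fintype G] {p : ℕ} {M : Ideal AlgInt}

/-- **Brauer's second main theorem, idempotent form.** -/
theorem second_main_idem [Fact p.Prime] (hM : IsPModular p M) (H : Subgroup G) [Fintype H]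
    {b : Set (IrrCharacter H)} {B : Set (IrrCharacter G)} (hind : IsInducedBlock M H b B)
    (h : H) (hC : ∀ z : G, IsPPart p (h : G) z → Subgroup.centralizer ({z} : Set G) ≤ H)
    (χ : IrrCharacter G) (hχ : χ ∉ B) :
    ∑ k : H, blockCoeff b k * (χ : G → ℂ) ((k : G) * (h : G)) = 0 := by
  classical
  haveI hpr := isPrime_of_isPModular hM
  have hp : p.Prime := hM.1
  obtain ⟨π, hπ⟩ := exists_isPPart hp (h : G)
  obtain ⟨kπ, hkπ⟩ := isPPart_eq_pow hp hπ
  have hπH : π ∈ H := by
    rw [hkπ]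
    exact H.pow_mem h.2 kπ
  have hπord : ∃ k : ℕ, orderOf π = p ^ k := hπ.choose_spec.2.2.1
  have hCH := hC π hπ
  set B' := blockOf M (χ : G → ℂ) with hB'def
  have hB' : IsPBlock M B' := isPBlock_blockOf χ
  have hχB' : χ ∈ B' := mem_blockOf_self χ
  have hne : B' ≠ B := fun h0 => hχ (h0 ▸ hχB')
  have hb := hind.1
  set f := subgroupBlockCoeff H b with hf
  set e' := blockCoeff B' with he'
  set u := conv f e' with hu
  have hfR : IsRValued M f := isRValued_subgroupBlockCoeff H hb
  have he'R : IsRValued M e' := isRValued_blockCoeff hB'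
  have he'cl : IsClassFunction G e' := isClassFunction_blockCoeff B'
  have hfH : ∀ k ∈ H, ∀ x, f (k * x * k⁻¹) = f x :=
    fun k hk x => subgroupBlockCoeff_conj_of_mem H b k hk x
  have he'G : ∀ k x, e' (k * x * k⁻¹) = e' x := fun k x => he'cl x k
  have huH : ∀ k ∈ H, ∀ x, u (k * x * k⁻¹) = u x :=
    fun k hk x => conv_conj_invariant k (hfH k hk) (he'G k) x
  have huR : IsRValued M u := isRValued_conv hfR he'R
  have huidem : conv u u = u := conv_subgroupBlockCoeff_blockCoeff_idem H b B'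
  have hA : ∀ c : G, π * c = c * π → MemLocalIdeal M (u c) := fun c hc =>
    memLocalIdeal_conv_of_induced hM H hind hB' hne π hπord hπH hCH c hc
  have hχcl := isClassFunction_of_isIrrCharacter χ.2
  -- the trace vanishing
  have hvan : ∀ g : G, ∑ w : G, u ((h : G)⁻¹ * w * g * w⁻¹) = 0 := by
    intro g
    refine sum_twoSided_eq_zero hM u huR huidem g (h : G) ?_ ?_
    · intro y
      have := huH (h : G)⁻¹ (H.inv_mem h.2) y
      rw [inv_inv] at this
      exact this
    · rintro w w' ⟨i, hi, hiw⟩ ⟨j, hj, hjw⟩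
      obtain ⟨z, hz⟩ := exists_isPPart hp g
      have h1 := semiconj_ppart hp hz hπ hi hiw
      have h2 := semiconj_ppart hp hz hπ hj hjw
      apply hA
      have h3 : z * w'⁻¹ = w'⁻¹ * π := by
        calc z * w'⁻¹ = w'⁻¹ * (w' * z) * w'⁻¹ := by group
          _ = w'⁻¹ * (π * w') * w'⁻¹ := by rw [h2]
          _ = w'⁻¹ * π := by group
      calc π * (w * w'⁻¹) = (π * w) * w'⁻¹ := by group
        _ = (w * z) * w'⁻¹ := by rw [h1]
        _ = w * (z * w'⁻¹) := by group
        _ = w * (w'⁻¹ * π) := by rw [h3]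
        _ = w * w'⁻¹ * π := by group
  -- (i) the sum against `u`
  have hS : ∑ y : G, u y * (χ : G → ℂ) (y * (h : G)) = 0 := by
    have h1 : ∑ y : G, u y * (χ : G → ℂ) (y * (h : G)) =
        ∑ t : G, u ((h : G)⁻¹ * t) * (χ : G → ℂ) t := by
      rw [← Equiv.sum_comp (Equiv.mulLeft (h : G)⁻¹)]
      refine Finset.sum_congr rfl fun t _ => ?_
      simp only [Equiv.coe_mulLeft]
      congr 1
      have := hχcl t (h : G)⁻¹
      rw [inv_inv] at this
      exact this
    have h2 : ∀ w : G, ∑ t : G, u ((h : G)⁻¹ * t) * (χ : G → ℂ) t =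
        ∑ g : G, u ((h : G)⁻¹ * w * g * w⁻¹) * (χ : G → ℂ) g := by
      intro w
      rw [← Equiv.sum_comp (MulAut.conj w).toEquiv]
      refine Finset.sum_congr rfl fun g _ => ?_
      simp only [MulEquiv.toEquiv_eq_coe, MulEquiv.coe_toEquiv, MulAut.conj_apply]
      rw [hχcl g w]
      congr 2
      group
    have h3 : (Fintype.card G : ℂ) * ∑ t : G, u ((h : G)⁻¹ * t) * (χ : G → ℂ) t = 0 := by
      have : (Fintype.card G : ℂ) * ∑ t : G, u ((h : G)⁻¹ * t) * (χ : G → ℂ) t =
          ∑ _w : G, ∑ t : G, u ((h : G)⁻¹ * t) * (χ : G → ℂ) t := by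
        rw [Finset.sum_const, Finset.card_univ, nsmul_eq_mul]
      rw [this, Finset.sum_congr rfl (fun w _ => h2 w), Finset.sum_comm]
      refine Finset.sum_eq_zero fun g _ => ?_
      rw [← Finset.sum_mul, hvan g, zero_mul]
    have hG : (Fintype.card G : ℂ) ≠ 0 := by exact_mod_cast Fintype.card_ne_zero
    rw [h1]
    exact (mul_eq_zero.1 h3).resolve_left hG
  -- (ii) unfold `u`
  have hω : omega (χ : G → ℂ) e' = 1 := by
    rw [he', omega_blockCoeff, if_pos hχB']
  have hS2 : ∑ y : G, u y * (χ : G → ℂ) (y * (h : G)) =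
      ∑ k : G, f k * (χ : G → ℂ) (k * (h : G)) := by
    simp only [hu, conv]
    simp_rw [Finset.sum_mul]
    rw [Finset.sum_comm]
    refine Finset.sum_congr rfl fun k _ => ?_
    rw [← Equiv.sum_comp (Equiv.mulLeft k)]
    simp only [Equiv.coe_mulLeft, inv_mul_cancel_left, mul_assoc]
    rw [← Finset.mul_sum]
    congr 1
    have h4 : ∀ s : G, (χ : G → ℂ) (k * (s * (h : G))) = (χ : G → ℂ) (s * ((h : G) * k)) := by
      intro s
      have := hχcl (s * ((h : G) * k)) k
      rw [← this]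
      group
    simp_rw [h4]
    rw [sum_mul_char_translate χ.2 he'cl, hω, one_mul]
    have := hχcl ((h : G) * k) k
    rw [← this]
    group
  rw [hS2] at hS
  rw [← hS, ← sum_subgroup_eq H (fun k => f k * (χ : G → ℂ) (k * (h : G)))
    (fun x hx => by rw [hf, subgroupBlockCoeff_eq_extZ, extZ_of_notMem H _ hx, zero_mul])]
  refine Finset.sum_congr rfl fun k _ => ?_
  rw [hf, subgroupBlockCoeff_eq_extZ, extZ_of_mem]

end main

end Cfsg.Agent.Helper16
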