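import Mathlib
import Cfsg.Prelude.Def_Blocks
import Cfsg.Agent.Lib.Helper16.SecondMain
import Cfsg.Agent.Lib.Helper3.CharComplete

set_option autoImplicit false
set_option linter.unusedSectionVars false
set_option linter.style.haveILetI false

namespace Cfsg.Agent.Helper16

open Cfsg Cfsg.Agent.Helper77

universe u

section blockpart

variable {G : Type u} [Group G] [Fintype G]

theorem blockPart_eq_finset (B : Set (IrrCharacter G)) (ϑ : G → ℂ)
    (u : G) : blockPart B ϑ u =
      ∑ χ ∈ (Set.toFinite B).toFinset, classInner ϑ (χ : G → ℂ) * (χ : G → ℂ) u := by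
  unfold blockPart
  rw [finsum_mem_eq_finite_toFinset_sum _ (Set.toFinite B)]
  refine Finset.sum_congr rfl fun χ _ => ?_
  congr 1
  unfold classInner
  congr!

/-- The `B`-part of a class function is obtained by multiplying with the block idempotent. -/
theorem blockPart_eq_sum_blockCoeff (B : Set (IrrCharacter G)) {ϑ : G → ℂ}
    (hϑ : IsClassFunction G ϑ) (y : G) :
    blockPart B ϑ y = ∑ k : G, blockCoeff B k * ϑ (k * y) := by
  classical
  have hexp := Cfsg.Agent.Helper3.classFunction_eq_sum ϑ hϑ
  have h1 : ∀ k : G, ϑ (k * y) =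
      ∑ ψ : IrrCharacter G, classInner ϑ (ψ : G → ℂ) * (ψ : G → ℂ) (k * y) := by
    intro k
    conv_lhs => rw [hexp]
    rw [Finset.sum_apply]
    rfl
  simp_rw [h1, Finset.mul_sum]
  rw [Finset.sum_comm]
  have h2 : ∀ ψ : IrrCharacter G,
      ∑ k : G, blockCoeff B k * (classInner ϑ (ψ : G → ℂ) * (ψ : G → ℂ) (k * y)) =
      classInner ϑ (ψ : G → ℂ) * ((if ψ ∈ B then 1 else 0) * (ψ : G → ℂ) y) := by
    intro ψ
    have := sum_mul_char_translate ψ.2 (isClassFunction_blockCoeff B) y
    rw [omega_blockCoeff] at this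
    rw [← this, Finset.mul_sum]
    refine Finset.sum_congr rfl fun k _ => ?_
    ring
  simp_rw [h2]
  rw [blockPart_eq_finset]
  rw [← Finset.sum_subset (Finset.subset_univ (Set.toFinite B).toFinset)]
  · refine Finset.sum_congr rfl fun ψ hψ => ?_
    rw [if_pos ((Set.Finite.mem_toFinset _).1 hψ), one_mul]
  · intro ψ _ hψ
    rw [if_neg (fun h => hψ ((Set.Finite.mem_toFinset _).2 h)), zero_mul, mul_zero]

end blockpart

section induced

variable {G : Type u} [Group G] [Fintype G] {p : ℕ} {M : Ideal AlgInt}

/-- Blocks of the centralizer of a `p`-element always induce. -/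
theorem exists_isInducedBlock_centralizer [Fact p.Prime] (hM : IsPModular p M) (x : G)
    (hx : ∃ k : ℕ, orderOf x = p ^ k) [Fintype (Subgroup.centralizer ({x} : Set G))]
    {b : Set (IrrCharacter (Subgroup.centralizer ({x} : Set G)))} (hb : IsPBlock M b) :
    ∃ B : Set (IrrCharacter G), IsInducedBlock M (Subgroup.centralizer ({x} : Set G)) b B := by
  haveI hpr := isPrime_of_isPModular hM
  set P : Subgroup G := Subgroup.zpowers x with hPdef
  have hP : IsPGroup p P := isPGroup_zpowers hx
  have hPH : P ≤ Subgroup.centralizer ({x} : Set G) := by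
    intro z hz
    rw [mem_centralizer_singleton_iff']
    obtain ⟨k, rfl⟩ := Subgroup.mem_zpowers_iff.1 hz
    exact ((Commute.refl x).zpow_right k)
  have hCH : Subgroup.centralizer (P : Set G) ≤ Subgroup.centralizer ({x} : Set G) := by
    intro z hz
    rw [mem_centralizer_singleton_iff']
    exact (mem_centralizer_zpowers_iff x z).1 hz
  have hHN : Subgroup.centralizer ({x} : Set G) ≤ Subgroup.normalizer (P : Set G) := by
    intro z hz
    apply Subgroup.centralizer_le_normalizer
    rw [mem_centralizer_zpowers_iff]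
    exact (mem_centralizer_singleton_iff' x z).1 hz
  obtain ⟨ξ, hξ⟩ := nonempty_of_isPBlock hb
  have hw := isModHom_wOf hM P _ hP hPH hCH hHN ξ.2
  obtain ⟨B, hB, hB1⟩ := hw.exists_block
  exact ⟨B, isInducedBlock_of_isModHom _ hb hξ hw hB hB1⟩

end induced

end Cfsg.Agent.Helper16
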