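import Mathlib
import Cfsg.Agent.Lib.Helper16.WBO
import Cfsg.Agent.Lib.Helper16.SecondMain2
import Cfsg.Agent.Lib.Helper78.CharOrtho
import Cfsg.Prelude.Def_BlockRank

/-!
# Block parts and `p`-regular truncation (helper16)

* `blockPart_eq_zero_of_singular_support` : the `e`-part of a function supported on the `p`-singular
  elements vanishes at the `p`-regular elements.
* `blockPart_pRegularPart` : at a `p`-regular element the `e`-part of `F` only depends on the
  `p`-regular truncation of `F`.
* `blockPart_irr` : the `e`-part of an irreducible character.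
-/

set_option autoImplicit false
set_option linter.style.haveILetI false
set_option linter.unusedSectionVars false
open Cfsg

namespace Cfsg.Agent.Helper16

open scoped ComplexConjugate
open Cfsg.Agent.Helper77 Cfsg.Agent.Helper78

universe u

section
variable {X : Type u} [Group X] [Fintype X] {p : ℕ} [Fact p.Prime] {M : Ideal AlgInt}

/-- The `e`-part of a function supported on `p`-singular elements vanishes on `p`-regular
elements. -/
theorem blockPart_eq_zero_of_singular_support (hM : IsPModular p M) {e : Set (IrrCharacter X)}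
    (he : IsPBlock M e) (F : X → ℂ) (hF : ∀ y : X, ¬ p ∣ orderOf y → F y = 0) (s : X)
    (hs : ¬ p ∣ orderOf s) : blockPart e F s = 0 := by
  classical
  rw [blockPart_eq_finset]
  unfold classInner
  simp_rw [mul_assoc, Finset.sum_mul]
  rw [← Finset.mul_sum, Finset.sum_comm]
  have : ∀ y : X, ∑ ψ ∈ (Set.toFinite e).toFinset, F y * conj ((ψ : X → ℂ) y) * (ψ : X → ℂ) s = 0 := by
    intro y
    by_cases hy : p ∣ orderOf y
    · have h1 := weak_block_orthogonality hM he s y hs hy
      have h2 : ∀ ψ : IrrCharacter X, F y * conj ((ψ : X → ℂ) y) * (ψ : X → ℂ) s =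
          F y * ((ψ : X → ℂ) s * conj ((ψ : X → ℂ) y)) := fun ψ => by ring
      simp_rw [h2]
      rw [← Finset.mul_sum, h1, mul_zero]
    · simp [hF y hy]
  simp_rw [this]
  simp

/-- At a `p`-regular element, the `e`-part of `F` equals the `e`-part of its `p`-regular
truncation. -/
theorem blockPart_pRegularPart (hM : IsPModular p M) {e : Set (IrrCharacter X)}
    (he : IsPBlock M e) (F : X → ℂ) (s : X) (hs : ¬ p ∣ orderOf s) :
    blockPart e F s = blockPart e (pRegularPart p F) s := by
  classical
  have h0 := blockPart_eq_zero_of_singular_support hM he (F - pRegularPart p F) (by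
    intro y hy
    unfold pRegularPart IsPRegular
    simp [hy]) s hs
  rw [blockPart_eq_finset] at h0 ⊢
  rw [blockPart_eq_finset]
  rw [← sub_eq_zero, ← Finset.sum_sub_distrib, ← h0]
  refine Finset.sum_congr rfl fun ψ _ => ?_
  unfold classInner
  rw [← sub_mul, ← mul_sub, ← Finset.sum_sub_distrib]
  congr 2
  refine Finset.sum_congr rfl fun y _ => ?_
  rw [Pi.sub_apply, sub_mul]

open scoped Classical in
/-- The `e`-part of an irreducible character. -/
theorem blockPart_irr (e : Set (IrrCharacter X)) (ψ : IrrCharacter X) (s : X) :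
    blockPart e (ψ : X → ℂ) s = if ψ ∈ e then (ψ : X → ℂ) s else 0 := by
  rw [blockPart_eq_finset]
  simp_rw [Cfsg.Agent.Helper78.classInner_irr]
  by_cases hψ : ψ ∈ e
  · rw [if_pos hψ, Finset.sum_eq_single ψ]
    · simp
    · intro ψ' _ hne
      rw [if_neg (Ne.symm hne), zero_mul]
    · intro h
      exact absurd ((Set.Finite.mem_toFinset _).2 hψ) h
  · rw [if_neg hψ]
    apply Finset.sum_eq_zero
    intro ψ' hψ'
    rw [Set.Finite.mem_toFinset] at hψ'
    have : ψ ≠ ψ' := fun h => hψ (h ▸ hψ')
    rw [if_neg this, zero_mul]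

end

end Cfsg.Agent.Helper16
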