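import Mathlib
import Cfsg.Prelude.Def_Blocks
import Cfsg.Agent.Lib.Helper16.PIndex

set_option autoImplicit false
set_option linter.unusedSectionVars false
set_option linter.style.haveILetI false

namespace Cfsg.Agent.Helper16

open Cfsg Cfsg.Agent.Helper77
open scoped ComplexConjugate

universe u

section decomp

variable {H : Type u} [Group H] [Fintype H] {p : ℕ} {M : Ideal AlgInt}

theorem omega_finset_sum {ι : Type*} (s : Finset ι) (χ : H → ℂ) (a : ι → H → ℂ) :
    omega χ (∑ i ∈ s, a i) = ∑ i ∈ s, omega χ (a i) := by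
  unfold omega
  simp only [Finset.sum_apply, Finset.sum_mul]
  rw [Finset.sum_comm, Finset.sum_div]

theorem isClassFunction_finset_sum {ι : Type*} (s : Finset ι) (a : ι → H → ℂ)
    (ha : ∀ i ∈ s, IsClassFunction H (a i)) : IsClassFunction H (∑ i ∈ s, a i) := by
  intro g h
  simp only [Finset.sum_apply]
  exact Finset.sum_congr rfl fun i hi => ha i hi g h

/-- A central idempotent with local-ring coefficients is a sum of block idempotents; in
particular it vanishes wherever all block idempotents vanish. -/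
theorem eq_zero_of_idem_of_blocks (hM : IsPModular p M) (a : H → ℂ)
    (hacl : IsClassFunction H a) (haR : ∀ h, MemLocalRing M (a h)) (hidem : conv a a = a)
    (h : H) (hz : ∀ β : Set (IrrCharacter H), IsPBlock M β → blockCoeff β h = 0) : a h = 0 := by
  classical
  have := isPrime_of_isPModular hM
  have h01 : ∀ θ : IrrCharacter H, omega (θ : H → ℂ) a = 0 ∨ omega (θ : H → ℂ) a = 1 := by
    intro θ
    have h1 := omega_conv θ.2 hacl hacl
    rw [hidem] at h1
    have h' : omega (θ : H → ℂ) a * (omega (θ : H → ℂ) a - 1) = 0 := by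
      linear_combination -h1
    rcases mul_eq_zero.mp h' with h | h
    · left; exact h
    · right; exact sub_eq_zero.mp h
  let c : Set (IrrCharacter H) → ℂ :=
    fun β => if ∃ θ ∈ β, omega ((θ : IrrCharacter H) : H → ℂ) a = 1 then 1 else 0
  have hdecomp : a = ∑ β ∈ allBlocks M H, c β • blockCoeff β := by
    apply eq_of_omega_eq hacl
    · apply isClassFunction_finset_sum
      intro β _
      exact isClassFunction_smul _ (isClassFunction_blockCoeff β)
    intro θ
    rw [omega_finset_sum]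
    simp_rw [omega_smul, omega_blockCoeff]
    rw [Finset.sum_eq_single (blockOf M (θ : H → ℂ))]
    · rw [if_pos (mem_blockOf_self θ), mul_one]
      show omega (θ : H → ℂ) a = if _ then 1 else 0
      rcases h01 θ with h0 | h1
      · rw [if_neg, h0]
        rintro ⟨θ', hθ', h1⟩
        have hsb : SameBlock M (θ' : H → ℂ) (θ : H → ℂ) :=
          Cfsg.Agent.Helper77.sameBlock_symm hθ'
        have := omega_sub_memLocalIdeal hM (isClassFunction_of_isIrrCharacter' θ'.2)
          (isClassFunction_of_isIrrCharacter' θ.2) hsb hacl haR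
        rw [h0, h1, sub_zero] at this
        exact not_memLocalIdeal_one this
      · rw [if_pos ⟨θ, mem_blockOf_self θ, h1⟩, h1]
    · intro β hβ hne
      rw [if_neg, mul_zero]
      intro hθ
      exact hne (eq_blockOf_of_mem (mem_allBlocks.mp hβ) hθ)
    · intro hcon
      exact absurd (mem_allBlocks.mpr (isPBlock_blockOf θ)) hcon
  rw [hdecomp]
  simp only [Finset.sum_apply, Pi.smul_apply, smul_eq_mul]
  refine Finset.sum_eq_zero fun β hβ => ?_
  rw [hz β (mem_allBlocks.mp hβ), mul_zero]

end decomp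

section main

open Cfsg.Agent.Helper74.Lin

theorem blockCoeff_eq_zero_of_pIndex_aux {p : ℕ} [Fact p.Prime] {M : Ideal AlgInt}
    (hM : IsPModular p M) :
    ∀ (n : ℕ) (G : Type u) [Group G] [Fintype G] (N : Subgroup G) [N.Normal], N.index = n →
      (∃ k : ℕ, N.index = p ^ k) → ∀ (B : Set (IrrCharacter G)), IsPBlock M B →
      ∀ g : G, g ∉ N → blockCoeff B g = 0 := by
  intro n
  induction n using Nat.strong_induction_on with
  | _ n ih =>
  intro G _ _ N _ hn hk B hB g hg
  obtain ⟨k, hk⟩ := hk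
  classical
  have hpr := isPrime_of_isPModular hM
  have hp : p.Prime := hM.1
  -- the quotient is a nontrivial p-group
  have hcardQ : Nat.card (G ⧸ N) = p ^ k := by rw [← Subgroup.index_eq_card]; exact hk
  have hQp : IsPGroup p (G ⧸ N) := IsPGroup.of_card hcardQ
  haveI : Nontrivial (G ⧸ N) :=
    ⟨⟨(g : G ⧸ N), 1, fun h => hg ((QuotientGroup.eq_one_iff g).mp h)⟩⟩
  haveI : Group.IsNilpotent (G ⧸ N) := hQp.isNilpotent
  have hlt : commutator (G ⧸ N) < ⊤ := Group.IsSolvable.commutator_lt_top_of_nontrivial (G ⧸ N)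
  have hcard : Nat.card ((G ⧸ N) →* ℂˣ) ≠ 1 := by
    rw [card_hom]
    intro h1
    exact hlt.ne (Subgroup.index_eq_one.mp h1)
  obtain ⟨φ', hφ'⟩ : ∃ φ' : (G ⧸ N) →* ℂˣ, φ' ≠ 1 := by
    by_contra hcon
    push Not at hcon
    apply hcard
    haveI : Subsingleton ((G ⧸ N) →* ℂˣ) := ⟨fun x y => by rw [hcon x, hcon y]⟩
    exact Nat.card_of_subsingleton 1
  set φ : G →* ℂˣ := φ'.comp (QuotientGroup.mk' N) with hφdef
  have hφN : ∀ x ∈ N, φ x = 1 := by
    intro x hx
    rw [hφdef, MonoidHom.comp_apply, QuotientGroup.mk'_apply, (QuotientGroup.eq_one_iff x).mpr hx,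
      map_one]
  have hφpow : ∀ x, ((φ x : ℂˣ) : ℂ) ^ (p ^ k) = 1 := by
    intro x
    have h1 : ((x : G ⧸ N)) ^ (p ^ k) = 1 := by rw [← hcardQ]; exact pow_card_eq_one'
    have h2 : (φ x) ^ (p ^ k) = 1 := by
      rw [hφdef, MonoidHom.comp_apply, QuotientGroup.mk'_apply, ← map_pow, h1, map_one]
    have := congrArg (fun u : ℂˣ => (u : ℂ)) h2
    simpa using this
  have hsupp : ∀ x, φ x ≠ 1 → blockCoeff B x = 0 := fun x hx =>
    blockCoeff_eq_zero_of_twist hM φ k hφpow hB x hx
  by_cases hgφ : φ g = 1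
  swap
  · exact hsupp g hgφ
  set N₁ : Subgroup G := φ.ker with hN₁
  have hgN₁ : g ∈ N₁ := MonoidHom.mem_ker.mpr hgφ
  have hNN₁ : N ≤ N₁ := fun x hx => MonoidHom.mem_ker.mpr (hφN x hx)
  have hN₁top : N₁ ≠ ⊤ := by
    intro htop
    apply hφ'
    refine MonoidHom.ext fun q => ?_
    obtain ⟨x, rfl⟩ := QuotientGroup.mk_surjective q
    have : x ∈ N₁ := by rw [htop]; exact Subgroup.mem_top x
    have h1 := MonoidHom.mem_ker.mp this
    rw [hφdef, MonoidHom.comp_apply, QuotientGroup.mk'_apply] at h1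
    rw [h1]; rfl
  haveI : Fintype N₁ := Fintype.ofFinite _
  let a : N₁ → ℂ := fun y => blockCoeff B (y : G)
  have hacl : IsClassFunction N₁ a := fun y x => isClassFunction_blockCoeff B (y : G) (x : G)
  have haR : ∀ y, MemLocalRing M (a y) := fun y => memLocalRing_blockCoeff hB _
  have hoff : ∀ x, x ∉ N₁ → blockCoeff B x = 0 := by
    intro x hx
    apply hsupp
    intro h1
    exact hx (MonoidHom.mem_ker.mpr h1)
  have hidem : conv a a = a := by
    funext y
    have h1 := congrFun (conv_blockCoeff_self B) (y : G)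
    unfold conv at h1 ⊢
    show _ = blockCoeff B (y : G)
    rw [← h1]
    symm
    rw [sum_eq_sum_subgroup N₁ (fun x => blockCoeff B x * blockCoeff B (x⁻¹ * (y : G)))
      (fun x hx => by rw [hoff x hx, zero_mul])]
    rfl
  refine eq_zero_of_idem_of_blocks hM a hacl haR hidem ⟨g, hgN₁⟩ ?_
  intro β hβ
  -- index bookkeeping
  have hrel : N.relIndex N₁ * N₁.index = N.index := Subgroup.relIndex_mul_index hNN₁
  have hN₁idx : N₁.index ≠ 1 := fun h1 => hN₁top (Subgroup.index_eq_one.mp h1)
  have hNpos : 0 < N.index := by rw [hk]; exact pow_pos hp.pos k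
  have hN₁pos : 0 < N₁.index := by
    rcases Nat.eq_zero_or_pos N₁.index with h0 | h0
    · rw [h0, mul_zero] at hrel; omega
    · exact h0
  have hrelpos : 0 < N.relIndex N₁ := by
    rcases Nat.eq_zero_or_pos (N.relIndex N₁) with h0 | h0
    · rw [h0, zero_mul] at hrel; omega
    · exact h0
  have hlt' : N.relIndex N₁ < n := by
    rw [← hn, ← hrel]
    have : 2 ≤ N₁.index := by omega
    nlinarith
  have hdvd : N.relIndex N₁ ∣ p ^ k := by
    rw [← hk, ← hrel]; exact dvd_mul_right _ _
  obtain ⟨k', -, hk'⟩ := (Nat.dvd_prime_pow hp).mp hdvd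
  have hidx' : (N.subgroupOf N₁).index = N.relIndex N₁ := rfl
  refine ih (N.relIndex N₁) hlt' N₁ (N.subgroupOf N₁) hidx' ⟨k', by rw [hidx', hk']⟩ β hβ
    ⟨g, hgN₁⟩ ?_
  rw [Subgroup.mem_subgroupOf]
  exact hg

/-- **Support theorem**: if `N` is a normal subgroup of `p`-power index, every block idempotent
of `G` is supported on `N`. -/
theorem blockCoeff_eq_zero_of_pIndex {G : Type u} [Group G] [Fintype G] {p : ℕ} [Fact p.Prime]
    {M : Ideal AlgInt} (hM : IsPModular p M) (N : Subgroup G) [N.Normal]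
    (hidx : ∃ k : ℕ, N.index = p ^ k) {B : Set (IrrCharacter G)} (hB : IsPBlock M B)
    {g : G} (hg : g ∉ N) : blockCoeff B g = 0 :=
  blockCoeff_eq_zero_of_pIndex_aux hM N.index G N rfl hidx B hB g hg

end main

end Cfsg.Agent.Helper16
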