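import Mathlib
import Cfsg.Prelude.Def_Blocks
import Cfsg.Agent.Lib.Helper16.PIndexMain
import Cfsg.Agent.Lib.Helper16.QuotBlock
import Cfsg.Agent.Lib.Helper81.CharInd

set_option autoImplicit false
set_option linter.unusedSectionVars false
set_option linter.style.haveILetI false

namespace Cfsg.Agent.Helper16

open Cfsg Cfsg.Agent.Helper77
open scoped ComplexConjugate

universe u

section lying

variable {G : Type u} [Group G] [Fintype G]

/-- Every irreducible character of a subgroup is a constituent of the restriction of some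
irreducible character of the group. -/
theorem exists_lying_over (H : Subgroup G) [Fintype H] (θ : IrrCharacter H) :
    ∃ χ : IrrCharacter G, classInner (fun h : H => (χ : G → ℂ) h) (θ : H → ℂ) ≠ 0 := by
  classical
  haveI : Fintype (IrrCharacter G) := Fintype.ofFinite _
  have hθc : IsCharacter H (θ : H → ℂ) := Cfsg.Agent.Helper81.IsIrrCharacter.isCharacter θ.2
  have hind : IsCharacter G (indFun H (θ : H → ℂ)) := Cfsg.Agent.Helper81.isCharacter_indFun H hθc
  obtain ⟨m, hm⟩ := Cfsg.Agent.Helper81.exists_nat_decomp hind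
  have h1 : indFun H (θ : H → ℂ) 1 ≠ 0 := by
    rw [Cfsg.Agent.Helper81.indFun_apply]
    have hH0 : (Nat.card H : ℂ) ≠ 0 := by exact_mod_cast Nat.card_pos.ne'
    have hG0 : (Nat.card G : ℂ) ≠ 0 := by exact_mod_cast Nat.card_pos.ne'
    have : ∀ x : G, extendByZero H (θ : H → ℂ) (x⁻¹ * 1 * x) = (θ : H → ℂ) 1 := by
      intro x
      have : x⁻¹ * 1 * x = ((1 : H) : G) := by simp
      rw [this, extendByZero_coe]
    simp only [this, Finset.sum_const, Finset.card_univ, nsmul_eq_mul]
    rw [← Nat.card_eq_fintype_card]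
    exact mul_ne_zero (inv_ne_zero hH0)
      (mul_ne_zero hG0 (Cfsg.Agent.Helper78.irr_apply_one_ne_zero θ.2))
  have hex : ∃ χ : IrrCharacter G, m χ ≠ 0 := by
    by_contra hcon
    push Not at hcon
    apply h1
    rw [hm]
    simp [hcon]
  obtain ⟨χ, hχ⟩ := hex
  refine ⟨χ, ?_⟩
  have h2 : classInner (indFun H (θ : H → ℂ)) (χ : G → ℂ) = (m χ : ℂ) := by
    conv_lhs => rw [hm]
    exact Cfsg.Agent.Helper81.classInner_nat_decomp (fun χ' => (m χ' : ℂ)) χ
  rw [Cfsg.Agent.Helper81.frobenius_reciprocity H _ (isClassFunction_of_isIrrCharacter' χ.2)] at h2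
  rw [Cfsg.Agent.Helper81.classInner_conj_symm, h2]
  simpa using hχ

/-- A character that is constant on `N` has the trivial character of `N` as a constituent. -/
theorem classInner_trivIrr_ne_zero (N : Subgroup G) [Fintype N] (χ : IrrCharacter G)
    (hχ : ∀ n : N, (χ : G → ℂ) n = (χ : G → ℂ) 1) :
    classInner (fun n : N => (χ : G → ℂ) n) (trivIrr N : N → ℂ) ≠ 0 := by
  unfold classInner
  have hN0 : (Nat.card N : ℂ) ≠ 0 := by exact_mod_cast Nat.card_pos.ne'
  simp only [hχ, trivIrr_apply, map_one, mul_one, Finset.sum_const, Finset.card_univ,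
    nsmul_eq_mul]
  rw [← Nat.card_eq_fintype_card, ← mul_assoc, inv_mul_cancel₀ hN0, one_mul]
  exact Cfsg.Agent.Helper78.irr_apply_one_ne_zero χ.2

end lying

section cover

variable {G : Type u} [Group G] [Fintype G] (N : Subgroup G) [hN : N.Normal] [Fintype N]

/-- If `G/N` is a `p`-group, two irreducible characters of `G` lying over characters in the same
block of `N` lie in the same block of `G`. -/
theorem sameBlock_of_cover_of_pIndex {p : ℕ} [Fact p.Prime] {M : Ideal AlgInt}
    (hM : IsPModular p M) (hidx : ∃ k : ℕ, N.index = p ^ k) (χ χ' : IrrCharacter G)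
    (θ θ' : IrrCharacter N) (hθ : SameBlock M (θ : N → ℂ) (θ' : N → ℂ))
    (hcon : classInner (fun n : N => (χ : G → ℂ) n) (θ : N → ℂ) ≠ 0)
    (hcon' : classInner (fun n : N => (χ' : G → ℂ) n) (θ' : N → ℂ) ≠ 0) :
    SameBlock M (χ : G → ℂ) (χ' : G → ℂ) := by
  classical
  have := isPrime_of_isPModular hM
  set B := blockOf M (χ : G → ℂ) with hBdef
  have hB : IsPBlock M B := isPBlock_blockOf χ
  have hecl := isClassFunction_blockCoeff B
  have hsupp : ∀ g, g ∉ N → blockCoeff B g = 0 := fun g hg =>
    blockCoeff_eq_zero_of_pIndex hM N hidx hB hg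
  have h1 := omega_eq_omega_of_constituent N χ θ hcon hecl hsupp
  have h2 := omega_eq_omega_of_constituent N χ' θ' hcon' hecl hsupp
  have hclN : IsClassFunction N (fun n : N => blockCoeff B (n : G)) :=
    fun y x => hecl (y : G) (x : G)
  have h3 := omega_sub_memLocalIdeal hM (isClassFunction_of_isIrrCharacter' θ.2)
    (isClassFunction_of_isIrrCharacter' θ'.2) hθ hclN (fun n => memLocalRing_blockCoeff hB _)
  rw [← h1, ← h2, omega_blockCoeff, omega_blockCoeff, if_pos (mem_blockOf_self χ)] at h3
  by_contra hcon2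
  have hnot : χ' ∉ B := hcon2
  rw [if_neg hnot, sub_zero] at h3
  exact not_memLocalIdeal_one h3

end cover

end Cfsg.Agent.Helper16
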