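import Mathlib
import Cfsg.Prelude.Def_DegreeGraph

/-!
Piece (A3) `noncentral_case` of helper89's lemma server "DG2" (row S4811).

Elementary route: for every `g`, `C_V(g)` is normal in `H` (as `h⁻¹ g h = g c` with `c ∈ V` abelian), hence `⊥` or `V`.
With `C = C_H(V)` and `g ∉ C`, `C_C(g)` is normal and meets `V` trivially, hence `⊥`, so `c ↦ [g,c]` injects `C` into `V`
and `C = V`.  Coprimality: a Sylow `q`-subgroup `Q > V` acting on `V` would have a nontrivial fixed point.
-/

set_option autoImplicit false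

namespace Cfsg.Agent.Helper16.DG2

open Cfsg
open scoped commutatorElement

universe u

/-- (A3) non-central case: `V = H'` is a normal Sylow `q`-subgroup and every element outside `V` acts
fixed-point-freely on `V`. -/
theorem noncentral_case {H : Type u} [Group H] [Finite H] [Group.IsSolvable H]
    (hq : ∀ L : Subgroup H, L.Normal → L ≠ ⊥ → commutator H ≤ L)
    (hV : commutator H ≠ ⊥) (hab : ∀ a ∈ commutator H, ∀ b ∈ commutator H, a * b = b * a)
    (q n : ℕ) (hqp : q.Prime) (hcard : Nat.card (commutator H) = q ^ n)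
    (hc : ¬ commutator H ≤ Subgroup.center H) :
    (Nat.card (commutator H)).Coprime (commutator H).index ∧
      ∀ g : H, g ∉ commutator H → ∀ x ∈ commutator H, g * x * g⁻¹ = x → x = 1 := by
  classical
  set V : Subgroup H := commutator H with hVdef
  have hVn : V.Normal := by rw [hVdef]; infer_instance
  -- `h⁻¹ g h = g c` with `c ∈ V`
  have hconj : ∀ g h : H, g⁻¹ * (h⁻¹ * g * h) ∈ V := by
    intro g h
    have h1 : g⁻¹ * (h⁻¹ * g * h) = ⁅g⁻¹, h⁻¹⁆ := by
      simp [commutatorElement_def, mul_assoc]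
    rw [h1]
    exact Subgroup.commutator_mem_commutator (Subgroup.mem_top _) (Subgroup.mem_top _)
  have hcommV : ∀ g h : H, g * h * g⁻¹ * h⁻¹ ∈ V := by
    intro g h
    exact Subgroup.commutator_mem_commutator (Subgroup.mem_top g) (Subgroup.mem_top h)
  -- general normality principle: if `T` is a normal subgroup all of whose elements commute with `V`,
  -- the fixed points of `g` in `T` form a normal subgroup
  have hfixnormal : ∀ (T : Subgroup H), T.Normal → (∀ t ∈ T, ∀ v ∈ V, v * t = t * v) → ∀ g : H,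
      ∃ D : Subgroup H, D.Normal ∧ ∀ x, x ∈ D ↔ x ∈ T ∧ g * x * g⁻¹ = x := by
    intro T hT hTV g
    refine ⟨{ carrier := {x | x ∈ T ∧ g * x * g⁻¹ = x}
              mul_mem' := ?_
              one_mem' := ?_
              inv_mem' := ?_ }, ?_, ?_⟩
    · rintro a b ⟨ha, ha'⟩ ⟨hb, hb'⟩
      refine ⟨T.mul_mem ha hb, ?_⟩
      calc g * (a * b) * g⁻¹ = (g * a * g⁻¹) * (g * b * g⁻¹) := by group
        _ = a * b := by rw [ha', hb']
    · exact ⟨T.one_mem, by group⟩
    · rintro a ⟨ha, ha'⟩
      refine ⟨T.inv_mem ha, ?_⟩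
      calc g * a⁻¹ * g⁻¹ = (g * a * g⁻¹)⁻¹ := by group
        _ = a⁻¹ := by rw [ha']
    · constructor
      rintro x ⟨hx, hx'⟩ h
      refine ⟨hT.conj_mem x hx h, ?_⟩
      set c : H := g⁻¹ * (h⁻¹ * g * h) with hcdef
      have hcV : c ∈ V := hconj g h
      have e1 : h⁻¹ * g * h = g * c := by rw [hcdef]; group
      have hcx : c * x * c⁻¹ = x := by
        rw [hTV x hx c hcV]; group
      calc g * (h * x * h⁻¹) * g⁻¹
          = h * ((h⁻¹ * g * h) * x * (h⁻¹ * g * h)⁻¹) * h⁻¹ := by group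
        _ = h * ((g * c) * x * (g * c)⁻¹) * h⁻¹ := by rw [e1]
        _ = h * (g * (c * x * c⁻¹) * g⁻¹) * h⁻¹ := by group
        _ = h * x * h⁻¹ := by rw [hcx, hx']
    · intro x
      rfl
  -- dichotomy on `C_V(g)`
  have hdich : ∀ g : H, (∀ x ∈ V, g * x * g⁻¹ = x → x = 1) ∨ (∀ x ∈ V, g * x * g⁻¹ = x) := by
    intro g
    obtain ⟨D, hDn, hD⟩ := hfixnormal V hVn (fun t ht v hv => hab v hv t ht) g
    by_cases hDb : D = ⊥
    · left
      intro x hx hgx
      have : x ∈ D := (hD x).2 ⟨hx, hgx⟩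
      rw [hDb] at this
      exact Subgroup.mem_bot.mp this
    · right
      intro x hx
      exact ((hD x).1 (hq D hDn hDb hx)).2
  -- the centralizer of `V`
  set C : Subgroup H := Subgroup.centralizer (V : Set H) with hCdef
  have hCn : C.Normal := by rw [hCdef]; infer_instance
  have hmemC : ∀ x : H, x ∈ C ↔ ∀ v ∈ V, v * x = x * v := by
    intro x
    rw [hCdef, Subgroup.mem_centralizer_iff]
    rfl
  have hVC : V ≤ C := by
    intro x hx
    rw [hmemC]
    intro v hv
    exact hab v hv x hx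
  have hfpf_of_notC : ∀ g : H, g ∉ C → ∀ x ∈ V, g * x * g⁻¹ = x → x = 1 := by
    intro g hg
    rcases hdich g with h1 | h2
    · exact h1
    · exfalso
      apply hg
      rw [hmemC]
      intro v hv
      have := h2 v hv
      calc v * g = (g * v * g⁻¹) * g := by rw [this]
        _ = g * v := by group
  -- some element outside `C`
  obtain ⟨g0, hg0⟩ : ∃ g0 : H, g0 ∉ C := by
    by_contra hcon
    push Not at hcon
    apply hc
    intro v hv
    rw [Subgroup.mem_center_iff]
    intro h
    have := (hmemC h).1 (hcon h) v hv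
    exact this.symm
  -- `C = V`
  have hCV : V = C := by
    obtain ⟨D, hDn, hD⟩ := hfixnormal C hCn (fun t ht v hv => (hmemC t).1 ht v hv) g0
    have hDb : D = ⊥ := by
      by_contra hDb
      have hVD : V ≤ D := hq D hDn hDb
      apply hV
      rw [eq_bot_iff]
      intro x hx
      have hx2 := (hD x).1 (hVD hx)
      exact Subgroup.mem_bot.mpr (hfpf_of_notC g0 hg0 x hx hx2.2)
    have hfin : Finite C := inferInstance
    apply Subgroup.eq_of_le_of_card_ge hVC
    let θ : C → V := fun c => ⟨g0 * (c : H) * g0⁻¹ * (c : H)⁻¹, hcommV g0 c⟩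
    have hθ : Function.Injective θ := by
      intro c d hcd
      have h1 : g0 * (c : H) * g0⁻¹ * (c : H)⁻¹ = g0 * (d : H) * g0⁻¹ * (d : H)⁻¹ :=
        congrArg Subtype.val hcd
      have h2 : (d : H)⁻¹ * (c : H) ∈ D := by
        rw [hD]
        refine ⟨C.mul_mem (C.inv_mem d.2) c.2, ?_⟩
        have e1 : g0 * (c : H) * g0⁻¹ = g0 * (d : H) * g0⁻¹ * (d : H)⁻¹ * (c : H) := by
          rw [← h1]; group
        calc g0 * ((d : H)⁻¹ * (c : H)) * g0⁻¹
            = (g0 * (d : H) * g0⁻¹)⁻¹ * (g0 * (c : H) * g0⁻¹) := by group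
          _ = (g0 * (d : H) * g0⁻¹)⁻¹ * (g0 * (d : H) * g0⁻¹ * (d : H)⁻¹ * (c : H)) := by rw [e1]
          _ = (d : H)⁻¹ * (c : H) := by group
      rw [hDb, Subgroup.mem_bot] at h2
      apply Subtype.ext
      calc (c : H) = (d : H) * ((d : H)⁻¹ * (c : H)) := by group
        _ = (d : H) := by rw [h2, mul_one]
    exact Nat.card_le_card_of_injective θ hθ
  have hfpf : ∀ g : H, g ∉ V → ∀ x ∈ V, g * x * g⁻¹ = x → x = 1 := by
    intro g hg
    apply hfpf_of_notC
    rw [← hCV]
    exact hg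
  refine ⟨?_, hfpf⟩
  -- coprimality
  have hfact : Fact q.Prime := ⟨hqp⟩
  have hn0 : n ≠ 0 := by
    rintro rfl
    rw [pow_zero] at hcard
    exact hV (Subgroup.card_eq_one.mp hcard)
  rw [hcard]
  apply Nat.Coprime.pow_left
  rw [Nat.Prime.coprime_iff_not_dvd hqp]
  intro hdvd
  have hVp : IsPGroup q V := IsPGroup.of_card hcard
  obtain ⟨Q, hVQ⟩ := hVp.exists_le_sylow
  have hne : V ≠ (Q : Subgroup H) := by
    intro heq
    have := Q.not_dvd_index
    rw [← heq] at this
    exact this hdvd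
  have hlt : V < (Q : Subgroup H) := lt_of_le_of_ne hVQ hne
  obtain ⟨g, hgQ, hgV⟩ := SetLike.exists_of_lt hlt
  -- the action of `Q` on `V`
  let f : (Q : Subgroup H) →* MulAut V := (MulAut.conjNormal (H := V)).comp (Q : Subgroup H).subtype
  let act : MulAction (Q : Subgroup H) V := MulAction.compHom V f
  have hsmul : ∀ (a : (Q : Subgroup H)) (v : V), ((a • v : V) : H) = (a : H) * (v : H) * (a : H)⁻¹ := by
    intro a v
    rfl
  have hone : (1 : V) ∈ MulAction.fixedPoints (Q : Subgroup H) V := by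
    intro a
    apply Subtype.ext
    rw [hsmul]
    simp
  have hqV : q ∣ Nat.card V := by
    rw [hcard]
    exact dvd_pow_self q hn0
  obtain ⟨b, hb, hb1⟩ := Q.isPGroup'.exists_fixed_point_of_prime_dvd_card_of_fixed_point V hqV hone
  apply hb1
  apply Subtype.ext
  have := hb ⟨g, hgQ⟩
  have h2 : g * (b : H) * g⁻¹ = (b : H) := by
    have h3 := congrArg Subtype.val this
    rwa [hsmul] at h3
  exact (hfpf g hgV b b.2 h2).symm

end Cfsg.Agent.Helper16.DG2
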