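import Mathlib
import Cfsg.Prelude.Def_Blocks
import Cfsg.Agent.Lib.Helper16.Osima
import Cfsg.Agent.Lib.Helper16.AvgInt
import Cfsg.Agent.Lib.Helper3.CharIntegral

set_option autoImplicit false
set_option linter.unusedSectionVars false
set_option linter.style.haveILetI false

namespace Cfsg.Agent.Helper16

open Cfsg Cfsg.Agent.Helper77 Cfsg.Agent.Helper78
open scoped ComplexConjugate

universe u

section numeric

variable {p : ℕ} {M : Ideal AlgInt}

/-- If `ν_p(D) < ν_p(A)` then `A * z / D` lies in the local ideal, for an algebraic integer `z`. -/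
theorem memLocalIdeal_nat_mul_div (hM : IsPModular p M) (A D : ℕ) (hA : A ≠ 0) (hD : D ≠ 0)
    (z : ℂ) (hz : IsIntegral ℤ z) (hlt : D.factorization p < A.factorization p) :
    MemLocalIdeal M ((A : ℂ) * z / (D : ℂ)) := by
  have hp : p.Prime := hM.1
  have hpr := isPrime_of_isPModular hM
  have hne := ne_top_of_isPModular hM
  set j := D.factorization p with hj
  set D' := D / p ^ j with hD'
  have hDfac : p ^ j * D' = D := Nat.ordProj_mul_ordCompl_eq_self D p
  have hcop : ¬ p ∣ D' := Nat.not_dvd_ordCompl hp hD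
  have hdvd : p ^ (j + 1) ∣ A := by
    rw [hp.pow_dvd_iff_le_factorization hA]
    omega
  obtain ⟨A', hA'⟩ := hdvd
  have h1 : (A : ℂ) * z / (D : ℂ) = (p : ℂ) * ((A' : ℂ) * z * (D' : ℂ)⁻¹) := by
    have hpj : ((p : ℂ)) ^ j ≠ 0 := pow_ne_zero j (by exact_mod_cast hp.ne_zero)
    have hD'0 : (D' : ℂ) ≠ 0 := by
      intro h0
      have : D' = 0 := by exact_mod_cast h0
      rw [this, mul_zero] at hDfac
      exact hD hDfac.symm
    rw [hA', ← hDfac]
    push_cast
    field_simp
    ring
  rw [h1]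
  apply memLocalIdeal_mul_right
  · exact (memLocalIdeal_natCast_iff hM p).2 dvd_rfl
  · apply memLocalRing_mul
    · apply memLocalRing_mul (memLocalRing_natCast A')
      exact memLocalRing_algInt hne ⟨z, hz⟩
    · apply memLocalRing_inv (memLocalRing_natCast D')
      rw [memLocalIdeal_natCast_iff hM]
      exact hcop

end numeric

section main

variable {G : Type u} [Group G] [Fintype G] {p : ℕ} {M : Ideal AlgInt}

/-- If the central character of `χ` at `x` is not in the local ideal then
`ν_p |x^G| ≤ ν_p χ(1)`. -/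
theorem index_factorization_le_of_not_memLocalIdeal (hM : IsPModular p M) (χ : IrrCharacter G)
    (x : G) (h : ¬ MemLocalIdeal M (centralChar (χ : G → ℂ) x)) :
    ((Subgroup.centralizer ({x} : Set G)).index).factorization p ≤
      (charDegree (χ : G → ℂ)).factorization p := by
  by_contra hlt
  push Not at hlt
  apply h
  obtain ⟨hd1, hdpos⟩ := irr_charDegree χ.2
  unfold centralChar
  rw [hd1]
  have hidx : (Subgroup.centralizer ({x} : Set G)).index ≠ 0 := Subgroup.index_ne_zero_of_finite
  exact memLocalIdeal_nat_mul_div hM _ _ hidx hdpos.ne' _ (IsIrrCharacter.isIntegral χ.2 x) hlt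

/-- If the block idempotent coefficient at `x` is not in the local ideal, and `p ^ m` divides
all degrees in `B`, then `ν_p |C(x)| + m ≤ ν_p |G|`. -/
theorem centralizer_factorization_add_le (hM : IsPModular p M) {B : Set (IrrCharacter G)}
    (hB : IsPBlock M B) (x : G) (m : ℕ) (hm : ∀ χ ∈ B, p ^ m ∣ charDegree (χ : G → ℂ))
    (h : ¬ MemLocalIdeal M (blockCoeff B x)) :
    (Nat.card (Subgroup.centralizer ({x} : Set G))).factorization p + m ≤
      (Nat.card G).factorization p := by
  classical
  have hp : p.Prime := hM.1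
  haveI : Fact p.Prime := ⟨hp⟩
  have hpr := isPrime_of_isPModular hM
  have hne := ne_top_of_isPModular hM
  by_contra hlt
  push Not at hlt
  apply h
  -- x is p-regular
  by_cases hxreg : p ∣ orderOf x
  · rw [blockCoeff_eq_zero_of_singular hM hB x hxreg]
    exact memLocalIdeal_zero hne
  set C := Subgroup.centralizer ({x} : Set G) with hC
  obtain P : Sylow p C := default
  set P' : Subgroup G := (P : Subgroup C).map C.subtype with hP'
  have hcardP' : Nat.card P' = p ^ (Nat.card C).factorization p := by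
    rw [hP', Subgroup.card_map_of_injective C.subtype_injective]
    exact Sylow.card_eq_multiplicity P
  set c := (Nat.card C).factorization p with hc
  have hcomm : ∀ u ∈ P', u * x = x * u := by
    intro u hu
    rw [hP'] at hu
    obtain ⟨v, _, rfl⟩ := hu
    have hv : (v : G) ∈ Subgroup.centralizer ({x} : Set G) := v.2
    rw [Subgroup.mem_centralizer_iff] at hv
    exact (hv x (Set.mem_singleton x)).symm
  have hPp : IsPGroup p P' := by
    rw [hP']
    exact P.2.map C.subtype
  have hsing : ∀ u : P', u ≠ 1 → p ∣ orderOf ((u : G) * x) := by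
    intro u hu
    obtain ⟨k, hk⟩ := (IsPGroup.iff_orderOf.1 hPp) u
    have hk0 : k ≠ 0 := by
      intro h0
      rw [h0, pow_zero, orderOf_eq_one_iff] at hk
      exact hu hk
    have hou : orderOf (u : G) = p ^ k := by rw [Subgroup.orderOf_coe, hk]
    have hcop : Nat.Coprime (orderOf (u : G)) (orderOf x) := by
      rw [hou]
      exact Nat.Coprime.pow_left k ((Nat.Prime.coprime_iff_not_dvd hp).2 hxreg)
    have hc' : Commute (u : G) x := hcomm u u.2
    rw [hc'.orderOf_mul_eq_mul_orderOf_of_coprime hcop, hou]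
    exact Dvd.dvd.mul_right (dvd_pow_self p hk0) _
  -- blockCoeff at x is the sum over P'
  have hsum : blockCoeff B x = ∑ u : P', blockCoeff B ((u : G) * x) := by
    rw [Finset.sum_eq_single (1 : P')]
    · simp
    · intro u _ hu
      exact blockCoeff_eq_zero_of_singular hM hB _ (hsing u hu)
    · intro h
      exact absurd (Finset.mem_univ _) h
  set Bf := (Set.toFinite B).toFinset with hBf
  have hmemBf : ∀ θ, θ ∈ Bf ↔ θ ∈ B := fun θ => Set.Finite.mem_toFinset _
  -- degrees
  have hdeg : ∀ χ : IrrCharacter G, ∃ k : ℕ, χ ∈ B → (χ : G → ℂ) 1 = ((p ^ m : ℕ) : ℂ) * (k : ℂ) := by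
    intro χ
    by_cases hχ : χ ∈ B
    · obtain ⟨k, hk⟩ := hm χ hχ
      refine ⟨k, fun _ => ?_⟩
      rw [(irr_charDegree χ.2).1, hk]
      push_cast
      ring
    · exact ⟨0, fun h => absurd h hχ⟩
  choose k hk using hdeg
  have hcardP'ne : (Nat.card P' : ℂ) ≠ 0 := by
    have : 0 < Nat.card P' := Nat.card_pos
    exact_mod_cast this.ne'
  set Z : ℂ := ∑ χ ∈ Bf, (k χ : ℂ) *
    conj ((Nat.card P' : ℂ)⁻¹ * ∑ u : P', (χ : G → ℂ) ((u : G) * x)) with hZ
  have hZint : IsIntegral ℤ Z := by
    apply IsIntegral.sum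
    intro χ _
    apply IsIntegral.mul (isIntegral_natCast (R := ℤ) _)
    apply Cfsg.Agent.Helper3.isIntegral_conj
    exact isIntegral_avg (IsIrrCharacter.isCharacter χ.2) P' x hcomm
  have hmain : blockCoeff B x = ((p ^ (c + m) : ℕ) : ℂ) * Z / (Nat.card G : ℂ) := by
    have hpc : (((p ^ c : ℕ) : ℂ)) ≠ 0 := by
      have : (p ^ c : ℕ) ≠ 0 := pow_ne_zero c hp.ne_zero
      exact_mod_cast this
    have hL : ∑ u : P', blockCoeff B ((u : G) * x) = (Nat.card G : ℂ)⁻¹ *
        ∑ χ ∈ Bf, ∑ u : P', (χ : G → ℂ) 1 * conj ((χ : G → ℂ) ((u : G) * x)) := by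
      simp_rw [blockCoeff_eq_sum]
      rw [← Finset.mul_sum, Finset.sum_comm]
    have hR : ((p ^ (c + m) : ℕ) : ℂ) * Z / (Nat.card G : ℂ) = (Nat.card G : ℂ)⁻¹ *
        ∑ χ ∈ Bf, ∑ u : P', (χ : G → ℂ) 1 * conj ((χ : G → ℂ) ((u : G) * x)) := by
      rw [hZ, div_eq_inv_mul, Finset.mul_sum]
      congr 1
      refine Finset.sum_congr rfl fun χ hχ => ?_
      have hχB := (hmemBf χ).1 hχ
      rw [← Finset.mul_sum, hk χ hχB, map_mul, map_inv₀, Complex.conj_natCast, map_sum, hcardP',
        pow_add]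
      push_cast
      push_cast at hpc
      field_simp
    rw [hsum, hL, hR]
  rw [hmain]
  have hA : (p ^ (c + m) : ℕ) ≠ 0 := pow_ne_zero _ hp.ne_zero
  have hD : Nat.card G ≠ 0 := Nat.card_pos.ne'
  apply memLocalIdeal_nat_mul_div hM _ _ hA hD Z hZint
  rw [hp.factorization_pow]
  simpa using hlt

end main

end Cfsg.Agent.Helper16
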