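import Mathlib
import Cfsg.Agent.Lib.Helper16.DefectNum

set_option autoImplicit false
set_option linter.unusedSectionVars false
set_option linter.style.haveILetI false

namespace Cfsg.Agent.Helper16

open Cfsg Cfsg.Agent.Helper77 Cfsg.Agent.Helper78
open scoped ComplexConjugate

universe u

section main

variable {G : Type u} [Group G] [Fintype G] {p : ℕ} {M : Ideal AlgInt}

/-- the least `p`-adic valuation of a degree in `B` -/
noncomputable def minVal (p : ℕ) (B : Set (IrrCharacter G)) : ℕ :=
  sInf ((fun χ : IrrCharacter G => (charDegree (χ : G → ℂ)).factorization p) '' B)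

theorem blockDefect_eq (p : ℕ) (B : Set (IrrCharacter G)) :
    blockDefect p B = (Nat.card G).factorization p - minVal p B := rfl

theorem minVal_le {B : Set (IrrCharacter G)} {χ : IrrCharacter G} (hχ : χ ∈ B) :
    minVal p B ≤ (charDegree (χ : G → ℂ)).factorization p :=
  Nat.sInf_le (Set.mem_image_of_mem _ hχ)

theorem exists_minVal_eq {B : Set (IrrCharacter G)} (hB : B.Nonempty) :
    ∃ χ ∈ B, (charDegree (χ : G → ℂ)).factorization p = minVal p B := by
  have hne : ((fun χ : IrrCharacter G => (charDegree (χ : G → ℂ)).factorization p) '' B).Nonempty :=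
    hB.image _
  obtain ⟨χ, hχ, h⟩ := Nat.sInf_mem hne
  exact ⟨χ, hχ, h⟩

theorem pow_minVal_dvd {B : Set (IrrCharacter G)} {χ : IrrCharacter G} (hχ : χ ∈ B) :
    p ^ minVal p B ∣ charDegree (χ : G → ℂ) :=
  (pow_dvd_pow p (minVal_le hχ)).trans (Nat.ordProj_dvd _ p)

theorem factorization_index_add (hp : p.Prime) (x : G) :
    ((Subgroup.centralizer ({x} : Set G)).index).factorization p +
      (Nat.card (Subgroup.centralizer ({x} : Set G))).factorization p =
      (Nat.card G).factorization p := by
  have h1 := Subgroup.card_mul_index (Subgroup.centralizer ({x} : Set G))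
  have h2 : (Subgroup.centralizer ({x} : Set G)).index ≠ 0 := Subgroup.index_ne_zero_of_finite
  have h3 : Nat.card (Subgroup.centralizer ({x} : Set G)) ≠ 0 := Nat.card_pos.ne'
  rw [← h1, Nat.factorization_mul h3 h2]
  simp [add_comm]

/-- (i) numeric min-max: idempotent coefficient not in the ideal ⇒ `ν|C(x)| ≤ d(B)` (additive form). -/
theorem centralizer_factorization_add_minVal_le (hM : IsPModular p M) {B : Set (IrrCharacter G)}
    (hB : IsPBlock M B) (x : G) (h : ¬ MemLocalIdeal M (blockCoeff B x)) :
    (Nat.card (Subgroup.centralizer ({x} : Set G))).factorization p + minVal p B ≤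
      (Nat.card G).factorization p :=
  centralizer_factorization_add_le hM hB x (minVal p B) (fun _ hχ => pow_minVal_dvd hχ) h

/-- (ii) numeric min-max: central character not in the ideal ⇒ `d(B) ≤ ν|C(x)|` (additive form). -/
theorem le_centralizer_factorization_add_minVal (hM : IsPModular p M) {B : Set (IrrCharacter G)}
    (hB : IsPBlock M B) (x : G) (h : ∀ χ ∈ B, ¬ MemLocalIdeal M (centralChar (χ : G → ℂ) x)) :
    (Nat.card G).factorization p ≤
      (Nat.card (Subgroup.centralizer ({x} : Set G))).factorization p + minVal p B := by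
  have hpr := isPrime_of_isPModular hM
  obtain ⟨χ, hχ, hχm⟩ := exists_minVal_eq (p := p) (nonempty_of_isPBlock hB)
  have h1 := index_factorization_le_of_not_memLocalIdeal hM χ x (h χ hχ)
  have h2 := factorization_index_add hM.1 x
  omega

/-- For a defect class `x` of `B`: `ν_p |C(x)| = d(B)`. -/
theorem factorization_centralizer_of_isDefectClass (hM : IsPModular p M)
    {B : Set (IrrCharacter G)} (hB : IsPBlock M B) (x : G) (hx : IsDefectClass M B x) :
    (Nat.card (Subgroup.centralizer ({x} : Set G))).factorization p = blockDefect p B := by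
  have h1 := centralizer_factorization_add_minVal_le hM hB x hx.2.1
  have h2 := le_centralizer_factorization_add_minVal hM hB x hx.2.2
  rw [blockDefect_eq]
  omega

theorem card_of_isDefectGroup (hM : IsPModular p M) {B : Set (IrrCharacter G)}
    (hB : IsPBlock M B) (D : Subgroup G) (hD : IsDefectGroup p M B D) :
    Nat.card D = p ^ blockDefect p B := by
  haveI : Fact p.Prime := ⟨hM.1⟩
  obtain ⟨g, hg, P, rfl⟩ := hD
  rw [Subgroup.card_map_of_injective (Subgroup.subtype_injective _), Sylow.card_eq_multiplicity P,
    factorization_centralizer_of_isDefectClass hM hB g hg]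

end main

end Cfsg.Agent.Helper16
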