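import Mathlib
import Cfsg.Agent.Lib.Helper52.FCDefs

/-!
Level 0 pieces (B1), (B2), (B4), (B5), (B6), (B7) of helper52's lemma server "FC" (row S3816).
-/

set_option autoImplicit false

namespace Cfsg.Agent.Helper16.FC

open Subgroup Cfsg.Agent.Helper52.FC
open scoped commutatorElement

universe u

variable {G : Type u} [Group G]

theorem h16_pow_conj_mem (a : G) (X : Subgroup G) (hX : Inv a X) (x : G) (hx : x ∈ X) (i : ℕ) :
    a ^ i * x * (a ^ i)⁻¹ ∈ X := by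
  induction i with
  | zero => simpa using hx
  | succ i ih =>
    have h1 : a ^ (i + 1) * x * (a ^ (i + 1))⁻¹ = a * (a ^ i * x * (a ^ i)⁻¹) * a⁻¹ := by
      rw [pow_succ']; group
    rw [h1]; exact hX _ ih

/-- (B1) -/
theorem Lh_le (a : G) (X : Subgroup G) (hX : Inv a X) (h : G) (hh : h ∈ X) : Lh a h ≤ X := by
  unfold Lh
  rw [Subgroup.closure_le]
  rintro c ⟨i, rfl⟩
  exact X.mul_mem (X.inv_mem hh) (h16_pow_conj_mem a X hX h hh i)

/-- (B2) -/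
theorem Lh_inv (a h : G) : Inv a (Lh a h) := by
  intro x hx
  unfold Lh at hx ⊢
  induction hx using Subgroup.closure_induction with
  | mem c hc =>
    obtain ⟨i, rfl⟩ := hc
    have h1 : h⁻¹ * (a ^ 1 * h * (a ^ 1)⁻¹) ∈
        Subgroup.closure {c : G | ∃ i : ℕ, c = h⁻¹ * (a ^ i * h * (a ^ i)⁻¹)} :=
      Subgroup.subset_closure ⟨1, rfl⟩
    have h2 : h⁻¹ * (a ^ (i + 1) * h * (a ^ (i + 1))⁻¹) ∈
        Subgroup.closure {c : G | ∃ i : ℕ, c = h⁻¹ * (a ^ i * h * (a ^ i)⁻¹)} :=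
      Subgroup.subset_closure ⟨i + 1, rfl⟩
    have h3 : a * (h⁻¹ * (a ^ i * h * (a ^ i)⁻¹)) * a⁻¹ =
        (h⁻¹ * (a ^ 1 * h * (a ^ 1)⁻¹))⁻¹ * (h⁻¹ * (a ^ (i + 1) * h * (a ^ (i + 1))⁻¹)) := by
      rw [pow_one, pow_succ']; group
    rw [h3]
    exact Subgroup.mul_mem _ (Subgroup.inv_mem _ h1) h2
  | one => simp
  | mul x y _ _ ihx ihy =>
    have h4 : a * (x * y) * a⁻¹ = (a * x * a⁻¹) * (a * y * a⁻¹) := by group
    rw [h4]; exact Subgroup.mul_mem _ ihx ihy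
  | inv x _ ihx =>
    have h5 : a * x⁻¹ * a⁻¹ = (a * x * a⁻¹)⁻¹ := by group
    rw [h5]; exact Subgroup.inv_mem _ ihx

/-- (B7) -/
theorem comm_eq_commutator [Finite G] (a : G) (X : Subgroup G) : comm a X = ⁅X, zpowers a⁆ := by
  apply le_antisymm
  · unfold Cfsg.Agent.Helper52.FC.comm
    rw [Subgroup.closure_le]
    rintro c ⟨h, hh, i, rfl⟩
    have h1 : h⁻¹ * (a ^ i * h * (a ^ i)⁻¹) = ⁅h⁻¹, a ^ i⁆ := by
      rw [commutatorElement_def]; group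
    rw [h1]
    exact Subgroup.commutator_mem_commutator (X.inv_mem hh)
      (Subgroup.pow_mem _ (Subgroup.mem_zpowers a) i)
  · rw [Subgroup.commutator_le]
    intro g₁ hg₁ g₂ hg₂
    have h2 : g₂ ∈ Submonoid.powers a := mem_powers_iff_mem_zpowers.2 hg₂
    obtain ⟨i, rfl⟩ := (Submonoid.mem_powers_iff g₂ a).1 h2
    unfold Cfsg.Agent.Helper52.FC.comm
    apply Subgroup.subset_closure
    refine ⟨g₁⁻¹, X.inv_mem hg₁, i, ?_⟩
    rw [commutatorElement_def]; group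

/-- (B4) -/
theorem star_mono (a : G) {X H : Subgroup G} (hXH : X ≤ H) : star a X ≤ star a H := by
  unfold Cfsg.Agent.Helper52.FC.star
  apply iSup_le
  intro h
  exact le_iSup (fun h : H => Lh a (h : G) ⊓ Fix a) ⟨h.1, hXH h.2⟩

/-- (B5) -/
theorem star_le (a : G) (H : Subgroup G) (hH : Inv a H) : star a H ≤ H ⊓ Fix a := by
  unfold Cfsg.Agent.Helper52.FC.star
  apply iSup_le
  intro h
  exact inf_le_inf_right _ (Lh_le a H hH h.1 h.2)

theorem h16_Lh_conj (a h c : G) (hc : a * c = c * a) (x : G) (hx : x ∈ Lh a h) :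
    c * x * c⁻¹ ∈ Lh a (c * h * c⁻¹) := by
  unfold Lh at hx ⊢
  induction hx using Subgroup.closure_induction with
  | mem y hy =>
    obtain ⟨i, rfl⟩ := hy
    apply Subgroup.subset_closure
    refine ⟨i, ?_⟩
    have hci : a ^ i * c = c * a ^ i := (Commute.pow_left (show Commute a c from hc) i).eq
    have hci' : (a ^ i)⁻¹ * c⁻¹ = c⁻¹ * (a ^ i)⁻¹ := by
      rw [← mul_inv_rev, ← mul_inv_rev, hci]
    calc c * (h⁻¹ * (a ^ i * h * (a ^ i)⁻¹)) * c⁻¹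
        = c * h⁻¹ * (a ^ i) * h * ((a ^ i)⁻¹ * c⁻¹) := by group
      _ = c * h⁻¹ * (a ^ i) * h * (c⁻¹ * (a ^ i)⁻¹) := by rw [hci']
      _ = c * h⁻¹ * c⁻¹ * (c * a ^ i) * h * c⁻¹ * (a ^ i)⁻¹ := by group
      _ = c * h⁻¹ * c⁻¹ * (a ^ i * c) * h * c⁻¹ * (a ^ i)⁻¹ := by rw [hci]
      _ = (c * h * c⁻¹)⁻¹ * (a ^ i * (c * h * c⁻¹) * (a ^ i)⁻¹) := by group
  | one => simp
  | mul x y _ _ ihx ihy =>
    have h4 : c * (x * y) * c⁻¹ = (c * x * c⁻¹) * (c * y * c⁻¹) := by group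
    rw [h4]; exact Subgroup.mul_mem _ ihx ihy
  | inv x _ ihx =>
    have h5 : c * x⁻¹ * c⁻¹ = (c * x * c⁻¹)⁻¹ := by group
    rw [h5]; exact Subgroup.inv_mem _ ihx

/-- (B6) -/
theorem star_conj (a : G) (H : Subgroup G) (c : G) (hc : c ∈ H ⊓ Fix a) (s : G) (hs : s ∈ star a H) :
    c * s * c⁻¹ ∈ star a H := by
  have hcH : c ∈ H := hc.1
  have hcF : c ∈ Fix a := hc.2
  have hca : a * c = c * a := by
    have := (Subgroup.mem_centralizer_iff.1 hcF) a rfl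
    exact this
  have key : star a H ≤ (star a H).comap (MulAut.conj c).toMonoidHom := by
    unfold Cfsg.Agent.Helper52.FC.star
    apply iSup_le
    intro h x hx
    rw [Subgroup.mem_comap]
    have h1 : (MulAut.conj c).toMonoidHom x = c * x * c⁻¹ := by simp [MulAut.conj_apply]
    rw [h1]
    have h2 : c * x * c⁻¹ ∈ Lh a (c * h.1 * c⁻¹) := h16_Lh_conj a h.1 c hca x hx.1
    have h3 : c * x * c⁻¹ ∈ Fix a :=
      (Fix a).mul_mem ((Fix a).mul_mem hcF hx.2) ((Fix a).inv_mem hcF)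
    have h4 : c * h.1 * c⁻¹ ∈ H := H.mul_mem (H.mul_mem hcH h.2) (H.inv_mem hcH)
    exact Subgroup.mem_iSup_of_mem (⟨c * h.1 * c⁻¹, h4⟩ : H) ⟨h2, h3⟩
  have h5 := key hs
  rw [Subgroup.mem_comap] at h5
  simpa [MulAut.conj_apply] using h5

end Cfsg.Agent.Helper16.FC
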