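import Mathlib
import Cfsg.Agent.Lib.Helper52.FCDefs
import Cfsg.Agent.Lib.Helper16.FCB

/-!
Piece (B3) of helper52's lemma server "FC" (row S3816): `[h,P] = [[h,P],P]`.
-/

set_option autoImplicit false

namespace Cfsg.Agent.Helper16.FC

open Subgroup Cfsg.Agent.Helper52.FC
open scoped commutatorElement

universe u

variable {G : Type u} [Group G]

/-- (B3) -/
theorem Lh_comm [Finite G] {p : ℕ} (hp : p.Prime) (a : G) (H : Subgroup G) (hyp : Hyp p a H) (h : G) (hh : h ∈ H) :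
    comm a (Lh a h) = Lh a h := by
  have hKinv : Inv a (Lh a h) := Lh_inv a h
  have hKH : Lh a h ≤ H := Lh_le a H hyp.inv h hh
  -- `N ≤ K`
  have hNK : comm a (Lh a h) ≤ Lh a h := by
    unfold Cfsg.Agent.Helper52.FC.comm
    rw [Subgroup.closure_le]
    rintro c ⟨k, hk, i, rfl⟩
    exact (Lh a h).mul_mem ((Lh a h).inv_mem hk) (h16_pow_conj_mem a (Lh a h) hKinv k hk i)
  apply le_antisymm hNK
  -- generators of `K`
  have hcK : ∀ j : ℕ, h⁻¹ * (a ^ j * h * (a ^ j)⁻¹) ∈ Lh a h := fun j =>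
    Subgroup.subset_closure ⟨j, rfl⟩
  -- the generator `k⁻¹ a k a⁻¹` of `N`
  have hgN : ∀ k ∈ Lh a h, k⁻¹ * (a * k * a⁻¹) ∈ comm a (Lh a h) := by
    intro k hk
    apply Subgroup.subset_closure
    exact ⟨k, hk, 1, by rw [pow_one]⟩
  -- key congruence
  have key : ∀ j : ℕ, ∃ n ∈ comm a (Lh a h),
      h⁻¹ * (a ^ j * h * (a ^ j)⁻¹) = (h⁻¹ * (a * h * a⁻¹)) ^ j * n := by
    intro j
    induction j with
    | zero => exact ⟨1, Subgroup.one_mem _, by simp⟩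
    | succ j ih =>
      obtain ⟨n, hn, hj⟩ := ih
      refine ⟨n * ((h⁻¹ * (a ^ j * h * (a ^ j)⁻¹))⁻¹ * (a * (h⁻¹ * (a ^ j * h * (a ^ j)⁻¹)) * a⁻¹)),
        Subgroup.mul_mem _ hn (hgN _ (hcK j)), ?_⟩
      have h1 : h⁻¹ * (a ^ (j + 1) * h * (a ^ (j + 1))⁻¹) =
          (h⁻¹ * (a * h * a⁻¹)) * (h⁻¹ * (a ^ j * h * (a ^ j)⁻¹)) *
            ((h⁻¹ * (a ^ j * h * (a ^ j)⁻¹))⁻¹ * (a * (h⁻¹ * (a ^ j * h * (a ^ j)⁻¹)) * a⁻¹)) := by
        rw [pow_succ']; group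
      rw [h1]
      generalize (h⁻¹ * (a ^ j * h * (a ^ j)⁻¹))⁻¹ * (a * (h⁻¹ * (a ^ j * h * (a ^ j)⁻¹)) * a⁻¹) = g
      rw [hj, pow_succ']
      simp only [mul_assoc]
  -- `c_p = 1`
  have hcp : h⁻¹ * (a ^ p * h * (a ^ p)⁻¹) = 1 := by
    rw [hyp.pow]; group
  obtain ⟨n, hn, hnp⟩ := key p
  rw [hcp] at hnp
  have hc1p : (h⁻¹ * (a * h * a⁻¹)) ^ p ∈ comm a (Lh a h) := by
    have h2 : (h⁻¹ * (a * h * a⁻¹)) ^ p = n⁻¹ := eq_inv_of_mul_eq_one_left hnp.symm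
    rw [h2]
    exact Subgroup.inv_mem _ hn
  -- coprimality
  have hKp : (Nat.card (Lh a h)).Coprime p :=
    Nat.Coprime.coprime_dvd_left (Subgroup.card_dvd_of_le hKH) hyp.cop
  have hNp : (Nat.card (comm a (Lh a h))).Coprime p :=
    Nat.Coprime.coprime_dvd_left (Subgroup.card_dvd_of_le hNK) hKp
  have hc1K : h⁻¹ * (a * h * a⁻¹) ∈ Lh a h := by
    have := hcK 1
    rwa [pow_one] at this
  have hc1N : h⁻¹ * (a * h * a⁻¹) ∈ comm a (Lh a h) := by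
    obtain ⟨m, hm⟩ := (powCoprime hNp).surjective ⟨_, hc1p⟩
    have hm' : (m : G) ^ p = (h⁻¹ * (a * h * a⁻¹)) ^ p := by
      have := congrArg Subtype.val hm
      simpa [powCoprime] using this
    have hinj := (powCoprime hKp).injective
    have h3 : (⟨(m : G), hNK m.2⟩ : Lh a h) = ⟨h⁻¹ * (a * h * a⁻¹), hc1K⟩ := by
      apply hinj
      apply Subtype.ext
      simpa [powCoprime] using hm'
    have h4 : (m : G) = h⁻¹ * (a * h * a⁻¹) := congrArg Subtype.val h3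
    rw [← h4]
    exact m.2
  -- conclusion
  unfold Cfsg.Agent.Helper52.FC.Lh
  rw [Subgroup.closure_le]
  rintro c ⟨j, rfl⟩
  obtain ⟨n', hn', hj⟩ := key j
  rw [SetLike.mem_coe, hj]
  exact Subgroup.mul_mem _ (Subgroup.pow_mem _ hc1N j) hn'

end Cfsg.Agent.Helper16.FC
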