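import Mathlib
import Cfsg.Prelude.Def_Blocks
import Cfsg.Agent.Lib.Helper16.Osima
import Cfsg.Agent.Lib.Helper16.DefectNum
import Cfsg.Agent.Lib.Helper78.CharSchur
import Cfsg.Agent.Lib.Helper77.BlockIdem
import Cfsg.Agent.S0932
import Cfsg.Agent.Lib.Helper77.FMT
import Cfsg.Agent.Lib.Helper79.CharBasic

/-!
# Green's theorem: defect groups are Sylow intersections — the normal case (helper16)

Let `D` be a normal `p`-subgroup of `G` which is a defect group of the block `b`, and `R ⊇ D` a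
`p`-subgroup.  Then there is a `p`-regular `k` centralizing `D` such that every `p`-subgroup of
`C_G(k)` lies in `D` and `R ∩ k R k⁻¹ = D`.

The proof lets the class sum of a defect class act on the permutation module `ℂ[G/R]`: its matrix
has integer entries `|K ∩ n R|`; were they all divisible by `p`, the central character value would
be `p` times an algebraic integer.  So some `|K ∩ n R|` is prime to `p`, and the `p`-group
`R ∩ n R n⁻¹` fixes a point of `K ∩ n R` under conjugation.
-/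

set_option autoImplicit false
set_option linter.unusedSectionVars false
set_option linter.unusedVariables false
set_option linter.style.haveILetI false

namespace Cfsg.Agent.Helper16.GreenSylow

open Cfsg Cfsg.Agent.Helper16 Cfsg.Agent.Helper77 Cfsg.Agent.Helper78
open scoped ComplexConjugate

universe u

/-! ### Linear algebra -/

/-- an eigenvalue of an integer matrix is an algebraic integer -/
theorem isIntegral_of_mulVec {ι : Type*} [Fintype ι] [DecidableEq ι] (A : Matrix ι ι ℤ)
    (v : ι → ℂ) (hv : v ≠ 0) (μ : ℂ)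
    (h : (A.map (Int.castRingHom ℂ)).mulVec v = μ • v) : IsIntegral ℤ μ := by
  have h1 : Module.End.HasEigenvalue (A.map (Int.castRingHom ℂ)).mulVecLin μ := by
    apply Module.End.hasEigenvalue_of_hasEigenvector (x := v)
    refine ⟨?_, hv⟩
    rw [Module.End.mem_eigenspace_iff]
    exact h
  have h2 := (Module.End.hasEigenvalue_iff_isRoot_charpoly _ μ).1 h1
  rw [Matrix.charpoly_mulVecLin, Matrix.charpoly_map] at h2
  refine ⟨A.charpoly, Matrix.charpoly_monic A, ?_⟩
  rw [Polynomial.IsRoot.def, Polynomial.eval_map] at h2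
  exact h2

/-! ### Class sums -/

section classsum

variable {G : Type u} [Group G] [Fintype G]

open scoped Classical in
/-- the class sum acts on an irreducible character by the central character -/
theorem sum_class_mul {χ : G → ℂ} (hχ : IsIrrCharacter G χ) (g y : G) :
    ∑ k ∈ Finset.univ.filter (fun k : G => IsConj g k), χ (k * y) = centralChar χ g * χ y := by
  have h1 := sum_irr_conj_mul hχ g y
  have h2 := Cfsg.Agent.S0932.sum_conj_eq g (fun k => χ (k * y))
  have h3 : ∑ x : G, χ (x⁻¹ * g * x * y) = ∑ a : G, χ (a * g * a⁻¹ * y) := by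
    refine Fintype.sum_equiv (Equiv.inv G) _ _ ?_
    intro x
    simp
  rw [h3, h1] at h2
  have hχ1 : χ 1 ≠ 0 := irr_apply_one_ne_zero hχ
  have hC : (Nat.card (Subgroup.centralizer ({g} : Set G)) : ℂ) ≠ 0 := by
    exact_mod_cast Nat.card_pos.ne'
  have hidx : (Nat.card G : ℂ) = ((Subgroup.centralizer ({g} : Set G)).index : ℂ) *
      (Nat.card (Subgroup.centralizer ({g} : Set G)) : ℂ) := by
    rw [← Nat.cast_mul, Subgroup.index_mul_card]
  unfold centralChar
  rw [hidx] at h2
  field_simp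
  field_simp at h2
  linear_combination h2.symm

end classsum


/-! ### The permutation module argument -/

section core

variable {G : Type u} [Group G] [Fintype G] {p : ℕ} [Fact p.Prime] {M : Ideal AlgInt}

theorem blockCoeff_one_ne_zero (hM : IsPModular p M) {b : Set (IrrCharacter G)}
    (hb : IsPBlock M b) : blockCoeff b (1 : G) ≠ 0 := by
  haveI := isPrime_of_isPModular hM
  rw [blockCoeff_eq_sum]
  have hG : (Nat.card G : ℂ) ≠ 0 := by exact_mod_cast Nat.card_pos.ne'
  refine mul_ne_zero (inv_ne_zero hG) ?_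
  have h1 : ∀ ψ ∈ (Set.toFinite b).toFinset, (ψ : G → ℂ) 1 * conj ((ψ : G → ℂ) 1) =
      ((charDegree (ψ : G → ℂ) * charDegree (ψ : G → ℂ) : ℕ) : ℂ) := by
    intro ψ _
    rw [(Cfsg.Agent.Helper79.irr_one_eq ψ).1, Complex.conj_natCast, Nat.cast_mul]
  rw [Finset.sum_congr rfl h1, ← Nat.cast_sum]
  obtain ⟨ψ₀, hψ₀⟩ := nonempty_of_isPBlock hb
  have hmem : ψ₀ ∈ (Set.toFinite b).toFinset := (Set.Finite.mem_toFinset _).2 hψ₀
  have hpos : 0 < ∑ ψ ∈ (Set.toFinite b).toFinset,
      charDegree (ψ : G → ℂ) * charDegree (ψ : G → ℂ) := by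
    apply Finset.sum_pos'
    · intro ψ _; exact Nat.zero_le _
    · exact ⟨ψ₀, hmem, Nat.mul_pos (Cfsg.Agent.Helper79.irr_one_eq ψ₀).2
        (Cfsg.Agent.Helper79.irr_one_eq ψ₀).2⟩
  exact_mod_cast hpos.ne'

open scoped Classical in
/-- some member of the block has a nonzero sum over the `p`-subgroup `R` -/
theorem exists_sum_ne_zero (hM : IsPModular p M) (R : Subgroup G) (hR : IsPGroup p R)
    {b : Set (IrrCharacter G)} (hb : IsPBlock M b) :
    ∃ χ ∈ b, ∑ r ∈ Finset.univ.filter (fun r : G => r ∈ R), (χ : G → ℂ) r ≠ 0 := by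
  by_contra hcon
  push Not at hcon
  have hp : p.Prime := Fact.out
  have h1 : ∑ r ∈ Finset.univ.filter (fun r : G => r ∈ R), blockCoeff b r = blockCoeff b 1 := by
    apply Finset.sum_eq_single_of_mem (1 : G)
    · simp [R.one_mem]
    · intro r hr hr1
      rw [Finset.mem_filter] at hr
      apply blockCoeff_eq_zero_of_singular hM hb
      obtain ⟨k, hk⟩ := hR ⟨r, hr.2⟩
      have hk' : r ^ p ^ k = 1 := by
        have := congrArg Subtype.val hk
        simpa using this
      obtain ⟨j, _, hj⟩ := (Nat.dvd_prime_pow hp).1 (orderOf_dvd_of_pow_eq_one hk')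
      rcases Nat.eq_zero_or_pos j with h0 | h0
      · rw [h0, pow_zero, orderOf_eq_one_iff] at hj
        exact absurd hj hr1
      · rw [hj]
        exact dvd_pow_self p h0.ne'
  have h2 : ∑ r ∈ Finset.univ.filter (fun r : G => r ∈ R), blockCoeff b r = 0 := by
    simp only [blockCoeff_eq_sum]
    rw [← Finset.mul_sum, Finset.sum_comm]
    have : ∀ ψ ∈ (Set.toFinite b).toFinset,
        ∑ r ∈ Finset.univ.filter (fun r : G => r ∈ R), (ψ : G → ℂ) 1 * conj ((ψ : G → ℂ) r) = 0 := by
      intro ψ hψ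
      rw [← Finset.mul_sum, ← map_sum, hcon ψ ((Set.Finite.mem_toFinset _).1 hψ), map_zero,
        mul_zero]
    rw [Finset.sum_eq_zero this, mul_zero]
  exact blockCoeff_one_ne_zero hM hb (h1.symm.trans h2)

open scoped Classical in
/-- **Key counting lemma**: for a class whose central character values on the block avoid the
local ideal, some `|K ∩ n R|` is prime to `p`. -/
theorem exists_not_dvd_card (hM : IsPModular p M) (R : Subgroup G) (hR : IsPGroup p R)
    {b : Set (IrrCharacter G)} (hb : IsPBlock M b) (g : G)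
    (hω : ∀ χ ∈ b, ¬ MemLocalIdeal M (centralChar (χ : G → ℂ) g)) :
    ∃ n : G, ¬ p ∣ (Finset.univ.filter (fun k : G => IsConj g k ∧ n⁻¹ * k ∈ R)).card := by
  by_contra hcon
  push Not at hcon
  have hp : p.Prime := Fact.out
  obtain ⟨χ, hχb, hχR⟩ := exists_sum_ne_zero hM R hR hb
  apply hω χ hχb
  -- the function `f`
  obtain ⟨f, hfdef⟩ : ∃ f : G → ℂ, f = fun y =>
      ∑ r ∈ Finset.univ.filter (fun r : G => r ∈ R), (χ : G → ℂ) (y * r) := ⟨_, rfl⟩
  have hf1 : f 1 ≠ 0 := by
    rw [hfdef]; simpa using hχR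
  have hfR : ∀ (y r' : G), r' ∈ R → f (y * r') = f y := by
    intro y r' hr'
    rw [hfdef]
    show ∑ r ∈ Finset.univ.filter (fun r : G => r ∈ R), (χ : G → ℂ) (y * r' * r) =
      ∑ r ∈ Finset.univ.filter (fun r : G => r ∈ R), (χ : G → ℂ) (y * r)
    refine Finset.sum_bij' (fun r _ => r' * r) (fun r _ => r'⁻¹ * r) ?_ ?_ ?_ ?_ ?_
    · intro r hr
      rw [Finset.mem_filter] at hr ⊢
      exact ⟨Finset.mem_univ _, R.mul_mem hr' hr.2⟩
    · intro r hr
      rw [Finset.mem_filter] at hr ⊢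
      exact ⟨Finset.mem_univ _, R.mul_mem (R.inv_mem hr') hr.2⟩
    · intro r _; group
    · intro r _; group
    · intro r _; rw [mul_assoc]
  have hfω : ∀ y : G, ∑ k ∈ Finset.univ.filter (fun k : G => IsConj g k), f (k * y) =
      centralChar (χ : G → ℂ) g * f y := by
    intro y
    rw [hfdef]
    show ∑ k ∈ Finset.univ.filter (fun k : G => IsConj g k),
        ∑ r ∈ Finset.univ.filter (fun r : G => r ∈ R), (χ : G → ℂ) (k * y * r) =
      centralChar (χ : G → ℂ) g * ∑ r ∈ Finset.univ.filter (fun r : G => r ∈ R),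
        (χ : G → ℂ) (y * r)
    rw [Finset.sum_comm, Finset.mul_sum]
    refine Finset.sum_congr rfl fun r _ => ?_
    rw [← sum_class_mul χ.2 g (y * r)]
    refine Finset.sum_congr rfl fun k _ => ?_
    rw [mul_assoc]
  -- the coset space
  letI : Fintype (G ⧸ R) := Fintype.ofFinite _
  obtain ⟨rep, hrepdef⟩ : ∃ rep : G ⧸ R → G, rep = Quotient.out := ⟨_, rfl⟩
  have hrep : ∀ y : G, ∃ r ∈ R, rep (QuotientGroup.mk y) = y * r := by
    intro y
    obtain ⟨h, hh⟩ := QuotientGroup.mk_out_eq_mul R y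
    exact ⟨h, h.2, by rw [hrepdef]; exact hh⟩
  have hmkrep : ∀ q : G ⧸ R, (QuotientGroup.mk (rep q) : G ⧸ R) = q := by
    intro q
    rw [hrepdef]
    exact QuotientGroup.out_eq' q
  obtain ⟨F, hFdef⟩ : ∃ F : G ⧸ R → ℂ, F = fun q => f (rep q) := ⟨_, rfl⟩
  have hFmk : ∀ y : G, F (QuotientGroup.mk y) = f y := by
    intro y
    obtain ⟨r, hr, hy⟩ := hrep y
    rw [hFdef]
    show f (rep (QuotientGroup.mk y)) = f y
    rw [hy, hfR y r hr]
  have hF0 : F ≠ 0 := by
    intro h
    apply hf1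
    rw [← hFmk 1, h]
    rfl
  -- the matrix
  obtain ⟨A, hAdef⟩ : ∃ A : Matrix (G ⧸ R) (G ⧸ R) ℕ, A = fun q q' =>
      (Finset.univ.filter (fun k : G => IsConj g k ∧
        (QuotientGroup.mk (k * rep q) : G ⧸ R) = q')).card := ⟨_, rfl⟩
  have hAF : ∀ q : G ⧸ R, ∑ q' : G ⧸ R, (A q q' : ℂ) * F q' =
      centralChar (χ : G → ℂ) g * F q := by
    intro q
    have h1 : F q = f (rep q) := by rw [hFdef]
    rw [h1, ← hfω (rep q)]
    have h2 : ∀ k : G, f (k * rep q) = F (QuotientGroup.mk (k * rep q)) := fun k =>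
      (hFmk _).symm
    rw [Finset.sum_congr rfl (fun k _ => h2 k)]
    rw [← Finset.sum_fiberwise (Finset.univ.filter (fun k : G => IsConj g k))
      (fun k : G => (QuotientGroup.mk (k * rep q) : G ⧸ R))
      (fun k => F (QuotientGroup.mk (k * rep q)))]
    refine Finset.sum_congr rfl fun q' _ => ?_
    rw [Finset.sum_congr rfl (g := fun _ => F q')]
    · rw [Finset.sum_const, nsmul_eq_mul, hAdef]
      congr 2
      rw [Finset.filter_filter]
    · intro k hk
      rw [Finset.mem_filter] at hk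
      rw [hk.2]
  have hAdvd : ∀ q q' : G ⧸ R, p ∣ A q q' := by
    intro q q'
    have h := hcon ((rep q)⁻¹ * rep q')
    have heq : A q q' = (Finset.univ.filter (fun k : G => IsConj g k ∧
        ((rep q)⁻¹ * rep q')⁻¹ * k ∈ R)).card := by
      rw [hAdef]
      refine Finset.card_bij' (fun k _ => (rep q)⁻¹ * k * rep q)
        (fun k _ => rep q * k * (rep q)⁻¹) ?_ ?_ ?_ ?_
      · intro k hk
        rw [Finset.mem_filter] at hk ⊢
        refine ⟨Finset.mem_univ _, ?_, ?_⟩
        · exact hk.2.1.trans (isConj_iff.2 ⟨(rep q)⁻¹, by group⟩)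
        · have h1 : (QuotientGroup.mk (k * rep q) : G ⧸ R) = QuotientGroup.mk (rep q') := by
            rw [hk.2.2, hmkrep]
          rw [QuotientGroup.eq] at h1
          have h2 : ((rep q)⁻¹ * rep q')⁻¹ * ((rep q)⁻¹ * k * rep q) =
              ((k * rep q)⁻¹ * rep q')⁻¹ := by group
          rw [h2]
          exact R.inv_mem h1
      · intro k hk
        rw [Finset.mem_filter] at hk ⊢
        refine ⟨Finset.mem_univ _, ?_, ?_⟩
        · exact hk.2.1.trans (isConj_iff.2 ⟨rep q, rfl⟩)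
        · have h1 : (QuotientGroup.mk (rep q * k * (rep q)⁻¹ * rep q) : G ⧸ R) =
              QuotientGroup.mk (rep q') := by
            rw [QuotientGroup.eq]
            have h2 : (rep q * k * (rep q)⁻¹ * rep q)⁻¹ * rep q' =
                (((rep q)⁻¹ * rep q')⁻¹ * k)⁻¹ := by group
            rw [h2]
            exact R.inv_mem hk.2.2
          rw [h1, hmkrep]
      · intro k _; group
      · intro k _; group
    rw [heq]
    exact h
  -- the quotient matrix
  obtain ⟨A', hA'def⟩ : ∃ A' : Matrix (G ⧸ R) (G ⧸ R) ℤ, A' = fun q q' => ((A q q' / p : ℕ) : ℤ) :=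
    ⟨_, rfl⟩
  have hpC : (p : ℂ) ≠ 0 := by exact_mod_cast hp.ne_zero
  have hA'A : ∀ q q', ((A' q q' : ℤ) : ℂ) = (A q q' : ℂ) / (p : ℂ) := by
    intro q q'
    obtain ⟨c, hc⟩ := hAdvd q q'
    rw [hA'def]
    show (((A q q' / p : ℕ) : ℤ) : ℂ) = _
    rw [hc, Nat.mul_div_cancel_left c hp.pos]
    push_cast
    field_simp
  have hev : (A'.map (Int.castRingHom ℂ)).mulVec F =
      (centralChar (χ : G → ℂ) g / (p : ℂ)) • F := by
    funext q
    rw [Matrix.mulVec, dotProduct, Pi.smul_apply, smul_eq_mul]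
    have : ∀ q' : G ⧸ R, (A'.map (Int.castRingHom ℂ)) q q' * F q' =
        ((A q q' : ℂ) * F q') / (p : ℂ) := by
      intro q'
      rw [Matrix.map_apply]
      show ((A' q q' : ℤ) : ℂ) * F q' = _
      rw [hA'A]
      ring
    rw [Finset.sum_congr rfl (fun q' _ => this q'), ← Finset.sum_div, hAF q]
    ring
  have hint := isIntegral_of_mulVec A' F hF0 _ hev
  have hmem := memLocalIdeal_nat_mul_div hM p 1 hp.ne_zero one_ne_zero _ hint
    (by rw [Nat.factorization_one, Nat.Prime.factorization_self hp]; exact Nat.zero_lt_one)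
  have hsimp : (p : ℂ) * (centralChar (χ : G → ℂ) g / (p : ℂ)) / ((1 : ℕ) : ℂ) =
      centralChar (χ : G → ℂ) g := by
    rw [Nat.cast_one, div_one, mul_div_cancel₀ _ hpC]
  rw [hsimp] at hmem
  exact hmem

end core


/-! ### The fixed point -/

section fixed

variable {G : Type u} [Group G] [Finite G] {p : ℕ} [Fact p.Prime]

/-- `R ∩ n R n⁻¹` -/
def meetConj (R : Subgroup G) (n : G) : Subgroup G where
  carrier := {r | r ∈ R ∧ n⁻¹ * r * n ∈ R}
  mul_mem' := by
    intro a c ha hc
    refine ⟨R.mul_mem ha.1 hc.1, ?_⟩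
    have : n⁻¹ * (a * c) * n = (n⁻¹ * a * n) * (n⁻¹ * c * n) := by group
    rw [this]
    exact R.mul_mem ha.2 hc.2
  one_mem' := by
    refine ⟨R.one_mem, ?_⟩
    have : n⁻¹ * 1 * n = (1 : G) := by group
    rw [this]
    exact R.one_mem
  inv_mem' := by
    intro a ha
    refine ⟨R.inv_mem ha.1, ?_⟩
    have : n⁻¹ * a⁻¹ * n = (n⁻¹ * a * n)⁻¹ := by group
    rw [this]
    exact R.inv_mem ha.2

theorem mem_meetConj (R : Subgroup G) (n r : G) :
    r ∈ meetConj R n ↔ r ∈ R ∧ n⁻¹ * r * n ∈ R := Iff.rfl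

theorem meetConj_le (R : Subgroup G) (n : G) : meetConj R n ≤ R := fun _ h => h.1

/-- the conjugation action of `R ∩ n R n⁻¹` on `K ∩ n R` -/
@[reducible] def conjAction (R : Subgroup G) (g n : G) :
    MulAction (meetConj R n) {k : G // IsConj g k ∧ n⁻¹ * k ∈ R} where
  smul r k := ⟨(r : G) * k.1 * (r : G)⁻¹, by
    refine ⟨k.2.1.trans (isConj_iff.2 ⟨(r : G), rfl⟩), ?_⟩
    have : n⁻¹ * ((r : G) * k.1 * (r : G)⁻¹) = (n⁻¹ * (r : G) * n) * (n⁻¹ * k.1) * (r : G)⁻¹ := by
      group
    rw [this]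
    exact R.mul_mem (R.mul_mem r.2.2 k.2.2) (R.inv_mem r.2.1)⟩
  one_smul k := by
    apply Subtype.ext
    show ((1 : meetConj R n) : G) * k.1 * ((1 : meetConj R n) : G)⁻¹ = k.1
    simp
  mul_smul r r' k := by
    apply Subtype.ext
    show ((r * r' : meetConj R n) : G) * k.1 * ((r * r' : meetConj R n) : G)⁻¹ =
      (r : G) * ((r' : G) * k.1 * (r' : G)⁻¹) * (r : G)⁻¹
    push_cast
    group

theorem exists_fixed (R : Subgroup G) (hR : IsPGroup p R) (g n : G)
    (hcard : ¬ p ∣ Nat.card {k : G // IsConj g k ∧ n⁻¹ * k ∈ R}) :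
    ∃ k : G, IsConj g k ∧ n⁻¹ * k ∈ R ∧ ∀ r ∈ R, n⁻¹ * r * n ∈ R → r * k * r⁻¹ = k := by
  letI := conjAction R g n
  have hQ : IsPGroup p (meetConj R n) := hR.to_le (meetConj_le R n)
  obtain ⟨k, hk⟩ := hQ.nonempty_fixed_point_of_prime_not_dvd_card _ hcard
  refine ⟨k.1, k.2.1, k.2.2, ?_⟩
  intro r hr hr'
  have h := hk ⟨r, hr, hr'⟩
  exact congrArg Subtype.val h

end fixed


/-! ### The normal case -/

section normal

variable {G : Type u} [Group G] [Finite G] {p : ℕ} [Fact p.Prime] {M : Ideal AlgInt}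

open scoped Pointwise in
/-- a `p`-subgroup is conjugate into a given Sylow `p`-subgroup, elementwise -/
theorem exists_conj_mem_sylow' (S : Sylow p G) (K : Subgroup G) (hK : IsPGroup p K) :
    ∃ c : G, ∀ y ∈ K, c * y * c⁻¹ ∈ (S : Subgroup G) := by
  obtain ⟨Q, hQ⟩ := hK.exists_le_sylow
  obtain ⟨c, hc⟩ := MulAction.exists_smul_eq G Q S
  refine ⟨c, fun y hy => ?_⟩
  rw [← hc]
  show c * y * c⁻¹ ∈ (MulAut.conj c • (Q : Subgroup G))
  rw [Subgroup.mem_pointwise_smul_iff_inv_smul_mem]
  have h2 : (MulAut.conj c)⁻¹ • (c * y * c⁻¹) = y := by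
    rw [← map_inv, MulAut.smul_def, MulAut.conj_apply]
    group
  rw [h2]
  exact hQ hy

/-- if `D ⊴ G` is (the image of) a Sylow `p`-subgroup of `C_G(g)`, every `p`-subgroup of
`C_G(g)` lies in `D` -/
theorem le_of_sylow_centralizer (D : Subgroup G) [hDn : D.Normal] (g : G)
    (P₀ : Sylow p (Subgroup.centralizer ({g} : Set G)))
    (hD : D = (P₀ : Subgroup (Subgroup.centralizer ({g} : Set G))).map
      (Subgroup.centralizer ({g} : Set G)).subtype)
    (Q : Subgroup G) (hQ : IsPGroup p Q) (hQg : ∀ y ∈ Q, y * g = g * y) : Q ≤ D := by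
  have hQC : Q ≤ Subgroup.centralizer ({g} : Set G) := by
    intro y hy
    rw [Subgroup.mem_centralizer_iff]
    intro h hh
    rw [Set.mem_singleton_iff.1 hh]
    exact (hQg y hy).symm
  have hQ' : IsPGroup p (Q.subgroupOf (Subgroup.centralizer ({g} : Set G))) :=
    hQ.comap_subtype
  obtain ⟨c, hc⟩ := exists_conj_mem_sylow' P₀ _ hQ'
  intro y hy
  have h1 := hc ⟨y, hQC hy⟩ (Subgroup.mem_subgroupOf.2 hy)
  have h2 : (c : G) * y * (c : G)⁻¹ ∈ D := by
    rw [hD]
    exact Subgroup.mem_map.2 ⟨_, h1, rfl⟩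
  have h3 := hDn.conj_mem _ h2 (c : G)⁻¹
  have h4 : (c : G)⁻¹ * ((c : G) * y * (c : G)⁻¹) * ((c : G)⁻¹)⁻¹ = y := by group
  rwa [h4] at h3

/-- **Green's theorem, normal case.** -/
theorem green_normal (hM : IsPModular p M) {b : Set (IrrCharacter G)} (hb : IsPBlock M b)
    (D : Subgroup G) [hDn : D.Normal] (hD : IsDefectGroup p M b D) (R : Subgroup G)
    (hR : IsPGroup p R) :
    ∃ k : G, ¬ p ∣ orderOf k ∧ (∀ d ∈ D, d * k = k * d) ∧
      (∀ Q : Subgroup G, IsPGroup p Q → (∀ y ∈ Q, y * k = k * y) → Q ≤ D) ∧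
      (∀ r ∈ R, k⁻¹ * r * k ∈ R → r ∈ D) := by
  classical
  letI : Fintype G := Fintype.ofFinite G
  haveI := isPrime_of_isPModular hM
  obtain ⟨g, hdc, P₀, hDP⟩ := hD
  -- `g` is `p`-regular
  have hgreg : ¬ p ∣ orderOf g := by
    intro hdvd
    have h0 := blockCoeff_eq_zero_of_singular hM hb g hdvd
    apply hdc.2.1
    rw [h0]
    exact memLocalIdeal_zero (Ideal.IsPrime.ne_top this)
  -- `D` centralizes `g`
  have hDg : ∀ d ∈ D, d * g = g * d := by
    intro d hd
    rw [hDP] at hd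
    obtain ⟨d', _, rfl⟩ := Subgroup.mem_map.1 hd
    have := (Subgroup.mem_centralizer_iff.1 d'.2) g (Set.mem_singleton g)
    exact this.symm
  -- the good coset
  obtain ⟨n, hn⟩ := exists_not_dvd_card hM R hR hb g hdc.2.2
  have hcard : ¬ p ∣ Nat.card {k : G // IsConj g k ∧ n⁻¹ * k ∈ R} := by
    rw [Nat.card_eq_fintype_card, Fintype.card_subtype]
    exact hn
  obtain ⟨k, hgk, hnk, hfix⟩ := exists_fixed R hR g n hcard
  obtain ⟨a, ha⟩ := isConj_iff.1 hgk
  have hDk : ∀ d ∈ D, d * k = k * d := by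
    intro d hd
    have h1 := hDg _ (hDn.conj_mem d hd a⁻¹)
    rw [inv_inv] at h1
    rw [← ha]
    have h2 : d * (a * g * a⁻¹) = a * ((a⁻¹ * d * a) * g) * a⁻¹ := by group
    rw [h2, h1]
    group
  have hQk : ∀ Q : Subgroup G, IsPGroup p Q → (∀ y ∈ Q, y * k = k * y) → Q ≤ D := by
    intro Q hQ hQk
    have hQ' : IsPGroup p (Q.comap (MulAut.conj a).toMonoidHom) :=
      hQ.comap_of_injective _ (MulAut.conj a).injective
    have hle := le_of_sylow_centralizer D g P₀ hDP _ hQ' (by
      intro y hy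
      have hy' : a * y * a⁻¹ ∈ Q := hy
      have h1 := hQk _ hy'
      rw [← ha] at h1
      have h2 : y * g = a⁻¹ * (a * y * a⁻¹ * (a * g * a⁻¹)) * a := by group
      rw [h2, h1]
      group)
    intro z hz
    have h1 : a⁻¹ * z * a ∈ Q.comap (MulAut.conj a).toMonoidHom := by
      show a * (a⁻¹ * z * a) * a⁻¹ ∈ Q
      have : a * (a⁻¹ * z * a) * a⁻¹ = z := by group
      rw [this]; exact hz
    have h2 := hDn.conj_mem _ (hle h1) a
    have h3 : a * (a⁻¹ * z * a) * a⁻¹ = z := by group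
    rwa [h3] at h2
  refine ⟨k, ?_, hDk, hQk, ?_⟩
  · rw [← ha]
    have : orderOf (a * g * a⁻¹) = orderOf g := (MulAut.conj a).orderOf_eq g
    rw [this]
    exact hgreg
  · intro r hr hr'
    -- `r ∈ R ∩ n R n⁻¹`
    have hmem : ∀ r₁ ∈ R, k⁻¹ * r₁ * k ∈ R → n⁻¹ * r₁ * n ∈ R := by
      intro r₁ _ h1
      have h2 : n⁻¹ * r₁ * n = (n⁻¹ * k) * (k⁻¹ * r₁ * k) * (n⁻¹ * k)⁻¹ := by group
      rw [h2]
      exact R.mul_mem (R.mul_mem hnk h1) (R.inv_mem hnk)
    -- the subgroup `R ∩ k R k⁻¹` centralizes `k`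
    have hQ₀ : IsPGroup p (meetConj R k) := hR.to_le (meetConj_le R k)
    have hle := hQk (meetConj R k) hQ₀ (by
      intro y hy
      have h1 := hfix y hy.1 (hmem y hy.1 hy.2)
      calc y * k = (y * k * y⁻¹) * y := by group
        _ = k * y := by rw [h1])
    exact hle ⟨hr, hr'⟩

end normal


/-! ### The general case -/

section general

variable {G : Type u} [Group G] [Finite G] {p : ℕ} [Fact p.Prime] {M : Ideal AlgInt}

/-- normalizers grow in `p`-groups -/
theorem exists_normalizing_not_mem {T D : Subgroup G} (hT : IsPGroup p T) (hDT : D ≤ T)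
    (hne : D ≠ T) : ∃ t ∈ T, t ∈ Subgroup.normalizer (D : Set G) ∧ t ∉ D := by
  haveI : Group.IsNilpotent T := hT.isNilpotent
  have hnc : NormalizerCondition T := Group.normalizerCondition_of_isNilpotent
  have hlt : D.subgroupOf T < ⊤ := by
    rw [lt_top_iff_ne_top]
    intro h
    rw [Subgroup.subgroupOf_eq_top] at h
    exact hne (le_antisymm hDT h)
  obtain ⟨t, htN, htD⟩ := SetLike.exists_of_lt (hnc _ hlt)
  refine ⟨(t : G), t.2, ?_, ?_⟩
  · apply Subgroup.mem_normalizer_fintype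
    intro d hd
    have hd' : (⟨d, hDT hd⟩ : T) ∈ D.subgroupOf T := Subgroup.mem_subgroupOf.2 hd
    have h1 := (Subgroup.mem_normalizer_iff.1 htN ⟨d, hDT hd⟩).1 hd'
    have h2 := Subgroup.mem_subgroupOf.1 h1
    simpa using h2
  · intro h
    exact htD (Subgroup.mem_subgroupOf.2 h)

/-- **Green's theorem**: a defect group is a Sylow intersection `P ∩ x P x⁻¹` with `x` a
`p`-regular element of which it is a Sylow `p`-subgroup of the centralizer. -/
theorem green (hM : IsPModular p M) {B : Set (IrrCharacter G)} (hB : IsPBlock M B)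
    (D : Subgroup G) (hD : IsDefectGroup p M B D) (P : Sylow p G) (hDP : D ≤ P) :
    ∃ x : G, ¬ p ∣ orderOf x ∧
      (∃ S : Sylow p (Subgroup.centralizer ({x} : Set G)),
        (S : Subgroup (Subgroup.centralizer ({x} : Set G))).map
          (Subgroup.centralizer ({x} : Set G)).subtype = D) ∧
      (P : Subgroup G) ⊓ (P : Subgroup G).map (MulAut.conj x).toMonoidHom = D := by
  classical
  letI : Fintype G := Fintype.ofFinite G
  haveI := isPrime_of_isPModular hM
  have hDp : IsPGroup p D := isPGroup_of_isDefectGroup hD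
  letI : Fintype (Subgroup.normalizer (D : Set G)) := Fintype.ofFinite _
  obtain ⟨b, hb, hbD, _⟩ := fmt_exists hM D hDp hB hD
  have hDN : D ≤ Subgroup.normalizer (D : Set G) := Subgroup.le_normalizer
  haveI : (D.subgroupOf (Subgroup.normalizer (D : Set G))).Normal :=
    (Subgroup.normal_subgroupOf_iff_le_normalizer hDN).mpr le_rfl
  have hR : IsPGroup p ((P : Subgroup G).subgroupOf (Subgroup.normalizer (D : Set G))) :=
    P.2.comap_subtype
  obtain ⟨k, hkreg, hkD, hkQ, hkR⟩ := green_normal hM hb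
    (D.subgroupOf (Subgroup.normalizer (D : Set G))) hbD
    ((P : Subgroup G).subgroupOf (Subgroup.normalizer (D : Set G))) hR
  obtain ⟨x, hxdef⟩ : ∃ x : G, x = (k : G) := ⟨_, rfl⟩
  have hxN : x ∈ Subgroup.normalizer (D : Set G) := by rw [hxdef]; exact k.2
  -- `D` centralizes `x`
  have hDx : ∀ d ∈ D, d * x = x * d := by
    intro d hd
    have h1 := hkD ⟨d, hDN hd⟩ (Subgroup.mem_subgroupOf.2 hd)
    have h2 := congrArg Subtype.val h1
    rw [hxdef]
    simpa using h2
  -- every `p`-subgroup of `C_G(x)` normalizing `D` lies in `D`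
  have hkey : ∀ Q : Subgroup G, IsPGroup p Q → Q ≤ Subgroup.normalizer (D : Set G) →
      (∀ y ∈ Q, y * x = x * y) → Q ≤ D := by
    intro Q hQ hQN hQx
    have hQ' : IsPGroup p (Q.subgroupOf (Subgroup.normalizer (D : Set G))) := hQ.comap_subtype
    have hle := hkQ _ hQ' (by
      intro y hy
      apply Subtype.ext
      have := hQx (y : G) (Subgroup.mem_subgroupOf.1 hy)
      rw [hxdef] at this
      simpa using this)
    intro y hy
    exact Subgroup.mem_subgroupOf.1 (hle (Subgroup.mem_subgroupOf.2 hy :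
      (⟨y, hQN hy⟩ : Subgroup.normalizer (D : Set G)) ∈ Q.subgroupOf _))
  refine ⟨x, ?_, ?_, ?_⟩
  · rw [hxdef, Subgroup.orderOf_coe]
    exact hkreg
  · -- `D` is a Sylow subgroup of `C_G(x)`
    have hDC : D ≤ Subgroup.centralizer ({x} : Set G) := by
      intro d hd
      rw [Subgroup.mem_centralizer_iff]
      intro h hh
      rw [Set.mem_singleton_iff.1 hh]
      exact (hDx d hd).symm
    have hD' : IsPGroup p (D.subgroupOf (Subgroup.centralizer ({x} : Set G))) :=
      hDp.comap_subtype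
    obtain ⟨S, hS⟩ := hD'.exists_le_sylow
    refine ⟨S, ?_⟩
    obtain ⟨T, hTdef⟩ : ∃ T : Subgroup G, T = (S : Subgroup (Subgroup.centralizer
      ({x} : Set G))).map (Subgroup.centralizer ({x} : Set G)).subtype := ⟨_, rfl⟩
    rw [← hTdef]
    have hTp : IsPGroup p T := by
      rw [hTdef]
      exact S.2.map _
    have hDT : D ≤ T := by
      intro d hd
      rw [hTdef]
      exact Subgroup.mem_map.2 ⟨⟨d, hDC hd⟩, hS (Subgroup.mem_subgroupOf.2 hd), rfl⟩
    have hTx : ∀ y ∈ T, y * x = x * y := by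
      intro y hy
      rw [hTdef] at hy
      obtain ⟨y', _, rfl⟩ := Subgroup.mem_map.1 hy
      exact ((Subgroup.mem_centralizer_iff.1 y'.2) x (Set.mem_singleton x)).symm
    by_contra hne
    obtain ⟨t, htT, htN, htD⟩ := exists_normalizing_not_mem hTp hDT (fun h => hne h.symm)
    apply htD
    have hQ : IsPGroup p (T ⊓ Subgroup.normalizer (D : Set G) : Subgroup G) :=
      hTp.to_le inf_le_left
    exact hkey _ hQ inf_le_right (fun y hy => hTx y hy.1) ⟨htT, htN⟩
  · -- the Sylow intersection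
    have hmemconj : ∀ y : G, y ∈ (P : Subgroup G).map (MulAut.conj x).toMonoidHom ↔
        x⁻¹ * y * x ∈ (P : Subgroup G) := by
      intro y
      constructor
      · intro hy
        obtain ⟨y', hy', rfl⟩ := Subgroup.mem_map.1 hy
        have : x⁻¹ * ((MulAut.conj x).toMonoidHom y') * x = y' := by
          show x⁻¹ * (x * y' * x⁻¹) * x = y'
          group
        rw [this]
        exact hy'
      · intro hy
        refine Subgroup.mem_map.2 ⟨x⁻¹ * y * x, hy, ?_⟩
        show x * (x⁻¹ * y * x) * x⁻¹ = y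
        group
    apply le_antisymm
    · -- `P ∩ x P x⁻¹ ≤ D`
      by_contra hnle
      have hDI : D ≤ (P : Subgroup G) ⊓ (P : Subgroup G).map (MulAut.conj x).toMonoidHom := by
        intro d hd
        refine Subgroup.mem_inf.2 ⟨hDP hd, (hmemconj d).2 ?_⟩
        have h1 := hDx d hd
        have h2 : x⁻¹ * d * x = d := by
          rw [mul_assoc, h1, ← mul_assoc, inv_mul_cancel, one_mul]
        rw [h2]
        exact hDP hd
      have hIp : IsPGroup p ((P : Subgroup G) ⊓
          (P : Subgroup G).map (MulAut.conj x).toMonoidHom : Subgroup G) := P.2.to_le inf_le_left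
      obtain ⟨t, htI, htN, htD⟩ := exists_normalizing_not_mem hIp hDI
        (fun h => hnle (h ▸ le_rfl))
      apply htD
      have h1 : (⟨t, htN⟩ : Subgroup.normalizer (D : Set G)) ∈
          (P : Subgroup G).subgroupOf (Subgroup.normalizer (D : Set G)) :=
        Subgroup.mem_subgroupOf.2 htI.1
      have h2 : k⁻¹ * (⟨t, htN⟩ : Subgroup.normalizer (D : Set G)) * k ∈
          (P : Subgroup G).subgroupOf (Subgroup.normalizer (D : Set G)) := by
        rw [Subgroup.mem_subgroupOf]
        have := (hmemconj t).1 htI.2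
        rw [hxdef] at this
        simpa using this
      exact Subgroup.mem_subgroupOf.1 (hkR _ h1 h2)
    · intro d hd
      refine Subgroup.mem_inf.2 ⟨hDP hd, (hmemconj d).2 ?_⟩
      have h1 := hDx d hd
      have h2 : x⁻¹ * d * x = d := by
        rw [mul_assoc, h1, ← mul_assoc, inv_mul_cancel, one_mul]
      rw [h2]
      exact hDP hd

end general

end Cfsg.Agent.Helper16.GreenSylow
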