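import Mathlib
import Cfsg.Agent.Lib.Helper31.H2Defs

/-!
Piece (TR) `transfer` of helper31's lemma server "H2" (row S3786): make the action faithful by passing to
`↥R ⋊ Γ`, `Γ` the image of `B` in `MulAut ↥R`.
-/

set_option autoImplicit false

namespace Cfsg.Agent.Helper16.H2

open Cfsg Cfsg.Agent.Helper31.H2 Cfsg.Agent.Helper31.HHB Cfsg.Agent.Helper48.Wreath

universe u

/-- the generators of `B = closure {k₁, k₂}` generate `↥B` -/
theorem tr_closure_top {H : Type u} [Group H] (B : Subgroup H) (k₁ k₂ : H)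
    (hgen : B = Subgroup.closure {k₁, k₂}) (h1 : k₁ ∈ B) (h2 : k₂ ∈ B) :
    Subgroup.closure ({⟨k₁, h1⟩, ⟨k₂, h2⟩} : Set B) = ⊤ := by
  subst hgen
  have h := Subgroup.closure_closure_coe_preimage (k := ({k₁, k₂} : Set H))
  have hset : (((↑) : Subgroup.closure ({k₁, k₂} : Set H) → H) ⁻¹' ({k₁, k₂} : Set H))
      = ({⟨k₁, h1⟩, ⟨k₂, h2⟩} : Set (Subgroup.closure ({k₁, k₂} : Set H))) := by
    ext ⟨x, hx⟩
    simp [Subtype.ext_iff]
  rw [hset] at h
  exact h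

/-- (TR) make the action faithful. -/
theorem transfer {H : Type u} [Group H] [Finite H] {p : ℕ} [Fact p.Prime] (B R R₁ : Subgroup H)
    (hB : IsPGroup p B) (hR : (Nat.card R).Coprime p) (k₁ k₂ : H)
    (hgen : B = Subgroup.closure {k₁, k₂}) (l₁ l₂ : ℕ)
    (h₁ : k₁ ^ p ^ (l₁ + 1) = 1) (h₂ : k₂ ^ p ^ (l₂ + 1) = 1)
    (hd₁ : AbDef p R k₁ l₁) (hd₂ : AbDef p R k₂ l₂) (hcfg : MinCfg B R R₁)
    (hnc : ∃ g ∈ R, cmt (k₁ ^ p ^ l₁) (k₂ ^ p ^ l₂) * g ≠ g * cmt (k₁ ^ p ^ l₁) (k₂ ^ p ^ l₂)) :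
    ∃ (H' : Type u) (_ : Group H') (_ : Finite H') (B' R' R₁' : Subgroup H') (k₁' k₂' : H'),
      IsPGroup p B' ∧ (Nat.card R').Coprime p ∧ B' = Subgroup.closure {k₁', k₂'} ∧
      k₁' ^ p ^ (l₁ + 1) = 1 ∧ k₂' ^ p ^ (l₂ + 1) = 1 ∧ AbDef p R' k₁' l₁ ∧ AbDef p R' k₂' l₂ ∧
      MinCfg B' R' R₁' ∧
      (∃ g ∈ R', cmt (k₁' ^ p ^ l₁) (k₂' ^ p ^ l₂) * g ≠ g * cmt (k₁' ^ p ^ l₁) (k₂' ^ p ^ l₂)) ∧
      (∀ b ∈ B', (∀ g ∈ R', b * g = g * b) → b = 1) := by
  classical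
  have hk₁B : k₁ ∈ B := by rw [hgen]; exact Subgroup.subset_closure (by simp)
  have hk₂B : k₂ ∈ B := by rw [hgen]; exact Subgroup.subset_closure (by simp)
  have hBR : B ≤ Subgroup.normalizer (R : Set H) := by
    intro b hb
    rw [Subgroup.mem_normalizer_iff]
    intro h
    constructor
    · intro hh
      exact hcfg.invR b hb h hh
    · intro hh
      have := hcfg.invR b⁻¹ (B.inv_mem hb) _ hh
      have e : b⁻¹ * (b * h * b⁻¹) * b⁻¹⁻¹ = h := by group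
      rwa [e] at this
  -- the conjugation action
  let φ : B →* MulAut R := R.normalizerMonoidHom.comp (Subgroup.inclusion hBR)
  have hφ : ∀ (b : B) (r : R), ((φ b r : R) : H) = (b : H) * (r : H) * (b : H)⁻¹ := by
    intro b r
    rfl
  let Γ : Subgroup (MulAut R) := φ.range
  have hΓfin : Finite Γ := Finite.of_surjective φ.rangeRestrict φ.rangeRestrict_surjective
  let ψ : B →* (R ⋊[Γ.subtype] Γ) := (SemidirectProduct.inr).comp φ.rangeRestrict
  let ι : R →* (R ⋊[Γ.subtype] Γ) := SemidirectProduct.inl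
  have hfin : Finite (R ⋊[Γ.subtype] Γ) :=
    Finite.of_equiv _ (SemidirectProduct.equivProd (φ := Γ.subtype)).symm
  have hιinj : Function.Injective ι := SemidirectProduct.inl_injective
  have hconj : ∀ (b : B) (r : R), ψ b * ι r * (ψ b)⁻¹ = ι (φ b r) := by
    intro b r
    have := SemidirectProduct.inl_aut (φ := Γ.subtype) (φ.rangeRestrict b) r
    rw [map_inv] at this
    exact this.symm
  have hcomm_iff : ∀ (b : B) (r : R), (ψ b * ι r = ι r * ψ b) ↔ ((b : H) * (r : H) = (r : H) * (b : H)) := by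
    intro b r
    rw [← mul_inv_eq_iff_eq_mul, hconj, hιinj.eq_iff, Subtype.ext_iff, hφ, mul_inv_eq_iff_eq_mul]
  set κ₁ : B := ⟨k₁, hk₁B⟩ with hκ₁
  set κ₂ : B := ⟨k₂, hk₂B⟩ with hκ₂
  have hclo : Subgroup.closure ({κ₁, κ₂} : Set B) = ⊤ := tr_closure_top B k₁ k₂ hgen hk₁B hk₂B
  have hR'mem : ∀ x ∈ ι.range, ∃ r : R, ι r = x := fun x hx => hx
  have hB'mem : ∀ x ∈ ψ.range, ∃ b : B, ψ b = x := fun x hx => hx
  -- ab-deficiency transfers
  have habdef : ∀ (k : H) (hk : k ∈ B) (l : ℕ), AbDef p R k l → AbDef p ι.range (ψ ⟨k, hk⟩) l := by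
    intro k hk l hd X' hX'R hX'ab hX'inv a' ha'
    obtain ⟨r, rfl⟩ := hX'R ha'
    let X : Subgroup H := (X'.comap ι).map R.subtype
    have hXmem : ∀ a : H, a ∈ X ↔ ∃ s : R, ι s ∈ X' ∧ (s : H) = a := by
      intro a
      constructor
      · rintro ⟨s, hs, rfl⟩
        exact ⟨s, hs, rfl⟩
      · rintro ⟨s, hs, rfl⟩
        exact ⟨s, hs, rfl⟩
    have hXR : X ≤ R := by
      intro a ha
      obtain ⟨s, _, rfl⟩ := (hXmem a).1 ha
      exact s.2
    have hXab : ∀ a ∈ X, ∀ b ∈ X, a * b = b * a := by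
      intro a ha b hb
      obtain ⟨s, hs, rfl⟩ := (hXmem a).1 ha
      obtain ⟨t, ht, rfl⟩ := (hXmem b).1 hb
      have h1 := hX'ab (ι s) hs (ι t) ht
      rw [← map_mul, ← map_mul, hιinj.eq_iff] at h1
      exact congrArg Subtype.val h1
    have hXinv : ∀ a ∈ X, k * a * k⁻¹ ∈ X := by
      intro a ha
      obtain ⟨s, hs, rfl⟩ := (hXmem a).1 ha
      rw [hXmem]
      refine ⟨φ ⟨k, hk⟩ s, ?_, hφ ⟨k, hk⟩ s⟩
      rw [← hconj]
      exact hX'inv (ι s) hs
    have hrX : (r : H) ∈ X := (hXmem _).2 ⟨r, ha', rfl⟩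
    have h1 := hd X hXR hXab hXinv (r : H) hrX
    rw [← map_pow, hcomm_iff]
    exact h1
  -- the commutator
  have hψcmt : ∀ a b : B, ψ (cmt a b) = cmt (ψ a) (ψ b) := by
    intro a b
    simp only [cmt, map_mul, map_inv]
  refine ⟨R ⋊[Γ.subtype] Γ, inferInstance, hfin, ψ.range, ι.range, (R₁.subgroupOf R).map ι,
    ψ κ₁, ψ κ₂, ?_, ?_, ?_, ?_, ?_, ?_, ?_, ?_, ?_, ?_⟩
  · exact hB.of_surjective ψ.rangeRestrict ψ.rangeRestrict_surjective
  · have : Nat.card ι.range = Nat.card R :=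
      Nat.card_congr (MonoidHom.ofInjective hιinj).toEquiv.symm
    rw [this]
    exact hR
  · rw [MonoidHom.range_eq_map, ← hclo, MonoidHom.map_closure, Set.image_pair]
  · rw [← map_pow]
    have : κ₁ ^ p ^ (l₁ + 1) = 1 := Subtype.ext (by simpa using h₁)
    rw [this, map_one]
  · rw [← map_pow]
    have : κ₂ ^ p ^ (l₂ + 1) = 1 := Subtype.ext (by simpa using h₂)
    rw [this, map_one]
  · exact habdef k₁ hk₁B l₁ hd₁
  · exact habdef k₂ hk₂B l₂ hd₂
  · -- the minimal configuration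
    have hR₁'mem : ∀ x, x ∈ (R₁.subgroupOf R).map ι ↔ ∃ s : R, (s : H) ∈ R₁ ∧ ι s = x := by
      intro x
      constructor
      · rintro ⟨s, hs, rfl⟩
        exact ⟨s, hs, rfl⟩
      · rintro ⟨s, hs, rfl⟩
        exact ⟨s, hs, rfl⟩
    refine ⟨?_, ?_, ?_, ?_, ?_, ?_, ?_⟩
    · intro x hx
      obtain ⟨s, _, rfl⟩ := (hR₁'mem x).1 hx
      exact ⟨s, rfl⟩
    · intro heq
      apply hcfg.ne
      apply le_antisymm hcfg.le
      intro x hx
      have h1 : ι ⟨x, hx⟩ ∈ (R₁.subgroupOf R).map ι := by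
        rw [heq]; exact ⟨_, rfl⟩
      obtain ⟨s, hs, hs'⟩ := (hR₁'mem _).1 h1
      have : s = ⟨x, hx⟩ := hιinj hs'
      rw [this] at hs
      exact hs
    · intro b hb g hg
      obtain ⟨β, rfl⟩ := hB'mem b hb
      obtain ⟨r, rfl⟩ := hR'mem g hg
      rw [hconj]
      exact ⟨_, rfl⟩
    · intro b hb g hg
      obtain ⟨β, rfl⟩ := hB'mem b hb
      obtain ⟨s, hs, rfl⟩ := (hR₁'mem g).1 hg
      rw [hconj, hR₁'mem]
      refine ⟨φ β s, ?_, rfl⟩
      rw [hφ]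
      exact hcfg.invR₁ β β.2 s hs
    · intro x hx g hg
      obtain ⟨s, hs, rfl⟩ := (hR₁'mem x).1 hx
      obtain ⟨r, rfl⟩ := hR'mem g hg
      rw [← map_mul, ← map_mul]
      congr 1
      apply Subtype.ext
      exact hcfg.central s hs r r.2
    · intro x hx g hg
      obtain ⟨r, rfl⟩ := hR'mem x hx
      obtain ⟨s, rfl⟩ := hR'mem g hg
      rw [hR₁'mem]
      refine ⟨cmt r s, ?_, ?_⟩
      · have := hcfg.comm r r.2 s s.2
        simpa [cmt] using this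
      · simp only [cmt, map_mul, map_inv]
    · intro M' hR₁M' hM'R hM'inv
      let M : Subgroup H := (M'.comap ι).map R.subtype
      have hMmem : ∀ a : H, a ∈ M ↔ ∃ s : R, ι s ∈ M' ∧ (s : H) = a := by
        intro a
        constructor
        · rintro ⟨s, hs, rfl⟩
          exact ⟨s, hs, rfl⟩
        · rintro ⟨s, hs, rfl⟩
          exact ⟨s, hs, rfl⟩
      have hR₁M : R₁ ≤ M := by
        intro x hx
        rw [hMmem]
        refine ⟨⟨x, hcfg.le hx⟩, ?_, rfl⟩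
        apply hR₁M'
        rw [hR₁'mem]
        exact ⟨⟨x, hcfg.le hx⟩, hx, rfl⟩
      have hMR : M ≤ R := by
        intro a ha
        obtain ⟨s, _, rfl⟩ := (hMmem a).1 ha
        exact s.2
      have hMinv : ∀ b ∈ B, ∀ g ∈ M, b * g * b⁻¹ ∈ M := by
        intro b hb g hg
        obtain ⟨s, hs, rfl⟩ := (hMmem g).1 hg
        rw [hMmem]
        refine ⟨φ ⟨b, hb⟩ s, ?_, hφ ⟨b, hb⟩ s⟩
        rw [← hconj]
        exact hM'inv (ψ ⟨b, hb⟩) ⟨_, rfl⟩ (ι s) hs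
      rcases hcfg.max M hR₁M hMR hMinv with hM | hM
      · left
        apply le_antisymm _ hR₁M'
        intro x hx
        obtain ⟨r, rfl⟩ := hR'mem x (hM'R hx)
        rw [hR₁'mem]
        refine ⟨r, ?_, rfl⟩
        rw [← hM, hMmem]
        exact ⟨r, hx, rfl⟩
      · right
        apply le_antisymm hM'R
        intro x hx
        obtain ⟨r, rfl⟩ := hR'mem x hx
        have : (r : H) ∈ M := by rw [hM]; exact r.2
        obtain ⟨s, hs, hsr⟩ := (hMmem _).1 this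
        have : s = r := Subtype.ext hsr
        rw [← this]
        exact hs
  · obtain ⟨g, hgR, hg⟩ := hnc
    refine ⟨ι ⟨g, hgR⟩, ⟨_, rfl⟩, ?_⟩
    rw [← map_pow, ← map_pow, ← hψcmt, Ne, hcomm_iff]
    exact hg
  · intro b hb hcen
    obtain ⟨β, rfl⟩ := hB'mem b hb
    have h1 : φ β = 1 := by
      ext r
      rw [hφ]
      have := (hcomm_iff β r).1 (hcen (ι r) ⟨_, rfl⟩)
      rw [this]
      simp
    have h2 : φ.rangeRestrict β = 1 := Subtype.ext h1
    show SemidirectProduct.inr (φ.rangeRestrict β) = 1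
    rw [h2, map_one]

end Cfsg.Agent.Helper16.H2
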