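import Mathlib

set_option autoImplicit false

namespace Cfsg.Agent.Helper16

/-- 2-torsion of `ZMod (2^(k+1))`. -/
theorem zmod_two_mul_eq_zero_iff (k : ℕ) (a : ZMod (2 ^ (k + 1))) :
    2 * a = 0 ↔ a = 0 ∨ a = ((2 ^ k : ℕ) : ZMod (2 ^ (k + 1))) := by
  constructor
  · intro h
    obtain ⟨v, hv, ha⟩ : ∃ v : ℕ, v < 2 ^ (k + 1) ∧ ((v : ℕ) : ZMod (2 ^ (k + 1))) = a :=
      ⟨a.val, ZMod.val_lt a, ZMod.natCast_zmod_val a⟩
    have h2 : ((2 * v : ℕ) : ZMod (2 ^ (k + 1))) = 0 := by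
      push_cast
      rw [ha]; exact h
    rw [ZMod.natCast_eq_zero_iff] at h2
    have hpow : 2 ^ (k + 1) = 2 * 2 ^ k := by rw [pow_succ, mul_comm]
    have h3 : 2 ^ k ∣ v := by
      rw [hpow] at h2
      exact Nat.dvd_of_mul_dvd_mul_left (by norm_num) h2
    obtain ⟨c, hc⟩ := h3
    have hc2 : c < 2 := by
      by_contra hcon
      have hcon' : 2 ≤ c := by omega
      have : 2 ^ k * 2 ≤ 2 ^ k * c := Nat.mul_le_mul_left _ hcon'
      omega
    interval_cases c
    · left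
      rw [← ha, hc]; simp
    · right
      rw [← ha, hc]; simp
  · rintro (h | h)
    · rw [h]; simp
    · rw [h]
      have : (2 : ZMod (2 ^ (k + 1))) * ((2 ^ k : ℕ) : ZMod (2 ^ (k + 1)))
          = ((2 ^ (k + 1) : ℕ) : ZMod (2 ^ (k + 1))) := by
        push_cast; ring
      rw [this]
      exact ZMod.natCast_self _

theorem zmod_half_ne_zero (k : ℕ) : ((2 ^ k : ℕ) : ZMod (2 ^ (k + 1))) ≠ 0 := by
  rw [Ne, ZMod.natCast_eq_zero_iff]
  intro h
  have h1 := Nat.le_of_dvd (by positivity) h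
  have hpow : 2 ^ (k + 1) = 2 * 2 ^ k := by rw [pow_succ, mul_comm]
  have : 0 < 2 ^ k := by positivity
  omega

theorem card_two_torsion (k : ℕ) :
    (Finset.univ.filter (fun a : ZMod (2 ^ (k + 1)) × ZMod (2 ^ (k + 1)) => 2 • a = 0 ∧ a ≠ 0)).card = 3 := by
  set h : ZMod (2 ^ (k + 1)) := ((2 ^ k : ℕ) : ZMod (2 ^ (k + 1))) with hh
  have h0 : h ≠ 0 := zmod_half_ne_zero k
  have hset : (Finset.univ.filter (fun a : ZMod (2 ^ (k + 1)) × ZMod (2 ^ (k + 1)) => 2 • a = 0 ∧ a ≠ 0))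
      = {(h, 0), (0, h), (h, h)} := by
    ext ⟨a, b⟩
    have e2 : (2 • ((a, b) : ZMod (2 ^ (k + 1)) × ZMod (2 ^ (k + 1))) = 0) ↔ (2 * a = 0 ∧ 2 * b = 0) := by
      rw [Prod.smul_mk, Prod.mk_eq_zero, two_nsmul, two_nsmul, two_mul, two_mul]
    simp only [Finset.mem_filter, Finset.mem_univ, true_and, Finset.mem_insert,
      Finset.mem_singleton, Prod.mk.injEq, ne_eq, Prod.mk_eq_zero]
    rw [e2, zmod_two_mul_eq_zero_iff, zmod_two_mul_eq_zero_iff]
    constructor
    · rintro ⟨⟨ha | ha, hb | hb⟩, hne⟩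
      · exact absurd ⟨ha, hb⟩ hne
      · right; left; exact ⟨ha, hb⟩
      · left; exact ⟨ha, hb⟩
      · right; right; exact ⟨ha, hb⟩
    · rintro (⟨ha, hb⟩ | ⟨ha, hb⟩ | ⟨ha, hb⟩)
      · exact ⟨⟨Or.inr ha, Or.inl hb⟩, fun hc => h0 (ha ▸ hc.1)⟩
      · exact ⟨⟨Or.inl ha, Or.inr hb⟩, fun hc => h0 (hb ▸ hc.2)⟩
      · exact ⟨⟨Or.inr ha, Or.inr hb⟩, fun hc => h0 (ha ▸ hc.1)⟩
  rw [hset]
  have h0' : (0 : ZMod (2 ^ (k + 1))) ≠ h := fun hc => h0 hc.symm
  rw [Finset.card_insert_of_notMem, Finset.card_insert_of_notMem, Finset.card_singleton]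
  · simp [h0']
  · simp [h0, h0']


theorem perm_fin3_sq (σ : Equiv.Perm (Fin 3)) (i : Fin 3) (h : σ i = i) : σ ^ 2 = 1 := by
  revert σ i; decide

theorem perm_card3_sq {Ω : Type*} [Fintype Ω] (h3 : Fintype.card Ω = 3) (σ : Equiv.Perm Ω) (ω : Ω)
    (h : σ ω = ω) : σ ^ 2 = 1 := by
  let e : Ω ≃ Fin 3 := Fintype.equivFinOfCardEq h3
  have h1 : (e.permCongr σ) (e ω) = e ω := by
    simp [Equiv.permCongr_apply, h]
  have h2 := perm_fin3_sq (e.permCongr σ) (e ω) h1
  ext x
  have h3 := congrArg (fun τ : Equiv.Perm (Fin 3) => τ (e x)) h2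
  simp only [pow_two, Equiv.Perm.mul_apply, Equiv.permCongr_apply, Equiv.symm_apply_apply,
    Equiv.Perm.one_apply] at h3
  simpa [pow_two] using e.injective h3

theorem perm_eq_one_of_sq_of_odd {Ω : Type*} (σ : Equiv.Perm Ω) (h2 : σ ^ 2 = 1) (n : ℕ) (hn : Odd n)
    (hσ : σ ^ n = 1) : σ = 1 := by
  obtain ⟨j, rfl⟩ := hn
  rw [pow_succ, pow_mul, h2, one_pow, one_mul] at hσ
  exact hσ


section
variable {H : Type*} [Group H]

/-- An automorphism of odd order of an abelian 2-group fixing all elements of order ≤ 2 is trivial. -/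
theorem aut_eq_one_of_fix_sq_eq_one (hcomm : ∀ x y : H, x * y = y * x) (N : ℕ)
    (hN : ∀ x : H, x ^ (2 ^ N) = 1) (α : MulAut H) (n : ℕ) (hn : Odd n) (hαn : α ^ n = 1)
    (hfix : ∀ x : H, x ^ 2 = 1 → α x = x) : α = 1 := by
  have key : ∀ k : ℕ, ∀ x : H, x ^ (2 ^ k) = 1 → α x = x := by
    intro k
    induction k with
    | zero =>
      intro x hx
      rw [pow_zero, pow_one] at hx
      rw [hx, map_one]
    | succ k ih =>
      intro x hx
      have hx2 : (x ^ 2) ^ (2 ^ k) = 1 := by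
        rw [← pow_mul, ← pow_succ']; exact hx
      have h1 : α (x ^ 2) = x ^ 2 := ih _ hx2
      set u := α x * x⁻¹ with hu
      have hu2 : u ^ 2 = 1 := by
        rw [hu, pow_two]
        have : α x * x⁻¹ * (α x * x⁻¹) = (α x * α x) * (x⁻¹ * x⁻¹) := by
          rw [mul_assoc, mul_assoc]
          congr 1
          rw [← mul_assoc, hcomm x⁻¹ (α x), mul_assoc]
        rw [this, ← map_mul, ← pow_two, h1, pow_two]
        group
      have hαu : α u = u := hfix u hu2
      have hαx : α x = u * x := by rw [hu]; group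
      have hα2 : (α ^ 2) x = x := by
        rw [pow_two, MulAut.mul_apply, hαx, map_mul, hαu, hαx, ← mul_assoc, ← pow_two, hu2, one_mul]
      have hpow : ∀ j : ℕ, ((α ^ 2) ^ j) x = x := by
        intro j
        induction j with
        | zero => simp
        | succ j ihj => rw [pow_succ, MulAut.mul_apply, hα2, ihj]
      obtain ⟨j, hj⟩ := hn
      have : α = (α ^ 2) ^ (j + 1) := by
        rw [← pow_mul]
        have : 2 * (j + 1) = n + 1 := by omega
        rw [this, pow_succ, hαn, one_mul]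
      rw [this]
      exact hpow (j + 1)
  ext x
  exact key N x (hN x)

/-- involutions of `H`. -/
abbrev Invol (H : Type*) [Group H] : Type _ := {x : H // x ^ 2 = 1 ∧ x ≠ 1}

instance involAction : MulAction (MulAut H) (Invol H) where
  smul α x := ⟨α x.1, by rw [← map_pow, x.2.1, map_one],
    fun h => x.2.2 ((MulEquiv.map_eq_one_iff α).mp h)⟩
  one_smul _ := Subtype.ext rfl
  mul_smul _ _ _ := Subtype.ext rfl

theorem invol_smul_val (α : MulAut H) (x : Invol H) : (α • x).1 = α x.1 := rfl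


theorem card_invol (k : ℕ)
    (e : H ≃* Multiplicative (ZMod (2 ^ (k + 1)) × ZMod (2 ^ (k + 1)))) :
    Nat.card (Invol H) = 3 := by
  classical
  have e1 : Invol H ≃ {a : ZMod (2 ^ (k + 1)) × ZMod (2 ^ (k + 1)) // 2 • a = 0 ∧ a ≠ 0} := by
    refine Equiv.subtypeEquiv (e.toEquiv.trans Multiplicative.toAdd) ?_
    intro x
    simp only [Equiv.trans_apply]
    have h1 : x ^ 2 = 1 ↔ 2 • Multiplicative.toAdd (e x) = 0 := by
      rw [← toAdd_pow, ← map_pow]
      constructor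
      · intro h; rw [h, map_one]; rfl
      · intro h
        have : e (x ^ 2) = 1 := h
        exact (MulEquiv.map_eq_one_iff e).mp this
    have h2 : x ≠ 1 ↔ Multiplicative.toAdd (e x) ≠ 0 := by
      constructor
      · intro h hc
        apply h
        have : e x = 1 := hc
        exact (MulEquiv.map_eq_one_iff e).mp this
      · intro h hc
        apply h
        rw [hc, map_one]; rfl
    rw [h1, h2]
    rfl
  rw [Nat.card_congr e1, Nat.card_eq_fintype_card, Fintype.card_subtype]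
  exact card_two_torsion k

theorem comm_of_equiv (m : ℕ) (e : H ≃* Multiplicative (ZMod (2 ^ m) × ZMod (2 ^ m))) (x y : H) :
    x * y = y * x := by
  apply e.injective
  rw [map_mul, map_mul, mul_comm]

theorem pow_eq_one_of_equiv (m : ℕ) (e : H ≃* Multiplicative (ZMod (2 ^ m) × ZMod (2 ^ m))) (x : H) :
    x ^ (2 ^ m) = 1 := by
  apply e.injective
  rw [map_pow, map_one]
  apply Multiplicative.toAdd.injective
  rw [toAdd_pow, toAdd_one]
  have h0 : ((2 ^ m : ℕ) : ZMod (2 ^ m)) = 0 := ZMod.natCast_self _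
  ext
  · rw [Prod.smul_fst, nsmul_eq_mul, h0, zero_mul]; rfl
  · rw [Prod.smul_snd, nsmul_eq_mul, h0, zero_mul]; rfl

/-- In a homocyclic group of type `(2^m, 2^m)`, an automorphism of odd order fixing a nontrivial
element is trivial. -/
theorem aut_eq_one_of_fix (m : ℕ) (hm : 1 ≤ m)
    (e : H ≃* Multiplicative (ZMod (2 ^ m) × ZMod (2 ^ m))) (α : MulAut H) (n : ℕ) (hn : Odd n)
    (hαn : α ^ n = 1) (z : H) (hz : z ≠ 1) (hfix : α z = z) : α = 1 := by
  classical
  obtain ⟨k, rfl⟩ : ∃ k, m = k + 1 := ⟨m - 1, by omega⟩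
  have hcard := card_invol k e
  have : Finite (Invol H) := Nat.finite_of_card_ne_zero (by rw [hcard]; norm_num)
  have : Fintype (Invol H) := Fintype.ofFinite _
  have hcard' : Fintype.card (Invol H) = 3 := by rw [← Nat.card_eq_fintype_card]; exact hcard
  -- an involution fixed by α
  have hzpow := pow_eq_one_of_equiv (k + 1) e z
  obtain ⟨j, hjle, hj⟩ := (Nat.dvd_prime_pow Nat.prime_two).mp (orderOf_dvd_of_pow_eq_one hzpow)
  have hj0 : j ≠ 0 := by
    rintro rfl
    rw [pow_zero, orderOf_eq_one_iff] at hj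
    exact hz hj
  obtain ⟨i, rfl⟩ : ∃ i, j = i + 1 := ⟨j - 1, by omega⟩
  set t := z ^ (2 ^ i) with ht
  have ht2 : t ^ 2 = 1 := by
    rw [ht, ← pow_mul, ← pow_succ, ← hj, pow_orderOf_eq_one]
  have ht1 : t ≠ 1 := by
    rw [ht]
    apply pow_ne_one_of_lt_orderOf (by positivity)
    rw [hj]
    exact Nat.pow_lt_pow_right (by norm_num) (by omega)
  have hαt : α t = t := by rw [ht, map_pow, hfix]
  -- the induced permutation
  set σ := MulAction.toPermHom (MulAut H) (Invol H) α with hσ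
  have hσt : σ ⟨t, ht2, ht1⟩ = ⟨t, ht2, ht1⟩ := Subtype.ext hαt
  have hσ2 : σ ^ 2 = 1 := perm_card3_sq hcard' σ _ hσt
  have hσn : σ ^ n = 1 := by rw [hσ, ← map_pow, hαn, map_one]
  have hσ1 : σ = 1 := perm_eq_one_of_sq_of_odd σ hσ2 n hn hσn
  apply aut_eq_one_of_fix_sq_eq_one (comm_of_equiv _ e) (k + 1) (pow_eq_one_of_equiv _ e) α n hn hαn
  intro x hx
  by_cases hx1 : x = 1
  · rw [hx1, map_one]
  · have := congrArg (fun τ : Equiv.Perm (Invol H) => (τ ⟨x, hx, hx1⟩).1) hσ1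
    exact this

/-- A group of automorphisms of odd order of a homocyclic group of type `(2^m, 2^m)` has order
`1` or `3`. -/
theorem card_aut_subgroup_of_odd (m : ℕ) (hm : 1 ≤ m)
    (e : H ≃* Multiplicative (ZMod (2 ^ m) × ZMod (2 ^ m))) (A : Subgroup (MulAut H)) [Finite A]
    (hodd : Odd (Nat.card A)) : Nat.card A = 1 ∨ Nat.card A = 3 := by
  classical
  obtain ⟨k, rfl⟩ : ∃ k, m = k + 1 := ⟨m - 1, by omega⟩
  have hcard := card_invol k e
  have : Finite (Invol H) := Nat.finite_of_card_ne_zero (by rw [hcard]; norm_num)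
  have hne : Nonempty (Invol H) := by
    by_contra hcon
    rw [not_nonempty_iff] at hcon
    rw [Nat.card_of_isEmpty] at hcard
    norm_num at hcard
  obtain ⟨ω⟩ := hne
  have hinj : Function.Injective (fun a : A => a.1 • ω) := by
    intro a b hab
    simp only at hab
    have h1 : (b.1⁻¹ * a.1) • ω = ω := by
      rw [mul_smul, hab, inv_smul_smul]
    have h2 : (b⁻¹ * a : A) ^ Nat.card A = 1 := pow_card_eq_one'
    have h3 : (b.1⁻¹ * a.1) ^ Nat.card A = 1 := by
      have := congrArg Subtype.val h2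
      rw [Subgroup.coe_pow, Subgroup.coe_mul, Subgroup.coe_inv] at this
      exact this
    have h4 := aut_eq_one_of_fix (k + 1) hm e (b.1⁻¹ * a.1) (Nat.card A) hodd h3 ω.1 ω.2.2
      (congrArg Subtype.val h1)
    apply Subtype.ext
    have : a.1 = b.1 * (b.1⁻¹ * a.1) := by group
    rw [this, h4, mul_one]
  have hle : Nat.card A ≤ 3 := by
    rw [← hcard]
    exact Nat.card_le_card_of_injective _ hinj
  have hpos : 0 < Nat.card A := Nat.card_pos
  obtain ⟨j, hj⟩ := hodd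
  omega


end


end Cfsg.Agent.Helper16
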