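import Mathlib

/-!
# Toggling an element of a finset: a sign-reversing involution (helper16, S4651)
-/

set_option autoImplicit false

namespace Cfsg.Agent.Helper16.KR

section toggle

variable {α : Type*} [DecidableEq α]

/-- remove `x` if present, insert it otherwise -/
def toggle (s : Finset α) (x : α) : Finset α := if x ∈ s then s.erase x else insert x s

theorem mem_toggle {s : Finset α} {x y : α} :
    y ∈ toggle s x ↔ (y ∈ s ∧ y ≠ x) ∨ (y = x ∧ x ∉ s) := by
  unfold toggle
  by_cases h : x ∈ s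
  · rw [if_pos h, Finset.mem_erase]
    constructor
    · rintro ⟨h1, h2⟩
      exact Or.inl ⟨h2, h1⟩
    · rintro (⟨h1, h2⟩ | ⟨_, h2⟩)
      · exact ⟨h2, h1⟩
      · exact absurd h h2
  · rw [if_neg h, Finset.mem_insert]
    constructor
    · rintro (h1 | h1)
      · exact Or.inr ⟨h1, h⟩
      · exact Or.inl ⟨h1, fun h2 => h (h2 ▸ h1)⟩
    · rintro (⟨h1, _⟩ | ⟨h1, _⟩)
      · exact Or.inr h1
      · exact Or.inl h1

theorem mem_toggle_of_ne {s : Finset α} {x y : α} (h : y ≠ x) : y ∈ toggle s x ↔ y ∈ s := by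
  rw [mem_toggle]
  constructor
  · rintro (⟨h1, _⟩ | ⟨h1, _⟩)
    · exact h1
    · exact absurd h1 h
  · intro h1
    exact Or.inl ⟨h1, h⟩

theorem eq_or_mem_of_mem_toggle {s : Finset α} {x y : α} (h : y ∈ toggle s x) :
    y = x ∨ (y ∈ s ∧ y ≠ x) := by
  rw [mem_toggle] at h
  rcases h with h | h
  · exact Or.inr h
  · exact Or.inl h.1

theorem toggle_toggle (s : Finset α) (x : α) : toggle (toggle s x) x = s := by
  by_cases h : x ∈ s
  · have h1 : toggle s x = s.erase x := by unfold toggle; rw [if_pos h]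
    rw [h1]
    unfold toggle
    rw [if_neg (Finset.notMem_erase x s), Finset.insert_erase h]
  · have h1 : toggle s x = insert x s := by unfold toggle; rw [if_neg h]
    rw [h1]
    unfold toggle
    rw [if_pos (Finset.mem_insert_self x s), Finset.erase_insert h]

theorem toggle_ne (s : Finset α) (x : α) : toggle s x ≠ s := by
  intro h
  by_cases hx : x ∈ s
  · have : x ∈ toggle s x := by rw [h]; exact hx
    rw [mem_toggle] at this
    rcases this with ⟨_, h2⟩ | ⟨_, h2⟩
    · exact h2 rfl
    · exact h2 hx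
  · have : x ∈ toggle s x := by
      rw [mem_toggle]
      exact Or.inr ⟨rfl, hx⟩
    rw [h] at this
    exact hx this

theorem neg_one_pow_card_toggle (s : Finset α) (x : α) :
    (-1 : ℤ) ^ (toggle s x).card = - (-1 : ℤ) ^ s.card := by
  by_cases h : x ∈ s
  · have h1 : toggle s x = s.erase x := by unfold toggle; rw [if_pos h]
    rw [h1, Finset.card_erase_of_mem h]
    obtain ⟨n, hn⟩ : ∃ n, s.card = n + 1 :=
      Nat.exists_eq_succ_of_ne_zero (Finset.card_ne_zero_of_mem h)
    rw [hn, Nat.add_sub_cancel, pow_succ]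
    ring
  · have h1 : toggle s x = insert x s := by unfold toggle; rw [if_neg h]
    rw [h1, Finset.card_insert_of_notMem h, pow_succ]
    ring

/-- a weight-preserving toggling rule kills the alternating sum -/
theorem sum_toggle_eq_zero (𝒜 : Finset (Finset α)) (X : Finset α → α) (w : Finset α → ℤ)
    (hmem : ∀ s ∈ 𝒜, toggle s (X s) ∈ 𝒜)
    (hX : ∀ s ∈ 𝒜, X (toggle s (X s)) = X s)
    (hw : ∀ s ∈ 𝒜, w (toggle s (X s)) = w s) :
    ∑ s ∈ 𝒜, (-1 : ℤ) ^ s.card * w s = 0 := by
  refine Finset.sum_involution (fun s _ => toggle s (X s)) ?_ ?_ ?_ ?_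
  · intro s hs
    rw [neg_one_pow_card_toggle, hw s hs]
    ring
  · intro s _ _
    exact toggle_ne s (X s)
  · intro s hs
    exact hmem s hs
  · intro s hs
    show toggle (toggle s (X s)) (X (toggle s (X s))) = s
    rw [hX s hs, toggle_toggle]

end toggle

end Cfsg.Agent.Helper16.KR
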