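import Mathlib
import Cfsg.Agent.Lib.Helper16.KRToggle

/-!
# Chains of `p`-subgroups stable under an element: basic facts (helper16, S4651)
-/

set_option autoImplicit false

namespace Cfsg.Agent.Helper16.KR

universe u

section sets

variable {L : Type*} [CompleteLattice L]

theorem sSup_mem_of_chain {S : Set L} (hfin : S.Finite) (hne : S.Nonempty)
    (hch : ∀ Q ∈ S, ∀ R ∈ S, Q ≤ R ∨ R ≤ Q) : sSup S ∈ S := by
  obtain ⟨m, hm⟩ := hfin.exists_maximal hne
  have hmS : m ∈ S := hm.1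
  have hmax : ∀ y ∈ S, y ≤ m := by
    intro y hy
    rcases hch y hy m hmS with h | h
    · exact h
    · exact hm.2 hy h
  have : sSup S = m := le_antisymm (sSup_le hmax) (le_sSup hmS)
  rw [this]
  exact hmS

theorem sInf_mem_of_chain {S : Set L} (hfin : S.Finite) (hne : S.Nonempty)
    (hch : ∀ Q ∈ S, ∀ R ∈ S, Q ≤ R ∨ R ≤ Q) : sInf S ∈ S := by
  obtain ⟨m, hm⟩ := hfin.exists_minimal hne
  have hmS : m ∈ S := hm.1
  have hmin : ∀ y ∈ S, m ≤ y := by
    intro y hy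
    rcases hch y hy m hmS with h | h
    · exact hm.2 hy h
    · exact h
  have : sInf S = m := le_antisymm (sInf_le hmS) (le_sInf hmin)
  rw [this]
  exact hmS

theorem sSup_eq_of_mem {S : Set L} {T : L} (hT : T ∈ S) (h : ∀ Q ∈ S, Q ≤ T) : sSup S = T :=
  le_antisymm (sSup_le h) (le_sSup hT)

theorem sInf_eq_of_mem {S : Set L} {m : L} (hm : m ∈ S) (h : ∀ Q ∈ S, m ≤ Q) : sInf S = m :=
  le_antisymm (sInf_le hm) (le_sInf h)

end sets

section grp

variable {G : Type u} [Group G]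

theorem mem_normalizer_sup {A B : Subgroup G} {g : G}
    (hA : g ∈ Subgroup.normalizer ((A : Subgroup G) : Set G))
    (hB : g ∈ Subgroup.normalizer ((B : Subgroup G) : Set G)) :
    g ∈ Subgroup.normalizer (((A ⊔ B : Subgroup G)) : Set G) := by
  rw [Subgroup.mem_normalizer_iff_map_conj_eq] at hA hB ⊢
  rw [Subgroup.map_sup, hA, hB]

theorem mem_normalizer_inf_normalizer {Q R : Subgroup G} {g : G}
    (hQ : g ∈ Subgroup.normalizer ((Q : Subgroup G) : Set G))
    (hR : g ∈ Subgroup.normalizer ((R : Subgroup G) : Set G)) :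
    g ∈ Subgroup.normalizer (((R ⊓ Subgroup.normalizer ((Q : Subgroup G) : Set G) :
      Subgroup G)) : Set G) := by
  rw [Subgroup.mem_normalizer_iff]
  intro h
  rw [Subgroup.mem_inf, Subgroup.mem_inf]
  have h1 : h ∈ R ↔ g * h * g⁻¹ ∈ R := (Subgroup.mem_normalizer_iff.1 hR) h
  have h2 : h ∈ Subgroup.normalizer ((Q : Subgroup G) : Set G) ↔
      g * h * g⁻¹ ∈ Subgroup.normalizer ((Q : Subgroup G) : Set G) := by
    constructor
    · intro hh
      exact Subgroup.mul_mem _ (Subgroup.mul_mem _ hQ hh) (Subgroup.inv_mem _ hQ)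
    · intro hh
      have := Subgroup.mul_mem _ (Subgroup.mul_mem _ (Subgroup.inv_mem _ hQ) hh) hQ
      have e : g⁻¹ * (g * h * g⁻¹) * g = h := by group
      rwa [e] at this
  rw [h1, h2]

theorem mem_normalizer_zpowers_of_comm {g u : G} (h : g * u = u * g) :
    g ∈ Subgroup.normalizer ((Subgroup.zpowers u : Subgroup G) : Set G) := by
  apply Subgroup.centralizer_le_normalizer
  rw [Subgroup.mem_centralizer_iff]
  intro y hy
  obtain ⟨k, rfl⟩ := Subgroup.mem_zpowers_iff.1 hy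
  have hc : Commute g u := h
  exact (hc.zpow_right k).eq.symm

/-- pairwise comparable -/
def IsCh (s : Finset (Subgroup G)) : Prop := ∀ Q ∈ s, ∀ R ∈ s, Q ≤ R ∨ R ≤ Q

/-- the stabiliser of a chain -/
def Nst (s : Finset (Subgroup G)) : Subgroup G :=
  ⨅ Q ∈ s, Subgroup.normalizer ((Q : Subgroup G) : Set G)

theorem mem_Nst {s : Finset (Subgroup G)} {g : G} :
    g ∈ Nst s ↔ ∀ Q ∈ s, g ∈ Subgroup.normalizer ((Q : Subgroup G) : Set G) := by
  unfold Nst
  simp only [Subgroup.mem_iInf]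

/-- a chain of nontrivial `p`-subgroups each normalised by `u` -/
def IsStable (p : ℕ) (u : G) (s : Finset (Subgroup G)) : Prop :=
  IsCh s ∧ (∀ Q ∈ s, Q ≠ ⊥ ∧ IsPGroup p Q) ∧
    ∀ Q ∈ s, u ∈ Subgroup.normalizer ((Q : Subgroup G) : Set G)

/-- every member is normal in the largest -/
def IsNormalCh (s : Finset (Subgroup G)) : Prop :=
  ∃ T ∈ s, ∀ Q ∈ s, Q ≤ T ∧ T ≤ Subgroup.normalizer ((Q : Subgroup G) : Set G)

variable [DecidableEq (Subgroup G)]

theorem isStable_toggle {p : ℕ} {u : G} {s : Finset (Subgroup G)} {X : Subgroup G}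
    (hs : IsStable p u s) (hX1 : X ≠ ⊥) (hXp : IsPGroup p X)
    (hXu : u ∈ Subgroup.normalizer ((X : Subgroup G) : Set G))
    (hcomp : ∀ Q ∈ s, Q ≤ X ∨ X ≤ Q) : IsStable p u (toggle s X) := by
  obtain ⟨hch, hp, hu⟩ := hs
  refine ⟨?_, ?_, ?_⟩
  · intro Q hQ R hR
    rcases eq_or_mem_of_mem_toggle hQ with rfl | ⟨hQs, _⟩
    · rcases eq_or_mem_of_mem_toggle hR with rfl | ⟨hRs, _⟩
      · exact Or.inl le_rfl
      · exact (hcomp R hRs).symm
    · rcases eq_or_mem_of_mem_toggle hR with rfl | ⟨hRs, _⟩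
      · exact hcomp Q hQs
      · exact hch Q hQs R hRs
  · intro Q hQ
    rcases eq_or_mem_of_mem_toggle hQ with rfl | ⟨hQs, _⟩
    · exact ⟨hX1, hXp⟩
    · exact hp Q hQs
  · intro Q hQ
    rcases eq_or_mem_of_mem_toggle hQ with rfl | ⟨hQs, _⟩
    · exact hXu
    · exact hu Q hQs

theorem Nst_toggle_inf (s : Finset (Subgroup G)) (X C : Subgroup G)
    (h : ∀ g : G, (∀ Q ∈ s, Q ≠ X → g ∈ Subgroup.normalizer ((Q : Subgroup G) : Set G)) →
      g ∈ C → g ∈ Subgroup.normalizer ((X : Subgroup G) : Set G)) :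
    Nst (toggle s X) ⊓ C = Nst s ⊓ C := by
  ext g
  rw [Subgroup.mem_inf, Subgroup.mem_inf, mem_Nst, mem_Nst]
  constructor
  · rintro ⟨h1, hC⟩
    refine ⟨?_, hC⟩
    have hX : g ∈ Subgroup.normalizer ((X : Subgroup G) : Set G) :=
      h g (fun Q hQ hne => h1 Q ((mem_toggle_of_ne hne).2 hQ)) hC
    intro Q hQ
    by_cases hne : Q = X
    · rw [hne]; exact hX
    · exact h1 Q ((mem_toggle_of_ne hne).2 hQ)
  · rintro ⟨h1, hC⟩
    refine ⟨?_, hC⟩
    have hX : g ∈ Subgroup.normalizer ((X : Subgroup G) : Set G) :=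
      h g (fun Q hQ _ => h1 Q hQ) hC
    intro Q hQ
    rcases eq_or_mem_of_mem_toggle hQ with rfl | ⟨hQs, _⟩
    · exact hX
    · exact h1 Q hQs

end grp

end Cfsg.Agent.Helper16.KR
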