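import Mathlib
import Cfsg.Agent.Lib.Helper16.KRChain
import Cfsg.Agent.Lib.Helper77.Subpairs

/-!
# Non-normal chains cancel: toggling `N_R(Q)` (helper16, S4651)

For a chain `s` that is not a normal chain let `T` be its largest member, `Q₁` the smallest member
not normal in `T`, `R₁` the smallest member above `Q₁` not normalising `Q₁`; toggle
`X₁ = N_{R₁}(Q₁)`.
-/

set_option autoImplicit false
set_option linter.unusedSectionVars false

namespace Cfsg.Agent.Helper16.KR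

universe u

variable {G : Type u} [Group G]

/-- the largest member -/
noncomputable def T1 (s : Finset (Subgroup G)) : Subgroup G := sSup {Q | Q ∈ s}

/-- the smallest member not normal in the largest -/
noncomputable def Q1 (s : Finset (Subgroup G)) : Subgroup G :=
  sInf {Q | Q ∈ s ∧ ¬ T1 s ≤ Subgroup.normalizer ((Q : Subgroup G) : Set G)}

/-- the smallest member above `Q1` not normalising it -/
noncomputable def R1 (s : Finset (Subgroup G)) : Subgroup G :=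
  sInf {R | R ∈ s ∧ Q1 s ≤ R ∧ ¬ R ≤ Subgroup.normalizer ((Q1 s : Subgroup G) : Set G)}

/-- the subgroup to toggle -/
noncomputable def X1 (s : Finset (Subgroup G)) : Subgroup G :=
  R1 s ⊓ Subgroup.normalizer ((Q1 s : Subgroup G) : Set G)

theorem T1_mem {s : Finset (Subgroup G)} (hch : IsCh s) (hne : s.Nonempty) : T1 s ∈ s := by
  have hfin : {Q : Subgroup G | Q ∈ s}.Finite := s.finite_toSet
  obtain ⟨Q, hQ⟩ := hne
  exact sSup_mem_of_chain hfin ⟨Q, hQ⟩ (fun Q hQ R hR => hch Q hQ R hR)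

theorem le_T1 {s : Finset (Subgroup G)} {Q : Subgroup G} (hQ : Q ∈ s) : Q ≤ T1 s :=
  le_sSup hQ

theorem T1_eq {s : Finset (Subgroup G)} {T : Subgroup G} (hT : T ∈ s) (h : ∀ Q ∈ s, Q ≤ T) :
    T1 s = T := sSup_eq_of_mem hT h

theorem isNormalCh_iff {s : Finset (Subgroup G)} (hch : IsCh s) (hne : s.Nonempty) :
    IsNormalCh s ↔ ∀ Q ∈ s, T1 s ≤ Subgroup.normalizer ((Q : Subgroup G) : Set G) := by
  constructor
  · rintro ⟨T, hT, h⟩ Q hQ
    rw [T1_eq hT (fun Q hQ => (h Q hQ).1)]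
    exact (h Q hQ).2
  · intro h
    exact ⟨T1 s, T1_mem hch hne, fun Q hQ => ⟨le_T1 hQ, h Q hQ⟩⟩

theorem Q1_spec {s : Finset (Subgroup G)} (hch : IsCh s) (hne : s.Nonempty)
    (hnn : ¬ IsNormalCh s) :
    Q1 s ∈ s ∧ ¬ T1 s ≤ Subgroup.normalizer ((Q1 s : Subgroup G) : Set G) ∧
      ∀ Q ∈ s, ¬ T1 s ≤ Subgroup.normalizer ((Q : Subgroup G) : Set G) → Q1 s ≤ Q := by
  have hfin : {Q : Subgroup G | Q ∈ s ∧
      ¬ T1 s ≤ Subgroup.normalizer ((Q : Subgroup G) : Set G)}.Finite :=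
    s.finite_toSet.subset (fun Q hQ => hQ.1)
  have hne' : {Q : Subgroup G | Q ∈ s ∧
      ¬ T1 s ≤ Subgroup.normalizer ((Q : Subgroup G) : Set G)}.Nonempty := by
    rw [isNormalCh_iff hch hne] at hnn
    push Not at hnn
    obtain ⟨Q, hQ, h⟩ := hnn
    exact ⟨Q, hQ, h⟩
  have hmem := sInf_mem_of_chain hfin hne' (fun Q hQ R hR => hch Q hQ.1 R hR.1)
  exact ⟨hmem.1, hmem.2, fun Q hQ h => sInf_le ⟨hQ, h⟩⟩

theorem R1_spec {s : Finset (Subgroup G)} (hch : IsCh s) (hne : s.Nonempty)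
    (hnn : ¬ IsNormalCh s) :
    R1 s ∈ s ∧ Q1 s ≤ R1 s ∧ ¬ R1 s ≤ Subgroup.normalizer ((Q1 s : Subgroup G) : Set G) ∧
      ∀ R ∈ s, Q1 s ≤ R → ¬ R ≤ Subgroup.normalizer ((Q1 s : Subgroup G) : Set G) →
        R1 s ≤ R := by
  obtain ⟨hQ1, hQ2, _⟩ := Q1_spec hch hne hnn
  have hfin : {R : Subgroup G | R ∈ s ∧ Q1 s ≤ R ∧
      ¬ R ≤ Subgroup.normalizer ((Q1 s : Subgroup G) : Set G)}.Finite :=
    s.finite_toSet.subset (fun Q hQ => hQ.1)
  have hne' : {R : Subgroup G | R ∈ s ∧ Q1 s ≤ R ∧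
      ¬ R ≤ Subgroup.normalizer ((Q1 s : Subgroup G) : Set G)}.Nonempty :=
    ⟨T1 s, T1_mem hch hne, le_T1 hQ1, hQ2⟩
  have hmem := sInf_mem_of_chain hfin hne' (fun Q hQ R hR => hch Q hQ.1 R hR.1)
  exact ⟨hmem.1, hmem.2.1, hmem.2.2, fun R hR h1 h2 => sInf_le ⟨hR, h1, h2⟩⟩

theorem X1_le_R1 (s : Finset (Subgroup G)) : X1 s ≤ R1 s := inf_le_left

theorem X1_le_normalizer (s : Finset (Subgroup G)) :
    X1 s ≤ Subgroup.normalizer ((Q1 s : Subgroup G) : Set G) := inf_le_right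

theorem X1_ne_R1 {s : Finset (Subgroup G)} (hch : IsCh s) (hne : s.Nonempty)
    (hnn : ¬ IsNormalCh s) : X1 s ≠ R1 s := by
  intro h
  obtain ⟨_, _, h3, _⟩ := R1_spec hch hne hnn
  apply h3
  rw [← h]
  exact X1_le_normalizer s

theorem Q1_le_X1 {s : Finset (Subgroup G)} (hch : IsCh s) (hne : s.Nonempty)
    (hnn : ¬ IsNormalCh s) : Q1 s ≤ X1 s := by
  obtain ⟨_, h2, _, _⟩ := R1_spec hch hne hnn
  exact le_inf h2 Subgroup.le_normalizer

theorem Q1_lt_X1 [Finite G] {p : ℕ} [Fact p.Prime] {s : Finset (Subgroup G)} (hch : IsCh s)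
    (hne : s.Nonempty) (hnn : ¬ IsNormalCh s) (hp : ∀ Q ∈ s, IsPGroup p Q) :
    Q1 s < X1 s := by
  obtain ⟨h1, h2, h3, _⟩ := R1_spec hch hne hnn
  have hlt : Q1 s < R1 s := by
    refine lt_of_le_of_ne h2 ?_
    intro h
    apply h3
    rw [← h]
    exact Subgroup.le_normalizer
  exact Cfsg.Agent.Helper77.lt_inf_normalizer (hp _ h1) hlt

theorem X1_comp {s : Finset (Subgroup G)} (hch : IsCh s) (hne : s.Nonempty)
    (hnn : ¬ IsNormalCh s) {Q : Subgroup G} (hQ : Q ∈ s) : Q ≤ X1 s ∨ X1 s ≤ Q := by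
  obtain ⟨hQ1, _, _⟩ := Q1_spec hch hne hnn
  obtain ⟨hR1, _, _, hRmin⟩ := R1_spec hch hne hnn
  rcases hch Q hQ (Q1 s) hQ1 with h | h
  · exact Or.inl (h.trans (Q1_le_X1 hch hne hnn))
  · by_cases hn : Q ≤ Subgroup.normalizer ((Q1 s : Subgroup G) : Set G)
    · rcases hch Q hQ (R1 s) hR1 with h' | h'
      · exact Or.inl (le_inf h' hn)
      · exact Or.inr ((X1_le_R1 s).trans h')
    · exact Or.inr ((X1_le_R1 s).trans (hRmin Q hQ h hn))

variable [DecidableEq (Subgroup G)]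

section inv

variable [Finite G] {p : ℕ} [Fact p.Prime] {s : Finset (Subgroup G)} (hch : IsCh s)
  (hne : s.Nonempty) (hnn : ¬ IsNormalCh s) (hp : ∀ Q ∈ s, IsPGroup p Q)

include hch hne hnn hp

theorem Q1_ne_X1 : Q1 s ≠ X1 s := (Q1_lt_X1 hch hne hnn hp).ne

theorem Q1_mem_toggle : Q1 s ∈ toggle s (X1 s) :=
  (mem_toggle_of_ne (Q1_ne_X1 hch hne hnn hp)).2 (Q1_spec hch hne hnn).1

theorem R1_mem_toggle : R1 s ∈ toggle s (X1 s) :=
  (mem_toggle_of_ne (X1_ne_R1 hch hne hnn).symm).2 (R1_spec hch hne hnn).1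

theorem T1_ne_X1 : T1 s ≠ X1 s := by
  intro h
  have h1 : R1 s ≤ X1 s := by
    rw [← h]
    exact le_T1 (R1_spec hch hne hnn).1
  exact X1_ne_R1 hch hne hnn (le_antisymm (X1_le_R1 s) h1)

theorem T1_toggle : T1 (toggle s (X1 s)) = T1 s := by
  apply T1_eq
  · exact (mem_toggle_of_ne (T1_ne_X1 hch hne hnn hp)).2 (T1_mem hch hne)
  · intro Q hQ
    rcases eq_or_mem_of_mem_toggle hQ with rfl | ⟨hQs, _⟩
    · exact (X1_le_R1 s).trans (le_T1 (R1_spec hch hne hnn).1)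
    · exact le_T1 hQs

theorem Q1_toggle : Q1 (toggle s (X1 s)) = Q1 s := by
  obtain ⟨hQ1, hQ2, hQmin⟩ := Q1_spec hch hne hnn
  unfold Q1
  rw [T1_toggle hch hne hnn hp]
  apply sInf_eq_of_mem
  · exact ⟨Q1_mem_toggle hch hne hnn hp, hQ2⟩
  · rintro Q ⟨hQ, hQn⟩
    rcases eq_or_mem_of_mem_toggle hQ with rfl | ⟨hQs, _⟩
    · exact Q1_le_X1 hch hne hnn
    · exact hQmin Q hQs hQn

theorem R1_toggle : R1 (toggle s (X1 s)) = R1 s := by
  obtain ⟨hR1, hR2, hR3, hRmin⟩ := R1_spec hch hne hnn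
  unfold R1
  rw [Q1_toggle hch hne hnn hp]
  apply sInf_eq_of_mem
  · exact ⟨R1_mem_toggle hch hne hnn hp, hR2, hR3⟩
  · rintro R ⟨hR, hRQ, hRn⟩
    rcases eq_or_mem_of_mem_toggle hR with rfl | ⟨hRs, _⟩
    · exact absurd (X1_le_normalizer s) hRn
    · exact hRmin R hRs hRQ hRn

theorem X1_toggle : X1 (toggle s (X1 s)) = X1 s := by
  have h1 := R1_toggle hch hne hnn hp
  have h2 := Q1_toggle hch hne hnn hp
  unfold X1 at h1 h2 ⊢
  rw [h1, h2]

theorem toggle_X1_nonempty : (toggle s (X1 s)).Nonempty :=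
  ⟨Q1 s, Q1_mem_toggle hch hne hnn hp⟩

theorem X1_ne_bot (hbot : ∀ Q ∈ s, Q ≠ ⊥) : X1 s ≠ ⊥ := by
  intro h
  have h1 := Q1_le_X1 hch hne hnn
  rw [h, le_bot_iff] at h1
  exact hbot _ (Q1_spec hch hne hnn).1 h1

theorem isPGroup_X1 : IsPGroup p (X1 s) :=
  (hp _ (R1_spec hch hne hnn).1).to_le (X1_le_R1 s)

theorem mem_normalizer_X1 {g : G}
    (hg : ∀ Q ∈ s, Q ≠ X1 s → g ∈ Subgroup.normalizer ((Q : Subgroup G) : Set G)) :
    g ∈ Subgroup.normalizer ((X1 s : Subgroup G) : Set G) := by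
  apply mem_normalizer_inf_normalizer
  · exact hg _ (Q1_spec hch hne hnn).1 (Q1_ne_X1 hch hne hnn hp)
  · exact hg _ (R1_spec hch hne hnn).1 (X1_ne_R1 hch hne hnn).symm

theorem Nst_toggle_X1 (C : Subgroup G) : Nst (toggle s (X1 s)) ⊓ C = Nst s ⊓ C := by
  apply Nst_toggle_inf
  intro g hg _
  exact mem_normalizer_X1 hch hne hnn hp hg

omit hch hne hnn hp in
theorem isStable_toggle_X1 {u : G} (hs : IsStable p u s) (hne : s.Nonempty)
    (hnn : ¬ IsNormalCh s) : IsStable p u (toggle s (X1 s)) := by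
  have hp : ∀ Q ∈ s, IsPGroup p Q := fun Q hQ => (hs.2.1 Q hQ).2
  refine isStable_toggle hs (X1_ne_bot hs.1 hne hnn hp (fun Q hQ => (hs.2.1 Q hQ).1))
    (isPGroup_X1 hs.1 hne hnn hp) ?_ (fun Q hQ => X1_comp hs.1 hne hnn hQ)
  exact mem_normalizer_X1 hs.1 hne hnn hp (fun Q hQ _ => hs.2.2 Q hQ)

theorem not_isNormalCh_toggle_X1 (hchT : IsCh (toggle s (X1 s))) :
    ¬ IsNormalCh (toggle s (X1 s)) := by
  rw [isNormalCh_iff hchT (toggle_X1_nonempty hch hne hnn hp)]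
  intro h
  have := h _ (Q1_mem_toggle hch hne hnn hp)
  rw [T1_toggle hch hne hnn hp] at this
  exact (Q1_spec hch hne hnn).2.1 this

end inv

end Cfsg.Agent.Helper16.KR
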