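import Mathlib
import Cfsg.Agent.Lib.Helper16.KRChain

/-!
# The conical contraction `Q ≤ Q⟨u⟩ ≥ ⟨u⟩` as a toggling rule (helper16, S4651)
-/

set_option autoImplicit false

namespace Cfsg.Agent.Helper16.KR

universe u

variable {G : Type u} [Group G]

theorem isPGroup_zpowers_of_orderOf {p : ℕ} {u : G} (hup : ∃ k : ℕ, orderOf u = p ^ k) :
    IsPGroup p (Subgroup.zpowers u) := by
  obtain ⟨k, hk⟩ := hup
  rintro ⟨y, hy⟩
  obtain ⟨j, rfl⟩ := Subgroup.mem_zpowers_iff.1 hy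
  refine ⟨k, Subtype.ext ?_⟩
  show (u ^ j) ^ p ^ k = 1
  rw [← zpow_natCast, ← zpow_mul, mul_comm, zpow_mul, zpow_natCast, ← hk, pow_orderOf_eq_one,
    one_zpow]

/-- the largest member of the chain not containing `u` (or `⊥`) -/
noncomputable def A2 (u : G) (s : Finset (Subgroup G)) : Subgroup G :=
  sSup {Q | Q ∈ s ∧ u ∉ Q}

/-- the subgroup to toggle -/
noncomputable def X2 (u : G) (s : Finset (Subgroup G)) : Subgroup G :=
  A2 u s ⊔ Subgroup.zpowers u

theorem A2_cases {u : G} {s : Finset (Subgroup G)} (hs : IsCh s) :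
    A2 u s = ⊥ ∨ (A2 u s ∈ s ∧ u ∉ A2 u s) := by
  by_cases hne : {Q : Subgroup G | Q ∈ s ∧ u ∉ Q}.Nonempty
  · right
    have hfin : {Q : Subgroup G | Q ∈ s ∧ u ∉ Q}.Finite :=
      s.finite_toSet.subset (fun Q hQ => hQ.1)
    exact sSup_mem_of_chain hfin hne (fun Q hQ R hR => hs Q hQ.1 R hR.1)
  · left
    rw [Set.not_nonempty_iff_eq_empty] at hne
    unfold A2
    rw [hne, sSup_empty]

theorem le_A2 {u : G} {s : Finset (Subgroup G)} {Q : Subgroup G} (hQ : Q ∈ s) (hu : u ∉ Q) :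
    Q ≤ A2 u s := le_sSup ⟨hQ, hu⟩

theorem A2_le {u : G} {s : Finset (Subgroup G)} (hs : IsCh s) {Q : Subgroup G} (hQ : Q ∈ s)
    (hu : u ∈ Q) : A2 u s ≤ Q := by
  apply sSup_le
  rintro R ⟨hR, huR⟩
  rcases hs R hR Q hQ with h | h
  · exact h
  · exact absurd (h hu) huR

theorem u_mem_X2 (u : G) (s : Finset (Subgroup G)) : u ∈ X2 u s :=
  (le_sup_right : Subgroup.zpowers u ≤ X2 u s) (Subgroup.mem_zpowers u)

theorem X2_comp {u : G} {s : Finset (Subgroup G)} (hs : IsCh s) {Q : Subgroup G} (hQ : Q ∈ s) :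
    Q ≤ X2 u s ∨ X2 u s ≤ Q := by
  by_cases hu : u ∈ Q
  · right
    exact sup_le (A2_le hs hQ hu) (by rw [Subgroup.zpowers_le]; exact hu)
  · left
    exact (le_A2 hQ hu).trans le_sup_left

variable [DecidableEq (Subgroup G)]

theorem A2_toggle (u : G) (s : Finset (Subgroup G)) :
    A2 u (toggle s (X2 u s)) = A2 u s := by
  unfold A2
  congr 1
  ext Q
  constructor
  · rintro ⟨hQ, hu⟩
    have hne : Q ≠ X2 u s := fun h => hu (h ▸ u_mem_X2 u s)
    exact ⟨(mem_toggle_of_ne hne).1 hQ, hu⟩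
  · rintro ⟨hQ, hu⟩
    have hne : Q ≠ X2 u s := fun h => hu (h ▸ u_mem_X2 u s)
    exact ⟨(mem_toggle_of_ne hne).2 hQ, hu⟩

theorem X2_toggle (u : G) (s : Finset (Subgroup G)) :
    X2 u (toggle s (X2 u s)) = X2 u s := by
  unfold X2
  rw [show A2 u (toggle s (A2 u s ⊔ Subgroup.zpowers u)) = A2 u s from A2_toggle u s]

theorem isStable_toggle_X2 {p : ℕ} {u : G} (hu1 : u ≠ 1) (hup : ∃ k : ℕ, orderOf u = p ^ k)
    {s : Finset (Subgroup G)} (hs : IsStable p u s) : IsStable p u (toggle s (X2 u s)) := by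
  refine isStable_toggle hs ?_ ?_ ?_ (fun Q hQ => X2_comp hs.1 hQ)
  · intro h
    have := u_mem_X2 u s
    rw [h, Subgroup.mem_bot] at this
    exact hu1 this
  · have hA : IsPGroup p (A2 u s) := by
      rcases A2_cases (u := u) hs.1 with h | ⟨h, _⟩
      · rw [h]
        exact IsPGroup.of_bot
      · exact (hs.2.1 _ h).2
    have hAn : Subgroup.zpowers u ≤ Subgroup.normalizer ((A2 u s : Subgroup G) : Set G) := by
      rw [Subgroup.zpowers_le]
      rcases A2_cases (u := u) hs.1 with h | ⟨h, _⟩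
      · rw [h]
        rw [Subgroup.normalizer_eq_top]
        exact Subgroup.mem_top u
      · exact hs.2.2 _ h
    exact IsPGroup.to_sup_of_normal_left' hA (isPGroup_zpowers_of_orderOf hup) hAn
  · exact Subgroup.le_normalizer (u_mem_X2 u s)

theorem Nst_toggle_X2 {p : ℕ} {u : G} {s : Finset (Subgroup G)} (hs : IsStable p u s) :
    Nst (toggle s (X2 u s)) ⊓ Subgroup.centralizer ({u} : Set G) =
      Nst s ⊓ Subgroup.centralizer ({u} : Set G) := by
  apply Nst_toggle_inf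
  intro g hg hC
  have hcomm : g * u = u * g := by
    rw [Subgroup.mem_centralizer_iff] at hC
    exact (hC u rfl).symm
  refine mem_normalizer_sup ?_ (mem_normalizer_zpowers_of_comm hcomm)
  rcases A2_cases (u := u) hs.1 with h | ⟨h, hu⟩
  · rw [h, Subgroup.normalizer_eq_top]
    exact Subgroup.mem_top g
  · apply hg _ h
    intro heq
    exact hu (heq ▸ u_mem_X2 u s)

end Cfsg.Agent.Helper16.KR
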