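import Mathlib
import Cfsg.Agent.Lib.Helper16.KRStage1
import Cfsg.Agent.Lib.Helper16.KRStage2

/-!
# The alternating sum over `u`-stable normal chains collapses (helper16, S4651)
-/

set_option autoImplicit false
set_option linter.unusedSectionVars false
set_option linter.style.haveILetI false

namespace Cfsg.Agent.Helper16.KR

universe u

variable {G : Type u} [Group G] [Finite G] {p : ℕ} [Fact p.Prime]

theorem isStable_empty (p : ℕ) (u : G) : IsStable p u (∅ : Finset (Subgroup G)) := by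
  refine ⟨?_, ?_, ?_⟩
  · intro Q hQ
    exact absurd hQ (Finset.notMem_empty Q)
  · intro Q hQ
    exact absurd hQ (Finset.notMem_empty Q)
  · intro Q hQ
    exact absurd hQ (Finset.notMem_empty Q)

theorem Nst_empty : Nst (∅ : Finset (Subgroup G)) = ⊤ := by
  ext g
  rw [mem_Nst]
  constructor
  · intro _
    exact Subgroup.mem_top g
  · intro _ Q hQ
    exact absurd hQ (Finset.notMem_empty Q)

theorem chain_sum (u : G) (hu1 : u ≠ 1) (hup : ∃ k : ℕ, orderOf u = p ^ k)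
    (F : Subgroup G → ℤ) :
    ∑ᶠ s ∈ {s : Finset (Subgroup G) | (s.Nonempty ∧ (∀ Q ∈ s, ∀ R ∈ s, Q ≤ R ∨ R ≤ Q) ∧
        (∀ Q ∈ s, Q ≠ ⊥ ∧ IsPGroup p Q) ∧
        ∃ T ∈ s, ∀ Q ∈ s, Q ≤ T ∧ T ≤ Subgroup.normalizer ((Q : Subgroup G) : Set G)) ∧
        u ∈ Nst s},
      (-1 : ℤ) ^ (s.card - 1) * F (Nst s ⊓ Subgroup.centralizer ({u} : Set G)) =
    F (Subgroup.centralizer ({u} : Set G)) := by
  classical
  haveI : Fintype (Subgroup G) := Fintype.ofFinite _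
  obtain ⟨w, hw⟩ : ∃ w : Finset (Subgroup G) → ℤ,
      w = fun s => F (Nst s ⊓ Subgroup.centralizer ({u} : Set G)) := ⟨_, rfl⟩
  obtain ⟨𝒜₂, h𝒜₂⟩ : ∃ 𝒜₂ : Finset (Finset (Subgroup G)),
      𝒜₂ = Finset.univ.filter (fun s => IsStable p u s) := ⟨_, rfl⟩
  have hm2 : ∀ s, s ∈ 𝒜₂ ↔ IsStable p u s := by
    intro s
    rw [h𝒜₂, Finset.mem_filter]
    exact ⟨fun h => h.2, fun h => ⟨Finset.mem_univ _, h⟩⟩
  obtain ⟨𝒜₁, h𝒜₁⟩ : ∃ 𝒜₁ : Finset (Finset (Subgroup G)),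
      𝒜₁ = 𝒜₂.filter (fun s => s.Nonempty ∧ ¬ IsNormalCh s) := ⟨_, rfl⟩
  have hm1 : ∀ s, s ∈ 𝒜₁ ↔ IsStable p u s ∧ s.Nonempty ∧ ¬ IsNormalCh s := by
    intro s
    rw [h𝒜₁, Finset.mem_filter, hm2]
  obtain ⟨𝒩, h𝒩⟩ : ∃ 𝒩 : Finset (Finset (Subgroup G)),
      𝒩 = 𝒜₂.filter (fun s => s.Nonempty ∧ IsNormalCh s) := ⟨_, rfl⟩
  have hmN : ∀ s, s ∈ 𝒩 ↔ IsStable p u s ∧ s.Nonempty ∧ IsNormalCh s := by
    intro s
    rw [h𝒩, Finset.mem_filter, hm2]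
  -- the two cancellations
  have h2 : ∑ s ∈ 𝒜₂, (-1 : ℤ) ^ s.card * w s = 0 := by
    refine sum_toggle_eq_zero 𝒜₂ (X2 u) w ?_ ?_ ?_
    · intro s hs
      rw [hm2] at hs ⊢
      exact isStable_toggle_X2 hu1 hup hs
    · intro s _
      exact X2_toggle u s
    · intro s hs
      rw [hm2] at hs
      rw [hw]
      show F (Nst (toggle s (X2 u s)) ⊓ Subgroup.centralizer ({u} : Set G)) =
        F (Nst s ⊓ Subgroup.centralizer ({u} : Set G))
      rw [Nst_toggle_X2 hs]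
  have h1 : ∑ s ∈ 𝒜₁, (-1 : ℤ) ^ s.card * w s = 0 := by
    refine sum_toggle_eq_zero 𝒜₁ X1 w ?_ ?_ ?_
    · intro s hs
      rw [hm1] at hs ⊢
      obtain ⟨hst, hne, hnn⟩ := hs
      have hp : ∀ Q ∈ s, IsPGroup p Q := fun Q hQ => (hst.2.1 Q hQ).2
      have hst' := isStable_toggle_X1 hst hne hnn
      exact ⟨hst', toggle_X1_nonempty hst.1 hne hnn hp,
        not_isNormalCh_toggle_X1 hst.1 hne hnn hp hst'.1⟩
    · intro s hs
      rw [hm1] at hs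
      obtain ⟨hst, hne, hnn⟩ := hs
      exact X1_toggle hst.1 hne hnn (fun Q hQ => (hst.2.1 Q hQ).2)
    · intro s hs
      rw [hm1] at hs
      obtain ⟨hst, hne, hnn⟩ := hs
      rw [hw]
      show F (Nst (toggle s (X1 s)) ⊓ Subgroup.centralizer ({u} : Set G)) =
        F (Nst s ⊓ Subgroup.centralizer ({u} : Set G))
      rw [Nst_toggle_X1 hst.1 hne hnn (fun Q hQ => (hst.2.1 Q hQ).2)]
  -- the partition
  have hsplit := Finset.sum_filter_add_sum_filter_not 𝒜₂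
    (fun s => s.Nonempty ∧ ¬ IsNormalCh s) (fun s => (-1 : ℤ) ^ s.card * w s)
  rw [← h𝒜₁, h1, h2, zero_add] at hsplit
  have hrest : 𝒜₂.filter (fun s => ¬ (s.Nonempty ∧ ¬ IsNormalCh s)) = insert ∅ 𝒩 := by
    ext s
    rw [Finset.mem_filter, Finset.mem_insert, hm2, hmN]
    constructor
    · rintro ⟨hst, hn⟩
      by_cases hne : s.Nonempty
      · right
        refine ⟨hst, hne, ?_⟩
        by_contra hnn
        exact hn ⟨hne, hnn⟩
      · left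
        exact Finset.not_nonempty_iff_eq_empty.1 hne
    · rintro (rfl | ⟨hst, hne, hnc⟩)
      · exact ⟨isStable_empty p u, fun h => Finset.not_nonempty_empty h.1⟩
      · exact ⟨hst, fun h => h.2 hnc⟩
  have hnotmem : (∅ : Finset (Subgroup G)) ∉ 𝒩 := by
    rw [hmN]
    intro h
    exact Finset.not_nonempty_empty h.2.1
  rw [hrest, Finset.sum_insert hnotmem] at hsplit
  have hempty : (-1 : ℤ) ^ (∅ : Finset (Subgroup G)).card * w ∅ =
      F (Subgroup.centralizer ({u} : Set G)) := by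
    rw [hw]
    show (-1 : ℤ) ^ (∅ : Finset (Subgroup G)).card *
      F (Nst (∅ : Finset (Subgroup G)) ⊓ Subgroup.centralizer ({u} : Set G)) = _
    rw [Finset.card_empty, pow_zero, one_mul, Nst_empty, top_inf_eq]
  rw [hempty] at hsplit
  -- the finsum
  have hset : {s : Finset (Subgroup G) | (s.Nonempty ∧ (∀ Q ∈ s, ∀ R ∈ s, Q ≤ R ∨ R ≤ Q) ∧
        (∀ Q ∈ s, Q ≠ ⊥ ∧ IsPGroup p Q) ∧
        ∃ T ∈ s, ∀ Q ∈ s, Q ≤ T ∧ T ≤ Subgroup.normalizer ((Q : Subgroup G) : Set G)) ∧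
        u ∈ Nst s} = ↑𝒩 := by
    ext s
    rw [Set.mem_ofPred_eq, Finset.mem_coe, hmN, mem_Nst]
    constructor
    · rintro ⟨⟨hne, hch, hpg, hnc⟩, hu⟩
      exact ⟨⟨hch, hpg, hu⟩, hne, hnc⟩
    · rintro ⟨⟨hch, hpg, hu⟩, hne, hnc⟩
      exact ⟨⟨hne, hch, hpg, hnc⟩, hu⟩
  rw [hset, finsum_mem_coe_finset]
  have hterm : ∀ s ∈ 𝒩, (-1 : ℤ) ^ (s.card - 1) *
      F (Nst s ⊓ Subgroup.centralizer ({u} : Set G)) = - ((-1 : ℤ) ^ s.card * w s) := by
    intro s hs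
    rw [hmN] at hs
    obtain ⟨n, hn⟩ : ∃ n, s.card = n + 1 :=
      Nat.exists_eq_succ_of_ne_zero (Finset.card_ne_zero.2 hs.2.1)
    rw [hn, Nat.add_sub_cancel, pow_succ, hw]
    ring
  rw [Finset.sum_congr rfl hterm, Finset.sum_neg_distrib]
  linarith

end Cfsg.Agent.Helper16.KR
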