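import Mathlib
import Cfsg.Prelude.Def_Blocks
import Cfsg.Prelude.Def_BlockRank
import Cfsg.Agent.Lib.Helper78.BlockRank

/-!
# The `p`-regular rank of a union of blocks (helper16, for S4651)

`Helper78.card_mul_blockRank` generalised from a single block to any set of irreducible
characters closed under `SameBlock`.
-/

set_option autoImplicit false
set_option linter.unusedSectionVars false
set_option linter.style.haveILetI false

namespace Cfsg.Agent.Helper16.KR

open Cfsg Cfsg.Agent.Helper77 Cfsg.Agent.Helper78
open scoped ComplexConjugate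

universe u

variable {G : Type u} [Group G] [Fintype G] {p : ℕ} [Fact p.Prime] {M : Ideal AlgInt}

/-- a set of irreducible characters that is a union of blocks -/
def BlockClosed (M : Ideal AlgInt) (B : Set (IrrCharacter G)) : Prop :=
  ∀ ψ ∈ B, ∀ χ : IrrCharacter G, SameBlock M (ψ : G → ℂ) (χ : G → ℂ) → χ ∈ B

theorem blockClosed_of_isPBlock [hpr : M.IsPrime] {B : Set (IrrCharacter G)} (hB : IsPBlock M B) :
    BlockClosed M B := by
  intro ψ hψ χ hs
  obtain ⟨χ₀, rfl⟩ := hB
  exact Cfsg.Agent.Helper77.sameBlock_trans hψ hs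

theorem regProj_pRegularPart_gen (hM : IsPModular p M) {B : Set (IrrCharacter G)}
    (hB : BlockClosed M B) (ψ : IrrCharacter G) (hψ : ψ ∈ B) :
    regProj p B (pRegularPart p (ψ : G → ℂ)) = pRegularPart p (ψ : G → ℂ) := by
  classical
  have hprime := isPrime_of_isPModular hM
  have hcl : IsClassFunction G (pRegularPart p (ψ : G → ℂ)) :=
    isClassFunction_pRegularPart p (Cfsg.Agent.Helper3.isClassFunction_of_isIrrCharacter ψ.2)
  have h1 := Cfsg.Agent.Helper3.classFunction_eq_sum _ hcl
  have h2 := congrArg (regPart p) h1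
  rw [regPart_apply, pRegularPart_idem, map_sum] at h2
  simp only [map_smul, regPart_apply] at h2
  rw [regProj_apply]
  conv_rhs => rw [h2]
  apply Finset.sum_subset (Finset.subset_univ _)
  intro χ _ hχ
  rw [Set.Finite.mem_toFinset] at hχ
  have hne : ¬ SameBlock M (ψ : G → ℂ) (χ : G → ℂ) := by
    intro hs
    exact hχ (hB ψ hψ χ hs)
  rw [classInner_pRegularPart_eq_zero hM ψ χ hne, zero_smul]

theorem isProj_regProj_gen (hM : IsPModular p M) {B : Set (IrrCharacter G)}
    (hB : BlockClosed M B) :
    LinearMap.IsProj (Submodule.span ℂ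
      ((fun χ : IrrCharacter G => pRegularPart p (χ : G → ℂ)) '' B)) (regProj p B) := by
  constructor
  · intro f
    rw [regProj_apply]
    refine Submodule.sum_mem _ fun χ hχ => ?_
    rw [Set.Finite.mem_toFinset] at hχ
    exact Submodule.smul_mem _ _ (Submodule.subset_span ⟨χ, hχ, rfl⟩)
  · intro f hf
    induction hf using Submodule.span_induction with
    | mem x hx =>
      obtain ⟨χ, hχ, rfl⟩ := hx
      exact regProj_pRegularPart_gen hM hB χ hχ
    | zero => exact map_zero _
    | add x y _ _ hx hy => rw [map_add, hx, hy]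
    | smul c x _ hx => rw [map_smul, hx]

/-- `l(B) = ∑_{χ ∈ B} ⟨χ⁰, χ⟩` for a union of blocks -/
theorem blockRank_eq_sum_gen (hM : IsPModular p M) {B : Set (IrrCharacter G)}
    (hB : BlockClosed M B) :
    (blockRank p B : ℂ) = ∑ χ ∈ (Set.toFinite B).toFinset,
      classInner (pRegularPart p (χ : G → ℂ)) (χ : G → ℂ) := by
  classical
  have htr := (isProj_regProj_gen hM hB).trace
  have h1 : LinearMap.trace ℂ (G → ℂ) (regProj p B) =
      ∑ χ ∈ (Set.toFinite B).toFinset,
        classInner (pRegularPart p (χ : G → ℂ)) (χ : G → ℂ) := by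
    unfold regProj
    rw [map_sum]
    refine Finset.sum_congr rfl fun χ _ => ?_
    rw [LinearMap.trace_smulRight]
    rfl
  rw [← h1, htr]
  rfl

end Cfsg.Agent.Helper16.KR
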