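import Mathlib
import Cfsg.Prelude.Def_Blocks
import Cfsg.Prelude.Def_BlockRank
import Cfsg.Agent.Lib.Helper74.Subsec3
import Cfsg.Agent.Lib.Helper16.KRRank

/-!
# `∑ l(β)` over the blocks of `C_G(x)` inducing into a union of blocks (helper16, for S4651)

`Helper74.SS.sum_blockRank_eq` generalised from a single block `B` to the union of the blocks
satisfying a predicate `P`.
-/

set_option autoImplicit false
set_option linter.unusedSectionVars false
set_option linter.style.haveILetI false

namespace Cfsg.Agent.Helper16.KR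

open Cfsg Cfsg.Agent.Helper74.SS
open Cfsg.Agent.Helper77 Cfsg.Agent.Helper78
open scoped ComplexConjugate

universe u

variable {G : Type u} [Group G] [Fintype G] {p : ℕ} [Fact p.Prime] {M : Ideal AlgInt}

/-- the union of the blocks satisfying `P` -/
def unionOf (P : Set (IrrCharacter G) → Prop) : Set (IrrCharacter G) :=
  {χ | ∃ B : Set (IrrCharacter G), χ ∈ B ∧ P B}

theorem blockClosed_unionOf [hpr : M.IsPrime] (P : Set (IrrCharacter G) → Prop)
    (hP : ∀ B, P B → IsPBlock M B) : BlockClosed M (unionOf P) := by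
  intro ψ hψ χ hs
  obtain ⟨B, hψB, hPB⟩ := hψ
  exact ⟨B, blockClosed_of_isPBlock (hP B hPB) ψ hψB χ hs, hPB⟩

theorem sum_blockRank_gen (hM : IsPModular p M) (x : G) (hx : ∃ k : ℕ, orderOf x = p ^ k)
    (P : Set (IrrCharacter G) → Prop) (hP : ∀ B, P B → IsPBlock M B) :
    ((∑ᶠ b ∈ {b : Set (IrrCharacter (Subgroup.centralizer ({x} : Set G))) |
      ∃ B : Set (IrrCharacter G), P B ∧
        IsInducedBlock M (Subgroup.centralizer ({x} : Set G)) b B}, blockRank p b : ℕ) : ℂ) =
      ∑ χ ∈ (Set.toFinite (unionOf P)).toFinset, secNorm p x χ := by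
  classical
  letI : Fintype (Subgroup.centralizer ({x} : Set G)) := Fintype.ofFinite _
  haveI := isPrime_of_isPModular hM
  obtain ⟨S, hSdef⟩ : ∃ S : Set (Set (IrrCharacter (Subgroup.centralizer ({x} : Set G)))),
      S = {b | ∃ B : Set (IrrCharacter G), P B ∧
        IsInducedBlock M (Subgroup.centralizer ({x} : Set G)) b B} := ⟨_, rfl⟩
  have hSmem : ∀ b, b ∈ S ↔ ∃ B : Set (IrrCharacter G), P B ∧
      IsInducedBlock M (Subgroup.centralizer ({x} : Set G)) b B := by
    intro b; rw [hSdef]; rfl
  rw [← hSdef]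
  have hSfin : S.Finite := Set.toFinite S
  rw [finsum_mem_eq_finite_toFinset_sum _ hSfin, Nat.cast_sum]
  -- each rank as a sum over all of `Irr C`
  have hrank : ∀ b ∈ hSfin.toFinset, ((blockRank p b : ℕ) : ℂ) =
      ∑ ψ : IrrCharacter (Subgroup.centralizer ({x} : Set G)),
        if ψ ∈ b then ∑ χ : IrrCharacter G, gdn p x χ ψ * conj (gdn p x χ ψ) else 0 := by
    intro b hb
    have hbS : b ∈ S := (Set.Finite.mem_toFinset hSfin).1 hb
    obtain ⟨B, _, hind⟩ := (hSmem b).1 hbS
    have hbblock : IsPBlock M b := hind.1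
    rw [blockRank_eq_sum hM hbblock]
    rw [← Finset.sum_subset (Finset.subset_univ (Set.toFinite b).toFinset)]
    · refine Finset.sum_congr rfl fun ψ hψ => ?_
      rw [if_pos ((Set.Finite.mem_toFinset _).1 hψ), sum_gdn_left x hx ψ]
    · intro ψ _ hψ
      rw [if_neg (fun h => hψ ((Set.Finite.mem_toFinset _).2 h))]
  rw [Finset.sum_congr rfl hrank, Finset.sum_comm]
  -- the inner sum over blocks
  have hinner : ∀ ψ : IrrCharacter (Subgroup.centralizer ({x} : Set G)),
      ∑ b ∈ hSfin.toFinset,
        (if ψ ∈ b then ∑ χ : IrrCharacter G, gdn p x χ ψ * conj (gdn p x χ ψ) else 0) =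
      if blockOf M (ψ : Subgroup.centralizer ({x} : Set G) → ℂ) ∈ S then
        ∑ χ : IrrCharacter G, gdn p x χ ψ * conj (gdn p x χ ψ) else 0 := by
    intro ψ
    have hkey : ∀ b ∈ hSfin.toFinset, ψ ∈ b →
        b = blockOf M (ψ : Subgroup.centralizer ({x} : Set G) → ℂ) := by
      intro b hb hψb
      have hbS : b ∈ S := (Set.Finite.mem_toFinset hSfin).1 hb
      obtain ⟨B, _, hind⟩ := (hSmem b).1 hbS
      exact eq_of_isPBlock_of_mem hind.1 ⟨ψ, rfl⟩ hψb (mem_blockOf_self ψ)
    by_cases h : blockOf M (ψ : Subgroup.centralizer ({x} : Set G) → ℂ) ∈ S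
    · rw [if_pos h]
      rw [Finset.sum_eq_single (blockOf M (ψ : Subgroup.centralizer ({x} : Set G) → ℂ))]
      · rw [if_pos (mem_blockOf_self ψ)]
      · intro b hb hne
        rw [if_neg (fun hψb => hne (hkey b hb hψb))]
      · intro hnot
        exact absurd ((Set.Finite.mem_toFinset hSfin).2 h) hnot
    · rw [if_neg h]
      refine Finset.sum_eq_zero fun b hb => ?_
      rw [if_neg]
      intro hψb
      apply h
      rw [← hkey b hb hψb]
      exact (Set.Finite.mem_toFinset hSfin).1 hb
  rw [Finset.sum_congr rfl (fun ψ _ => hinner ψ)]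
  -- exchange the conditions
  have hswap : ∀ (ψ : IrrCharacter (Subgroup.centralizer ({x} : Set G))) (χ : IrrCharacter G),
      (if blockOf M (ψ : Subgroup.centralizer ({x} : Set G) → ℂ) ∈ S then
        gdn p x χ ψ * conj (gdn p x χ ψ) else 0) =
      (if χ ∈ unionOf P then gdn p x χ ψ * conj (gdn p x χ ψ) else 0) := by
    intro ψ χ
    by_cases h1 : blockOf M (ψ : Subgroup.centralizer ({x} : Set G) → ℂ) ∈ S
    · by_cases h2 : χ ∈ unionOf P
      · rw [if_pos h1, if_pos h2]
      · rw [if_pos h1, if_neg h2]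
        have : gdn p x χ ψ = 0 := by
          apply gdn_eq_zero x hM hx χ ψ
          intro hind
          obtain ⟨B, hPB, hindB⟩ := (hSmem _).1 h1
          have := isInducedBlock_unique _ hindB hind
          apply h2
          refine ⟨B, ?_, hPB⟩
          rw [this]
          exact mem_blockOf_self χ
        rw [this, zero_mul]
    · by_cases h2 : χ ∈ unionOf P
      · rw [if_neg h1, if_pos h2]
        have : gdn p x χ ψ = 0 := by
          apply gdn_eq_zero x hM hx χ ψ
          intro hind
          apply h1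
          rw [hSmem]
          obtain ⟨B, hχB, hPB⟩ := h2
          have : B = blockOf M (χ : G → ℂ) :=
            eq_of_isPBlock_of_mem (hP B hPB) ⟨χ, rfl⟩ hχB (mem_blockOf_self χ)
          refine ⟨B, hPB, ?_⟩
          rw [this]
          exact hind
        rw [this, zero_mul]
      · rw [if_neg h1, if_neg h2]
  have h3 : ∀ ψ : IrrCharacter (Subgroup.centralizer ({x} : Set G)),
      (if blockOf M (ψ : Subgroup.centralizer ({x} : Set G) → ℂ) ∈ S then
        ∑ χ : IrrCharacter G, gdn p x χ ψ * conj (gdn p x χ ψ) else 0) =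
      ∑ χ : IrrCharacter G,
        (if χ ∈ unionOf P then gdn p x χ ψ * conj (gdn p x χ ψ) else 0) := by
    intro ψ
    rw [← Finset.sum_congr rfl (fun χ _ => hswap ψ χ)]
    by_cases h1 : blockOf M (ψ : Subgroup.centralizer ({x} : Set G) → ℂ) ∈ S
    · simp only [if_pos h1]
    · simp only [if_neg h1, Finset.sum_const_zero]
  rw [Finset.sum_congr rfl (fun ψ _ => h3 ψ), Finset.sum_comm]
  rw [← Finset.sum_subset (Finset.subset_univ (Set.toFinite (unionOf P)).toFinset)]
  · refine Finset.sum_congr rfl fun χ hχ => ?_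
    have hχB : χ ∈ unionOf P := (Set.Finite.mem_toFinset _).1 hχ
    simp only [if_pos hχB]
    rw [sum_gdn_right x χ]
    rfl
  · intro χ _ hχ
    have hχB : χ ∉ unionOf P := fun h => hχ ((Set.Finite.mem_toFinset _).2 h)
    simp only [if_neg hχB, Finset.sum_const_zero]

end Cfsg.Agent.Helper16.KR
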