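import Mathlib
import Cfsg.Prelude.Def_Blocks
import Cfsg.Prelude.Def_BlockRank
import Cfsg.Agent.Lib.Helper74.Subsec3
import Cfsg.Agent.Lib.Helper16.KRSec
import Cfsg.Agent.Lib.Helper16.PPart

/-!
# `|G| (k - l)` of a union of blocks as a sum over the nontrivial `p`-elements (helper16, S4651)
-/

set_option autoImplicit false
set_option linter.unusedSectionVars false
set_option linter.style.haveILetI false

namespace Cfsg.Agent.Helper16.KR

open Cfsg Cfsg.Agent.Helper74.SS
open Cfsg.Agent.Helper77 Cfsg.Agent.Helper78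
open scoped ComplexConjugate

universe u

variable {G : Type u} [Group G] [Fintype G] {p : ℕ} [Fact p.Prime] {M : Ideal AlgInt}

theorem finsum_mem_eq_sum_ite {α A : Type*} [Fintype α] [AddCommMonoid A] (S : Set α)
    [DecidablePred (· ∈ S)] (f : α → A) :
    ∑ᶠ a ∈ S, f a = ∑ a, if a ∈ S then f a else 0 := by
  rw [finsum_mem_eq_finite_toFinset_sum _ (Set.toFinite S), ← Finset.sum_filter]
  refine Finset.sum_congr ?_ (fun _ _ => rfl)
  ext a
  simp

theorem isPPart_one_iff (g : G) : IsPPart p g 1 ↔ ¬ p ∣ orderOf g := by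
  constructor
  · rintro ⟨y, hy, _, _, hreg⟩
    rw [one_mul] at hy
    rw [← hy]
    exact hreg
  · intro h
    exact ⟨g, one_mul g, Commute.one_left g, ⟨0, by rw [orderOf_one, pow_zero]⟩, h⟩

theorem isPPart_pElt {g u : G} (h : IsPPart p g u) : ∃ k : ℕ, orderOf u = p ^ k := by
  obtain ⟨_, _, _, h, _⟩ := h
  exact h

/-- `|C(x)| · secNorm x χ` as a sum over the `p`-section of `x` -/
theorem card_mul_secNorm (x : G) (hx : ∃ k : ℕ, orderOf x = p ^ k) (χ : IrrCharacter G) :
    (Nat.card (Subgroup.centralizer ({x} : Set G)) : ℂ) * secNorm p x χ =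
      ∑ᶠ g ∈ {g : G | IsPPart p g x}, (χ : G → ℂ) g * conj ((χ : G → ℂ) g) := by
  classical
  rw [finsum_mem_eq_sum_ite]
  show _ = ∑ g : G, (if IsPPart p g x then (χ : G → ℂ) g * conj ((χ : G → ℂ) g) else 0)
  letI : Fintype (Subgroup.centralizer ({x} : Set G)) := Fintype.ofFinite _
  have hxC := self_mem_cent x
  obtain ⟨z, hz⟩ : ∃ z : Subgroup.centralizer ({x} : Set G), z = ⟨x, hxC⟩ := ⟨_, rfl⟩
  have hzval : (z : G) = x := by rw [hz]
  have hC : (Nat.card (Subgroup.centralizer ({x} : Set G)) : ℂ) ≠ 0 := by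
    exact_mod_cast Nat.card_pos.ne'
  unfold secNorm classInner
  rw [← mul_assoc, mul_inv_cancel₀ hC, one_mul]
  -- the sum over `C`
  have h1 : ∀ y : Subgroup.centralizer ({x} : Set G),
      pRegularPart p (fun c : Subgroup.centralizer ({x} : Set G) => (χ : G → ℂ) (x * (c : G))) y *
        conj (pRegularPart p
          (fun c : Subgroup.centralizer ({x} : Set G) => (χ : G → ℂ) (x * (c : G))) y) =
      (fun c : Subgroup.centralizer ({x} : Set G) =>
        if IsPPart p (c : G) x then (χ : G → ℂ) c * conj ((χ : G → ℂ) c) else 0) (z * y) := by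
    intro y
    have h3 : ((z * y : Subgroup.centralizer ({x} : Set G)) : G) = x * (y : G) := by
      push_cast; rw [hzval]
    show _ = if IsPPart p ((z * y : Subgroup.centralizer ({x} : Set G)) : G) x then
      (χ : G → ℂ) ((z * y : Subgroup.centralizer ({x} : Set G)) : G) *
        conj ((χ : G → ℂ) ((z * y : Subgroup.centralizer ({x} : Set G)) : G)) else 0
    rw [h3]
    by_cases hy : p ∣ orderOf y
    · rw [pRegularPart_of_singular p _ hy, if_neg (fun h => (isPPart_mul_iff x hx y).1 h hy)]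
      simp
    · rw [pRegularPart_of_regular p _ hy, if_pos ((isPPart_mul_iff x hx y).2 hy)]
  rw [Finset.sum_congr rfl (fun y _ => h1 y)]
  rw [show (∑ y : Subgroup.centralizer ({x} : Set G),
      (fun c : Subgroup.centralizer ({x} : Set G) =>
        if IsPPart p (c : G) x then (χ : G → ℂ) c * conj ((χ : G → ℂ) c) else 0) (z * y)) =
      ∑ y : Subgroup.centralizer ({x} : Set G),
      (fun c : Subgroup.centralizer ({x} : Set G) =>
        if IsPPart p (c : G) x then (χ : G → ℂ) c * conj ((χ : G → ℂ) c) else 0) y from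
    Equiv.sum_comp (Equiv.mulLeft z)
    (fun c : Subgroup.centralizer ({x} : Set G) =>
      if IsPPart p (c : G) x then (χ : G → ℂ) c * conj ((χ : G → ℂ) c) else 0)]
  -- extend to all of `G`
  have h2 : ∑ g : G, (if IsPPart p g x then (χ : G → ℂ) g * conj ((χ : G → ℂ) g) else 0) =
      ∑ g ∈ Finset.univ.filter (fun g : G => g ∈ Subgroup.centralizer ({x} : Set G)),
        (if IsPPart p g x then (χ : G → ℂ) g * conj ((χ : G → ℂ) g) else 0) := by
    symm
    apply Finset.sum_subset (Finset.subset_univ _)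
    intro g _ hg
    rw [if_neg]
    intro hpp
    apply hg
    rw [Finset.mem_filter]
    exact ⟨Finset.mem_univ _, mem_of_isPPart x _ (mem_cent_iff x) hpp⟩
  rw [h2]
  rw [Finset.sum_subtype (Finset.univ.filter
    (fun g : G => g ∈ Subgroup.centralizer ({x} : Set G)))
    (p := fun g => g ∈ Subgroup.centralizer ({x} : Set G)) (by intro g; simp)]

/-- **`|G| (k - l)` of a union of blocks as a sum over nontrivial `p`-elements.** -/
theorem card_mul_sub (hM : IsPModular p M) (P : Set (IrrCharacter G) → Prop)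
    (hP : ∀ B, P B → IsPBlock M B) :
    (Nat.card G : ℂ) * ((Nat.card (unionOf P) : ℂ) - (blockRank p (unionOf P) : ℂ)) =
      ∑ᶠ u ∈ {u : G | u ≠ 1 ∧ ∃ k : ℕ, orderOf u = p ^ k},
          (Nat.card (Subgroup.centralizer ({u} : Set G)) : ℂ) *
            ((∑ᶠ b ∈ {b : Set (IrrCharacter (Subgroup.centralizer ({u} : Set G))) |
              ∃ B : Set (IrrCharacter G), P B ∧
                IsInducedBlock M (Subgroup.centralizer ({u} : Set G)) b B},
              blockRank p b : ℕ) : ℂ) := by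
  classical
  rw [finsum_mem_eq_sum_ite]
  show _ = ∑ u : G, (if (u ≠ 1 ∧ ∃ k : ℕ, orderOf u = p ^ k) then
          (Nat.card (Subgroup.centralizer ({u} : Set G)) : ℂ) *
            ((∑ᶠ b ∈ {b : Set (IrrCharacter (Subgroup.centralizer ({u} : Set G))) |
              ∃ B : Set (IrrCharacter G), P B ∧
                IsInducedBlock M (Subgroup.centralizer ({u} : Set G)) b B},
              blockRank p b : ℕ) : ℂ)
        else 0)
  have hp : p.Prime := Fact.out
  haveI := isPrime_of_isPModular hM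
  have hG : (Nat.card G : ℂ) ≠ 0 := natCard_ne_zero_complex
  have hcl := blockClosed_unionOf (M := M) P hP
  obtain ⟨𝓑, h𝓑⟩ : ∃ 𝓑 : Finset (IrrCharacter G), 𝓑 = (Set.toFinite (unionOf P)).toFinset :=
    ⟨_, rfl⟩
  -- the two halves of the left side
  have hk : (Nat.card G : ℂ) * (Nat.card (unionOf P) : ℂ) =
      ∑ g : G, ∑ χ ∈ 𝓑, (χ : G → ℂ) g * conj ((χ : G → ℂ) g) := by
    rw [Finset.sum_comm]
    have h1 : ∀ χ ∈ 𝓑, ∑ g : G, (χ : G → ℂ) g * conj ((χ : G → ℂ) g) = (Nat.card G : ℂ) := by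
      intro χ _
      have h := classInner_irr_self χ
      unfold classInner at h
      have := congrArg (fun z => (Nat.card G : ℂ) * z) h
      simp only [← mul_assoc, mul_inv_cancel₀ hG, one_mul, mul_one] at this
      exact this
    rw [Finset.sum_congr rfl h1, Finset.sum_const, nsmul_eq_mul, mul_comm]
    congr 2
    rw [h𝓑, Nat.card_coe_set_eq, Set.ncard_eq_toFinset_card (unionOf P) (Set.toFinite _)]
  have hl : (Nat.card G : ℂ) * (blockRank p (unionOf P) : ℂ) =
      ∑ g : G, ∑ χ ∈ 𝓑, pRegularPart p (χ : G → ℂ) g * conj ((χ : G → ℂ) g) := by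
    rw [blockRank_eq_sum_gen hM hcl, ← h𝓑, Finset.mul_sum, Finset.sum_comm]
    refine Finset.sum_congr rfl fun χ _ => ?_
    unfold classInner
    rw [← mul_assoc, mul_inv_cancel₀ hG, one_mul]
  rw [mul_sub, hk, hl, ← Finset.sum_sub_distrib]
  -- the right side
  have hR : ∀ u : G,
      (if (u ≠ 1 ∧ ∃ k : ℕ, orderOf u = p ^ k) then
        (Nat.card (Subgroup.centralizer ({u} : Set G)) : ℂ) *
          ((∑ᶠ b ∈ {b : Set (IrrCharacter (Subgroup.centralizer ({u} : Set G))) |
            ∃ B : Set (IrrCharacter G), P B ∧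
              IsInducedBlock M (Subgroup.centralizer ({u} : Set G)) b B},
            blockRank p b : ℕ) : ℂ)
        else 0) =
      ∑ g : G, (if (u ≠ 1 ∧ IsPPart p g u) then
        ∑ χ ∈ 𝓑, (χ : G → ℂ) g * conj ((χ : G → ℂ) g) else 0) := by
    intro u
    by_cases hu : u ≠ 1 ∧ ∃ k : ℕ, orderOf u = p ^ k
    · rw [if_pos hu, sum_blockRank_gen hM u hu.2 P hP, ← h𝓑, Finset.mul_sum]
      have h5 : ∀ χ ∈ 𝓑, (Nat.card (Subgroup.centralizer ({u} : Set G)) : ℂ) * secNorm p u χ =
          ∑ g : G, (if IsPPart p g u then (χ : G → ℂ) g * conj ((χ : G → ℂ) g) else 0) := by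
        intro χ _
        rw [card_mul_secNorm u hu.2 χ, finsum_mem_eq_sum_ite]
        rfl
      rw [Finset.sum_congr rfl h5, Finset.sum_comm]
      refine Finset.sum_congr rfl fun g _ => ?_
      by_cases hg : IsPPart p g u
      · rw [if_pos ⟨hu.1, hg⟩]
        refine Finset.sum_congr rfl fun χ _ => ?_
        rw [if_pos hg]
      · rw [if_neg (fun h => hg h.2)]
        refine Finset.sum_eq_zero fun χ _ => ?_
        rw [if_neg hg]
    · rw [if_neg hu]
      symm
      refine Finset.sum_eq_zero fun g _ => ?_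
      rw [if_neg]
      intro h
      exact hu ⟨h.1, isPPart_pElt h.2⟩
  rw [Finset.sum_congr rfl (fun u _ => hR u), Finset.sum_comm]
  refine Finset.sum_congr rfl fun g _ => ?_
  obtain ⟨u₀, hu₀⟩ := Cfsg.Agent.Helper16.exists_isPPart hp g
  have hsum : ∑ u : G, (if (u ≠ 1 ∧ IsPPart p g u) then
      ∑ χ ∈ 𝓑, (χ : G → ℂ) g * conj ((χ : G → ℂ) g) else 0) =
      if u₀ ≠ 1 then ∑ χ ∈ 𝓑, (χ : G → ℂ) g * conj ((χ : G → ℂ) g) else 0 := by
    rw [Finset.sum_eq_single u₀]
    · by_cases h1 : u₀ ≠ 1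
      · rw [if_pos ⟨h1, hu₀⟩, if_pos h1]
      · rw [if_neg (fun h => h1 h.1), if_neg h1]
    · intro u _ hne
      rw [if_neg]
      intro hu
      exact hne (Cfsg.Agent.Helper16.isPPart_unique hp hu.2 hu₀)
    · intro h
      exact absurd (Finset.mem_univ _) h
  rw [hsum, ← Finset.sum_sub_distrib]
  by_cases h1 : u₀ ≠ 1
  · rw [if_pos h1]
    have hsing : p ∣ orderOf g := by
      by_contra hreg
      exact h1 (Cfsg.Agent.Helper16.isPPart_unique hp hu₀ ((isPPart_one_iff g).2 hreg))
    refine Finset.sum_congr rfl fun χ _ => ?_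
    rw [pRegularPart_of_singular p _ hsing, zero_mul, sub_zero]
  · rw [if_neg h1]
    have h1' : u₀ = 1 := not_not.1 h1
    have hreg : ¬ p ∣ orderOf g := by
      rw [h1'] at hu₀
      exact (isPPart_one_iff g).1 hu₀
    refine Finset.sum_eq_zero fun χ _ => ?_
    rw [pRegularPart_of_regular p _ hreg, sub_self]

end Cfsg.Agent.Helper16.KR
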