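import Mathlib
import Cfsg.Agent.S0952
import Cfsg.Agent.Lib.Helper78.CharCount

set_option autoImplicit false
set_option linter.style.haveILetI false
open Cfsg

namespace Cfsg.Agent.Helper16

open scoped ComplexConjugate
open Cfsg.Agent.Helper77 Cfsg.Agent.Helper78

section
variable {G : Type*} [Group G] [Fintype G]

/-- A generalized character is an integer combination of irreducible characters, and the
coefficients are the inner products. -/
theorem genChar_decomp {θ : G → ℂ} (hθ : IsGeneralizedCharacter G θ) :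
    ∃ c : IrrCharacter G → ℤ, θ = ∑ χ : IrrCharacter G, ((c χ : ℤ) : ℂ) • (χ : G → ℂ) ∧
      ∀ χ : IrrCharacter G, classInner θ (χ : G → ℂ) = ((c χ : ℤ) : ℂ) := by
  classical
  obtain ⟨ψ₁, ψ₂, h₁, h₂, hθeq⟩ := hθ
  obtain ⟨m₁, hm₁⟩ := Cfsg.Agent.Helper78.IsCharacter.exists_irr_decomp h₁
  obtain ⟨m₂, hm₂⟩ := Cfsg.Agent.Helper78.IsCharacter.exists_irr_decomp h₂
  set c : IrrCharacter G → ℤ := fun χ => (m₁ χ : ℤ) - (m₂ χ : ℤ) with hc
  have hθsum : θ = ∑ χ : IrrCharacter G, ((c χ : ℤ) : ℂ) • (χ : G → ℂ) := by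
    rw [hθeq, hm₁, hm₂, ← Finset.sum_sub_distrib]
    refine Finset.sum_congr rfl fun χ _ => ?_
    rw [hc]
    push_cast
    rw [sub_smul]
  refine ⟨c, hθsum, fun χ => ?_⟩
  nth_rewrite 1 [hθsum]
  exact classInner_decomp (fun ψ => ((c ψ : ℤ) : ℂ)) χ

/-- The `p`-regular part of `χ`, scaled by `k`. -/
noncomputable def pRegScaled (p : ℕ) (k : ℂ) (χ : G → ℂ) : G → ℂ :=
  fun x => if p ∣ orderOf x then 0 else k * χ x

open scoped Classical in
theorem classInner_pRegScaled (p : ℕ) (k : ℂ) (χ ψ : G → ℂ) :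
    classInner (pRegScaled p k χ) ψ = (Nat.card G : ℂ)⁻¹ *
      (k * ∑ x ∈ Finset.univ.filter (fun x : G => ¬ p ∣ orderOf x), χ x * conj (ψ x)) := by
  unfold classInner pRegScaled
  congr 1
  rw [Finset.mul_sum, Finset.sum_filter]
  refine Finset.sum_congr rfl fun x _ => ?_
  by_cases hx : p ∣ orderOf x
  · simp [hx]
  · simp only [hx, if_false, not_false_eq_true, if_true]
    ring

open scoped Classical in
theorem sum_regular_eq_zero_of_not_sameBlock {p : ℕ} [Fact p.Prime] {M : Ideal AlgInt}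
    (hM : IsPModular p M) (χ ψ : IrrCharacter G)
    (h : ¬ SameBlock M (χ : G → ℂ) (ψ : G → ℂ)) :
    ∑ x ∈ Finset.univ.filter (fun x : G => ¬ p ∣ orderOf x),
      (χ : G → ℂ) x * conj ((ψ : G → ℂ) x) = 0 := by
  have h1 := Cfsg.Agent.S0952.result p M hM χ ψ h
  rw [finsum_mem_eq_finite_toFinset_sum _ (Set.toFinite _)] at h1
  rw [← h1]
  refine Finset.sum_congr ?_ fun x _ => rfl
  ext x
  simp

theorem classInner_pRegScaled_eq_zero {p : ℕ} [Fact p.Prime] {M : Ideal AlgInt}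
    (hM : IsPModular p M) (k : ℂ) (χ ψ : IrrCharacter G)
    (h : ¬ SameBlock M (χ : G → ℂ) (ψ : G → ℂ)) :
    classInner (pRegScaled p k (χ : G → ℂ)) (ψ : G → ℂ) = 0 := by
  classical
  rw [classInner_pRegScaled, sum_regular_eq_zero_of_not_sameBlock hM χ ψ h, mul_zero, mul_zero]

end

end Cfsg.Agent.Helper16
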