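import Mathlib
import Cfsg.Prelude.Def_Blocks
import Cfsg.Prelude.Def_BlockRank
import Cfsg.Agent.Lib.Helper76.InBlock3
import Cfsg.Agent.Lib.Helper77.LocalBlock
import Cfsg.Agent.Lib.Helper16.SecondMain2
import Cfsg.Agent.Lib.Helper16.KRSum

/-!
# Transport of ranks and of induced blocks between `↥(K.subgroupOf N)` and `↥K` (helper16, S4651)
-/

set_option autoImplicit false
set_option linter.unusedSectionVars false
set_option linter.style.haveILetI false

namespace Cfsg.Agent.Helper16.KR

open Cfsg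
open Cfsg.Agent.Helper77 Cfsg.Agent.Helper78 Cfsg.Agent.Helper76.InBlock
open scoped ComplexConjugate

universe u

section rank

variable {A A' : Type u} [Group A] [Group A']

theorem pRegularPart_mapIrr (p : ℕ) (φ : A ≃* A') (χ : IrrCharacter A) :
    pRegularPart p (mapIrr φ χ : A' → ℂ) =
      LinearEquiv.funCongrLeft ℂ ℂ φ.symm.toEquiv (pRegularPart p (χ : A → ℂ)) := by
  classical
  funext a'
  have ho : orderOf (φ.symm a') = orderOf a' := MulEquiv.orderOf_eq φ.symm a'
  show pRegularPart p (mapIrr φ χ : A' → ℂ) a' = pRegularPart p (χ : A → ℂ) (φ.symm a')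
  by_cases h : p ∣ orderOf a'
  · rw [pRegularPart_of_singular p _ h, pRegularPart_of_singular p _ (ho ▸ h)]
  · rw [pRegularPart_of_regular p _ h, pRegularPart_of_regular p _ (ho ▸ h)]
    rfl

theorem blockRank_mapSet (p : ℕ) (φ : A ≃* A') (B : Set (IrrCharacter A)) :
    blockRank p (mapSet φ B) = blockRank p B := by
  unfold blockRank
  have himg : (fun χ : IrrCharacter A' => pRegularPart p (χ : A' → ℂ)) '' (mapSet φ B) =
      (LinearEquiv.funCongrLeft ℂ ℂ φ.symm.toEquiv : (A → ℂ) ≃ₗ[ℂ] (A' → ℂ)) ''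
        ((fun χ : IrrCharacter A => pRegularPart p (χ : A → ℂ)) '' B) := by
    unfold mapSet
    rw [Set.image_image, Set.image_image]
    refine Set.image_congr fun χ _ => ?_
    exact pRegularPart_mapIrr p φ χ
  rw [himg]
  have hspan := Submodule.map_span
    ((LinearEquiv.funCongrLeft ℂ ℂ φ.symm.toEquiv : (A → ℂ) ≃ₗ[ℂ] (A' → ℂ)) :
      (A → ℂ) →ₗ[ℂ] (A' → ℂ))
    ((fun χ : IrrCharacter A => pRegularPart p (χ : A → ℂ)) '' B)
  have h2 := LinearEquiv.finrank_map_eq
    (LinearEquiv.funCongrLeft ℂ ℂ φ.symm.toEquiv : (A → ℂ) ≃ₗ[ℂ] (A' → ℂ))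
    (Submodule.span ℂ ((fun χ : IrrCharacter A => pRegularPart p (χ : A → ℂ)) '' B))
  rw [← h2, hspan]
  rfl

end rank

section trans

variable {G : Type u} [Group G] [Fintype G] {p : ℕ} [Fact p.Prime] {M : Ideal AlgInt}

theorem blockRank_downSet (N K : Subgroup G) (hKN : K ≤ N) (β : Set (IrrCharacter K)) :
    blockRank p (downSet N K hKN β) = blockRank p β :=
  blockRank_mapSet p _ β

theorem downSet_mapSet (N K : Subgroup G) (hKN : K ≤ N)
    (β' : Set (IrrCharacter (K.subgroupOf N))) :
    downSet N K hKN (mapSet (Subgroup.subgroupOfEquivOfLe hKN) β') = β' := by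
  unfold downSet
  exact mapSet_symm_mapSet (Subgroup.subgroupOfEquivOfLe hKN) β'

/-- blocks of `K.subgroupOf N` inducing into the blocks of `N` over `b` versus blocks of `K`
inducing `b` -/
theorem sum_blockRank_transport [hpr : M.IsPrime] {b : Set (IrrCharacter G)}
    (N K : Subgroup G) (hKN : K ≤ N)
    (hex : ∀ β' : Set (IrrCharacter (K.subgroupOf N)), IsPBlock M β' →
      ∃ B : Set (IrrCharacter N), IsInducedBlock M (K.subgroupOf N) β' B) :
    ∑ᶠ β' ∈ {β' : Set (IrrCharacter (K.subgroupOf N)) | ∃ B : Set (IrrCharacter N),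
        IsInducedBlock M N B b ∧ IsInducedBlock M (K.subgroupOf N) β' B}, blockRank p β' =
      ∑ᶠ β ∈ {β : Set (IrrCharacter K) | IsInducedBlock M K β b}, blockRank p β := by
  symm
  refine finsum_mem_eq_of_bijOn (downSet N K hKN) ⟨?_, ?_, ?_⟩ ?_
  · intro β hβ
    obtain ⟨B, hB⟩ := hex (downSet N K hKN β) (isPBlock_downSet N K hKN hβ.1)
    exact ⟨B, induced_trans N K hKN hB hβ, hB⟩
  · intro β₁ _ β₂ _ h
    unfold downSet at h
    exact mapSet_injective _ h
  · intro β' hβ'
    obtain ⟨B, hB1, hB2⟩ := hβ'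
    refine ⟨mapSet (Subgroup.subgroupOfEquivOfLe hKN) β', ?_, downSet_mapSet N K hKN β'⟩
    have h1 : IsInducedBlock M (K.subgroupOf N)
        (downSet N K hKN (mapSet (Subgroup.subgroupOfEquivOfLe hKN) β')) B := by
      rw [downSet_mapSet]
      exact hB2
    exact induced_trans' N K hKN h1 hB1
  · intro β _
    exact (blockRank_downSet N K hKN β).symm

/-- the same for the centralizer of a `p`-element of `N` -/
theorem sum_blockRank_centralizer (hM : IsPModular p M) {b : Set (IrrCharacter G)}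
    (N : Subgroup G) (x : N) (hx : ∃ k : ℕ, orderOf x = p ^ k) (K : Subgroup G) (hKN : K ≤ N)
    (hK : K.subgroupOf N = Subgroup.centralizer ({x} : Set N)) :
    ∑ᶠ β' ∈ {β' : Set (IrrCharacter (Subgroup.centralizer ({x} : Set N))) |
        ∃ B : Set (IrrCharacter N), IsInducedBlock M N B b ∧
          IsInducedBlock M (Subgroup.centralizer ({x} : Set N)) β' B}, blockRank p β' =
      ∑ᶠ β ∈ {β : Set (IrrCharacter K) | IsInducedBlock M K β b}, blockRank p β := by
  classical
  haveI := isPrime_of_isPModular hM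
  haveI : Fintype N := Fintype.ofFinite _
  have hex : ∀ β' : Set (IrrCharacter (Subgroup.centralizer ({x} : Set N))), IsPBlock M β' →
      ∃ B : Set (IrrCharacter N),
        IsInducedBlock M (Subgroup.centralizer ({x} : Set N)) β' B := by
    intro β' hβ'
    haveI : Fintype (Subgroup.centralizer ({x} : Set N)) := Fintype.ofFinite _
    exact Cfsg.Agent.Helper16.exists_isInducedBlock_centralizer hM x hx hβ'
  revert hex
  rw [← hK]
  intro hex
  exact sum_blockRank_transport N K hKN hex

end trans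

end Cfsg.Agent.Helper16.KR
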