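import Mathlib
import Cfsg.Prelude.Def_Blocks
import Cfsg.Prelude.Def_BlockRank
import Cfsg.Agent.Lib.Helper16.KRTrans

/-!
# `|N| (k(b_N) - l(b_N))` as a sum of weights over the nontrivial `p`-elements of `N`
(helper16, S4651)
-/

set_option autoImplicit false
set_option linter.unusedSectionVars false
set_option linter.style.haveILetI false

namespace Cfsg.Agent.Helper16.KR

open Cfsg
open Cfsg.Agent.Helper77 Cfsg.Agent.Helper78
open scoped ComplexConjugate

universe u

variable {G : Type u} [Group G] [Fintype G] {p : ℕ} [Fact p.Prime] {M : Ideal AlgInt}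

/-- `|K| · ∑_{β ∈ Bl(K), β^G = b} l(β)` -/
noncomputable def wt (M : Ideal AlgInt) (p : ℕ) (b : Set (IrrCharacter G)) (K : Subgroup G) : ℤ :=
  (Nat.card K : ℤ) *
    ((∑ᶠ β ∈ {β : Set (IrrCharacter K) | IsInducedBlock M K β b}, blockRank p β : ℕ) : ℤ)

theorem intCast_finsum_mem {α : Type*} (S : Set α) (hS : S.Finite) (f : α → ℤ) :
    ((∑ᶠ a ∈ S, f a : ℤ) : ℂ) = ∑ᶠ a ∈ S, (f a : ℂ) := by
  rw [finsum_mem_eq_finite_toFinset_sum _ hS, finsum_mem_eq_finite_toFinset_sum _ hS,
    Int.cast_sum]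

theorem claimA (hM : IsPModular p M) {b : Set (IrrCharacter G)} (hb : IsPBlock M b) :
    (Nat.card G : ℤ) * ((Nat.card b : ℤ) - (blockRank p b : ℤ)) =
      ∑ᶠ u ∈ {u : G | u ≠ 1 ∧ ∃ k : ℕ, orderOf u = p ^ k},
        wt M p b (Subgroup.centralizer ({u} : Set G)) := by
  classical
  have h := card_mul_sub hM (fun B : Set (IrrCharacter G) => B = b) (by rintro B rfl; exact hb)
  have hU : unionOf (fun B : Set (IrrCharacter G) => B = b) = b := by
    ext χ
    constructor
    · rintro ⟨B, hχ, rfl⟩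
      exact hχ
    · intro hχ
      exact ⟨b, hχ, rfl⟩
  rw [hU] at h
  apply Int.cast_injective (α := ℂ)
  rw [intCast_finsum_mem _ (Set.toFinite _)]
  push_cast
  rw [h]
  refine finsum_mem_congr rfl fun u _ => ?_
  unfold wt
  rw [Int.cast_mul, Int.cast_natCast, Int.cast_natCast]
  have hset : {b' : Set (IrrCharacter (Subgroup.centralizer ({u} : Set G))) |
      ∃ B : Set (IrrCharacter G), B = b ∧
        IsInducedBlock M (Subgroup.centralizer ({u} : Set G)) b' B} =
      {β | IsInducedBlock M (Subgroup.centralizer ({u} : Set G)) β b} := by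
    ext β
    constructor
    · rintro ⟨B, rfl, hB⟩
      exact hB
    · intro hβ
      exact ⟨b, rfl, hβ⟩
  rw [hset]

theorem claimB (hM : IsPModular p M) {b : Set (IrrCharacter G)} (N : Subgroup G) :
    (Nat.card N : ℤ) *
      ((Nat.card {ψ : IrrCharacter N | ∃ β : Set (IrrCharacter N),
          ψ ∈ β ∧ IsInducedBlock M N β b} : ℤ) -
        (blockRank p {ψ : IrrCharacter N | ∃ β : Set (IrrCharacter N),
          ψ ∈ β ∧ IsInducedBlock M N β b} : ℤ)) =
      ∑ᶠ u ∈ {u : G | u ∈ N ∧ u ≠ 1 ∧ ∃ k : ℕ, orderOf u = p ^ k},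
        wt M p b (N ⊓ Subgroup.centralizer ({u} : Set G)) := by
  classical
  haveI : Fintype N := Fintype.ofFinite _
  have h := card_mul_sub (G := N) hM (fun B : Set (IrrCharacter N) => IsInducedBlock M N B b)
    (fun B hB => hB.1)
  have hU : unionOf (fun B : Set (IrrCharacter N) => IsInducedBlock M N B b) =
      {ψ : IrrCharacter N | ∃ β : Set (IrrCharacter N), ψ ∈ β ∧ IsInducedBlock M N β b} := rfl
  rw [hU] at h
  apply Int.cast_injective (α := ℂ)
  rw [intCast_finsum_mem _ (Set.toFinite _)]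
  push_cast
  rw [h]
  refine finsum_mem_eq_of_bijOn (fun u' : N => (u' : G)) ⟨?_, ?_, ?_⟩ ?_
  · intro u' hu'
    refine ⟨u'.2, ?_, ?_⟩
    · intro h1
      exact hu'.1 (Subtype.ext h1)
    · obtain ⟨k, hk⟩ := hu'.2
      exact ⟨k, by rw [← hk]; exact Subgroup.orderOf_coe u'⟩
  · intro u₁ _ u₂ _ h12
    exact Subtype.ext h12
  · intro u hu
    refine ⟨⟨u, hu.1⟩, ⟨?_, ?_⟩, rfl⟩
    · intro h1
      exact hu.2.1 (congrArg Subtype.val h1)
    · obtain ⟨k, hk⟩ := hu.2.2
      exact ⟨k, by rw [← hk]; exact (Subgroup.orderOf_coe (⟨u, hu.1⟩ : N)).symm⟩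
  · intro u' hu'
    have hKN : N ⊓ Subgroup.centralizer ({(u' : G)} : Set G) ≤ N := inf_le_left
    have hK : (N ⊓ Subgroup.centralizer ({(u' : G)} : Set G)).subgroupOf N =
        Subgroup.centralizer ({u'} : Set N) := by
      ext y
      rw [Subgroup.mem_subgroupOf, Subgroup.mem_inf, Subgroup.mem_centralizer_iff,
        Subgroup.mem_centralizer_iff]
      constructor
      · rintro ⟨_, hy⟩ z hz
        rw [Set.mem_singleton_iff] at hz
        subst hz
        apply Subtype.ext
        push_cast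
        exact hy _ rfl
      · intro hy
        refine ⟨y.2, ?_⟩
        intro z hz
        rw [Set.mem_singleton_iff] at hz
        subst hz
        have := congrArg Subtype.val (hy u' rfl)
        push_cast at this
        exact this
    have hcard : Nat.card (Subgroup.centralizer ({u'} : Set N)) =
        Nat.card (N ⊓ Subgroup.centralizer ({(u' : G)} : Set G) : Subgroup G) := by
      rw [← hK]
      exact Nat.card_congr (Subgroup.subgroupOfEquivOfLe hKN).toEquiv
    have hsum := sum_blockRank_centralizer hM (b := b) N u' hu'.2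
      (N ⊓ Subgroup.centralizer ({(u' : G)} : Set G)) hKN hK
    unfold wt
    rw [Int.cast_mul, Int.cast_natCast, Int.cast_natCast, hsum, hcard]

end Cfsg.Agent.Helper16.KR
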