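import Mathlib

/-!
# The action of a subgroup of the normalizer on a Klein four subgroup (helper16)
-/

set_option autoImplicit false
set_option linter.unusedSectionVars false
set_option linter.style.haveILetI false

namespace Cfsg.Agent.Helper16.KleinAct

section act

variable {G : Type*} [Group G]

/-- the index of `C_G(P)` in a subgroup `T` of `N_G(P)` divides `|P|!` -/
theorem relIndex_dvd_factorial (P T : Subgroup G) [Finite P]
    (hTN : T ≤ Subgroup.normalizer (P : Set G)) :
    (Subgroup.centralizer (P : Set G)).relIndex T ∣ (Nat.card P).factorial := by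
  classical
  obtain ⟨φ, hφ⟩ : ∃ φ : T →* Equiv.Perm P,
      φ = (MulAut.toPerm P).comp (P.normalizerMonoidHom.comp (Subgroup.inclusion hTN)) :=
    ⟨_, rfl⟩
  have hker : φ.ker = (Subgroup.centralizer (P : Set G)).subgroupOf T := by
    ext t
    rw [MonoidHom.mem_ker, Subgroup.mem_subgroupOf, Subgroup.mem_centralizer_iff, hφ]
    constructor
    · intro h q hq
      have h2 : (t : G) * q * (t : G)⁻¹ = q :=
        congrArg (fun f : Equiv.Perm P => ((f ⟨q, hq⟩ : P) : G)) h
      calc q * (t : G) = ((t : G) * q * (t : G)⁻¹) * (t : G) := by rw [h2]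
        _ = (t : G) * q := by group
    · intro h
      ext ⟨q, hq⟩
      show (t : G) * q * (t : G)⁻¹ = q
      rw [← h q hq]
      group
  have h1 : (Subgroup.centralizer (P : Set G)).relIndex T = Nat.card φ.range := by
    rw [Subgroup.relIndex, ← hker, Subgroup.index_ker]
  rw [h1, ← Nat.card_perm]
  exact Subgroup.card_subgroup_dvd_card _

end act

section klein

variable {V : Type*} [Group V] [IsKleinFour V]

/-- an automorphism of order three of a Klein four group permutes the involutions transitively -/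
theorem klein_aut_transitive (σ : V ≃* V) (h3 : ∀ p, σ (σ (σ p)) = p) (hne : ∃ p, σ p ≠ p)
    (u v : V) (hu : u ≠ 1) (hv : v ≠ 1) : v = u ∨ v = σ u ∨ v = σ (σ u) := by
  have hσ1 : ∀ w : V, w ≠ 1 → σ w ≠ 1 := by
    intro w hw h
    apply hw
    apply σ.injective
    rw [h, map_one]
  -- no fixed points
  have hfix : ∀ w : V, w ≠ 1 → σ w ≠ w := by
    intro w hw hfw
    obtain ⟨p, hp⟩ := hne
    have hp1 : p ≠ 1 := by
      rintro rfl
      exact hp (map_one σ)
    have hpw : w ≠ p := by
      rintro rfl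
      exact hp hfw
    have hσpw : σ p ≠ w := by
      intro h
      apply hpw
      apply σ.injective
      rw [hfw, h]
    have h1 : σ p = w * p := IsKleinFour.eq_mul_of_ne_all hw hp1 hpw (hσ1 p hp1) hσpw hp
    have h2 : σ (σ p) = p := by
      rw [h1, map_mul, hfw, h1, ← mul_assoc, IsKleinFour.mul_self, one_mul]
    have h4 := h3 p
    rw [h2] at h4
    exact hp h4
  have h1 : σ u ≠ u := hfix u hu
  have h2 : σ (σ u) ≠ σ u := hfix (σ u) (hσ1 u hu)
  have h3' : σ (σ u) ≠ u := by
    intro h
    have := h3 u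
    rw [h] at this
    exact h1 this
  have h4 : σ (σ u) = u * σ u :=
    IsKleinFour.eq_mul_of_ne_all hu (hσ1 u hu) (Ne.symm h1) (hσ1 _ (hσ1 u hu)) h3' h2
  by_cases hvu : v = u
  · exact Or.inl hvu
  by_cases hvσ : v = σ u
  · exact Or.inr (Or.inl hvσ)
  · refine Or.inr (Or.inr ?_)
    rw [h4]
    exact IsKleinFour.eq_mul_of_ne_all hu (hσ1 u hu) (Ne.symm h1) hv hvu hvσ

end klein

section trans

variable {G : Type*} [Group G]

/-- an element of `N_G(P) ∖ C_G(P)` whose cube centralizes the Klein four group `P` permutes the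
involutions of `P` transitively -/
theorem klein_transitive (P : Subgroup G) [IsKleinFour P] (t : G)
    (htN : t ∈ Subgroup.normalizer (P : Set G)) (htC : t ∉ Subgroup.centralizer (P : Set G))
    (ht3 : t ^ 3 ∈ Subgroup.centralizer (P : Set G)) (u v : G) (hu : u ∈ P) (hu1 : u ≠ 1)
    (hv : v ∈ P) (hv1 : v ≠ 1) : ∃ k : ℕ, t ^ k * u * (t ^ k)⁻¹ = v := by
  obtain ⟨σ, hσ⟩ : ∃ σ : P ≃* P, σ = P.normalizerMonoidHom ⟨t, htN⟩ := ⟨_, rfl⟩
  have hσc : ∀ p : P, ((σ p : P) : G) = t * p * t⁻¹ := by
    intro p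
    rw [hσ]
    rfl
  have h3 : ∀ p, σ (σ (σ p)) = p := by
    intro p
    apply Subtype.ext
    rw [hσc, hσc, hσc]
    have e3 : t ^ 3 = t * t * t := by rw [pow_succ, pow_succ, pow_one]
    have := (Subgroup.mem_centralizer_iff.mp ht3) p p.2
    rw [e3] at this
    calc t * (t * (t * (p : G) * t⁻¹) * t⁻¹) * t⁻¹
        = ((t * t * t) * (p : G)) * (t * t * t)⁻¹ := by simp only [mul_assoc, mul_inv_rev]
      _ = ((p : G) * (t * t * t)) * (t * t * t)⁻¹ := by rw [this]
      _ = p := mul_inv_cancel_right _ _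
  have hne : ∃ p, σ p ≠ p := by
    by_contra hcon
    push Not at hcon
    apply htC
    rw [Subgroup.mem_centralizer_iff]
    intro q hq
    have := congrArg (fun x : P => (x : G)) (hcon ⟨q, hq⟩)
    simp only [hσc] at this
    calc q * t = (t * q * t⁻¹) * t := by rw [this]
      _ = t * q := by group
  have hu' : (⟨u, hu⟩ : P) ≠ 1 := by
    intro h
    exact hu1 (congrArg Subtype.val h)
  have hv' : (⟨v, hv⟩ : P) ≠ 1 := by
    intro h
    exact hv1 (congrArg Subtype.val h)
  rcases klein_aut_transitive σ h3 hne ⟨u, hu⟩ ⟨v, hv⟩ hu' hv' with h | h | h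
  · refine ⟨0, ?_⟩
    have := congrArg Subtype.val h
    simp only at this
    rw [this]
    group
  · refine ⟨1, ?_⟩
    have := congrArg Subtype.val h
    rw [hσc] at this
    simp only at this
    rw [this, pow_one]
  · refine ⟨2, ?_⟩
    have := congrArg Subtype.val h
    rw [hσc, hσc] at this
    simp only at this
    rw [this, pow_succ, pow_one]
    simp only [mul_assoc, mul_inv_rev]

end trans

end Cfsg.Agent.Helper16.KleinAct
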