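import Mathlib

/-!
# Numerical lemmas for blocks with Klein four defect groups (helper16)

Integer matrices with odd entries whose rows satisfy `∑ ψ, a χ ψ ^ 2 = c * a χ χ`.
-/

set_option autoImplicit false

namespace Cfsg.Agent.Helper16.KleinNum

theorem odd_sq_eq {a : ℤ} (h : Odd a) : ∃ j : ℤ, a ^ 2 = 8 * j + 1 := by
  obtain ⟨k, rfl⟩ := h
  obtain ⟨m, hm⟩ := Int.even_mul_succ_self k
  refine ⟨m, ?_⟩
  have : k * (k + 1) = m + m := hm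
  nlinarith [this]

theorem one_le_sq_of_odd {a : ℤ} (h : Odd a) : 1 ≤ a ^ 2 := by
  obtain ⟨j, hj⟩ := odd_sq_eq h
  have h0 : 0 ≤ a ^ 2 := sq_nonneg a
  omega

/-- a sum of `m` odd squares is `m` modulo `8` -/
theorem sum_odd_sq {ι : Type*} [DecidableEq ι] (S : Finset ι) (f : ι → ℤ)
    (hodd : ∀ ψ ∈ S, Odd (f ψ)) : ∃ J : ℤ, ∑ ψ ∈ S, f ψ ^ 2 = 8 * J + S.card := by
  induction S using Finset.induction_on with
  | empty => exact ⟨0, by simp⟩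
  | insert a S ha ih =>
    obtain ⟨J, hJ⟩ := ih (fun ψ hψ => hodd ψ (Finset.mem_insert_of_mem hψ))
    obtain ⟨j, hj⟩ := odd_sq_eq (hodd a (Finset.mem_insert_self a S))
    refine ⟨J + j, ?_⟩
    rw [Finset.sum_insert ha, Finset.card_insert_of_notMem ha, hJ, hj]
    push_cast
    ring

/-- the number of odd squares in a sum is at most the sum -/
theorem card_le_sum_sq {ι : Type*} [DecidableEq ι] (S : Finset ι) (f : ι → ℤ)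
    (hodd : ∀ ψ ∈ S, Odd (f ψ)) : (S.card : ℤ) ≤ ∑ ψ ∈ S, f ψ ^ 2 := by
  have : ∑ ψ ∈ S, (1 : ℤ) ≤ ∑ ψ ∈ S, f ψ ^ 2 :=
    Finset.sum_le_sum fun ψ hψ => one_le_sq_of_odd (hodd ψ hψ)
  simpa using this

/-- **Defect two**: odd entries, rows `∑ a² = 4 a_χχ`, trace `4`: exactly four indices and all
diagonal entries equal to `1`. -/
theorem card_eq_four {ι : Type*} [DecidableEq ι] (S : Finset ι) (a : ι → ι → ℤ)
    (hodd : ∀ χ ∈ S, ∀ ψ ∈ S, Odd (a χ ψ))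
    (hrow : ∀ χ ∈ S, ∑ ψ ∈ S, a χ ψ ^ 2 = 4 * a χ χ)
    (htr : ∑ χ ∈ S, a χ χ = 4) : S.card = 4 ∧ ∀ χ ∈ S, a χ χ = 1 := by
  have hne : S.Nonempty := by
    by_contra h
    rw [Finset.not_nonempty_iff_eq_empty] at h
    rw [h] at htr
    simp at htr
  obtain ⟨χ₀, hχ₀⟩ := hne
  -- each diagonal entry is at least `1` and `m ≤ 4 a_χχ`
  have hdiag : ∀ χ ∈ S, (S.card : ℤ) ≤ 4 * a χ χ := by
    intro χ hχ
    rw [← hrow χ hχ]
    exact card_le_sum_sq S (a χ) (hodd χ hχ)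
  have hpos : 0 < S.card := Finset.card_pos.mpr ⟨χ₀, hχ₀⟩
  have hge1 : ∀ χ ∈ S, 1 ≤ a χ χ := by
    intro χ hχ
    have := hdiag χ hχ
    have hp : (0 : ℤ) < S.card := by exact_mod_cast hpos
    omega
  -- `m ≤ 4`
  have hle4 : (S.card : ℤ) ≤ 4 := by
    have : ∑ χ ∈ S, (1 : ℤ) ≤ ∑ χ ∈ S, a χ χ := Finset.sum_le_sum hge1
    rw [htr] at this
    simpa using this
  -- `m ≡ 4 mod 8`
  obtain ⟨J, hJ⟩ := sum_odd_sq S (a χ₀) (hodd χ₀ hχ₀)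
  rw [hrow χ₀ hχ₀] at hJ
  obtain ⟨k, hk⟩ := hodd χ₀ hχ₀ χ₀ hχ₀
  have hcard : (S.card : ℤ) = 4 := by
    have hp : (0 : ℤ) < S.card := by exact_mod_cast hpos
    omega
  refine ⟨by exact_mod_cast hcard, ?_⟩
  -- all diagonal entries are `1`
  by_contra hcon
  push Not at hcon
  obtain ⟨χ, hχ, hne⟩ := hcon
  have h2 : 2 ≤ a χ χ := by
    have := hge1 χ hχ
    omega
  have hlt : ∑ ψ ∈ S, (1 : ℤ) < ∑ ψ ∈ S, a ψ ψ :=
    Finset.sum_lt_sum hge1 ⟨χ, hχ, by omega⟩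
  rw [htr] at hlt
  simp only [Finset.sum_const, nsmul_eq_mul, mul_one] at hlt
  omega

/-- **Defect one rows**: odd entries, rows `∑ a² = 2 a_χχ`, trace `2`: exactly two indices. -/
theorem card_eq_two {ι : Type*} [DecidableEq ι] (S : Finset ι) (a : ι → ι → ℤ)
    (hodd : ∀ χ ∈ S, ∀ ψ ∈ S, Odd (a χ ψ))
    (hrow : ∀ χ ∈ S, ∑ ψ ∈ S, a χ ψ ^ 2 = 2 * a χ χ)
    (htr : ∑ χ ∈ S, a χ χ = 2) : S.card = 2 := by
  have hne : S.Nonempty := by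
    by_contra h
    rw [Finset.not_nonempty_iff_eq_empty] at h
    rw [h] at htr
    simp at htr
  obtain ⟨χ₀, hχ₀⟩ := hne
  have hdiag : ∀ χ ∈ S, (S.card : ℤ) ≤ 2 * a χ χ := by
    intro χ hχ
    rw [← hrow χ hχ]
    exact card_le_sum_sq S (a χ) (hodd χ hχ)
  have hpos : 0 < S.card := Finset.card_pos.mpr ⟨χ₀, hχ₀⟩
  have hge1 : ∀ χ ∈ S, 1 ≤ a χ χ := by
    intro χ hχ
    have := hdiag χ hχ
    have hp : (0 : ℤ) < S.card := by exact_mod_cast hpos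
    omega
  have hle2 : (S.card : ℤ) ≤ 2 := by
    have : ∑ χ ∈ S, (1 : ℤ) ≤ ∑ χ ∈ S, a χ χ := Finset.sum_le_sum hge1
    rw [htr] at this
    simpa using this
  obtain ⟨J, hJ⟩ := sum_odd_sq S (a χ₀) (hodd χ₀ hχ₀)
  rw [hrow χ₀ hχ₀] at hJ
  obtain ⟨k, hk⟩ := hodd χ₀ hχ₀ χ₀ hχ₀
  have hcard : (S.card : ℤ) = 2 := by
    have hp : (0 : ℤ) < S.card := by exact_mod_cast hpos
    omega
  exact_mod_cast hcard

/-- rows `∑ n² = 4 n_χχ` with odd entries force `card ≡ 4 mod 8`; in particular not `2` -/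
theorem card_ne_two {ι : Type*} [DecidableEq ι] (S : Finset ι) (n : ι → ι → ℤ)
    (hodd : ∀ χ ∈ S, ∀ ψ ∈ S, Odd (n χ ψ))
    (hrow : ∀ χ ∈ S, ∑ ψ ∈ S, n χ ψ ^ 2 = 4 * n χ χ) (hne : S.Nonempty) : S.card ≠ 2 := by
  obtain ⟨χ₀, hχ₀⟩ := hne
  obtain ⟨J, hJ⟩ := sum_odd_sq S (n χ₀) (hodd χ₀ hχ₀)
  rw [hrow χ₀ hχ₀] at hJ
  obtain ⟨k, hk⟩ := hodd χ₀ hχ₀ χ₀ hχ₀
  intro h
  rw [h] at hJ
  push_cast at hJ
  omega

end Cfsg.Agent.Helper16.KleinNum
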