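import Mathlib
import Cfsg.Agent.S0961
import Cfsg.Agent.Lib.Helper16.PRegPart
import Cfsg.Agent.Lib.Helper82.GenChar

set_option autoImplicit false
set_option linter.style.haveILetI false
open Cfsg

namespace Cfsg.Agent.Helper16

open scoped ComplexConjugate
open Cfsg.Agent.Helper77 Cfsg.Agent.Helper78

/-- A rational algebraic integer is an integer: divisibility form with an integer numerator. -/
theorem int_dvd_of_isIntegral_mul_eq (z : ℂ) (n : ℕ) (k : ℤ) (hn : n ≠ 0)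
    (hz : z * (n : ℂ) = (k : ℂ)) (hint : IsIntegral ℤ z) : (n : ℤ) ∣ k := by
  have hn' : (n : ℂ) ≠ 0 := by exact_mod_cast hn
  have h1 : z = (((k : ℚ) / (n : ℚ) : ℚ) : ℂ) := by
    push_cast
    rw [eq_div_iff hn']
    exact hz
  rw [h1] at hint
  have h2 : IsIntegral ℤ ((k : ℚ) / (n : ℚ) : ℚ) :=
    (isIntegral_algebraMap_iff (algebraMap ℚ ℂ).injective).1 hint
  obtain ⟨j, hj⟩ := IsIntegrallyClosed.isIntegral_iff.1 h2
  have h3 : ((j : ℤ) : ℚ) * (n : ℚ) = (k : ℚ) := by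
    have : (algebraMap ℤ ℚ) j = (j : ℚ) := rfl
    rw [this] at hj
    rw [hj]
    have hn'' : (n : ℚ) ≠ 0 := by exact_mod_cast hn
    field_simp
  have h4 : j * (n : ℤ) = k := by exact_mod_cast h3
  exact ⟨j, by rw [← h4]; ring⟩

section
variable {G : Type*} [Group G] [Fintype G]

open scoped Classical in
/-- Integrality of `∑_{x p-regular} χ(x) conj ψ(x) / χ(1)`. -/
theorem isIntegral_sum_regular_div (p : ℕ) (χ ψ : IrrCharacter G) :
    IsIntegral ℤ ((∑ x ∈ Finset.univ.filter (fun x : G => ¬ p ∣ orderOf x),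
      (χ : G → ℂ) x * conj ((ψ : G → ℂ) x)) / (χ : G → ℂ) 1) := by
  have hclχ := isClassFunction_of_isIrrCharacter χ.2
  have hclψ := isClassFunction_of_isIrrCharacter ψ.2
  set f : G → ℂ := fun x => if p ∣ orderOf x then 0 else
    (χ : G → ℂ) x * conj ((ψ : G → ℂ) x) / (χ : G → ℂ) 1 with hf
  have hfcl : IsClassFunction G f := by
    intro g h
    simp only [hf]
    have ho : orderOf (h * g * h⁻¹) = orderOf g := MulEquiv.orderOf_eq (MulAut.conj h) g
    rw [ho, hclχ g h, hclψ g h]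
  have h1 : (∑ x ∈ Finset.univ.filter (fun x : G => ¬ p ∣ orderOf x),
      (χ : G → ℂ) x * conj ((ψ : G → ℂ) x)) / (χ : G → ℂ) 1 = ∑ x : G, f x := by
    rw [Finset.sum_div, Finset.sum_filter]
    refine Finset.sum_congr rfl fun x _ => ?_
    simp only [hf]
    by_cases hx : p ∣ orderOf x
    · simp [hx]
    · simp [hx]
  rw [h1, sum_eq_sum_conjClasses f hfcl]
  apply IsIntegral.sum
  intro K _
  simp only [hf]
  by_cases hx : p ∣ orderOf (Quotient.out K)
  · simp only [hx, if_true, mul_zero]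
    exact isIntegral_zero
  · simp only [hx, if_false]
    have h2 : ((Subgroup.centralizer ({Quotient.out K} : Set G)).index : ℂ) *
        ((χ : G → ℂ) (Quotient.out K) * conj ((ψ : G → ℂ) (Quotient.out K)) / (χ : G → ℂ) 1) =
        centralChar (χ : G → ℂ) (Quotient.out K) * conj ((ψ : G → ℂ) (Quotient.out K)) := by
      unfold centralChar
      ring
    rw [h2]
    apply IsIntegral.mul (centralChar_isIntegral χ.2 _)
    have h3 : conj ((ψ : G → ℂ) (Quotient.out K)) = (ψ : G → ℂ) (Quotient.out K)⁻¹ :=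
      (IsIrrCharacter.inv ψ.2 _).symm
    rw [h3]
    exact IsIrrCharacter.isIntegral ψ.2 _

/-- `p ^ (a - ν) χ 1_reg` is an integer combination of irreducible characters, where
`a = ν_p |G|` and `ν = ν_p χ(1)`. -/
theorem exists_int_decomp_pRegScaled (p : ℕ) [Fact p.Prime] (χ : IrrCharacter G) :
    ∃ c : IrrCharacter G → ℤ,
      pRegScaled p ((p ^ ((Nat.card G).factorization p -
        (charDegree (χ : G → ℂ)).factorization p) : ℕ) : ℂ) (χ : G → ℂ) =
        ∑ ψ : IrrCharacter G, ((c ψ : ℤ) : ℂ) • (ψ : G → ℂ) := by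
  classical
  have hp : p.Prime := Fact.out
  set a := (Nat.card G).factorization p with ha
  set d := charDegree (χ : G → ℂ) with hd
  set ν := d.factorization p with hν
  set e := a - ν with he
  obtain ⟨hd1, hdpos⟩ := irr_charDegree χ.2
  have hgen := Cfsg.Agent.S0961.result p χ
  obtain ⟨c, hsum, hinner⟩ := genChar_decomp hgen
  have hθa : (fun x : G => if p ∣ orderOf x then (0 : ℂ) else
      ((p ^ (Nat.card G).factorization p : ℕ) : ℂ) * (χ : G → ℂ) x) =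
      pRegScaled p ((p ^ a : ℕ) : ℂ) (χ : G → ℂ) := rfl
  rw [hθa] at hsum hinner
  have hcardpos : 0 < Nat.card G := Nat.card_pos
  have hcne : (Nat.card G : ℂ) ≠ 0 := by exact_mod_cast hcardpos.ne'
  set g' := Nat.card G / p ^ a with hg'
  have hGfac : p ^ a * g' = Nat.card G := Nat.ordProj_mul_ordCompl_eq_self (Nat.card G) p
  have hcop : Nat.Coprime p g' := Nat.coprime_ordCompl hp hcardpos.ne'
  have hpa : ((p ^ a : ℕ) : ℂ) ≠ 0 := by
    have : (p ^ a : ℕ) ≠ 0 := pow_ne_zero a hp.ne_zero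
    exact_mod_cast this
  -- the sums T ψ
  set T : IrrCharacter G → ℂ := fun ψ =>
    ∑ x ∈ Finset.univ.filter (fun x : G => ¬ p ∣ orderOf x),
      (χ : G → ℂ) x * conj ((ψ : G → ℂ) x) with hT
  have hTc : ∀ ψ, T ψ = ((c ψ * (g' : ℤ) : ℤ) : ℂ) := by
    intro ψ
    have h1 := hinner ψ
    rw [classInner_pRegScaled] at h1
    have h2 : ((p ^ a : ℕ) : ℂ) * T ψ = ((c ψ : ℤ) : ℂ) * (Nat.card G : ℂ) := by
      rw [← h1]
      field_simp
      rfl
    have h3 : (Nat.card G : ℂ) = ((p ^ a : ℕ) : ℂ) * (g' : ℂ) := by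
      rw [← hGfac]; push_cast; ring
    rw [h3] at h2
    have h4 : ((p ^ a : ℕ) : ℂ) * T ψ = ((p ^ a : ℕ) : ℂ) * (((c ψ : ℤ) : ℂ) * (g' : ℂ)) := by
      rw [h2]; ring
    have h5 := mul_left_cancel₀ hpa h4
    rw [h5]
    push_cast
    ring
  have hdvd : ∀ ψ, ((p ^ ν : ℕ) : ℤ) ∣ c ψ := by
    intro ψ
    have hint := isIntegral_sum_regular_div p χ ψ
    have h1 : (T ψ / (χ : G → ℂ) 1) * (d : ℂ) = ((c ψ * (g' : ℤ) : ℤ) : ℂ) := by
      rw [← hTc ψ, hd1]
      have : (d : ℂ) ≠ 0 := by exact_mod_cast hdpos.ne'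
      exact div_mul_cancel₀ _ this
    have h2 : (d : ℤ) ∣ c ψ * (g' : ℤ) :=
      int_dvd_of_isIntegral_mul_eq _ d _ hdpos.ne' h1 hint
    have h3 : ((p ^ ν : ℕ) : ℤ) ∣ (d : ℤ) := by
      have : p ^ ν ∣ d := Nat.ordProj_dvd d p
      exact_mod_cast this
    have h4 : ((p ^ ν : ℕ) : ℤ) ∣ c ψ * (g' : ℤ) := h3.trans h2
    have h5 : IsCoprime ((p ^ ν : ℕ) : ℤ) (g' : ℤ) := by
      rw [Nat.isCoprime_iff_coprime]
      exact Nat.Coprime.pow_left ν hcop
    exact h5.dvd_of_dvd_mul_right h4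
  have hdvd2 : ∀ ψ, ∃ c' : ℤ, ((p ^ e : ℕ) : ℤ) * c ψ = ((p ^ a : ℕ) : ℤ) * c' := by
    intro ψ
    obtain ⟨k, hk⟩ := hdvd ψ
    have hle : a ≤ e + ν := by omega
    obtain ⟨j, hj⟩ : p ^ a ∣ p ^ (e + ν) := pow_dvd_pow p hle
    refine ⟨(j : ℤ) * k, ?_⟩
    rw [hk]
    have : ((p ^ e : ℕ) : ℤ) * ((p ^ ν : ℕ) : ℤ) = ((p ^ a : ℕ) : ℤ) * (j : ℤ) := by
      rw [← Nat.cast_mul, ← Nat.cast_mul, ← pow_add, hj]
    rw [← mul_assoc, this]
    ring
  choose c' hc' using hdvd2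
  refine ⟨c', ?_⟩
  have h6 : pRegScaled p ((p ^ e : ℕ) : ℂ) (χ : G → ℂ) =
      (((p ^ e : ℕ) : ℂ) / ((p ^ a : ℕ) : ℂ)) • pRegScaled p ((p ^ a : ℕ) : ℂ) (χ : G → ℂ) := by
    funext x
    unfold pRegScaled
    by_cases hx : p ∣ orderOf x
    · simp [hx]
    · simp only [hx, if_false, Pi.smul_apply, smul_eq_mul]
      field_simp
  rw [h6, hsum, Finset.smul_sum]
  refine Finset.sum_congr rfl fun ψ _ => ?_
  rw [smul_smul]
  congr 1
  have h7 : (((p ^ e : ℕ) : ℤ) : ℂ) * ((c ψ : ℤ) : ℂ) = (((p ^ a : ℕ) : ℤ) : ℂ) * ((c' ψ : ℤ) : ℂ) := by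
    exact_mod_cast congrArg (fun z : ℤ => (z : ℂ)) (hc' ψ)
  push_cast at h7 ⊢
  have hpa' : ((p : ℂ)) ^ a ≠ 0 := by
    have := hpa
    push_cast at this
    exact this
  rw [div_mul_eq_mul_div, div_eq_iff hpa']
  linear_combination h7

/-- `p ^ (a - ν) χ 1_reg` is a generalized character. -/
theorem isGeneralizedCharacter_pRegScaled (p : ℕ) [Fact p.Prime] (χ : IrrCharacter G) :
    IsGeneralizedCharacter G (pRegScaled p ((p ^ ((Nat.card G).factorization p -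
        (charDegree (χ : G → ℂ)).factorization p) : ℕ) : ℂ) (χ : G → ℂ)) := by
  obtain ⟨c, hc⟩ := exists_int_decomp_pRegScaled p χ
  rw [hc]
  exact Cfsg.Agent.Helper82.isGeneralizedCharacter_int_comb c

end

end Cfsg.Agent.Helper16
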