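import Mathlib
import Cfsg.Prelude.Def_Blocks
import Cfsg.Prelude.Def_BlockRank
import Cfsg.Agent.Lib.Helper74.BrauerFeit6
import Cfsg.Agent.Lib.Helper74.Subsec3
import Cfsg.Agent.Lib.Helper78.Laradji
import Cfsg.Agent.Lib.Helper79.Restrict
import Cfsg.Agent.Lib.Helper16.KleinNum
import Cfsg.Agent.S4512

/-!
# 2-blocks of defect two of a group with a central involution (helper16)

Let `b` be a `2`-block of defect two of a group `H` which has a central involution.  Then `b`
consists of four irreducible characters, all the contribution numbers are odd, `n χ χ = 1`, and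
the `2`-regular rank of `b` is one.
-/

set_option autoImplicit false
set_option linter.unusedSectionVars false
set_option linter.style.haveILetI false
set_option maxHeartbeats 800000

namespace Cfsg.Agent.Helper16.KleinCentral

open Cfsg
open Cfsg.Agent.Helper74.SS Cfsg.Agent.Helper74.BF Cfsg.Agent.Helper74.DO
open Cfsg.Agent.Helper77 Cfsg.Agent.Helper78
open scoped ComplexConjugate

universe u

section central

variable {H : Type u} [Group H] [Fintype H] {M : Ideal AlgInt}

/-- multiplying an element of odd order by a central involution gives an element of even order -/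
theorem two_dvd_orderOf_mul_central (x u : H) (hu : orderOf u = 2) (huc : u ∈ Subgroup.center H)
    (hx : ¬ 2 ∣ orderOf x) : 2 ∣ orderOf (x * u) := by
  have hcomm : Commute x u := (Subgroup.mem_center_iff.1 huc x)
  have hco : (orderOf x).Coprime (orderOf u) := by
    rw [hu]
    exact (Nat.coprime_comm.1 ((Nat.Prime.coprime_iff_not_dvd Nat.prime_two).2 hx))
  rw [hcomm.orderOf_mul_eq_mul_orderOf_of_coprime hco, hu]
  exact Dvd.intro_left _ rfl

open scoped Classical in
/-- in a group with a central involution, the `2`-regular elements carry at most half of the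
norm of an irreducible character -/
theorem two_mul_sum_reg_le (χ : IrrCharacter H) (u : H) (hu : orderOf u = 2)
    (huc : u ∈ Subgroup.center H) :
    2 * ∑ x ∈ Finset.univ.filter (fun x : H => ¬ 2 ∣ orderOf x),
      Complex.normSq ((χ : H → ℂ) x) ≤ (Nat.card H : ℝ) := by
  have hall := Cfsg.Agent.Helper79.irr_sum_normSq χ
  have hsplit := Finset.sum_filter_add_sum_filter_not Finset.univ
    (fun x : H => ¬ 2 ∣ orderOf x) (fun x => Complex.normSq ((χ : H → ℂ) x))
  rw [hall] at hsplit
  have hnorm : ∀ x : H, Complex.normSq ((χ : H → ℂ) (x * u)) = Complex.normSq ((χ : H → ℂ) x) := by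
    intro x
    rw [irr_mul_central' χ u huc x, Complex.normSq_mul]
    have h1 := irr_central_norm χ u huc
    rw [Complex.mul_conj] at h1
    have h2 : Complex.normSq ((χ : H → ℂ) u / (χ : H → ℂ) 1) = 1 := by exact_mod_cast h1
    rw [h2, one_mul]
  have hle : ∑ x ∈ Finset.univ.filter (fun x : H => ¬ 2 ∣ orderOf x),
      Complex.normSq ((χ : H → ℂ) x) ≤
      ∑ x ∈ Finset.univ.filter (fun x : H => ¬ ¬ 2 ∣ orderOf x),
        Complex.normSq ((χ : H → ℂ) x) := by
    have h1 : ∑ x ∈ Finset.univ.filter (fun x : H => ¬ 2 ∣ orderOf x),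
        Complex.normSq ((χ : H → ℂ) x) =
        ∑ y ∈ (Finset.univ.filter (fun x : H => ¬ 2 ∣ orderOf x)).image (fun x => x * u),
          Complex.normSq ((χ : H → ℂ) y) := by
      rw [Finset.sum_image (fun a _ b _ h => mul_right_cancel h)]
      exact Finset.sum_congr rfl fun x _ => (hnorm x).symm
    rw [h1]
    apply Finset.sum_le_sum_of_subset_of_nonneg
    · intro y hy
      rw [Finset.mem_image] at hy
      obtain ⟨x, hx, rfl⟩ := hy
      rw [Finset.mem_filter] at hx ⊢
      exact ⟨Finset.mem_univ _, not_not.2 (two_dvd_orderOf_mul_central x u hu huc hx.2)⟩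
    · intro x _ _
      exact Complex.normSq_nonneg _
  linarith

/-- the diagonal contribution numbers of a block of defect two of a group with a central
involution are at most `2` -/
theorem self_le_two {b : Set (IrrCharacter H)} {n : IrrCharacter H → IrrCharacter H → ℤ}
    (hn : IsContrib 2 b n) (hd : blockDefect 2 b = 2) (u : H) (hu : orderOf u = 2)
    (huc : u ∈ Subgroup.center H) {χ : IrrCharacter H} (hχ : χ ∈ b) : n χ χ ≤ 2 := by
  classical
  have h := hn.self_cast_real hχ
  rw [hd] at h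
  have hG : (0 : ℝ) < (Nat.card H : ℝ) := by exact_mod_cast Nat.card_pos
  have hle := two_mul_sum_reg_le χ u hu huc
  have : ((n χ χ : ℤ) : ℝ) ≤ 2 := by
    rw [h]
    rw [inv_mul_le_iff₀ hG]
    push_cast
    nlinarith
  exact_mod_cast this

/-- **Blocks of defect two with a central involution.** -/
theorem central_invol (hM : IsPModular 2 M) {b : Set (IrrCharacter H)} (hb : IsPBlock M b)
    (hd : blockDefect 2 b = 2) (u : H) (hu : orderOf u = 2) (huc : u ∈ Subgroup.center H) :
    (Set.toFinite b).toFinset.card = 4 ∧ blockRank 2 b = 1 := by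
  classical
  haveI : Fact (Nat.Prime 2) := ⟨Nat.prime_two⟩
  haveI := isPrime_of_isPModular hM
  obtain ⟨n, hn⟩ := exists_contrib hM hb
  obtain ⟨T, hTdef⟩ : ∃ T : Finset (IrrCharacter H), T = (Set.toFinite b).toFinset := ⟨_, rfl⟩
  have hTmem : ∀ χ, χ ∈ T ↔ χ ∈ b := by
    intro χ
    rw [hTdef, Set.Finite.mem_toFinset]
  have hht : ∀ χ ∈ b, (charDegree (χ : H → ℂ)).factorization 2 = minVal 2 b := by
    intro χ hχ
    by_contra hne
    have hlt : minVal 2 b < (charDegree (χ : H → ℂ)).factorization 2 :=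
      lt_of_le_of_ne (minVal_le hχ) (Ne.symm hne)
    have := hn.height_add_two_le hM hb hχ hlt
    rw [hd] at this
    omega
  have hself : ∀ χ ∈ b, n χ χ = 1 := by
    intro χ hχ
    have h1 := hn.self_pos hχ
    have h2 := self_le_two hn hd u hu huc hχ
    have h3 := hn.not_dvd_self hM hb hχ (hht χ hχ)
    have h4 : ¬ (2 : ℤ) ∣ n χ χ := by exact_mod_cast h3
    omega
  have hodd : ∀ χ ∈ b, ∀ ψ ∈ b, Odd (n χ ψ) := by
    intro χ hχ ψ hψ
    rw [← Int.not_even_iff_odd, even_iff_two_dvd]
    intro h2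
    have hv := hn.val_eq hM hb hχ (hht χ hχ) hψ
    have hpos := factorization_pos_of_dvd (p := 2) hv.1 (by exact_mod_cast h2)
    have := hht ψ hψ
    omega
  have hsq : ∀ χ ∈ b, ∑ ψ ∈ T, n χ ψ ^ 2 = 4 := by
    intro χ hχ
    have h := hn.sum_sq hχ
    rw [hd, hself χ hχ] at h
    rw [← Finset.sum_subset (Finset.subset_univ T)] at h
    · rw [h]; norm_num
    · intro ψ _ hψ
      rw [hn.zero_of_notMem χ hχ ψ (fun h' => hψ ((hTmem ψ).2 h'))]
      norm_num
  obtain ⟨χ₀, hχ₀⟩ := nonempty_of_isPBlock hb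
  have hk : T.card = 4 := by
    have hoddT : ∀ ψ ∈ T, Odd (n χ₀ ψ) := fun ψ hψ => hodd χ₀ hχ₀ ψ ((hTmem ψ).1 hψ)
    obtain ⟨J, hJ⟩ := KleinNum.sum_odd_sq T (n χ₀) hoddT
    have hle := KleinNum.card_le_sum_sq T (n χ₀) hoddT
    rw [hsq χ₀ hχ₀] at hJ hle
    have hpos : 0 < T.card := Finset.card_pos.mpr ⟨χ₀, (hTmem χ₀).2 hχ₀⟩
    have hp : (0 : ℤ) < T.card := by exact_mod_cast hpos
    have : (T.card : ℤ) = 4 := by omega
    exact_mod_cast this
  refine ⟨by rw [← hTdef]; exact hk, ?_⟩
  have hl := blockRank_eq_sum hM hb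
  rw [← hTdef] at hl
  have h1 : (4 : ℂ) * (blockRank 2 b : ℂ) = ∑ χ ∈ T, ((n χ χ : ℤ) : ℂ) := by
    rw [hl, Finset.mul_sum]
    refine Finset.sum_congr rfl fun χ hχ => ?_
    exact Cfsg.Agent.S4512.classInner_reg_eq hn hd ((hTmem χ).1 hχ)
  have h2 : ∑ χ ∈ T, ((n χ χ : ℤ) : ℂ) = (T.card : ℂ) := by
    rw [Finset.sum_congr rfl (fun χ hχ => by rw [hself χ ((hTmem χ).1 hχ)])]
    simp
  rw [h2, hk] at h1
  have h3 : (blockRank 2 b : ℂ) = 1 := by
    have h4 : (4 : ℂ) ≠ 0 := by norm_num
    apply mul_left_cancel₀ h4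
    rw [h1]
    norm_num
  exact_mod_cast h3

end central

end Cfsg.Agent.Helper16.KleinCentral
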