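import Mathlib
import Cfsg.Agent.Lib.Helper77.AbelianDefect

/-!
# Fusion of subpairs of an abelian maximal Brauer pair (helper16)

If `(Q, f)` and `(Q', f')` lie below the maximal Brauer pair `(P, e)` with `P` abelian and
`x` conjugates `(Q, f)` to `(Q', f')`, then `x = c⁻¹ y` with `y` in the stabilizer of `(P, e)` and
`c ∈ C_G(Q')` (Alperin–Broué for abelian defect groups); generalizes
`Helper77.stabilizer_factorization`.
-/

set_option autoImplicit false
set_option linter.unusedSectionVars false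
set_option linter.style.haveILetI false
set_option maxHeartbeats 800000

namespace Cfsg.Agent.Helper16.KleinFusion

open Cfsg Cfsg.Agent.Helper79 Cfsg.Agent.Helper77

universe u

section inv

variable {G : Type u} [Group G] [Fintype G]

theorem conjRel_inv {x : G} {Q Q' : Subgroup G}
    {f : Set (IrrCharacter (Subgroup.centralizer (Q : Set G)))}
    {f' : Set (IrrCharacter (Subgroup.centralizer (Q' : Set G)))}
    (h : ConjRel x Q Q' f f') : ConjRel x⁻¹ Q' Q f' f := by
  have hQ : Q = Q'.map (MulAut.conj x⁻¹).toMonoidHom := by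
    rw [h.1]
    ext g
    simp only [Subgroup.mem_map, MulEquiv.coe_toMonoidHom, MulAut.conj_apply]
    constructor
    · intro hg
      exact ⟨x * g * x⁻¹, ⟨g, hg, rfl⟩, by group⟩
    · rintro ⟨_, ⟨u, hu, rfl⟩, rfl⟩
      have : x⁻¹ * (x * u * x⁻¹) * x⁻¹⁻¹ = u := by group
      rw [this]
      exact hu
  obtain ⟨f'', hf''⟩ := ConjRel.exists_of_eq x⁻¹ Q' Q f' hQ
  have hcomp := h.comp hf''
  rw [inv_mul_cancel] at hcomp
  have := ConjRel.unique (conjRel_one Q f) hcomp
  rw [this]
  exact hf''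

end inv

section fusion

variable {G : Type u} [Group G] [Fintype G] {p : ℕ} {M : Ideal AlgInt}

/-- an element of `C_G(Q)` fixes every pair on `Q` -/
theorem conjRel_of_mem_centralizer [hpr : M.IsPrime] {Q : Subgroup G}
    {f : Set (IrrCharacter (Subgroup.centralizer (Q : Set G)))} (hf : IsPBlock M f) {c : G}
    (hc : c ∈ Subgroup.centralizer (Q : Set G)) : ConjRel c Q Q f f := by
  classical
  haveI : Fintype (Subgroup.centralizer (Q : Set G)) := Fintype.ofFinite _
  exact conjRel_self_of_stabilizes hf (Subgroup.centralizer_le_normalizer _ hc)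
    (stabilizesBlock_of_mem_stabSub hf (le_stabSub (Subgroup.centralizer (Q : Set G)) f hc))

/-- **Fusion of subpairs for abelian defect groups.** -/
theorem fusion_factorization [Fact p.Prime] (hM : IsPModular p M)
    {B : Set (IrrCharacter G)} {P Q Q' : Subgroup G}
    {e : Set (IrrCharacter (Subgroup.centralizer (P : Set G)))}
    {f : Set (IrrCharacter (Subgroup.centralizer (Q : Set G)))}
    {f' : Set (IrrCharacter (Subgroup.centralizer (Q' : Set G)))}
    (hmax : IsMaximalBrauerPair p M B P e) (hab : ∀ x ∈ P, ∀ y ∈ P, x * y = y * x)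
    (hQ'P : Q' ≤ P) (hf' : IsPBlock M f')
    (hle : SubpairLE p M Q f P e) (hle' : SubpairLE p M Q' f' P e) {x : G}
    (hrel : ConjRel x Q Q' f f') :
    ∃ y, y ∈ Subgroup.normalizer (P : Set G) ∧
      StabilizesBlock (Subgroup.centralizer (P : Set G)) e y ∧
      ∃ c ∈ Subgroup.centralizer (Q' : Set G), y = c * x := by
  classical
  haveI hpr := isPrime_of_isPModular hM
  haveI : Fintype (Subgroup.centralizer (Q' : Set G)) := Fintype.ofFinite _
  haveI : Fintype (Subgroup.centralizer (P : Set G)) := Fintype.ofFinite _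
  have hPe : IsBrauerPair p M P e := hmax.1.1
  have hP : IsPGroup p P := hPe.1
  have hPC : P ≤ Subgroup.centralizer (Q' : Set G) := by
    intro u hu
    rw [Subgroup.mem_centralizer_iff]
    intro q hq
    exact hab q (hQ'P hq) u hu
  -- the conjugate pair
  have hrelP := conjRel_conjBlock x P e
  have hle₁ : SubpairLE p M Q' f' (P.map (MulAut.conj x).toMonoidHom) (conjBlock P x e) :=
    hrel.subpairLE hrelP hle
  have hB₁ : IsBrauerPairOf p M B (P.map (MulAut.conj x).toMonoidHom) (conjBlock P x e) :=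
    hrelP.isBrauerPairOf hmax.1
  have hcard₁ : Nat.card (P.map (MulAut.conj x).toMonoidHom) = Nat.card P :=
    Subgroup.card_map_of_injective (MulAut.conj x).injective
  have hmax₁ := isMaximalBrauerPair_of_card_eq hM hmax hB₁ hcard₁
  have hQP₁ : Q' ≤ P.map (MulAut.conj x).toMonoidHom := le_of_reflTransGen hle₁
  have hP₁C : P.map (MulAut.conj x).toMonoidHom ≤ Subgroup.centralizer (Q' : Set G) := by
    rintro _ ⟨u, hu, rfl⟩
    rw [Subgroup.mem_centralizer_iff]
    intro q hq
    obtain ⟨v, hv, hvq⟩ := hQP₁ hq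
    rw [← hvq]
    simp only [MulEquiv.coe_toMonoidHom, MulAut.conj_apply]
    have := hab v hv u hu
    calc x * v * x⁻¹ * (x * u * x⁻¹) = x * (v * u) * x⁻¹ := by group
      _ = x * (u * v) * x⁻¹ := by rw [this]
      _ = x * u * x⁻¹ * (x * v * x⁻¹) := by group
  have hD := isDefectGroup_of_le_centralizer hM hmax hQ'P hf' hle' hPC
  have hD₁ := isDefectGroup_of_le_centralizer hM hmax₁ hQP₁ hf' hle₁ hP₁C
  obtain ⟨c, hc⟩ := exists_conj_eq_of_isDefectGroup hM hf' hD hD₁
  -- `y₀ = c x` normalizes `P`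
  have hy₀le : P.map (MulAut.conj ((c : G) * x)).toMonoidHom ≤ P := by
    rintro _ ⟨u, hu, rfl⟩
    have h1 : x * u * x⁻¹ ∈ P.map (MulAut.conj x).toMonoidHom := ⟨u, hu, rfl⟩
    have h2 : (⟨x * u * x⁻¹, hP₁C h1⟩ : Subgroup.centralizer (Q' : Set G)) ∈
        (P.map (MulAut.conj x).toMonoidHom).subgroupOf (Subgroup.centralizer (Q' : Set G)) :=
      Subgroup.mem_subgroupOf.mpr h1
    have h3 : (MulAut.conj c).toMonoidHom ⟨x * u * x⁻¹, hP₁C h1⟩ ∈
        P.subgroupOf (Subgroup.centralizer (Q' : Set G)) := by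
      rw [← hc]
      exact ⟨_, h2, rfl⟩
    have h4 := Subgroup.mem_subgroupOf.mp h3
    simp only [MulEquiv.coe_toMonoidHom, MulAut.conj_apply] at h4 ⊢
    convert h4 using 1
    simp only [Subgroup.coe_mul, Subgroup.coe_inv]
    group
  have hy₀eq : P.map (MulAut.conj ((c : G) * x)).toMonoidHom = P :=
    Subgroup.eq_of_le_of_card_ge hy₀le
      (by rw [Subgroup.card_map_of_injective (MulAut.conj ((c : G) * x)).injective])
  have hy₀N : (c : G) * x ∈ Subgroup.normalizer (P : Set G) :=
    Subgroup.mem_normalizer_iff_map_conj_eq.mpr hy₀eq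
  -- the second pair on `P`
  have hy₀K := normalizer_le_normalizer_centralizer P hy₀N
  have hrel₂ := conjRel_conjSet P ((c : G) * x) hy₀N hy₀K e
  have hrelQ₂ : ConjRel ((c : G) * x) Q Q' f f' :=
    hrel.comp (conjRel_of_mem_centralizer hf' c.2)
  have hle₂ : SubpairLE p M Q' f' P (conjSet (Subgroup.centralizer (P : Set G))
      ((c : G) * x) hy₀K e) := hrelQ₂.subpairLE hrel₂ hle
  have hPe₂ : IsBrauerPair p M P (conjSet (Subgroup.centralizer (P : Set G))
      ((c : G) * x) hy₀K e) := ⟨hP, isPBlock_conjSet _ _ _ hPe.2⟩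
  have hPNQ : P ≤ Subgroup.normalizer (Q' : Set G) :=
    hPC.trans (Subgroup.centralizer_le_normalizer _)
  have h₁ : IsNormalSubpair p M Q' f' P e := by
    obtain ⟨f₀, hf₀, -⟩ := existsUnique_isNormalSubpair hM P Q' e hPe hQ'P hPNQ
    rw [eq_of_subpairLE_of_isNormalSubpair hM P Q' e f₀ f' hf₀ hf' hle']
    exact hf₀
  have h₂ : IsNormalSubpair p M Q' f' P (conjSet (Subgroup.centralizer (P : Set G))
      ((c : G) * x) hy₀K e) := by
    obtain ⟨f₀, hf₀, -⟩ := existsUnique_isNormalSubpair hM P Q' _ hPe₂ hQ'P hPNQ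
    rw [eq_of_subpairLE_of_isNormalSubpair hM P Q' _ f₀ f' hf₀ hf' hle₂]
    exact hf₀
  obtain ⟨n, hn, hen⟩ := exists_conjSet_eq_of_isNormalSubpair hM hf' hQ'P hPC hD h₂ h₁
  have hnK := normalizer_le_normalizer_centralizer P hn.1
  have hyN : n * ((c : G) * x) ∈ Subgroup.normalizer (P : Set G) :=
    Subgroup.mul_mem _ hn.1 hy₀N
  have hyK := normalizer_le_normalizer_centralizer P hyN
  have hyst : StabilizesBlock (Subgroup.centralizer (P : Set G)) e (n * ((c : G) * x)) := by
    rw [stabilizesBlock_iff_conjSet_eq _ _ hyK hPe.2, conjSet_mul _ n ((c : G) * x) hnK hy₀K]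
    exact hen.symm
  exact ⟨n * ((c : G) * x), hyN, hyst, n * (c : G), Subgroup.mul_mem _ hn.2 c.2, by group⟩

end fusion

end Cfsg.Agent.Helper16.KleinFusion
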