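import Mathlib
import Cfsg.Agent.Lib.Helper16.KleinFusion
import Cfsg.Agent.Lib.Helper76.InBlock3
import Cfsg.Agent.Lib.Helper74.DefectOrder
import Cfsg.Agent.S4717

/-!
# Subsections below a maximal Brauer pair with Klein four (abelian, exponent two) defect group
(helper16)

`SubRel u x b` : the pair `(⟨x⟩, b)` is conjugate to the unique pair on `⟨u⟩` below `(P, c)`.
-/

set_option autoImplicit false
set_option linter.unusedSectionVars false
set_option linter.style.haveILetI false
set_option maxHeartbeats 800000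

namespace Cfsg.Agent.Helper16.KleinPairs

open Cfsg Cfsg.Agent.Helper79 Cfsg.Agent.Helper77 Cfsg.Agent.Helper16.KleinFusion

universe u

section zp

variable {G : Type u} [Group G]

theorem orderOf_eq_two {x : G} (hx : x * x = 1) (hx1 : x ≠ 1) : orderOf x = 2 :=
  orderOf_eq_prime (by rw [pow_two]; exact hx) hx1

theorem mem_zpowers_invol {x y : G} (hx : x * x = 1) (hy : y ∈ Subgroup.zpowers x) :
    y = 1 ∨ y = x := by
  classical
  by_cases hx1 : x = 1
  · subst hx1
    rw [Subgroup.zpowers_one_eq_bot, Subgroup.mem_bot] at hy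
    exact Or.inl hy
  · have h2 := orderOf_eq_two hx hx1
    haveI : Fact (0 < orderOf x) := ⟨by rw [h2]; norm_num⟩
    obtain ⟨k, hk⟩ := Subgroup.mem_zpowers_iff.1 hy
    rcases Int.emod_two_eq_zero_or_one k with h | h
    · left
      rw [← hk, ← Int.emod_add_mul_ediv k 2, h, zero_add, zpow_mul, zpow_ofNat, pow_two, hx,
        one_zpow]
    · right
      rw [← hk, ← Int.emod_add_mul_ediv k 2, h, zpow_add, zpow_one, zpow_mul, zpow_ofNat, pow_two,
        hx, one_zpow, mul_one]

theorem eq_of_zpowers_eq {x y : G} (hx : x * x = 1) (hy1 : y ≠ 1)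
    (h : Subgroup.zpowers y = Subgroup.zpowers x) : y = x := by
  have hy : y ∈ Subgroup.zpowers x := h ▸ Subgroup.mem_zpowers y
  rcases mem_zpowers_invol hx hy with h1 | h1
  · exact absurd h1 hy1
  · exact h1

theorem map_conj_zpowers (g x : G) :
    (Subgroup.zpowers x).map (MulAut.conj g).toMonoidHom = Subgroup.zpowers (g * x * g⁻¹) := by
  rw [MonoidHom.map_zpowers]
  rfl

theorem isPGroup_zpowers_invol {x : G} (hx : x * x = 1) : IsPGroup 2 (Subgroup.zpowers x) := by
  by_cases hx1 : x = 1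
  · subst hx1
    rw [Subgroup.zpowers_one_eq_bot]
    exact IsPGroup.of_bot
  · apply IsPGroup.of_card (n := 1)
    rw [Nat.card_zpowers, orderOf_eq_two hx hx1, pow_one]

theorem mem_centralizer_zpowers_iff (x y : G) :
    y ∈ Subgroup.centralizer ((Subgroup.zpowers x : Subgroup G) : Set G) ↔ x * y = y * x := by
  rw [Subgroup.mem_centralizer_iff]
  constructor
  · intro h
    exact h x (Subgroup.mem_zpowers x)
  · intro h q hq
    obtain ⟨k, rfl⟩ := Subgroup.mem_zpowers_iff.1 hq
    have hc : Commute x y := h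
    exact (hc.zpow_left k)

theorem centralizer_singleton_eq (x : G) :
    Subgroup.centralizer ({x} : Set G) =
      Subgroup.centralizer ((Subgroup.zpowers x : Subgroup G) : Set G) := by
  ext y
  rw [mem_centralizer_zpowers_iff, Subgroup.mem_centralizer_iff]
  constructor
  · intro h
    exact h x rfl
  · intro h q hq
    rw [Set.mem_singleton_iff] at hq
    subst hq
    exact h

end zp

section rel

variable {G : Type u} [Group G] [Fintype G] {M : Ideal AlgInt}

/-- `(P, c)` is a maximal Brauer pair when `P` is a defect group and `c` induces `B` -/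
theorem isMaximal_of_defect {p : ℕ} [Fact p.Prime] (hM : IsPModular p M)
    {B : Set (IrrCharacter G)} {P : Subgroup G} (hPD : IsDefectGroup p M B P)
    {c : Set (IrrCharacter (Subgroup.centralizer (P : Set G)))}
    (hc : IsInducedBlock M (Subgroup.centralizer (P : Set G)) c B) :
    IsMaximalBrauerPair p M B P c := by
  have hP : IsPGroup p P := isPGroup_of_isDefectGroup hPD
  have hB := hc.2.1
  have hpair := Cfsg.Agent.S4717.isBrauerPairOf_of_isInducedBlock hM P hP hc
  obtain ⟨P₀, e₀, hmax₀, hle⟩ := exists_maximal_above (p := p) (M := M) B _ P c hpair rfl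
  have hP₀D := isDefectGroup_of_isMaximalBrauerPair hM hmax₀
  have hcard : Nat.card P = Nat.card P₀ := by
    rw [Cfsg.Agent.Helper74.DO.card_defectGroup hM hB P hPD,
      Cfsg.Agent.Helper74.DO.card_defectGroup hM hB P₀ hP₀D]
  exact isMaximalBrauerPair_of_card_eq hM hmax₀ hpair hcard

/-- the subsection `(x, b)` is conjugate to the pair on `⟨u⟩` below `(P, c)` -/
def SubRel (M : Ideal AlgInt) (P : Subgroup G)
    (c : Set (IrrCharacter (Subgroup.centralizer (P : Set G)))) (u x : G)
    (b : Set (IrrCharacter (Subgroup.centralizer ((Subgroup.zpowers x : Subgroup G) : Set G)))) :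
    Prop :=
  ∃ (g : G) (f : Set (IrrCharacter (Subgroup.centralizer
      ((Subgroup.zpowers u : Subgroup G) : Set G)))),
    IsPBlock M f ∧ SubpairLE 2 M (Subgroup.zpowers u) f P c ∧
      ConjRel g (Subgroup.zpowers x) (Subgroup.zpowers u) b f

variable [Fact (Nat.Prime 2)]

theorem subpairLE_of_conjRel {g : G} {Q Q' P : Subgroup G}
    {b : Set (IrrCharacter (Subgroup.centralizer (Q : Set G)))}
    {f : Set (IrrCharacter (Subgroup.centralizer (Q' : Set G)))}
    {c : Set (IrrCharacter (Subgroup.centralizer (P : Set G)))}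
    (hrel : ConjRel g Q Q' b f)
    (hle : SubpairLE 2 M (Q.map (MulAut.conj g).toMonoidHom) (conjBlock Q g b) P c) :
    SubpairLE 2 M Q' f P c := by
  obtain ⟨rfl, h2⟩ := hrel
  have e1 : f = conjBlock Q g b := Set.ext fun ξ' => h2 ξ'
  rw [e1]
  exact hle

theorem isPBlock_of_conjRel {g : G} {Q Q' : Subgroup G}
    {b : Set (IrrCharacter (Subgroup.centralizer (Q : Set G)))}
    {f : Set (IrrCharacter (Subgroup.centralizer (Q' : Set G)))}
    (hrel : ConjRel g Q Q' b f) (hb : IsPBlock M b) : IsPBlock M f := by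
  obtain ⟨rfl, h2⟩ := hrel
  have e1 : f = conjBlock Q g b := Set.ext fun ξ' => h2 ξ'
  rw [e1, conjBlock_eq_mapSet]
  exact isPBlock_mapSet _ hb

/-- **R1**: every subsection is conjugate to one below `(P, c)` -/
theorem exists_subRel (hM : IsPModular 2 M) {B : Set (IrrCharacter G)} {P : Subgroup G}
    {c : Set (IrrCharacter (Subgroup.centralizer (P : Set G)))}
    (hmax : IsMaximalBrauerPair 2 M B P c) {x : G} (hx : x * x = 1) (hx1 : x ≠ 1)
    {b : Set (IrrCharacter (Subgroup.centralizer ((Subgroup.zpowers x : Subgroup G) : Set G)))}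
    (hb : IsInducedBlock M (Subgroup.centralizer ((Subgroup.zpowers x : Subgroup G) : Set G)) b B) :
    ∃ u, u ∈ P ∧ u ≠ 1 ∧ SubRel M P c u x b := by
  have hRg : IsBrauerPairOf 2 M B (Subgroup.zpowers x) b :=
    Cfsg.Agent.S4717.isBrauerPairOf_of_isInducedBlock hM _ (isPGroup_zpowers_invol hx) hb
  obtain ⟨g, hg⟩ := exists_conj_subpairLE hM hmax hRg
  have hmap := map_conj_zpowers g x
  have hle : (Subgroup.zpowers x).map (MulAut.conj g).toMonoidHom ≤ P := le_of_reflTransGen hg
  have huP : g * x * g⁻¹ ∈ P := by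
    apply hle
    rw [hmap]
    exact Subgroup.mem_zpowers _
  have hu1 : g * x * g⁻¹ ≠ 1 := by
    intro h
    apply hx1
    calc x = g⁻¹ * (g * x * g⁻¹) * g := by group
      _ = 1 := by rw [h]; group
  obtain ⟨f, hf⟩ := ConjRel.exists_of_eq g (Subgroup.zpowers x) (Subgroup.zpowers (g * x * g⁻¹)) b
    hmap.symm
  refine ⟨g * x * g⁻¹, huP, hu1, g, f, (hf.isBrauerPairOf hRg).1.2, subpairLE_of_conjRel hf hg, hf⟩

/-- **R2**: the pair on `⟨u⟩` below `(P, c)` is conjugate to a subsection on any conjugate of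
`u` -/
theorem exists_subRel_of_isConj (hM : IsPModular 2 M) {B : Set (IrrCharacter G)} {P : Subgroup G}
    {c : Set (IrrCharacter (Subgroup.centralizer (P : Set G)))}
    (hmax : IsMaximalBrauerPair 2 M B P c) {u : G} (huP : u ∈ P) {x : G} (hux : IsConj u x) :
    ∃ b : Set (IrrCharacter (Subgroup.centralizer ((Subgroup.zpowers x : Subgroup G) : Set G))),
      IsInducedBlock M (Subgroup.centralizer ((Subgroup.zpowers x : Subgroup G) : Set G)) b B ∧
        SubRel M P c u x b := by
  classical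
  haveI : Fintype (Subgroup.centralizer ((Subgroup.zpowers x : Subgroup G) : Set G)) :=
    Fintype.ofFinite _
  have hPc : IsBrauerPair 2 M P c := hmax.1.1
  have hB : IsPBlock M B := hmax.1.2.1
  have hQP : Subgroup.zpowers u ≤ P := by
    rw [Subgroup.zpowers_le]
    exact huP
  obtain ⟨f, ⟨hf, hle⟩, -⟩ := existsUnique_subpairLE hM P (Subgroup.zpowers u) c hPc hQP
  obtain ⟨g, hg⟩ := isConj_iff.1 hux
  have hmap : Subgroup.zpowers x = (Subgroup.zpowers u).map (MulAut.conj g).toMonoidHom := by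
    rw [map_conj_zpowers, hg]
  obtain ⟨b, hb⟩ := ConjRel.exists_of_eq g (Subgroup.zpowers u) (Subgroup.zpowers x) f hmap
  have hQf : IsBrauerPairOf 2 M B (Subgroup.zpowers u) f :=
    (isBrauerPairOf_iff_of_subpairLE hM P (Subgroup.zpowers u) c f hPc ⟨hPc.1.to_le hQP, hf⟩ hle
      B hB).mp hmax.1
  have hxb : IsBrauerPairOf 2 M B (Subgroup.zpowers x) b := hb.isBrauerPairOf hQf
  refine ⟨b, Cfsg.Agent.Helper76.InBlock.isInducedBlock_of_isBrauerPairOf_gen hM _ hxb,
    g⁻¹, f, hf, hle, conjRel_inv hb⟩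

/-- **R3**: a pair below `(P, c)` is related to at most one subsection with representative in a
set of class representatives -/
theorem subRel_unique (hM : IsPModular 2 M) {P : Subgroup G}
    {c : Set (IrrCharacter (Subgroup.centralizer (P : Set G)))} (hPc : IsBrauerPair 2 M P c)
    {u : G} (huP : u ∈ P) {x x' : G} (hx : x * x = 1) (hx'1 : x' ≠ 1)
    (hrep : IsConj x x' → x = x')
    {b : Set (IrrCharacter (Subgroup.centralizer ((Subgroup.zpowers x : Subgroup G) : Set G)))}
    {b' : Set (IrrCharacter (Subgroup.centralizer ((Subgroup.zpowers x' : Subgroup G) : Set G)))}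
    (hb : IsPBlock M b)
    (h : SubRel M P c u x b) (h' : SubRel M P c u x' b') :
    (⟨x, b⟩ : Σ y : G, Set (IrrCharacter (Subgroup.centralizer
      ((Subgroup.zpowers y : Subgroup G) : Set G)))) = ⟨x', b'⟩ := by
  classical
  haveI hpr := isPrime_of_isPModular hM
  obtain ⟨g, f, hf, hle, hrel⟩ := h
  obtain ⟨g', f', hf', hle', hrel'⟩ := h'
  have hQP : Subgroup.zpowers u ≤ P := by
    rw [Subgroup.zpowers_le]
    exact huP
  have hff' : f = f' := subpairLE_unique hM P c hPc _ _ hQP rfl f f' hf hle hf' hle'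
  subst hff'
  have hcomp := hrel.comp (conjRel_inv hrel')
  have hQ := hcomp.1
  rw [map_conj_zpowers] at hQ
  have hx'eq : x' = g'⁻¹ * g * x * (g'⁻¹ * g)⁻¹ := by
    apply eq_of_zpowers_eq _ hx'1 hQ
    calc g'⁻¹ * g * x * (g'⁻¹ * g)⁻¹ * (g'⁻¹ * g * x * (g'⁻¹ * g)⁻¹)
        = g'⁻¹ * g * (x * x) * (g'⁻¹ * g)⁻¹ := by group
      _ = 1 := by rw [hx]; group
  have hxx' : x = x' := hrep (isConj_iff.2 ⟨g'⁻¹ * g, hx'eq.symm⟩)
  subst hxx'
  have hcent : g'⁻¹ * g ∈ Subgroup.centralizer ((Subgroup.zpowers x : Subgroup G) : Set G) := by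
    rw [mem_centralizer_zpowers_iff]
    calc x * (g'⁻¹ * g) = (g'⁻¹ * g * x * (g'⁻¹ * g)⁻¹) * (g'⁻¹ * g) := by rw [← hx'eq]
      _ = g'⁻¹ * g * x := by group
  have hself := conjRel_of_mem_centralizer hb hcent
  have : b = b' := ConjRel.unique hself hcomp
  rw [this]

/-- **R4**: two pairs below `(P, c)` related to the same subsection are conjugate under the
stabilizer of `(P, c)` -/
theorem exists_conj_of_subRel (hM : IsPModular 2 M) {B : Set (IrrCharacter G)} {P : Subgroup G}
    {c : Set (IrrCharacter (Subgroup.centralizer (P : Set G)))}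
    (hmax : IsMaximalBrauerPair 2 M B P c) (hab : ∀ x ∈ P, ∀ y ∈ P, x * y = y * x)
    {u v : G} (hu : u * u = 1) (hvP : v ∈ P) (hv1 : v ≠ 1) {x : G}
    {b : Set (IrrCharacter (Subgroup.centralizer ((Subgroup.zpowers x : Subgroup G) : Set G)))}
    (h : SubRel M P c u x b) (h' : SubRel M P c v x b) :
    ∃ t, t ∈ Subgroup.normalizer (P : Set G) ∧
      StabilizesBlock (Subgroup.centralizer (P : Set G)) c t ∧ t * u * t⁻¹ = v := by
  obtain ⟨g, f, hf, hle, hrel⟩ := h
  obtain ⟨g', f', hf', hle', hrel'⟩ := h'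
  have hQ'P : Subgroup.zpowers v ≤ P := by
    rw [Subgroup.zpowers_le]
    exact hvP
  have hcomp := (conjRel_inv hrel).comp hrel'
  obtain ⟨y, hyN, hyst, d, hd, hyd⟩ := fusion_factorization hM hmax hab hQ'P hf' hle hle' hcomp
  refine ⟨y, hyN, hyst, ?_⟩
  have hQ := hcomp.1
  rw [map_conj_zpowers] at hQ
  have hveq : v = g' * g⁻¹ * u * (g' * g⁻¹)⁻¹ := by
    apply eq_of_zpowers_eq _ hv1 hQ
    calc g' * g⁻¹ * u * (g' * g⁻¹)⁻¹ * (g' * g⁻¹ * u * (g' * g⁻¹)⁻¹)
        = g' * g⁻¹ * (u * u) * (g' * g⁻¹)⁻¹ := by group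
      _ = 1 := by rw [hu]; group
  have hdv : v * d = d * v := (mem_centralizer_zpowers_iff v d).1 hd
  rw [hyd]
  calc d * (g' * g⁻¹) * u * (d * (g' * g⁻¹))⁻¹
      = d * (g' * g⁻¹ * u * (g' * g⁻¹)⁻¹) * d⁻¹ := by group
    _ = d * v * d⁻¹ := by rw [← hveq]
    _ = v * d * d⁻¹ := by rw [hdv]
    _ = v := by group

/-- **R5**: the stabilizer of `(P, c)` preserves the relation -/
theorem subRel_of_conj (hM : IsPModular 2 M) {P : Subgroup G}
    {c : Set (IrrCharacter (Subgroup.centralizer (P : Set G)))} (hPc : IsBrauerPair 2 M P c)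
    {u v t : G} (htN : t ∈ Subgroup.normalizer (P : Set G))
    (htst : StabilizesBlock (Subgroup.centralizer (P : Set G)) c t) (htu : t * u * t⁻¹ = v) {x : G}
    {b : Set (IrrCharacter (Subgroup.centralizer ((Subgroup.zpowers x : Subgroup G) : Set G)))}
    (h : SubRel M P c u x b) : SubRel M P c v x b := by
  haveI hpr := isPrime_of_isPModular hM
  obtain ⟨g, f, hf, hle, hrel⟩ := h
  have hmap : Subgroup.zpowers v = (Subgroup.zpowers u).map (MulAut.conj t).toMonoidHom := by
    rw [map_conj_zpowers, htu]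
  obtain ⟨f', hf'⟩ := ConjRel.exists_of_eq t (Subgroup.zpowers u) (Subgroup.zpowers v) f hmap
  have hself : ConjRel t P P c c := conjRel_self_of_stabilizes hPc.2 htN htst
  have hle' : SubpairLE 2 M (Subgroup.zpowers v) f' P c := hf'.subpairLE hself hle
  have hf'b : IsPBlock M f' := isPBlock_of_conjRel hf' hf
  exact ⟨t * g, f', hf'b, hle', hrel.comp hf'⟩

end rel

end Cfsg.Agent.Helper16.KleinPairs
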