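import Mathlib

/-!
# Representatives of the conjugacy classes of `p`-elements (helper16)
-/

set_option autoImplicit false
set_option linter.unusedSectionVars false
set_option linter.style.haveILetI false

namespace Cfsg.Agent.Helper16.KleinReps

theorem orderOf_eq_of_isConj {G : Type*} [Group G] {g x : G} (h : IsConj g x) :
    orderOf x = orderOf g := by
  obtain ⟨c, hc⟩ := isConj_iff.1 h
  rw [← hc]
  exact orderOf_injective (MulAut.conj c).toMonoidHom (MulAut.conj c).injective g

theorem exists_reps (G : Type*) [Group G] [Fintype G] (p : ℕ) :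
    ∃ X : Finset G, (∀ x ∈ X, ∃ k : ℕ, orderOf x = p ^ k) ∧
      (∀ g : G, (∃ k : ℕ, orderOf g = p ^ k) → ∃! x, x ∈ X ∧ IsConj g x) := by
  classical
  obtain ⟨rep, hrep⟩ : ∃ rep : G → G, rep = fun g => Quotient.out (ConjClasses.mk g) := ⟨_, rfl⟩
  have hmk : ∀ g, ConjClasses.mk (rep g) = ConjClasses.mk g := by
    intro g
    rw [hrep]
    exact Quotient.out_eq (ConjClasses.mk g)
  have hconj : ∀ g, IsConj g (rep g) := fun g =>
    ConjClasses.mk_eq_mk_iff_isConj.1 (hmk g).symm
  have hrepeq : ∀ g y, IsConj g y → rep y = rep g := by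
    intro g y h
    rw [hrep]
    simp only
    rw [ConjClasses.mk_eq_mk_iff_isConj.2 h]
  refine ⟨Finset.univ.filter (fun x : G => rep x = x ∧ ∃ k : ℕ, orderOf x = p ^ k), ?_, ?_⟩
  · intro x hx
    rw [Finset.mem_filter] at hx
    exact hx.2.2
  · intro g hg
    refine ⟨rep g, ⟨?_, hconj g⟩, ?_⟩
    · rw [Finset.mem_filter]
      refine ⟨Finset.mem_univ _, hrepeq g (rep g) (hconj g), ?_⟩
      obtain ⟨k, hk⟩ := hg
      exact ⟨k, by rw [orderOf_eq_of_isConj (hconj g), hk]⟩
    · rintro y ⟨hy, hgy⟩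
      rw [Finset.mem_filter] at hy
      rw [← hy.2.1]
      exact hrepeq g y hgy

end Cfsg.Agent.Helper16.KleinReps
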