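import Mathlib
import Cfsg.Prelude.Def_Blocks
import Cfsg.Prelude.Def_BlockRank
import Cfsg.Agent.Lib.Helper16.KleinCentral
import Cfsg.Agent.Lib.Helper74.Klein2
import Cfsg.Agent.Lib.Helper77.DefectInd
import Cfsg.Agent.Lib.Helper77.FMT

/-!
# 2-blocks of defect two (helper16)

* `card_eq_four` : a `2`-block of defect two has exactly four irreducible characters
  (all heights vanish, the contribution numbers are odd, rows `∑ n² = 4 n_χχ`, Brauer–Feit).
* `blockRank_pos` : the rank of a block is positive.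
* `blockRank_sub` : a block `b` of the centralizer of a `2`-element `x ≠ 1` inducing a block of
  defect two has rank one, and `x` lies in a defect group of `B`.
-/

set_option autoImplicit false
set_option linter.unusedSectionVars false
set_option linter.style.haveILetI false
set_option maxHeartbeats 800000

namespace Cfsg.Agent.Helper16.KleinDefect

open Cfsg
open Cfsg.Agent.Helper74.SS Cfsg.Agent.Helper74.BF Cfsg.Agent.Helper74.DO
open Cfsg.Agent.Helper77 Cfsg.Agent.Helper78
open scoped ComplexConjugate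

universe u

section defect

variable {G : Type u} [Group G] [Fintype G] {M : Ideal AlgInt}

/-- a `2`-block of defect two has four irreducible characters -/
theorem card_eq_four (hM : IsPModular 2 M) {B : Set (IrrCharacter G)} (hB : IsPBlock M B)
    (hd : blockDefect 2 B = 2) : (Set.toFinite B).toFinset.card = 4 := by
  classical
  haveI : Fact (Nat.Prime 2) := ⟨Nat.prime_two⟩
  haveI := isPrime_of_isPModular hM
  obtain ⟨n, hn⟩ := exists_contrib hM hB
  obtain ⟨T, hTdef⟩ : ∃ T : Finset (IrrCharacter G), T = (Set.toFinite B).toFinset := ⟨_, rfl⟩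
  have hTmem : ∀ χ, χ ∈ T ↔ χ ∈ B := by
    intro χ
    rw [hTdef, Set.Finite.mem_toFinset]
  have hht : ∀ χ ∈ B, (charDegree (χ : G → ℂ)).factorization 2 = minVal 2 B := by
    intro χ hχ
    by_contra hne
    have hlt : minVal 2 B < (charDegree (χ : G → ℂ)).factorization 2 :=
      lt_of_le_of_ne (minVal_le hχ) (Ne.symm hne)
    have := hn.height_add_two_le hM hB hχ hlt
    rw [hd] at this
    omega
  have hodd : ∀ χ ∈ B, ∀ ψ ∈ B, Odd (n χ ψ) := by
    intro χ hχ ψ hψ
    rw [← Int.not_even_iff_odd, even_iff_two_dvd]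
    intro h2
    have hv := hn.val_eq hM hB hχ (hht χ hχ) hψ
    have hpos := factorization_pos_of_dvd (p := 2) hv.1 (by exact_mod_cast h2)
    have := hht ψ hψ
    omega
  have hsq : ∀ χ ∈ B, ∑ ψ ∈ T, n χ ψ ^ 2 = 4 * n χ χ := by
    intro χ hχ
    have h := hn.sum_sq hχ
    rw [hd] at h
    rw [← Finset.sum_subset (Finset.subset_univ T)] at h
    · rw [h]; norm_num
    · intro ψ _ hψ
      rw [hn.zero_of_notMem χ hχ ψ (fun h' => hψ ((hTmem ψ).2 h'))]
      norm_num
  obtain ⟨χ₀, hχ₀⟩ := nonempty_of_isPBlock hB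
  have hoddT : ∀ ψ ∈ T, Odd (n χ₀ ψ) := fun ψ hψ => hodd χ₀ hχ₀ ψ ((hTmem ψ).1 hψ)
  obtain ⟨J, hJ⟩ := KleinNum.sum_odd_sq T (n χ₀) hoddT
  rw [hsq χ₀ hχ₀] at hJ
  obtain ⟨k, hk⟩ := hodd χ₀ hχ₀ χ₀ hχ₀
  have hbf := brauer_feit hM hB
  rw [hd, ← hTdef] at hbf
  have hpos : 0 < T.card := Finset.card_pos.mpr ⟨χ₀, (hTmem χ₀).2 hχ₀⟩
  have hp : (0 : ℤ) < T.card := by exact_mod_cast hpos
  have hle : (T.card : ℤ) ≤ 5 := by
    have : T.card ≤ 5 := by norm_num at hbf; omega
    exact_mod_cast this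
  rw [← hTdef]
  have : (T.card : ℤ) = 4 := by omega
  exact_mod_cast this

/-- the rank of a block is positive -/
theorem blockRank_pos {p : ℕ} [Fact p.Prime] (hM : IsPModular p M) {B : Set (IrrCharacter G)}
    (hB : IsPBlock M B) : 0 < blockRank p B := by
  haveI := isPrime_of_isPModular hM
  obtain ⟨χ₀, hχ₀⟩ := nonempty_of_isPBlock hB
  unfold blockRank
  rw [Module.finrank_pos_iff_exists_ne_zero]
  have hne : pRegularPart p (χ₀ : G → ℂ) ≠ 0 := by
    intro h
    have h1 := congrFun h 1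
    rw [pRegularPart_one] at h1
    exact irr_apply_one_ne_zero χ₀.2 h1
  refine ⟨⟨pRegularPart p (χ₀ : G → ℂ), Submodule.subset_span ⟨χ₀, hχ₀, rfl⟩⟩, ?_⟩
  intro h
  exact hne (congrArg Subtype.val h)

end defect

end Cfsg.Agent.Helper16.KleinDefect
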