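import Mathlib
import Cfsg.Prelude.Def_Blocks
import Cfsg.Agent.Lib.Helper16.GroupTrace
import Cfsg.Agent.Lib.Helper16.PPart
import Cfsg.Agent.Lib.Helper16.WBO

set_option autoImplicit false
set_option linter.unusedSectionVars false
set_option linter.style.haveILetI false

namespace Cfsg.Agent.Helper16

open Cfsg Cfsg.Agent.Helper77
open scoped ComplexConjugate

section ortho

variable {G : Type*} [Group G] [Fintype G] {p : ℕ} {M : Ideal AlgInt}

/-- Idempotent form of block orthogonality for `p`-sections. -/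
theorem sum_blockCoeff_twoSided_eq_zero (hM : IsPModular p M) {B : Set (IrrCharacter G)}
    (hB : IsPBlock M B) {g h x y : G} (hx : IsPPart p g x) (hy : IsPPart p h y)
    (hxy : ¬ IsConj x y) : ∑ w : G, blockCoeff B (h⁻¹ * w * g * w⁻¹) = 0 := by
  haveI := isPrime_of_isPModular hM
  have hecl := isClassFunction_blockCoeff B
  refine sum_twoSided_eq_zero hM (blockCoeff B) (isRValued_blockCoeff hB)
    (conv_blockCoeff_self B) g h ?_ ?_
  · intro z
    have := hecl z h⁻¹
    rw [inv_inv] at this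
    exact this
  · rintro w w' ⟨i, hi, hiw⟩ _
    exact absurd (isConj_of_semiconj (semiconj_ppart hM.1 hx hy hi hiw)) hxy

/-- **Block orthogonality for `p`-sections**: if the `p`-parts of `g` and `h` are not conjugate,
then `∑_{χ ∈ B} χ g * χ h⁻¹ = 0`. -/
theorem block_orthogonality_sections (hM : IsPModular p M) {B : Set (IrrCharacter G)}
    (hB : IsPBlock M B) {g h x y : G} (hx : IsPPart p g x) (hy : IsPPart p h y)
    (hxy : ¬ IsConj x y) :
    ∑ χ ∈ (Set.toFinite B).toFinset, (χ : G → ℂ) g * (χ : G → ℂ) h⁻¹ = 0 := by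
  classical
  have := isPrime_of_isPModular hM
  have hecl := isClassFunction_blockCoeff B
  have h0 := sum_blockCoeff_twoSided_eq_zero hM hB hx hy hxy
  have h1 : ∀ w : G, blockCoeff B (h⁻¹ * w * g * w⁻¹) = blockCoeff B (w * g * w⁻¹ * h⁻¹) := by
    intro w
    have := classFunction_comm hecl h⁻¹ (w * g * w⁻¹)
    rw [← this]
    congr 1
    group
  simp only [h1, blockCoeff_eq_sum] at h0
  rw [← Finset.mul_sum, Finset.sum_comm] at h0
  have hG : (Nat.card G : ℂ) ≠ 0 := by exact_mod_cast Nat.card_pos.ne'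
  have h2 := (mul_eq_zero.mp h0).resolve_left (inv_ne_zero hG)
  have h3 : ∀ χ ∈ (Set.toFinite B).toFinset,
      ∑ z : G, (χ : G → ℂ) 1 * conj ((χ : G → ℂ) (z * g * z⁻¹ * h⁻¹))
        = (Nat.card G : ℂ) * conj ((χ : G → ℂ) g * (χ : G → ℂ) h⁻¹) := by
    intro χ _
    rw [← Finset.mul_sum, ← map_sum, Cfsg.Agent.Helper80.irr_sum_conj_mul χ g h⁻¹]
    have h1ne : (χ : G → ℂ) 1 ≠ 0 := Cfsg.Agent.Helper78.irr_apply_one_ne_zero χ.2
    rw [map_div₀, map_mul, map_mul, Complex.conj_natCast, irr_conj_one, map_mul]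
    field_simp
  rw [Finset.sum_congr rfl h3, ← Finset.mul_sum, ← map_sum] at h2
  have h4 := (mul_eq_zero.mp h2).resolve_left hG
  exact (map_eq_zero _).1 h4

end ortho

end Cfsg.Agent.Helper16
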