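import Mathlib
import Cfsg.Prelude.Def_Blocks
import Cfsg.Prelude.Def_BlockRank
import Cfsg.Agent.Lib.Helper16.KleinDefect
import Cfsg.Agent.Lib.Helper74.Contrib2

/-!
# Subsections of a 2-block of defect two (helper16)

A block `b` of the centralizer of a `2`-element `x ≠ 1` inducing a block `B` of defect two:
`x` lies in a defect group of `B`, and if `x` is an involution then `b` has rank one.
-/

set_option autoImplicit false
set_option linter.unusedSectionVars false
set_option linter.style.haveILetI false
set_option maxHeartbeats 800000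

namespace Cfsg.Agent.Helper16.KleinSub

open Cfsg
open Cfsg.Agent.Helper74.SS Cfsg.Agent.Helper74.BF Cfsg.Agent.Helper74.DO
open Cfsg.Agent.Helper74.CT
open Cfsg.Agent.Helper77 Cfsg.Agent.Helper78
open scoped ComplexConjugate

universe u

section sub

variable {G : Type u} [Group G] [Fintype G] {M : Ideal AlgInt}

theorem sub_facts (hM : IsPModular 2 M) {B : Set (IrrCharacter G)} (hB : IsPBlock M B)
    (hd : blockDefect 2 B = 2) (x : G) [Fintype (Subgroup.centralizer ({x} : Set G))]
    (hx : ∃ k : ℕ, orderOf x = 2 ^ k)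
    {b : Set (IrrCharacter (Subgroup.centralizer ({x} : Set G)))}
    (hind : IsInducedBlock M (Subgroup.centralizer ({x} : Set G)) b B) :
    (∃ E : Subgroup G, IsDefectGroup 2 M B E ∧ x ∈ E) ∧ (orderOf x = 2 → blockRank 2 b = 1) := by
  classical
  haveI : Fact (Nat.Prime 2) := ⟨Nat.prime_two⟩
  haveI := isPrime_of_isPModular hM
  obtain ⟨k, hk⟩ := hx
  obtain ⟨z, hzdef⟩ : ∃ z : Subgroup.centralizer ({x} : Set G), z = zc x := ⟨_, rfl⟩
  have hzc : (z : G) = x := by rw [hzdef]; rfl
  have hz : z ∈ Subgroup.center (Subgroup.centralizer ({x} : Set G)) := by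
    rw [hzdef]; exact zc_mem_center x
  have hzord : orderOf z = orderOf x := by
    rw [← Subgroup.orderOf_coe, hzc]
  haveI hnorm : (Subgroup.zpowers z).Normal := by
    refine ⟨fun n hn g => ?_⟩
    have hc : g * n * g⁻¹ = n := by
      obtain ⟨j, rfl⟩ := Subgroup.mem_zpowers_iff.1 hn
      have hzk : z ^ j ∈ Subgroup.center (Subgroup.centralizer ({x} : Set G)) :=
        Subgroup.zpow_mem _ hz j
      have := Subgroup.mem_center_iff.1 hzk g
      rw [this, mul_inv_cancel_right]
    rw [hc]
    exact hn
  have hN2 : IsPGroup 2 (Subgroup.zpowers z) := by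
    apply IsPGroup.of_card (n := k)
    rw [Nat.card_zpowers, hzord, hk]
  obtain ⟨D, hD⟩ := exists_isDefectGroup 2 hind.1
  have hND : Subgroup.zpowers z ≤ D := normal_le_of_isDefectGroup hM hind.1 hD _ hN2
  obtain ⟨E, hE, hDE⟩ := exists_isDefectGroup_of_isInducedBlock hM
    (Subgroup.centralizer ({x} : Set G)) hind D hD
  have hxE : x ∈ E := by
    apply hDE
    exact ⟨z, hND (Subgroup.mem_zpowers z), hzc⟩
  refine ⟨⟨E, hE, hxE⟩, fun hx2 => ?_⟩
  have hcE := card_defectGroup hM hB E hE
  rw [hd] at hcE
  have hcD := card_defectGroup hM hind.1 D hD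
  have h1 : Nat.card D ≤ Nat.card E := by
    have := Subgroup.card_le_of_le hDE
    rwa [Subgroup.card_map_of_injective (Subgroup.subtype_injective _)] at this
  have h2 : Nat.card (Subgroup.zpowers z) ≤ Nat.card D := Subgroup.card_le_of_le hND
  rw [Nat.card_zpowers, hzord, hx2] at h2
  rw [hcD] at h1 h2
  rw [hcE] at h1
  have hdb : blockDefect 2 b = 1 ∨ blockDefect 2 b = 2 := by
    have h3 : blockDefect 2 b ≤ 2 := by
      by_contra hcon
      push Not at hcon
      have : 2 ^ 3 ≤ 2 ^ blockDefect 2 b := Nat.pow_le_pow_right (by norm_num) hcon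
      omega
    have h4 : 1 ≤ blockDefect 2 b := by
      by_contra hcon
      push Not at hcon
      have : blockDefect 2 b = 0 := by omega
      rw [this] at h2
      omega
    omega
  rcases hdb with h | h
  · exact Cfsg.Agent.Helper74.KL.blockRank_of_defect_one hM hind.1 h
  · exact (KleinCentral.central_invol hM hind.1 h z (by rw [hzord, hx2]) hz).2

end sub

end Cfsg.Agent.Helper16.KleinSub
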