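import Mathlib
import Cfsg.Agent.Lib.Helper16.KleinSub
import Cfsg.Agent.Lib.Helper16.KleinPairs
import Cfsg.Agent.Lib.Helper16.KleinReps
import Cfsg.Agent.S4511
import Cfsg.Agent.S4512

/-!
# Counting subsections of a 2-block of defect two with defect groups of exponent two (helper16)
-/

set_option autoImplicit false
set_option linter.unusedSectionVars false
set_option linter.style.haveILetI false
set_option maxHeartbeats 800000

namespace Cfsg.Agent.Helper16.KleinCount

open Cfsg
open Cfsg.Agent.Helper74.SS Cfsg.Agent.Helper74.DO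
open Cfsg.Agent.Helper77 Cfsg.Agent.Helper78
open Cfsg.Agent.Helper16.KleinPairs

universe u

section count

variable {G : Type u} [Group G] [Fintype G] [DecidableEq G] {M : Ideal AlgInt}

/-- a `2`-element `x` with a block of `C_G(⟨x⟩)` inducing `B` squares to one -/
theorem sq_eq_one_of_induced (hM : IsPModular 2 M) {B : Set (IrrCharacter G)}
    (hB : IsPBlock M B) (hd : blockDefect 2 B = 2)
    (hexp : ∀ E : Subgroup G, IsDefectGroup 2 M B E → ∀ y ∈ E, y * y = 1)
    (x : G) (hx : ∃ k : ℕ, orderOf x = 2 ^ k)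
    {b : Set (IrrCharacter (Subgroup.centralizer ((Subgroup.zpowers x : Subgroup G) : Set G)))}
    (hb : IsInducedBlock M (Subgroup.centralizer ((Subgroup.zpowers x : Subgroup G) : Set G)) b B) :
    x * x = 1 := by
  classical
  haveI : Fintype (Subgroup.centralizer ({x} : Set G)) := Fintype.ofFinite _
  have key : ∀ K : Subgroup G, Subgroup.centralizer ({x} : Set G) = K →
      ∀ b : Set (IrrCharacter K), IsInducedBlock M K b B → x * x = 1 := by
    rintro K rfl b hb
    obtain ⟨⟨E, hE, hxE⟩, -⟩ := KleinSub.sub_facts hM hB hd x hx hb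
    exact hexp E hE x hxE
  exact key _ (centralizer_singleton_eq x) b hb

/-- `l(B) + #(subsections) = 4` -/
theorem rank_add_sum (hM : IsPModular 2 M) {B : Set (IrrCharacter G)}
    (hB : IsPBlock M B) (hd : blockDefect 2 B = 2)
    (hexp : ∀ E : Subgroup G, IsDefectGroup 2 M B E → ∀ y ∈ E, y * y = 1)
    (X : Finset G) (hX : ∀ x ∈ X, ∃ k : ℕ, orderOf x = 2 ^ k)
    (hXrep : ∀ g : G, (∃ k : ℕ, orderOf g = 2 ^ k) → ∃! x, x ∈ X ∧ IsConj g x) :
    blockRank 2 B + ∑ x ∈ X.erase 1,
      {b : Set (IrrCharacter (Subgroup.centralizer ((Subgroup.zpowers x : Subgroup G) : Set G))) |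
        IsInducedBlock M (Subgroup.centralizer ((Subgroup.zpowers x : Subgroup G) : Set G))
          b B}.ncard = 4 := by
  classical
  haveI : Fact (Nat.Prime 2) := ⟨Nat.prime_two⟩
  have h1 := Cfsg.Agent.S4511.result 2 M hM B hB X hX hXrep
  have hcard : Nat.card B = 4 := by
    rw [Nat.card_coe_set_eq, Set.ncard_eq_toFinset_card B (Set.toFinite B)]
    exact KleinDefect.card_eq_four hM hB hd
  have h1X : (1 : G) ∈ X := by
    obtain ⟨x, ⟨hxX, hx⟩, -⟩ := hXrep 1 ⟨0, by simp⟩
    have : x = 1 := isConj_one_right.1 hx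
    rwa [this] at hxX
  rw [hcard, ← Finset.add_sum_erase X _ h1X] at h1
  have hterm1 : (∑ᶠ b ∈ {b : Set (IrrCharacter (Subgroup.centralizer ({(1 : G)} : Set G))) |
      IsInducedBlock M (Subgroup.centralizer ({(1 : G)} : Set G)) b B}, blockRank 2 b) =
      blockRank 2 B := by
    apply Nat.cast_injective (R := ℂ)
    rw [sum_blockRank_eq hM 1 ⟨0, by simp⟩ hB, blockRank_eq_sum hM hB]
    refine Finset.sum_congr rfl fun χ _ => ?_
    exact Cfsg.Agent.S4512.secNorm_one χ
  have hterm : ∀ x ∈ X.erase 1,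
      (∑ᶠ b ∈ {b : Set (IrrCharacter (Subgroup.centralizer ({x} : Set G))) |
        IsInducedBlock M (Subgroup.centralizer ({x} : Set G)) b B}, blockRank 2 b) =
      {b : Set (IrrCharacter (Subgroup.centralizer ((Subgroup.zpowers x : Subgroup G) : Set G))) |
        IsInducedBlock M (Subgroup.centralizer ((Subgroup.zpowers x : Subgroup G) : Set G))
          b B}.ncard := by
    intro x hx
    rw [Finset.mem_erase] at hx
    letI : Fintype (Subgroup.centralizer ({x} : Set G)) := Fintype.ofFinite _
    have hall : ∀ b ∈ {b : Set (IrrCharacter (Subgroup.centralizer ({x} : Set G))) |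
        IsInducedBlock M (Subgroup.centralizer ({x} : Set G)) b B}, blockRank 2 b = 1 := by
      intro b hb
      obtain ⟨⟨E, hE, hxE⟩, hr⟩ := KleinSub.sub_facts hM hB hd x (hX x hx.2) hb
      exact hr (orderOf_eq_two (hexp E hE x hxE) hx.1)
    rw [finsum_mem_congr rfl hall, finsum_one]
    exact congrArg (fun K : Subgroup G =>
      {b : Set (IrrCharacter K) | IsInducedBlock M K b B}.ncard) (centralizer_singleton_eq x)
  rw [hterm1, Finset.sum_congr rfl hterm] at h1
  exact h1.symm

end count

end Cfsg.Agent.Helper16.KleinCount
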