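import Mathlib
import Cfsg.Agent.Lib.Helper16.KleinPairs
import Cfsg.Agent.Lib.Helper16.KleinAct
import Cfsg.Agent.Lib.Helper77.ExtDefect

/-!
# The inertial index of a block with abelian defect group is prime to `p` (helper16)
-/

set_option autoImplicit false
set_option linter.unusedSectionVars false
set_option linter.style.haveILetI false
set_option maxHeartbeats 800000

namespace Cfsg.Agent.Helper16.KleinInertial

open Cfsg Cfsg.Agent.Helper79 Cfsg.Agent.Helper77 Cfsg.Agent.Helper16.KleinPairs

universe u

section inertial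

variable {G : Type u} [Group G] [Fintype G] {M : Ideal AlgInt}

theorem not_dvd_relIndex {p : ℕ} [Fact p.Prime] (hM : IsPModular p M)
    {B : Set (IrrCharacter G)} {P : Subgroup G} (hPD : IsDefectGroup p M B P)
    (hab : ∀ x ∈ P, ∀ y ∈ P, x * y = y * x)
    {c : Set (IrrCharacter (Subgroup.centralizer (P : Set G)))}
    (hc : IsInducedBlock M (Subgroup.centralizer (P : Set G)) c B) (T : Subgroup G)
    (hT : ∀ g : G, g ∈ T ↔ (g ∈ Subgroup.normalizer (P : Set G) ∧
      StabilizesBlock (Subgroup.centralizer (P : Set G)) c g)) :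
    ¬ p ∣ (Subgroup.centralizer (P : Set G)).relIndex T := by
  classical
  haveI : Fintype (Subgroup.centralizer (P : Set G)) := Fintype.ofFinite _
  have hmax := isMaximal_of_defect hM hPD hc
  have hP : IsPGroup p P := isPGroup_of_isDefectGroup hPD
  have hPle : P ≤ Subgroup.centralizer (P : Set G) := by
    intro u hu
    rw [Subgroup.mem_centralizer_iff]
    intro q hq
    exact hab q hq u hu
  have hcP : IsDefectGroup p M c (P.subgroupOf (Subgroup.centralizer (P : Set G))) :=
    isDefectGroup_of_le_centralizer hM hmax le_rfl hc.1 Relation.ReflTransGen.refl hPle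
  have hH : Subgroup.centralizer (P : Set G) = P ⊔ Subgroup.centralizer (P : Set G) :=
    (sup_eq_right.mpr hPle).symm
  have hT' : ∀ g : G, g ∈ T ↔ (g ∈ Subgroup.normalizer (P : Set G) ∧ ∀ θ ∈ c,
      ∀ θ' : IrrCharacter (Subgroup.centralizer (P : Set G)),
        (∀ h h' : Subgroup.centralizer (P : Set G), (h' : G) = g * h * g⁻¹ →
          (θ' : Subgroup.centralizer (P : Set G) → ℂ) h' =
            (θ : Subgroup.centralizer (P : Set G) → ℂ) h) → θ' ∈ c) := by
    intro g
    rw [hT g]
    constructor
    · rintro ⟨h1, h2⟩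
      exact ⟨h1, (stabilizesBlock_iff_forall _ c g
        (normalizer_le_normalizer_centralizer P h1)).mp h2⟩
    · rintro ⟨h1, h2⟩
      exact ⟨h1, (stabilizesBlock_iff_forall _ c g
        (normalizer_le_normalizer_centralizer P h1)).mpr h2⟩
  exact (induced_defect_iff hM P hP (Subgroup.centralizer (P : Set G)) hH hc.1 hcP hc T hT').mp hPD

/-- the inertial index of a block with Klein four defect group is `1` or `3` -/
theorem relIndex_eq_one_or_three (hM : IsPModular 2 M)
    {B : Set (IrrCharacter G)} {P : Subgroup G} (hPD : IsDefectGroup 2 M B P)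
    (hV : IsKleinFour P)
    {c : Set (IrrCharacter (Subgroup.centralizer (P : Set G)))}
    (hc : IsInducedBlock M (Subgroup.centralizer (P : Set G)) c B) (T : Subgroup G)
    (hT : ∀ g : G, g ∈ T ↔ (g ∈ Subgroup.normalizer (P : Set G) ∧
      StabilizesBlock (Subgroup.centralizer (P : Set G)) c g)) :
    (Subgroup.centralizer (P : Set G)).relIndex T = 1 ∨
      (Subgroup.centralizer (P : Set G)).relIndex T = 3 := by
  haveI : Fact (Nat.Prime 2) := ⟨Nat.prime_two⟩
  have hab : ∀ x ∈ P, ∀ y ∈ P, x * y = y * x := by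
    intro x hx y hy
    have h := (IsKleinFour.isMulCommutative (G := P)).is_comm.comm ⟨x, hx⟩ ⟨y, hy⟩
    exact congrArg Subtype.val h
  have hodd := not_dvd_relIndex hM hPD hab hc T hT
  have hTN : T ≤ Subgroup.normalizer (P : Set G) := fun g hg => ((hT g).mp hg).1
  have hdvd := KleinAct.relIndex_dvd_factorial P T hTN
  rw [IsKleinFour.card_four] at hdvd
  have h24 : (4 : ℕ).factorial = 24 := by decide
  rw [h24] at hdvd
  obtain ⟨e, he⟩ : ∃ e, e = (Subgroup.centralizer (P : Set G)).relIndex T := ⟨_, rfl⟩
  rw [← he] at hdvd hodd ⊢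
  have hle : e ≤ 24 := Nat.le_of_dvd (by norm_num) hdvd
  interval_cases e <;> omega

end inertial

end Cfsg.Agent.Helper16.KleinInertial
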