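import Mathlib
import Cfsg.Agent.Lib.Helper16.KleinCount
import Cfsg.Agent.Lib.Helper16.KleinInertial
import Cfsg.Agent.Lib.Helper77.StabBlock

/-!
# Blocks with Klein four defect groups: `e ∈ {1, 3}`, `k(B) = 4`, `l(B) = e` (helper16)
-/

set_option autoImplicit false
set_option linter.unusedSectionVars false
set_option linter.style.haveILetI false
set_option maxHeartbeats 1600000

namespace Cfsg.Agent.Helper16.KleinMain

open Cfsg
open Cfsg.Agent.Helper74.SS Cfsg.Agent.Helper74.DO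
open Cfsg.Agent.Helper77 Cfsg.Agent.Helper78
open Cfsg.Agent.Helper16.KleinPairs

universe u

section main

variable {G : Type u} [Group G] [Fintype G] [DecidableEq G] {M : Ideal AlgInt}

/-- the blocks of `C_G(⟨x⟩)` inducing `B` -/
def indSet (M : Ideal AlgInt) (B : Set (IrrCharacter G)) (x : G) :
    Set (Set (IrrCharacter (Subgroup.centralizer ((Subgroup.zpowers x : Subgroup G) : Set G)))) :=
  {b | IsInducedBlock M (Subgroup.centralizer ((Subgroup.zpowers x : Subgroup G) : Set G)) b B}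

/-- the subsections with first component in `X ∖ {1}` -/
abbrev SubT (M : Ideal AlgInt) (B : Set (IrrCharacter G)) (X : Finset G) : Type u :=
  Σ x : ↥(X.erase 1), ↥(indSet M B x.1)

/-- forget the proofs -/
def forget (M : Ideal AlgInt) (B : Set (IrrCharacter G)) (X : Finset G) (σ : SubT M B X) :
    Σ y : G, Set (IrrCharacter (Subgroup.centralizer
      ((Subgroup.zpowers y : Subgroup G) : Set G))) :=
  ⟨σ.1.1, σ.2.1⟩

theorem forget_injective (M : Ideal AlgInt) (B : Set (IrrCharacter G)) (X : Finset G) :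
    Function.Injective (forget M B X) := by
  rintro ⟨⟨x, hx⟩, ⟨b, hb⟩⟩ ⟨⟨x', hx'⟩, ⟨b', hb'⟩⟩ h
  simp only [forget] at h
  obtain ⟨h1, h2⟩ := Sigma.mk.inj_iff.1 h
  subst h1
  have h3 : b = b' := eq_of_heq h2
  subst h3
  rfl

theorem card_subT (M : Ideal AlgInt) (B : Set (IrrCharacter G)) (X : Finset G) :
    Nat.card (SubT M B X) = ∑ x ∈ X.erase 1, (indSet M B x).ncard := by
  classical
  rw [Nat.card_sigma, ← Finset.sum_coe_sort (X.erase 1) (fun x => (indSet M B x).ncard)]
  refine Finset.sum_congr rfl fun x _ => ?_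
  exact Nat.card_coe_set_eq _

theorem main_fin (hM : IsPModular 2 M) {B : Set (IrrCharacter G)} (hB : IsPBlock M B)
    {P : Subgroup G} (hPD : IsDefectGroup 2 M B P) (hV : IsKleinFour P)
    {c : Set (IrrCharacter (Subgroup.centralizer (P : Set G)))}
    (hc : IsInducedBlock M (Subgroup.centralizer (P : Set G)) c B) (T : Subgroup G)
    (hT : ∀ g : G, g ∈ T ↔ (g ∈ Subgroup.normalizer (P : Set G) ∧
      StabilizesBlock (Subgroup.centralizer (P : Set G)) c g)) :
    ((Subgroup.centralizer (P : Set G)).relIndex T = 1 ∨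
      (Subgroup.centralizer (P : Set G)).relIndex T = 3) ∧
      (Set.toFinite B).toFinset.card = 4 ∧
      blockRank 2 B = (Subgroup.centralizer (P : Set G)).relIndex T := by
  haveI : Fact (Nat.Prime 2) := ⟨Nat.prime_two⟩
  haveI hpr := isPrime_of_isPModular hM
  have he13 := KleinInertial.relIndex_eq_one_or_three hM hPD hV hc T hT
  have hcardP : Nat.card P = 4 := IsKleinFour.card_four
  have hd : blockDefect 2 B = 2 := by
    have h := card_defectGroup hM hB P hPD
    rw [hcardP] at h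
    have h' : 2 ^ 2 = 2 ^ blockDefect 2 B := by rw [← h]; norm_num
    exact (Nat.pow_right_injective (le_refl 2) h').symm
  have hsq : ∀ y ∈ P, y * y = 1 := fun y hy =>
    congrArg Subtype.val (IsKleinFour.mul_self (⟨y, hy⟩ : P))
  have hab : ∀ x ∈ P, ∀ y ∈ P, x * y = y * x := by
    intro x hx y hy
    have h := (IsKleinFour.isMulCommutative (G := P)).is_comm.comm ⟨x, hx⟩ ⟨y, hy⟩
    exact congrArg Subtype.val h
  have hexp : ∀ E : Subgroup G, IsDefectGroup 2 M B E → ∀ y ∈ E, y * y = 1 := by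
    intro E hE y hy
    obtain ⟨g, hg⟩ := Cfsg.Agent.Helper77.exists_conj_eq_of_isDefectGroup hM hB hPD hE
    have hmem : g * y * g⁻¹ ∈ P := by
      rw [← hg]
      exact ⟨y, hy, rfl⟩
    have h2 := hsq _ hmem
    calc y * y = g⁻¹ * (g * y * g⁻¹ * (g * y * g⁻¹)) * g := by group
      _ = 1 := by rw [h2]; group
  obtain ⟨X, hX, hXrep⟩ := KleinReps.exists_reps G 2
  have hsum := KleinCount.rank_add_sum hM hB hd hexp X hX hXrep
  have hcardsub := card_subT M B X
  have hsum' : blockRank 2 B + Nat.card (SubT M B X) = 4 := by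
    rw [hcardsub]
    exact hsum
  have hmax := isMaximal_of_defect hM hPD hc
  have hPc := hmax.1.1
  have hk := KleinDefect.card_eq_four hM hB hd
  have hCT : Subgroup.centralizer (P : Set G) ≤ T := centralizer_le_of_hT hc.1 hT
  have hTN : T ≤ Subgroup.normalizer (P : Set G) := le_normalizer_of_hT hT
  -- facts about members of `SubT`
  have hsubfacts : ∀ σ : SubT M B X, σ.1.1 * σ.1.1 = 1 ∧ σ.1.1 ≠ 1 ∧
      ∃ u, u ∈ P ∧ u ≠ 1 ∧ SubRel M P c u σ.1.1 σ.2.1 := by
    rintro ⟨⟨x, hx⟩, ⟨b, hb⟩⟩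
    have hx' := Finset.mem_erase.1 hx
    have hxx : x * x = 1 := KleinCount.sq_eq_one_of_induced hM hB hd hexp x (hX x hx'.2) hb
    exact ⟨hxx, hx'.1, exists_subRel hM hmax hxx hx'.1 hb⟩
  -- the subsection attached to `u ∈ P ∖ 1`
  have hexσ : ∀ u : G, u ∈ P → u ≠ 1 → ∃ σ : SubT M B X, SubRel M P c u σ.1.1 σ.2.1 := by
    intro u huP hu1
    have hu2 : orderOf u = 2 := orderOf_eq_two (hsq u huP) hu1
    obtain ⟨x, ⟨hxX, hux⟩, -⟩ := hXrep u ⟨1, by rw [hu2, pow_one]⟩
    have hx1 : x ≠ 1 := by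
      rintro rfl
      exact hu1 (isConj_one_right.1 hux.symm)
    obtain ⟨b, hb, hrel⟩ := exists_subRel_of_isConj hM hmax huP hux
    exact ⟨⟨⟨x, Finset.mem_erase.2 ⟨hx1, hxX⟩⟩, ⟨b, hb⟩⟩, hrel⟩
  -- uniqueness
  have huniq : ∀ (u : G), u ∈ P → ∀ σ σ' : SubT M B X, SubRel M P c u σ.1.1 σ.2.1 →
      SubRel M P c u σ'.1.1 σ'.2.1 → σ = σ' := by
    intro u huP σ σ' h h'
    apply forget_injective M B X
    obtain ⟨hxx, -, -⟩ := hsubfacts σ
    obtain ⟨-, hx'1, -⟩ := hsubfacts σ'
    have hrep : IsConj σ.1.1 σ'.1.1 → σ.1.1 = σ'.1.1 := by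
      intro hcj
      have hσX : σ.1.1 ∈ X := (Finset.mem_erase.1 σ.1.2).2
      have hσ'X : σ'.1.1 ∈ X := (Finset.mem_erase.1 σ'.1.2).2
      obtain ⟨y, -, hy⟩ := hXrep σ.1.1 (hX _ hσX)
      rw [hy σ.1.1 ⟨hσX, IsConj.refl _⟩, hy σ'.1.1 ⟨hσ'X, hcj⟩]
    exact subRel_unique hM hPc huP hxx hx'1 hrep σ.2.2.1 h h'
  refine ⟨he13, hk, ?_⟩
  rcases he13 with he | he
  · -- `e = 1`
    rw [he]
    have hTC : T ≤ Subgroup.centralizer (P : Set G) := Subgroup.relIndex_eq_one.1 he
    have hex' : ∀ u : ↥((P : Set G) \ {1}), ∃ σ : SubT M B X, SubRel M P c u.1 σ.1.1 σ.2.1 :=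
      fun u => hexσ u.1 u.2.1 (fun h => u.2.2 (Set.mem_singleton_iff.2 h))
    choose φ hφ using hex'
    have hinj : Function.Injective φ := by
      intro u v huv
      have h1 := hφ u
      have h2 := hφ v
      rw [← huv] at h2
      have hv1 : v.1 ≠ 1 := fun h => v.2.2 (Set.mem_singleton_iff.2 h)
      obtain ⟨t, htN, htst, htu⟩ := exists_conj_of_subRel hM hmax hab (hsq u.1 u.2.1) v.2.1 hv1 h1 h2
      have htT : t ∈ T := (hT t).2 ⟨htN, htst⟩
      have htC := hTC htT
      have hcomm := (Subgroup.mem_centralizer_iff.1 htC) u.1 u.2.1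
      apply Subtype.ext
      rw [← htu, ← hcomm]
      group
    have hcard3 : Nat.card ↥((P : Set G) \ {1}) = 3 := by
      rw [Nat.card_coe_set_eq, Set.ncard_sdiff_singleton_of_mem (Subgroup.one_mem P)]
      have : (P : Set G).ncard = 4 := by
        rw [← Nat.card_coe_set_eq]
        exact hcardP
      rw [this]
    have hle := Nat.card_le_card_of_injective φ hinj
    rw [hcard3] at hle
    have hpos := KleinDefect.blockRank_pos hM hB
    omega
  · -- `e = 3`
    rw [he]
    have hnotle : ¬ T ≤ Subgroup.centralizer (P : Set G) := by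
      intro h
      have := Subgroup.relIndex_eq_one.2 h
      omega
    obtain ⟨t, htT, htC⟩ := SetLike.not_le_iff_exists.1 hnotle
    have htN : t ∈ Subgroup.normalizer (P : Set G) := hTN htT
    have hTNC : T ≤ Subgroup.normalizer
        ((Subgroup.centralizer (P : Set G) : Subgroup G) : Set G) :=
      hTN.trans (normalizer_le_normalizer_centralizer P)
    haveI : ((Subgroup.centralizer (P : Set G)).subgroupOf T).Normal :=
      (Subgroup.normal_subgroupOf_iff_le_normalizer hCT).mpr hTNC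
    have ht3 : t ^ 3 ∈ Subgroup.centralizer (P : Set G) := by
      have h := Subgroup.pow_index_mem ((Subgroup.centralizer (P : Set G)).subgroupOf T) ⟨t, htT⟩
      have hidx : ((Subgroup.centralizer (P : Set G)).subgroupOf T).index = 3 := he
      rw [hidx, Subgroup.mem_subgroupOf] at h
      exact h
    -- a base point
    haveI : Nontrivial P := Finite.one_lt_card_iff_nontrivial.1 (by rw [hcardP]; norm_num)
    obtain ⟨p₀, hp₀⟩ := exists_ne (1 : P)
    have hu₀1 : (p₀ : G) ≠ 1 := fun h => hp₀ (Subtype.ext h)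
    obtain ⟨σ₀, hσ₀⟩ := hexσ p₀ p₀.2 hu₀1
    have hall : ∀ σ : SubT M B X, σ = σ₀ := by
      intro σ
      obtain ⟨-, -, u, huP, hu1, hrel⟩ := hsubfacts σ
      obtain ⟨k, hk⟩ := KleinAct.klein_transitive P t htN htC ht3 p₀ u p₀.2 hu₀1 huP hu1
      have htk : t ^ k ∈ T := Subgroup.pow_mem T htT k
      obtain ⟨htkN, htkst⟩ := (hT (t ^ k)).1 htk
      have hrel₀ := subRel_of_conj hM hPc htkN htkst hk hσ₀
      exact huniq u huP σ σ₀ hrel hrel₀
    have hone : Nat.card (SubT M B X) = 1 := by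
      rw [Nat.card_eq_one_iff_unique]
      exact ⟨⟨fun a b => (hall a).trans (hall b).symm⟩, ⟨σ₀⟩⟩
    omega

end main

end Cfsg.Agent.Helper16.KleinMain
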