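import Cfsg.Agent.Lib.Helper52.KonvDefs

set_option autoImplicit false
set_option linter.unusedSectionVars false
set_option linter.unusedVariables false
set_option linter.unusedSimpArgs false

/-!
# Konvisser piece (L1): an anisotropic quadratic map into a group of order at most 4
lives on a group of order at most 16.
-/

namespace Cfsg.Agent.Helper16.Konv

open Cfsg.Agent.Helper52.Konv

section basics

variable {W T : Type*} [Group W] [Group T] {q : W → T}

theorem comm_of_sq {X : Type*} [Group X] (h : ∀ x : X, x * x = 1) (a b : X) : a * b = b * a := by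
  have h1 : a * b * (a * b) = 1 := h _
  have h2 : a * b * a * b = 1 := by rw [← h1]; simp [mul_assoc]
  calc a * b = a * b * (a * b * a * b)⁻¹ := by rw [h2, inv_one, mul_one]
    _ = b⁻¹ * a⁻¹ := by group
    _ = b * a := by
      have hb : b⁻¹ = b := inv_eq_of_mul_eq_one_left (h b)
      have ha : a⁻¹ = a := inv_eq_of_mul_eq_one_left (h a)
      rw [hb, ha]

theorem mul_mul_cancel_sq {X : Type*} [Group X] (h : ∀ x : X, x * x = 1) (a b : X) :
    a * (a * b) = b := by rw [← mul_assoc, h, one_mul]

theorem eq_mul_of_mul_eq_sq {X : Type*} [Group X] (h : ∀ x : X, x * x = 1) {a b c : X}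
    (e : a * b = c) : b = a * c := by rw [← e, mul_mul_cancel_sq h]

theorem mul_right_comm_sq {X : Type*} [Group X] (h : ∀ x : X, x * x = 1) (a b c : X) :
    a * b * c = a * c * b := by rw [mul_assoc, comm_of_sq h b c, ← mul_assoc]

theorem mul_mul_mul_comm_sq {X : Type*} [Group X] (h : ∀ x : X, x * x = 1) (a b c d : X) :
    a * b * (c * d) = a * c * (b * d) := by
  rw [mul_assoc, ← mul_assoc b, comm_of_sq h b c, mul_assoc c, ← mul_assoc a]

theorem pol_one_right (h : AQ q) (u : W) : pol q u 1 = 1 := by
  have h1 := h.bilin u 1 1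
  rw [mul_one] at h1
  have h2 : pol q u 1 * pol q u 1 = 1 := h.T_sq _
  rw [← h1] at h2
  exact h2

theorem q_one (h : AQ q) : q 1 = 1 := by
  have h1 := pol_one_right h (1 : W)
  unfold pol at h1
  rw [mul_one, h.T_sq] at h1
  rw [one_mul] at h1
  exact h1

theorem pol_symm (h : AQ q) (u v : W) : pol q u v = pol q v u := by
  unfold pol
  rw [comm_of_sq h.W_sq u v, mul_right_comm_sq h.T_sq]

theorem pol_self (h : AQ q) (u : W) : pol q u u = 1 := by
  unfold pol
  rw [h.W_sq, q_one h, one_mul, h.T_sq]

theorem q_mul (h : AQ q) (u v : W) : q (u * v) = q u * q v * pol q u v := by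
  unfold pol
  have e1 : q u * q v * (q (u * v) * q u * q v) =
      q (u * v) * ((q u * q v) * (q u * q v)) := by
    rw [mul_assoc (q (u * v)) (q u) (q v), ← mul_assoc (q u * q v),
      comm_of_sq h.T_sq (q u * q v) (q (u * v)), mul_assoc]
  rw [e1, h.T_sq, mul_one]

theorem pol_mul_left (h : AQ q) (u v w : W) : pol q (u * v) w = pol q u w * pol q v w := by
  rw [pol_symm h, h.bilin, pol_symm h w u, pol_symm h w v]

/-- the homomorphism `v ↦ pol u v` -/
def polHom (h : AQ q) (u : W) : W →* T where
  toFun v := pol q u v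
  map_one' := pol_one_right h u
  map_mul' v w := h.bilin u v w

theorem mem_ker_polHom (h : AQ q) (u v : W) : v ∈ (polHom h u).ker ↔ pol q u v = 1 := Iff.rfl

theorem self_mem_ker (h : AQ q) (u : W) : u ∈ (polHom h u).ker := pol_self h u

/-- (A): elements of the kernel outside `{1, u}` avoid the values `1` and `q u`. -/
theorem q_ne_of_mem_ker (h : AQ q) {u v : W} (hv : pol q u v = 1) (hv1 : v ≠ 1) (hvu : v ≠ u) :
    q v ≠ 1 ∧ q v ≠ q u := by
  constructor
  · intro h1; exact hv1 (h.aniso v h1)
  · intro h2
    have h3 : q (u * v) = 1 := by rw [q_mul h, hv, mul_one, h2, h.T_sq]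
    have h4 := h.aniso _ h3
    apply hvu
    have := eq_mul_of_mul_eq_sq h.W_sq h4
    rw [mul_one] at this
    exact this

theorem four_cases [Finite T] (hT : Nat.card T ≤ 4) (hsq : ∀ t : T, t * t = 1) {c d : T}
    (hc : c ≠ 1) (hd : d ≠ 1) (hdc : d ≠ c) (x : T) : x = 1 ∨ x = c ∨ x = d ∨ x = c * d := by
  classical
  have := Fintype.ofFinite T
  have hcd1 : c * d ≠ 1 := by
    intro e
    apply hdc
    have := eq_mul_of_mul_eq_sq hsq e
    rw [mul_one] at this
    exact this
  have hcdc : c * d ≠ c := by
    intro e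
    apply hd
    have := eq_mul_of_mul_eq_sq hsq e
    rw [hsq] at this
    exact this
  have hcdd : c * d ≠ d := by
    intro e
    apply hc
    rw [comm_of_sq hsq c d] at e
    have := eq_mul_of_mul_eq_sq hsq e
    rw [hsq] at this
    exact this
  have hcard : ({1, c, d, c * d} : Finset T).card = 4 := by
    rw [Finset.card_insert_of_notMem, Finset.card_insert_of_notMem, Finset.card_insert_of_notMem,
      Finset.card_singleton]
    · simp only [Finset.mem_singleton]; exact fun e => hcdd e.symm
    · simp only [Finset.mem_insert, Finset.mem_singleton, not_or]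
      exact ⟨fun e => hdc e.symm, fun e => hcdc e.symm⟩
    · simp only [Finset.mem_insert, Finset.mem_singleton, not_or]
      exact ⟨fun e => hc e.symm, fun e => hd e.symm, fun e => hcd1 e.symm⟩
  have huniv : ({1, c, d, c * d} : Finset T) = Finset.univ := by
    apply Finset.eq_univ_of_card
    rw [hcard]
    have : Fintype.card T ≤ 4 := by rwa [Nat.card_eq_fintype_card] at hT
    have h4 : ({1, c, d, c * d} : Finset T).card ≤ Fintype.card T := Finset.card_le_univ _
    omega
  have hx : x ∈ ({1, c, d, c * d} : Finset T) := by rw [huniv]; exact Finset.mem_univ x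
  simpa using hx

/-- two elements outside `{1, c}` have their product inside `{1, c}` -/
theorem mul_mem_pair [Finite T] (hT : Nat.card T ≤ 4) (hsq : ∀ t : T, t * t = 1) {c s t : T}
    (hc : c ≠ 1) (hs1 : s ≠ 1) (hsc : s ≠ c) (ht1 : t ≠ 1) (htc : t ≠ c) :
    s * t = 1 ∨ s * t = c := by
  rcases four_cases hT hsq hc hs1 hsc t with e | e | e | e
  · exact absurd e ht1
  · exact absurd e htc
  · left; rw [e]; exact hsq s
  · right; rw [e, comm_of_sq hsq c s, mul_mul_cancel_sq hsq]

theorem exists_mem_not_mem_finset {X : Type*} [Group X] (K : Subgroup X) (S : Finset X)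
    (hlt : S.card < Nat.card K) : ∃ v ∈ K, v ∉ S := by
  classical
  by_contra hcon
  push Not at hcon
  have hsub : (K : Set X) ⊆ (S : Set X) := fun v hv => hcon v hv
  have h1 : Nat.card K = (K : Set X).ncard := (Nat.card_coe_set_eq _)
  have h2 : (K : Set X).ncard ≤ (S : Set X).ncard := Set.ncard_le_ncard hsub (Finset.finite_toSet S)
  rw [Set.ncard_coe_finset] at h2
  omega

end basics

section partB

variable {W T : Type*} [Group W] [Group T] {q : W → T}

/-- the value of `q` on a triple product -/
theorem q_triple (h : AQ q) (v1 v2 v3 : W) :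
    q (v1 * v2 * v3) =
      (q (v1 * v2) * q v3) * (q (v1 * v3) * q v1) * (q (v2 * v3) * q v2) := by
  have hT := h.T_sq
  rw [q_mul h (v1 * v2) v3, pol_mul_left h v1 v2 v3]
  have e1 : pol q v1 v3 = q (v1 * v3) * q v1 * q v3 := rfl
  have e2 : pol q v2 v3 = q (v2 * v3) * q v2 * q v3 := rfl
  rw [e1, e2, mul_mul_mul_comm_sq hT (q (v1 * v3) * q v1) (q v3) (q (v2 * v3) * q v2) (q v3),
    hT, mul_one, mul_assoc (q (v1 * v2) * q v3)]

theorem mem_pair_mul {T : Type*} [Group T] {c : T} (hcc : c * c = 1) {x y : T}
    (hx : x = 1 ∨ x = c) (hy : y = 1 ∨ y = c) : x * y = 1 ∨ x * y = c := by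
  rcases hx with rfl | rfl <;> rcases hy with rfl | rfl
  · left; rw [mul_one]
  · right; rw [one_mul]
  · right; rw [mul_one]
  · left; exact hcc

/-- (B): the kernel of `pol u ·` has at most 8 elements. -/
theorem card_ker_le (h : AQ q) [Finite W] [Finite T] (hT : Nat.card T ≤ 4) {u : W}
    (hu : u ≠ 1) : Nat.card (polHom h u).ker ≤ 8 := by
  classical
  by_contra hlt
  push Not at hlt
  have hW := h.W_sq
  have hTs := h.T_sq
  set K := (polHom h u).ker with hK
  have hc1 : q u ≠ 1 := fun e => hu (h.aniso u e)
  -- choose `v1, v2, v3`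
  obtain ⟨v1, hv1K, hv1⟩ := exists_mem_not_mem_finset K ([1, u].toFinset)
    (lt_of_le_of_lt (List.toFinset_card_le _) (by simp only [List.length_cons, List.length_nil]; omega))
  obtain ⟨v2, hv2K, hv2⟩ := exists_mem_not_mem_finset K ([1, u, v1, u * v1].toFinset)
    (lt_of_le_of_lt (List.toFinset_card_le _) (by simp only [List.length_cons, List.length_nil]; omega))
  obtain ⟨v3, hv3K, hv3⟩ := exists_mem_not_mem_finset K
    ([1, u, v1, u * v1, v2, u * v2, v1 * v2, u * (v1 * v2)].toFinset)
    (lt_of_le_of_lt (List.toFinset_card_le _) (by simp only [List.length_cons, List.length_nil]; omega))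
  simp only [List.mem_toFinset, List.mem_cons, List.not_mem_nil, or_false, not_or] at hv1 hv2 hv3
  obtain ⟨hv1_1, hv1_u⟩ := hv1
  obtain ⟨hv2_1, hv2_u, hv2_v1, hv2_uv1⟩ := hv2
  obtain ⟨hv3_1, hv3_u, hv3_v1, hv3_uv1, hv3_v2, hv3_uv2, hv3_v12, hv3_uv12⟩ := hv3
  -- the seven products
  have key : ∀ x : W, x ∈ K → x ≠ 1 → x ≠ u → q x ≠ 1 ∧ q x ≠ q u := fun x hx h1 h2 =>
    q_ne_of_mem_ker h ((mem_ker_polHom h u x).1 hx) h1 h2
  have k1 := key v1 hv1K hv1_1 hv1_u
  have k2 := key v2 hv2K hv2_1 hv2_u
  have k3 := key v3 hv3K hv3_1 hv3_u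
  have k12 : q (v1 * v2) ≠ 1 ∧ q (v1 * v2) ≠ q u := by
    apply key _ (K.mul_mem hv1K hv2K)
    · intro e
      apply hv2_v1
      have := eq_mul_of_mul_eq_sq hW e
      rw [mul_one] at this
      exact this
    · intro e
      apply hv2_uv1
      have := eq_mul_of_mul_eq_sq hW e
      rw [this, comm_of_sq hW]
  have k13 : q (v1 * v3) ≠ 1 ∧ q (v1 * v3) ≠ q u := by
    apply key _ (K.mul_mem hv1K hv3K)
    · intro e
      apply hv3_v1
      have := eq_mul_of_mul_eq_sq hW e
      rw [mul_one] at this
      exact this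
    · intro e
      apply hv3_uv1
      have := eq_mul_of_mul_eq_sq hW e
      rw [this, comm_of_sq hW]
  have k23 : q (v2 * v3) ≠ 1 ∧ q (v2 * v3) ≠ q u := by
    apply key _ (K.mul_mem hv2K hv3K)
    · intro e
      apply hv3_v2
      have := eq_mul_of_mul_eq_sq hW e
      rw [mul_one] at this
      exact this
    · intro e
      apply hv3_uv2
      have := eq_mul_of_mul_eq_sq hW e
      rw [this, comm_of_sq hW]
  have k123 : q (v1 * v2 * v3) ≠ 1 ∧ q (v1 * v2 * v3) ≠ q u := by
    apply key _ (K.mul_mem (K.mul_mem hv1K hv2K) hv3K)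
    · intro e
      apply hv3_v12
      have := eq_mul_of_mul_eq_sq hW e
      rw [mul_one] at this
      exact this
    · intro e
      apply hv3_uv12
      have := eq_mul_of_mul_eq_sq hW e
      rw [this, comm_of_sq hW]
  -- the three brackets lie in `{1, q u}`
  have b1 := mul_mem_pair hT hTs hc1 k12.1 k12.2 k3.1 k3.2
  have b2 := mul_mem_pair hT hTs hc1 k13.1 k13.2 k1.1 k1.2
  have b3 := mul_mem_pair hT hTs hc1 k23.1 k23.2 k2.1 k2.2
  have b := mem_pair_mul (hTs (q u)) (mem_pair_mul (hTs (q u)) b1 b2) b3
  rw [← q_triple h] at b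
  rcases b with e | e
  · exact k123.1 e
  · exact k123.2 e

/-- `card W ≤ 4 * card (ker)` -/
theorem card_le_mul_ker (h : AQ q) [Finite W] [Finite T] (hT : Nat.card T ≤ 4) (u : W) :
    Nat.card W = Nat.card (polHom h u).ker * (polHom h u).ker.index ∧
      (polHom h u).ker.index ≤ Nat.card T := by
  refine ⟨((polHom h u).ker.card_mul_index).symm, ?_⟩
  rw [Subgroup.index_ker]
  exact Subgroup.card_le_card_group _

end partB

section count

variable {W T : Type*} [Group W] [Group T] {q : W → T}

theorem card_ker_eq_filter (h : AQ q) [Fintype W] [DecidableEq T] (u : W) :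
    Nat.card (polHom h u).ker = (Finset.univ.filter (fun v => pol q u v = 1)).card := by
  rw [Nat.card_congr (Equiv.subtypeEquivRight (fun v => mem_ker_polHom h u v)),
    Nat.card_eq_fintype_card, Fintype.card_subtype]

theorem q_mul_of_pol (h : AQ q) {u v : W} (hv : pol q u v = 1) : q (u * v) = q u * q v := by
  rw [q_mul h, hv, mul_one]

theorem mul_mem_rest (h : AQ q) {u v : W} (hv : pol q u v = 1 ∧ v ≠ 1 ∧ v ≠ u) :
    pol q u (u * v) = 1 ∧ u * v ≠ 1 ∧ u * v ≠ u := by
  refine ⟨?_, ?_, ?_⟩
  · rw [h.bilin, pol_self h, hv.1, one_mul]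
  · intro e
    apply hv.2.2
    have := eq_mul_of_mul_eq_sq h.W_sq e
    rw [mul_one] at this
    exact this
  · intro e
    apply hv.2.1
    have := eq_mul_of_mul_eq_sq h.W_sq e
    rw [h.W_sq] at this
    exact this

/-- the counting lemma: inside a kernel of order 8, each admissible fibre has 3 elements -/
theorem card_fibre_ker (h : AQ q) [Fintype W] [Finite T] [DecidableEq W] [DecidableEq T]
    (hT : Nat.card T ≤ 4) {u : W} (hu : u ≠ 1)
    (hK : (Finset.univ.filter (fun v => pol q u v = 1)).card = 8) {t : T} (ht1 : t ≠ 1)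
    (htc : t ≠ q u) :
    ((Finset.univ.filter (fun v => q v = t)).filter (fun v => pol q u v = 1)).card = 3 := by
  have hW := h.W_sq
  have hTs := h.T_sq
  have hc1 : q u ≠ 1 := fun e => hu (h.aniso u e)
  set Kf := Finset.univ.filter (fun v => pol q u v = 1) with hKf
  have memK : ∀ v, v ∈ Kf ↔ pol q u v = 1 := fun v => by simp [hKf]
  have hsplit := Finset.card_filter_add_card_filter_not (s := Kf) (fun v => v = 1 ∨ v = u)
  have hP : (Kf.filter (fun v => v = 1 ∨ v = u)) = {1, u} := by
    ext v
    simp only [Finset.mem_filter, Finset.mem_insert, Finset.mem_singleton, memK]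
    constructor
    · exact fun hv => hv.2
    · rintro (rfl | rfl)
      · exact ⟨pol_one_right h u, Or.inl rfl⟩
      · exact ⟨pol_self h v, Or.inr rfl⟩
  have hP2 : (Kf.filter (fun v => v = 1 ∨ v = u)).card = 2 := by
    rw [hP, Finset.card_insert_of_notMem, Finset.card_singleton]
    simp only [Finset.mem_singleton]
    exact fun e => hu e.symm
  set R := Kf.filter (fun v => ¬ (v = 1 ∨ v = u)) with hR
  have hR6 : R.card = 6 := by omega
  have memR : ∀ v, v ∈ R ↔ pol q u v = 1 ∧ v ≠ 1 ∧ v ≠ u := fun v => by
    simp only [hR, Finset.mem_filter, memK, not_or]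
  have hsplit2 := Finset.card_filter_add_card_filter_not (s := R) (fun v => q v = t)
  have hAB : (R.filter (fun v => q v = t)).card = (R.filter (fun v => ¬ q v = t)).card := by
    apply Finset.card_bij' (fun v _ => u * v) (fun v _ => u * v)
    · intro v hv
      rw [Finset.mem_filter, memR] at hv ⊢
      refine ⟨mul_mem_rest h hv.1, ?_⟩
      rw [q_mul_of_pol h hv.1.1, hv.2]
      intro e
      apply hc1
      have e2 : q u * t * t = t * t := by rw [e]
      rw [mul_assoc, hTs, mul_one] at e2
      exact e2
    · intro v hv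
      rw [Finset.mem_filter, memR] at hv ⊢
      refine ⟨mul_mem_rest h hv.1, ?_⟩
      rw [q_mul_of_pol h hv.1.1]
      have hne := q_ne_of_mem_ker h hv.1.1 hv.1.2.1 hv.1.2.2
      rcases four_cases hT hTs hc1 ht1 htc (q v) with e | e | e | e
      · exact absurd e hne.1
      · exact absurd e hne.2
      · exact absurd e hv.2
      · rw [e, mul_mul_cancel_sq hTs]
    · intro v hv
      exact mul_mul_cancel_sq hW u v
    · intro v hv
      exact mul_mul_cancel_sq hW u v
  have hA3 : (R.filter (fun v => q v = t)).card = 3 := by omega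
  rw [← hA3]
  congr 1
  ext v
  simp only [Finset.mem_filter, Finset.mem_univ, true_and, memR]
  constructor
  · rintro ⟨hq, hp⟩
    refine ⟨⟨hp, ?_, ?_⟩, hq⟩
    · rintro rfl
      rw [q_one h] at hq
      exact ht1 hq.symm
    · rintro rfl
      exact htc hq.symm
  · rintro ⟨⟨hp, _, _⟩, hq⟩
    exact ⟨hq, hp⟩

end count

section main

variable {W T : Type*} [Group W] [Group T]

/-- (L1): an anisotropic quadratic map into a group of order at most 4 has a source of order at
most 16. -/
theorem L1 {q : W → T} (h : AQ q) [Finite W] [Finite T] (hT : Nat.card T ≤ 4) :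
    Nat.card W ≤ 16 := by
  classical
  by_contra hlt
  push Not at hlt
  have hW := h.W_sq
  have hTs := h.T_sq
  have hp : IsPGroup 2 W := fun g => ⟨1, by rw [pow_one, pow_two]; exact hW g⟩
  obtain ⟨n, hn⟩ := hp.exists_card_eq
  have hnt : Nontrivial W := Finite.one_lt_card_iff_nontrivial.1 (by omega)
  obtain ⟨u0, hu0⟩ := exists_ne (1 : W)
  -- bounds valid for every nonidentity `u`
  have hb : ∀ u : W, u ≠ 1 → Nat.card W ≤ 32 := by
    intro u hu
    obtain ⟨e1, e2⟩ := card_le_mul_ker h hT u
    have e3 := card_ker_le h hT hu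
    have : Nat.card (polHom h u).ker * (polHom h u).ker.index ≤ 8 * 4 :=
      Nat.mul_le_mul e3 (le_trans e2 hT)
    omega
  have h32 : Nat.card W = 32 := by
    have hle := hb u0 hu0
    have hn6 : n < 6 := by
      by_contra hcon
      have := Nat.pow_le_pow_right (show 0 < 2 by norm_num) (show 6 ≤ n by omega)
      omega
    have hn4 : 4 < n := by
      by_contra hcon
      have := Nat.pow_le_pow_right (show 0 < 2 by norm_num) (show n ≤ 4 by omega)
      omega
    have : n = 5 := by omega
    rw [hn, this]
    norm_num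
  have hker : ∀ u : W, u ≠ 1 → Nat.card (polHom h u).ker = 8 ∧ Nat.card T = 4 := by
    intro u hu
    obtain ⟨e1, e2⟩ := card_le_mul_ker h hT u
    have e3 := card_ker_le h hT hu
    rw [h32] at e1
    have e4 : Nat.card (polHom h u).ker * (polHom h u).ker.index ≤
        8 * (polHom h u).ker.index := Nat.mul_le_mul_right _ e3
    have e5 : (polHom h u).ker.index = 4 := by omega
    rw [e5] at e1
    constructor <;> omega
  have hT4 : Nat.card T = 4 := (hker u0 hu0).2
  have := Fintype.ofFinite W
  have := Fintype.ofFinite T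
  have hcount : ∀ u : W, u ≠ 1 → ∀ t : T, t ≠ 1 → t ≠ q u →
      ((Finset.univ.filter (fun v => q v = t)).filter (fun v => pol q u v = 1)).card = 3 := by
    intro u hu t ht1 htc
    apply card_fibre_ker h hT hu _ ht1 htc
    rw [← card_ker_eq_filter h u]
    exact (hker u hu).1
  have heq : ∀ c d : T, c ≠ 1 → d ≠ 1 → c ≠ d →
      (Finset.univ.filter (fun v => q v = c)).card = (Finset.univ.filter (fun v => q v = d)).card := by
    intro c d hc hd hcd
    have key := Finset.sum_card_bipartiteAbove_eq_sum_card_bipartiteBelow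
      (s := Finset.univ.filter (fun v => q v = c)) (t := Finset.univ.filter (fun v => q v = d))
      (fun u v => pol q u v = 1)
    have hl : ∀ a ∈ Finset.univ.filter (fun v => q v = c),
        ((Finset.univ.filter (fun v => q v = d)).bipartiteAbove (fun u v => pol q u v = 1) a).card
          = 3 := by
      intro a ha
      rw [Finset.mem_filter] at ha
      have ha1 : a ≠ 1 := by
        rintro rfl
        rw [q_one h] at ha
        exact hc ha.2.symm
      unfold Finset.bipartiteAbove
      apply hcount a ha1 d hd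
      rw [ha.2]
      exact fun e => hcd e.symm
    have hr : ∀ b ∈ Finset.univ.filter (fun v => q v = d),
        ((Finset.univ.filter (fun v => q v = c)).bipartiteBelow (fun u v => pol q u v = 1) b).card
          = 3 := by
      intro b hb'
      rw [Finset.mem_filter] at hb'
      have hb1 : b ≠ 1 := by
        rintro rfl
        rw [q_one h] at hb'
        exact hd hb'.2.symm
      unfold Finset.bipartiteBelow
      have := hcount b hb1 c hc (by rw [hb'.2]; exact hcd)
      rw [← this]
      congr 1
      apply Finset.filter_congr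
      intro a _
      rw [pol_symm h]
    rw [Finset.sum_const_nat hl, Finset.sum_const_nat hr] at key
    omega
  -- the fibre over the identity
  have hF1 : (Finset.univ.filter (fun v => q v = (1 : T))).card = 1 := by
    have : Finset.univ.filter (fun v => q v = (1 : T)) = {1} := by
      ext v
      simp only [Finset.mem_filter, Finset.mem_univ, true_and, Finset.mem_singleton]
      constructor
      · exact h.aniso v
      · rintro rfl
        exact q_one h
    rw [this, Finset.card_singleton]
  have hsum := Finset.card_eq_sum_card_fiberwise (f := q) (s := Finset.univ) (t := Finset.univ)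
    (fun _ _ => Finset.mem_univ _)
  rw [← Finset.add_sum_erase Finset.univ _ (Finset.mem_univ (1 : T)), hF1] at hsum
  have hconst : ∀ t ∈ (Finset.univ : Finset T).erase 1,
      (Finset.univ.filter (fun v => q v = t)).card =
        (Finset.univ.filter (fun v => q v = q u0)).card := by
    intro t ht
    rw [Finset.mem_erase] at ht
    by_cases e : t = q u0
    · rw [e]
    · exact heq t (q u0) ht.1 (fun e0 => hu0 (h.aniso u0 e0)) e
  rw [Finset.sum_const_nat hconst, Finset.card_erase_of_mem (Finset.mem_univ _), Finset.card_univ,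
    Finset.card_univ, ← Nat.card_eq_fintype_card, ← Nat.card_eq_fintype_card, h32, hT4] at hsum
  omega

end main

end Cfsg.Agent.Helper16.Konv
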