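import Mathlib
import Cfsg.Agent.Lib.Helper93.MD0
import Cfsg.Agent.Lib.Helper93.MD1
import Cfsg.Agent.Lib.Helper4.MDC
import Cfsg.Agent.Lib.Helper95.MDA
import Cfsg.Agent.Lib.Helper93.MDF

/-!
# MD project (helper93 server, S2140): piece (G) `caseII_good`
-/

set_option autoImplicit false

namespace Cfsg.Agent.Helper16.MD

open Module Cfsg.Agent.Helper93.McL Cfsg.Agent.Helper93.MD

variable {F V : Type*} [Field F] [AddCommGroup V] [Module F V]

/-- `ω` is fixed by all transvections with centre `z`. -/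
def inA {Ω : Type*} [MulAction ↥(SLV F V) Ω] (z : V) (ω : Ω) : Prop :=
  ∀ φ : Dual F V, φ z = 0 → stv z φ • ω = ω

/-- the stabiliser of the line `F u`. -/
def lineStab (u : V) : Subgroup (V ≃ₗ[F] V) where
  carrier := {g | ∃ α : F, α ≠ 0 ∧ g u = α • u}
  one_mem' := ⟨1, one_ne_zero, by simp⟩
  mul_mem' := by
    rintro g h ⟨α, hα, hg⟩ ⟨β, hβ, hh⟩
    exact ⟨β * α, mul_ne_zero hβ hα, by rw [LinearEquiv.mul_apply, hh, map_smul, hg, smul_smul]⟩
  inv_mem' := by
    rintro g ⟨α, hα, hg⟩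
    refine ⟨α⁻¹, inv_ne_zero hα, ?_⟩
    apply g.injective
    have h1 : g (g⁻¹ u) = u := by
      show g (g.symm u) = u
      exact g.apply_symm_apply u
    rw [h1, map_smul, hg, smul_smul, inv_mul_cancel₀ hα, one_smul]

theorem h16_tv_self {u : V} {φ : Dual F V} (h : φ u = 0) : tv u φ u = u := by
  rw [tv_apply h, h, zero_smul, add_zero]

section act

variable {Ω : Type*} [MulAction ↥(SLV F V) Ω]

theorem h16_stv_add {u : V} {φ ψ : Dual F V} (h : φ u = 0) (h' : ψ u = 0) :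
    (stv u φ : ↥(SLV F V)) * stv u ψ = stv u (φ + ψ) :=
  Subtype.ext (tv_mul_axis h h')

theorem h16_stv_zero (u : V) : (stv u (0 : Dual F V) : ↥(SLV F V)) = 1 :=
  Subtype.ext (tv_zero_right u)

/-- elements of the line stabiliser preserve `A_u`. -/
theorem h16_inA_of_smul {u : V} {ω : Ω} (g : ↥(SLV F V)) {α : F} (hα : α ≠ 0)
    (hg : (g : V ≃ₗ[F] V) u = α • u) (h : inA (F := F) u (g • ω)) : inA (F := F) u ω := by
  intro φ hφ
  -- stv u φ = g⁻¹ (stv (g u) (φ ∘ g⁻¹)) g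
  have h1 := stv_conj g u φ
  have h2 : (φ ∘ₗ (((g : V ≃ₗ[F] V).symm : V ≃ₗ[F] V) : V →ₗ[F] V)) ((g : V ≃ₗ[F] V) u) = 0 := by
    simp [hφ]
  have h3 : stv ((g : V ≃ₗ[F] V) u) (φ ∘ₗ (((g : V ≃ₗ[F] V).symm : V ≃ₗ[F] V) : V →ₗ[F] V)) =
      stv u (α • (φ ∘ₗ (((g : V ≃ₗ[F] V).symm : V ≃ₗ[F] V) : V →ₗ[F] V))) := by
    apply Subtype.ext
    show tv _ _ = tv _ _
    rw [hg, tv_smul_swap]
  have h4 : (α • (φ ∘ₗ (((g : V ≃ₗ[F] V).symm : V ≃ₗ[F] V) : V →ₗ[F] V))) u = 0 := by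
    rw [hg] at h2
    rw [LinearMap.smul_apply]
    rw [map_smul, smul_eq_mul] at h2
    rcases mul_eq_zero.1 h2 with h5 | h5
    · exact absurd h5 hα
    · rw [h5, smul_zero]
  have h5 := h _ h4
  rw [← h3, ← h1, mul_smul, mul_smul, inv_smul_smul] at h5
  exact (smul_left_cancel_iff g).1 h5

end act

section reg

variable [Fintype F] [FiniteDimensional F V] {Ω : Type*} [Fintype Ω] [MulAction ↥(SLV F V) Ω]

omit [Fintype F] [Fintype Ω] in
/-- the number of points of `A_u`. -/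
theorem h16_card_inA (hn : 2 ≤ finrank F V) {u : V} (f : ℕ)
    (hf : ∀ φ : Dual F V, φ ≠ 0 → φ u = 0 → fp Ω (stv u φ) = f)
    (hIIu : ∀ ω : Ω, inA (F := F) u ω ∨ (∀ φ : Dual F V, φ u = 0 → stv u φ • ω = ω → φ = 0)) :
    Nat.card {ω : Ω // inA (F := F) u ω} = f := by
  obtain ⟨φ₀, hφ₀, hφ₀u⟩ := exists_ne_zero_dual (F := F) hn (u := u)
  have hfix : ∀ ω : Ω, ω ∈ MulAction.fixedBy Ω (stv u φ₀) ↔ inA (F := F) u ω := by
    intro ω
    rw [MulAction.mem_fixedBy]
    constructor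
    · intro h
      rcases hIIu ω with h1 | h1
      · exact h1
      · exact absurd (h1 φ₀ hφ₀u h) hφ₀
    · intro h
      exact h φ₀ hφ₀u
  rw [← hf φ₀ hφ₀ hφ₀u]
  unfold fp
  exact Nat.card_congr (Equiv.subtypeEquivRight (fun ω => (hfix ω).symm))

/-- `E_u` is regular on the complement of `A_u`. -/
theorem h16_exists_stv_smul_eq (hn : 2 ≤ finrank F V) {u : V} (hu : u ≠ 0) (f : ℕ)
    (hf : ∀ φ : Dual F V, φ ≠ 0 → φ u = 0 → fp Ω (stv u φ) = f)
    (hm : Fintype.card Ω = f + Fintype.card F ^ (finrank F V - 1))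
    (hIIu : ∀ ω : Ω, inA (F := F) u ω ∨ (∀ φ : Dual F V, φ u = 0 → stv u φ • ω = ω → φ = 0))
    (ω ω' : Ω) (hω : ¬ inA (F := F) u ω) (hω' : ¬ inA (F := F) u ω') :
    ∃ φ : Dual F V, φ u = 0 ∧ stv u φ • ω' = ω := by
  classical
  have hcardA := h16_card_inA hn f hf hIIu
  have hcardN : Nat.card {ω : Ω // ¬ inA (F := F) u ω} = Fintype.card F ^ (finrank F V - 1) := by
    have h1 := Fintype.card_subtype_compl (fun ω : Ω => inA (F := F) u ω)
    rw [Nat.card_eq_fintype_card] at hcardA ⊢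
    rw [h1, hm, hcardA]
    omega
  have hfree : ∀ φ : Dual F V, φ u = 0 → stv u φ • ω' = ω' → φ = 0 := (hIIu ω').resolve_left hω'
  have hmem : ∀ φ : ↥(PhiA u : AddSubgroup (Dual F V)), ¬ inA (F := F) u (stv u φ.1 • ω') := by
    intro φ h
    apply hω'
    have hφu : φ.1 u = 0 := φ.2
    exact h16_inA_of_smul (stv u φ.1) one_ne_zero
      (by rw [coe_stv, h16_tv_self hφu, one_smul]) h
  let Φ : ↥(PhiA u : AddSubgroup (Dual F V)) → {ω : Ω // ¬ inA (F := F) u ω} :=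
    fun φ => ⟨stv u φ.1 • ω', hmem φ⟩
  have hinj : Function.Injective Φ := by
    intro φ ψ h
    have h1 : stv u φ.1 • ω' = stv u ψ.1 • ω' := congrArg Subtype.val h
    have hφu : φ.1 u = 0 := φ.2
    have hψu : ψ.1 u = 0 := ψ.2
    have hnψ : (-ψ.1) u = 0 := by simp [hψu]
    have h2 : stv u (-ψ.1 + φ.1) • ω' = ω' := by
      rw [← h16_stv_add hnψ hφu, mul_smul, h1, ← mul_smul, h16_stv_add hnψ hψu, neg_add_cancel,
        h16_stv_zero, one_smul]
    have h3 := hfree _ (by simp [hφu, hψu]) h2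
    apply Subtype.ext
    have : φ.1 = ψ.1 := by
      have := neg_add_eq_zero.1 h3
      exact this.symm
    exact this
  have hbij := hinj.bijective_of_nat_card_le (by
    rw [hcardN, Cfsg.Agent.Helper4.MD.card_PhiA hu])
  obtain ⟨φ, hφ⟩ := hbij.2 ⟨ω, hω⟩
  exact ⟨φ.1, φ.2, congrArg Subtype.val hφ⟩

end reg

section coset

variable [Fintype F] [FiniteDimensional F V] {Ω : Type*} [Fintype Ω] [MulAction ↥(SLV F V) Ω]

/-- if `ω ∉ A_u` then every coset `x + F u ≠ F u` contains a `z'` with `ω ∈ A_{z'}`. -/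
theorem h16_exists_inA_coset (hn : 3 ≤ finrank F V)
    (hF : ∀ {u : V}, u ≠ 0 → ∀ K : Subgroup (V ≃ₗ[F] V), K ≤ SLV F V →
      (∀ k ∈ K, ∃ α : F, k u = α • u) →
      (∀ φ : Dual F V, φ u = 0 → tv u φ ∈ K → φ = 0) →
      (∀ g ∈ SLV F V, (∃ α : F, g u = α • u) → ∃ φ : Dual F V, φ u = 0 ∧ tv u φ * g ∈ K) →
      ∃ (z : V) (ψ : Dual F V), z ∉ Submodule.span F {u} ∧ ψ ≠ 0 ∧ ψ z = 0 ∧ tv z ψ ∈ K)
    (f : ℕ)
    (hf : ∀ (u : V) (φ : Dual F V), u ≠ 0 → φ ≠ 0 → φ u = 0 → fp Ω (stv u φ) = f)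
    (hm : Fintype.card Ω = f + Fintype.card F ^ (finrank F V - 1))
    (hII : ∀ u : V, u ≠ 0 → ∀ ω : Ω, (∀ φ : Dual F V, φ u = 0 → stv u φ • ω = ω) ∨
        (∀ φ : Dual F V, φ u = 0 → stv u φ • ω = ω → φ = 0))
    {u : V} (hu : u ≠ 0) (ω : Ω) (hω : ¬ inA (F := F) u ω) {x : V}
    (hx : x ∉ Submodule.span F {u}) : ∃ a : F, inA (F := F) (x + a • u) ω := by
  set K : Subgroup (V ≃ₗ[F] V) :=
    ((MulAction.stabilizer ↥(SLV F V) ω).map (SLV F V).subtype) ⊓ lineStab u with hK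
  have memK : ∀ g : V ≃ₗ[F] V, g ∈ K ↔
      (∃ s : ↥(SLV F V), s • ω = ω ∧ (s : V ≃ₗ[F] V) = g) ∧ ∃ α : F, α ≠ 0 ∧ g u = α • u := by
    intro g
    rw [hK, Subgroup.mem_inf, Subgroup.mem_map]
    rfl
  have hKS : K ≤ SLV F V := by
    intro g hg
    obtain ⟨⟨s, -, rfl⟩, -⟩ := (memK g).1 hg
    exact s.2
  have hKu : ∀ k ∈ K, ∃ α : F, k u = α • u := by
    intro k hk
    obtain ⟨-, α, -, h⟩ := (memK k).1 hk
    exact ⟨α, h⟩
  have hfixK : ∀ s : ↥(SLV F V), (s : V ≃ₗ[F] V) ∈ K → s • ω = ω := by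
    intro s hs
    obtain ⟨⟨s', hs', e⟩, -⟩ := (memK _).1 hs
    have : s' = s := Subtype.ext e
    rw [← this]
    exact hs'
  have hKE : ∀ φ : Dual F V, φ u = 0 → tv u φ ∈ K → φ = 0 := by
    intro φ hφ hmem
    have h1 : stv u φ • ω = ω := hfixK (stv u φ) hmem
    rcases hII u hu ω with h2 | h2
    · exact absurd h2 hω
    · exact h2 φ hφ h1
  have hIIu : ∀ ω : Ω, inA (F := F) u ω ∨
      (∀ φ : Dual F V, φ u = 0 → stv u φ • ω = ω → φ = 0) := hII u hu
  have hcov : ∀ g ∈ SLV F V, (∃ α : F, g u = α • u) →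
      ∃ φ : Dual F V, φ u = 0 ∧ tv u φ * g ∈ K := by
    intro g hg ⟨α, hgu⟩
    have hα : α ≠ 0 := by
      rintro rfl
      rw [zero_smul] at hgu
      exact hu (g.map_eq_zero_iff.1 hgu)
    have hω' : ¬ inA (F := F) u ((⟨g, hg⟩ : ↥(SLV F V)) • ω) := fun h =>
      hω (h16_inA_of_smul (⟨g, hg⟩ : ↥(SLV F V)) hα hgu h)
    obtain ⟨φ, hφ, e⟩ := h16_exists_stv_smul_eq (by omega) hu f
      (fun φ h1 h2 => hf u φ hu h1 h2) hm hIIu ω _ hω hω'
    refine ⟨φ, hφ, (memK _).2 ⟨⟨stv u φ * ⟨g, hg⟩, ?_, rfl⟩, α, hα, ?_⟩⟩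
    · rw [mul_smul, e]
    · rw [LinearEquiv.mul_apply, hgu, map_smul, h16_tv_self hφ]
  obtain ⟨z, ψ, hz, hψ, hψz, hmem⟩ := hF hu K hKS hKu hKE hcov
  have hz0 : z ≠ 0 := by
    rintro rfl
    exact hz (Submodule.zero_mem _)
  have hzA : inA (F := F) z ω := by
    rcases hII z hz0 ω with h2 | h2
    · exact h2
    · exact absurd (h2 ψ hψz (hfixK (stv z ψ) hmem)) hψ
  obtain ⟨g, hgu, hgz⟩ := Cfsg.Agent.Helper95.MD.exists_sl_fix_map hn hu hz hx
  obtain ⟨φ, hφ, hk⟩ := hcov g g.2 ⟨1, by rw [hgu, one_smul]⟩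
  have hks : (stv u φ * g) • ω = ω := hfixK (stv u φ * g) hk
  have hkz : ((stv u φ * g : ↥(SLV F V)) : V ≃ₗ[F] V) z = x + φ x • u := by
    show (tv u φ * (g : V ≃ₗ[F] V)) z = _
    rw [LinearEquiv.mul_apply, hgz, tv_apply hφ]
  refine ⟨φ x, ?_⟩
  intro χ hχ
  rw [← hkz] at hχ ⊢
  rw [stv_smul_iff]
  have h1 : (stv u φ * g)⁻¹ • ω = ω := by
    rw [inv_smul_eq_iff, hks]
  rw [h1]
  apply hzA
  simpa using hχ

end coset

section count

variable [Fintype F] [FiniteDimensional F V] {Ω : Type*} [Fintype Ω] [MulAction ↥(SLV F V) Ω]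

omit [FiniteDimensional F V] [Fintype Ω] in
/-- the number of centres `z ≠ 0` with `ω ∈ A_z` is at least `q^(n-1) - 1`. -/
theorem h16_card_Z_ge [Fintype V] [DecidableEq V] (hn : 1 ≤ finrank F V) (ω : Ω)
    [DecidablePred (fun z : V => z ≠ 0 ∧ inA (F := F) z ω)]
    (hcos : ∀ u : V, u ≠ 0 → ¬ inA (F := F) u ω → ∀ x : V, x ∉ Submodule.span F {u} →
      ∃ a : F, inA (F := F) (x + a • u) ω) :
    Fintype.card F ^ (finrank F V - 1) - 1 ≤
      (Finset.univ.filter (fun z : V => z ≠ 0 ∧ inA (F := F) z ω)).card := by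
  classical
  have hq : 1 ≤ Fintype.card F := Fintype.card_pos
  have hV : Fintype.card V = Fintype.card F ^ finrank F V := Module.card_eq_pow_finrank
  have hpow : Fintype.card F ^ finrank F V =
      Fintype.card F * Fintype.card F ^ (finrank F V - 1) := by
    rw [← pow_succ']
    congr 1
    omega
  set Q := Fintype.card F ^ (finrank F V - 1) with hQ
  set Z := Finset.univ.filter (fun z : V => z ≠ 0 ∧ inA (F := F) z ω) with hZ
  by_cases hall : ∀ u : V, u ≠ 0 → inA (F := F) u ω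
  · have h1 : (Finset.univ.erase (0 : V)) ⊆ Z := by
      intro z hz
      rw [Finset.mem_erase] at hz
      rw [hZ, Finset.mem_filter]
      exact ⟨Finset.mem_univ _, hz.1, hall z hz.1⟩
    have h2 := Finset.card_le_card h1
    rw [Finset.card_erase_of_mem (Finset.mem_univ _), Finset.card_univ, hV, hpow] at h2
    have h3 : Q ≤ Fintype.card F * Q := Nat.le_mul_of_pos_left Q hq
    omega
  · push Not at hall
    obtain ⟨u, hu, hωu⟩ := hall
    set S := Finset.univ.filter (fun x : V => x ∉ Submodule.span F {u}) with hS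
    have h1 : S ⊆ (Z ×ˢ (Finset.univ : Finset F)).image (fun pr => pr.1 - pr.2 • u) := by
      intro x hx
      rw [hS, Finset.mem_filter] at hx
      obtain ⟨a, ha⟩ := hcos u hu hωu x hx.2
      rw [Finset.mem_image]
      refine ⟨(x + a • u, a), ?_, by simp⟩
      rw [Finset.mem_product]
      refine ⟨?_, Finset.mem_univ _⟩
      rw [hZ, Finset.mem_filter]
      refine ⟨Finset.mem_univ _, ?_, ha⟩
      intro h0
      apply hx.2
      rw [Submodule.mem_span_singleton]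
      refine ⟨-a, ?_⟩
      rw [neg_smul]
      exact (eq_neg_of_add_eq_zero_left h0).symm
    have h2 : S.card ≤ Z.card * Fintype.card F := by
      calc S.card ≤ ((Z ×ˢ (Finset.univ : Finset F)).image (fun pr => pr.1 - pr.2 • u)).card :=
            Finset.card_le_card h1
        _ ≤ (Z ×ˢ (Finset.univ : Finset F)).card := Finset.card_image_le
        _ = Z.card * Fintype.card F := by rw [Finset.card_product, Finset.card_univ]
    have h3 : (Finset.univ : Finset V) ⊆ S ∪ (Finset.univ : Finset F).image (fun a => a • u) := by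
      intro x _
      rw [Finset.mem_union]
      by_cases hx : x ∈ Submodule.span F {u}
      · right
        obtain ⟨a, rfl⟩ := Submodule.mem_span_singleton.1 hx
        exact Finset.mem_image_of_mem _ (Finset.mem_univ _)
      · left
        rw [hS, Finset.mem_filter]
        exact ⟨Finset.mem_univ _, hx⟩
    have h4 : Fintype.card V ≤ S.card + Fintype.card F := by
      calc Fintype.card V = (Finset.univ : Finset V).card := Finset.card_univ.symm
        _ ≤ (S ∪ (Finset.univ : Finset F).image (fun a => a • u)).card := Finset.card_le_card h3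
        _ ≤ S.card + ((Finset.univ : Finset F).image (fun a => a • u)).card :=
            Finset.card_union_le _ _
        _ ≤ S.card + Fintype.card F := by
            apply Nat.add_le_add_left
            exact Finset.card_image_le.trans (le_of_eq Finset.card_univ)
    rw [hV, hpow] at h4
    -- q * Q ≤ Z q + q
    have h5 : Fintype.card F * Q ≤ Fintype.card F * (Z.card + 1) := by
      calc Fintype.card F * Q ≤ S.card + Fintype.card F := h4
        _ ≤ Z.card * Fintype.card F + Fintype.card F := Nat.add_le_add_right h2 _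
        _ = Fintype.card F * (Z.card + 1) := by ring
    have h6 : Q ≤ Z.card + 1 := Nat.le_of_mul_le_mul_left h5 hq
    omega

/-- (G) with the piece (F) as a hypothesis. -/
theorem caseII_good_aux (hn : 3 ≤ finrank F V)
    (hF : ∀ {u : V}, u ≠ 0 → ∀ K : Subgroup (V ≃ₗ[F] V), K ≤ SLV F V →
      (∀ k ∈ K, ∃ α : F, k u = α • u) →
      (∀ φ : Dual F V, φ u = 0 → tv u φ ∈ K → φ = 0) →
      (∀ g ∈ SLV F V, (∃ α : F, g u = α • u) → ∃ φ : Dual F V, φ u = 0 ∧ tv u φ * g ∈ K) →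
      ∃ (z : V) (ψ : Dual F V), z ∉ Submodule.span F {u} ∧ ψ ≠ 0 ∧ ψ z = 0 ∧ tv z ψ ∈ K)
    (f : ℕ)
    (hf : ∀ (u : V) (φ : Dual F V), u ≠ 0 → φ ≠ 0 → φ u = 0 → fp Ω (stv u φ) = f)
    (hm : Fintype.card Ω = f + Fintype.card F ^ (finrank F V - 1))
    (hII : ∀ u : V, u ≠ 0 → ∀ ω : Ω, (∀ φ : Dual F V, φ u = 0 → stv u φ • ω = ω) ∨
        (∀ φ : Dual F V, φ u = 0 → stv u φ • ω = ω → φ = 0)) :
    Fintype.card F ^ (finrank F V - 1) - 1 ≤ (Fintype.card F - 1) * f := by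
  classical
  have : Finite V := Module.finite_of_finite F
  let _ : Fintype V := Fintype.ofFinite V
  have hq : 1 ≤ Fintype.card F := Fintype.card_pos
  have hV : Fintype.card V = Fintype.card F ^ finrank F V := Module.card_eq_pow_finrank
  have hpow : Fintype.card F ^ finrank F V =
      Fintype.card F * Fintype.card F ^ (finrank F V - 1) := by
    rw [← pow_succ']
    congr 1
    omega
  set Q := Fintype.card F ^ (finrank F V - 1) with hQ
  have hQpos : 1 ≤ Q := Nat.one_le_pow _ _ hq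
  -- double counting
  have hsum := Finset.sum_card_bipartiteAbove_eq_sum_card_bipartiteBelow
    (s := (Finset.univ : Finset V).filter (fun z => z ≠ 0)) (t := (Finset.univ : Finset Ω))
    (r := fun z ω => inA (F := F) z ω)
  have hL : ∀ z ∈ (Finset.univ : Finset V).filter (fun z => z ≠ 0),
      ((Finset.univ : Finset Ω).bipartiteAbove (fun z ω => inA (F := F) z ω) z).card = f := by
    intro z hz
    rw [Finset.mem_filter] at hz
    have h1 := h16_card_inA (F := F) (Ω := Ω) (by omega) (u := z) f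
      (fun φ h1 h2 => hf z φ hz.2 h1 h2) (hII z hz.2)
    rw [← h1, Nat.card_eq_fintype_card, Fintype.card_subtype]
    rfl
  rw [Finset.sum_congr rfl hL, Finset.sum_const, smul_eq_mul] at hsum
  have hcardnz : ((Finset.univ : Finset V).filter (fun z => z ≠ 0)).card =
      Fintype.card F * Q - 1 := by
    have : (Finset.univ : Finset V).filter (fun z => z ≠ 0) = Finset.univ.erase 0 := by
      ext z
      simp
    rw [this, Finset.card_erase_of_mem (Finset.mem_univ _), Finset.card_univ, hV, hpow]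
  rw [hcardnz] at hsum
  have hR : ∀ ω ∈ (Finset.univ : Finset Ω), Q - 1 ≤
      (((Finset.univ : Finset V).filter (fun z => z ≠ 0)).bipartiteBelow
        (fun z ω => inA (F := F) z ω) ω).card := by
    intro ω _
    have h1 := h16_card_Z_ge (F := F) (by omega) ω
      (fun u hu hω x hx => h16_exists_inA_coset hn hF f hf hm hII hu ω hω hx)
    refine h1.trans (le_of_eq ?_)
    congr 1
    ext z
    simp [Finset.bipartiteBelow]
  have h2 : Fintype.card Ω * (Q - 1) ≤ (Fintype.card F * Q - 1) * f := by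
    rw [hsum]
    calc Fintype.card Ω * (Q - 1) = ∑ _ω ∈ (Finset.univ : Finset Ω), (Q - 1) := by
          rw [Finset.sum_const, smul_eq_mul, Finset.card_univ]
      _ ≤ _ := Finset.sum_le_sum hR
  rw [hm] at h2
  -- arithmetic
  obtain ⟨r, hr⟩ : ∃ r, Fintype.card F = r + 1 := ⟨Fintype.card F - 1, by omega⟩
  obtain ⟨Q', hQ'⟩ : ∃ Q', Q = Q' + 1 := ⟨Q - 1, by omega⟩
  rw [hr, hQ'] at h2 ⊢
  simp only [Nat.add_sub_cancel] at h2 ⊢
  have h3 : (r + 1) * (Q' + 1) - 1 = r * Q' + r + Q' := by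
    have : (r + 1) * (Q' + 1) = r * Q' + r + Q' + 1 := by ring
    rw [this, Nat.add_sub_cancel]
  rw [h3] at h2
  have h4 : (Q' + 1) * Q' ≤ (Q' + 1) * (r * f) := by nlinarith
  exact Nat.le_of_mul_le_mul_left h4 (Nat.succ_pos _)

end count

/-- (G) case (II) gives the bound. -/
theorem caseII_good [Fintype F] [FiniteDimensional F V] {Ω : Type*} [Fintype Ω]
    [MulAction ↥(SLV F V) Ω] (hn : 3 ≤ finrank F V)
    (hexc : ¬ (finrank F V = 4 ∧ Fintype.card F = 2)) (f : ℕ)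
    (hf : ∀ (u : V) (φ : Dual F V), u ≠ 0 → φ ≠ 0 → φ u = 0 → fp Ω (stv u φ) = f)
    (hm : Fintype.card Ω = f + Fintype.card F ^ (finrank F V - 1))
    (hII : ∀ u : V, u ≠ 0 → ∀ ω : Ω, (∀ φ : Dual F V, φ u = 0 → stv u φ • ω = ω) ∨
        (∀ φ : Dual F V, φ u = 0 → stv u φ • ω = ω → φ = 0)) :
    Fintype.card F ^ (finrank F V - 1) - 1 ≤ (Fintype.card F - 1) * f :=
  caseII_good_aux hn
    (fun hu K hKS hKu hKE hcov =>
      Cfsg.Agent.Helper93.MD.exists_tv_mem_of_complement hn hexc hu K hKS hKu hKE hcov)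
    f hf hm hII

end Cfsg.Agent.Helper16.MD
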