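import Mathlib
import Cfsg.Agent.Lib.Helper93.MD0
import Cfsg.Agent.Lib.Helper86.MDT3
import Cfsg.Agent.Lib.Helper95.MDA
import Cfsg.Agent.Lib.Helper23.MDT2

/-!
# MD project (helper93 server, S2140): piece (T4) `perp_structure`
-/

set_option autoImplicit false

namespace Cfsg.Agent.Helper16.MD

open Module Cfsg.Agent.Helper93.McL Cfsg.Agent.Helper93.MD

variable {F V : Type*} [Field F] [AddCommGroup V] [Module F V]

theorem h16_li3_of {u v w : V} (hu : u ≠ 0) (hv : v ∉ Submodule.span F {u})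
    (hw : w ∉ Submodule.span F {u, v}) : LinearIndependent F ![u, v, w] := by
  have h2 : LinearIndependent F ![u, v] := by
    rw [LinearIndependent.pair_iff' hu]
    intro a ha
    exact hv (ha ▸ Submodule.smul_mem _ _ (Submodule.mem_span_singleton_self u))
  have h3 : ![u, v, w] = Fin.snoc ![u, v] w := by
    ext i
    fin_cases i <;> rfl
  rw [h3]
  apply h2.finSnoc
  have h4 : Set.range ![u, v] = {u, v} := by
    rw [Matrix.range_cons, Matrix.range_cons, Matrix.range_empty]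
    ext x
    simp [or_comm]
  rw [h4]
  exact hw

/-- a functional vanishing on `u, v` with value `1` at `w`. -/
theorem h16_exists_dual {u v w : V} (hw : w ∉ Submodule.span F {u, v}) :
    ∃ ψ : Dual F V, ψ u = 0 ∧ ψ v = 0 ∧ ψ w = 1 := by
  obtain ⟨f, hf, hf'⟩ := Submodule.exists_dual_map_eq_bot_of_notMem hw inferInstance
  have h0 : ∀ y ∈ Submodule.span F {u, v}, f y = 0 := by
    intro y hy
    have : f y ∈ (Submodule.span F {u, v}).map f := Submodule.mem_map_of_mem hy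
    rw [hf'] at this
    exact (Submodule.mem_bot F).1 this
  refine ⟨(f w)⁻¹ • f, ?_, ?_, ?_⟩
  · rw [LinearMap.smul_apply, h0 u (Submodule.subset_span (by simp)), smul_zero]
  · rw [LinearMap.smul_apply, h0 v (Submodule.subset_span (by simp)), smul_zero]
  · rw [LinearMap.smul_apply, smul_eq_mul, inv_mul_cancel₀ hf]

section act

variable {Ω : Type*} [MulAction ↥(SLV F V) Ω]

/-- `E_u` is abelian: points of one `E_u`-orbit have the same stabiliser in `E_u`. -/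
theorem h16_Bst_stv (u : V) (ω : Ω) {φ : Dual F V} (hφ : φ u = 0) :
    Bst (F := F) u (stv u φ • ω) = Bst (F := F) u ω := by
  ext ψ
  rw [mem_Bst, mem_Bst]
  constructor
  · rintro ⟨h1, h2⟩
    refine ⟨h1, ?_⟩
    have hc : stv u ψ * stv u φ = stv u φ * stv u ψ := by
      apply Subtype.ext
      show tv u ψ * tv u φ = tv u φ * tv u ψ
      rw [tv_mul_axis h1 hφ, tv_mul_axis hφ h1, add_comm]
    rw [← mul_smul, hc, mul_smul] at h2
    exact (smul_left_cancel_iff _).1 h2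
  · rintro ⟨h1, h2⟩
    refine ⟨h1, ?_⟩
    have hc : stv u ψ * stv u φ = stv u φ * stv u ψ := by
      apply Subtype.ext
      show tv u ψ * tv u φ = tv u φ * tv u ψ
      rw [tv_mul_axis h1 hφ, tv_mul_axis hφ h1, add_comm]
    rw [← mul_smul, hc, mul_smul, h2]

/-- the stabiliser of `g • ω` for `g` fixing `u`. -/
theorem h16_mem_Bst_smul {u : V} (ω : Ω) (g : ↥(SLV F V)) (hg : (g : V ≃ₗ[F] V) u = u)
    (φ : Dual F V) :
    φ ∈ Bst (F := F) u (g • ω) ↔ φ ∘ₗ ((g : V ≃ₗ[F] V) : V →ₗ[F] V) ∈ Bst (F := F) u ω := by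
  have hgs : (g : V ≃ₗ[F] V).symm u = u := by
    rw [LinearEquiv.symm_apply_eq, hg]
  have hconj : g⁻¹ * stv u φ * g = stv u (φ ∘ₗ ((g : V ≃ₗ[F] V) : V →ₗ[F] V)) := by
    apply Subtype.ext
    show (g : V ≃ₗ[F] V)⁻¹ * tv u φ * (g : V ≃ₗ[F] V) = _
    have h1 := conj_tv ((g : V ≃ₗ[F] V)⁻¹) u φ
    rw [inv_inv] at h1
    rw [h1]
    have h2 : ((g : V ≃ₗ[F] V)⁻¹) u = u := hgs
    rw [h2]
    rfl
  rw [mem_Bst, mem_Bst]
  have h3 : (φ ∘ₗ ((g : V ≃ₗ[F] V) : V →ₗ[F] V)) u = φ u := by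
    rw [LinearMap.comp_apply]
    show φ ((g : V ≃ₗ[F] V) u) = φ u
    rw [hg]
  rw [h3, ← hconj]
  constructor
  · rintro ⟨h1, h2⟩
    refine ⟨h1, ?_⟩
    rw [mul_smul, mul_smul, h2, inv_smul_smul]
  · rintro ⟨h1, h2⟩
    refine ⟨h1, ?_⟩
    rw [mul_smul, mul_smul, inv_smul_eq_iff] at h2
    exact h2

end act

section core

variable {Ω : Type*} [MulAction ↥(SLV F V) Ω] {p : ℕ}

/-- `perp (B_{gω}) = g (perp B_ω)` for `g` fixing `u`. -/
theorem h16_mem_perp_smul {u : V} (τ : F →+ ZMod p) (ω : Ω) (g : ↥(SLV F V))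
    (hg : (g : V ≃ₗ[F] V) u = u) (x : V) :
    x ∈ perp τ (Bst (F := F) u (g • ω)) ↔
      (g : V ≃ₗ[F] V).symm x ∈ perp τ (Bst (F := F) u ω) := by
  rw [mem_perp, mem_perp]
  constructor
  · intro h ψ hψ
    have h1 : ψ ∘ₗ (((g : V ≃ₗ[F] V).symm : V ≃ₗ[F] V) : V →ₗ[F] V) ∈ Bst (F := F) u (g • ω) := by
      rw [h16_mem_Bst_smul ω g hg]
      have : (ψ ∘ₗ (((g : V ≃ₗ[F] V).symm : V ≃ₗ[F] V) : V →ₗ[F] V)) ∘ₗ
          ((g : V ≃ₗ[F] V) : V →ₗ[F] V) = ψ := by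
        ext y
        simp
      rw [this]
      exact hψ
    have h2 := h _ h1
    simpa using h2
  · intro h φ hφ
    have h1 := (h16_mem_Bst_smul ω g hg φ).1 hφ
    have h2 := h _ h1
    simpa using h2

/-- Claim A. -/
theorem h16_claimA {u : V} (τ : F →+ ZMod p)
    (hT2 : ∀ v : V, v ∉ Submodule.span F {u} → ∃ ω₀ : Ω, Bst u ω₀ ≤ Mt τ u v ∧
      ∀ ω : Ω, Bst u ω ≤ Mt τ u v → ∃ φ : Dual F V, φ u = 0 ∧ stv u φ • ω₀ = ω)
    (ω : Ω) (g : ↥(SLV F V)) (hg : (g : V ≃ₗ[F] V) u = u) {v : V}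
    (hvT : v ∈ perp τ (Bst (F := F) u ω)) (hvu : v ∉ Submodule.span F {u})
    (hgv : (g : V ≃ₗ[F] V) v ∈ perp τ (Bst (F := F) u ω)) :
    ∀ x ∈ perp τ (Bst (F := F) u ω), (g : V ≃ₗ[F] V) x ∈ perp τ (Bst (F := F) u ω) := by
  have hgs : (g : V ≃ₗ[F] V).symm u = u := by
    rw [LinearEquiv.symm_apply_eq, hg]
  have hgvu : (g : V ≃ₗ[F] V) v ∉ Submodule.span F {u} := by
    intro h
    obtain ⟨a, ha⟩ := Submodule.mem_span_singleton.1 h
    apply hvu
    rw [Submodule.mem_span_singleton]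
    refine ⟨a, ?_⟩
    have : (g : V ≃ₗ[F] V).symm ((g : V ≃ₗ[F] V) v) = (g : V ≃ₗ[F] V).symm (a • u) := by rw [ha]
    rw [LinearEquiv.symm_apply_apply, map_smul, hgs] at this
    exact this.symm
  have h1 : Bst (F := F) u ω ≤ Mt τ u ((g : V ≃ₗ[F] V) v) := by
    intro φ hφ
    exact ⟨hφ.1, hgv φ hφ⟩
  have h2 : Bst (F := F) u (g • ω) ≤ Mt τ u ((g : V ≃ₗ[F] V) v) := by
    intro φ hφ
    refine ⟨hφ.1, ?_⟩
    have h3 := (h16_mem_Bst_smul ω g hg φ).1 hφ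
    exact hvT _ h3
  obtain ⟨ω₀, -, hω₀⟩ := hT2 _ hgvu
  obtain ⟨φ₁, hφ₁, e1⟩ := hω₀ ω h1
  obtain ⟨φ₂, hφ₂, e2⟩ := hω₀ (g • ω) h2
  have hB : Bst (F := F) u (g • ω) = Bst (F := F) u ω := by
    rw [← e2, h16_Bst_stv u ω₀ hφ₂, ← e1, h16_Bst_stv u ω₀ hφ₁]
  intro x hx
  have h4 := (h16_mem_perp_smul τ ω g hg ((g : V ≃ₗ[F] V) x)).2
    (by rw [LinearEquiv.symm_apply_apply]; exact hx)
  rw [hB] at h4
  exact h4

/-- Claim B. -/
theorem h16_claimB {u : V} (τ : F →+ ZMod p)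
    (hT2 : ∀ v : V, v ∉ Submodule.span F {u} → ∃ ω₀ : Ω, Bst u ω₀ ≤ Mt τ u v ∧
      ∀ ω : Ω, Bst u ω ≤ Mt τ u v → ∃ φ : Dual F V, φ u = 0 ∧ stv u φ • ω₀ = ω)
    (ω : Ω) {v w : V}
    (hvT : v ∈ perp τ (Bst (F := F) u ω)) (hwT : w ∈ perp τ (Bst (F := F) u ω))
    (hvu : v ∉ Submodule.span F {u}) (hw : w ∉ Submodule.span F {u, v}) (a : F) :
    a • v ∈ perp τ (Bst (F := F) u ω) := by
  obtain ⟨ψ, hψu, hψv, hψw⟩ := h16_exists_dual (F := F) hw
  have h0 : (a • ψ) v = 0 := by rw [LinearMap.smul_apply, hψv, smul_zero]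
  have hgu : ((stv v (a • ψ) : ↥(SLV F V)) : V ≃ₗ[F] V) u = u := by
    rw [coe_stv, tv_apply h0, LinearMap.smul_apply, hψu, smul_zero, zero_smul, add_zero]
  have hgv : ((stv v (a • ψ) : ↥(SLV F V)) : V ≃ₗ[F] V) v = v := by
    rw [coe_stv, tv_apply h0, h0, zero_smul, add_zero]
  have hgw : ((stv v (a • ψ) : ↥(SLV F V)) : V ≃ₗ[F] V) w = w + a • v := by
    rw [coe_stv, tv_apply h0, LinearMap.smul_apply, hψw, smul_eq_mul, mul_one]
  have h1 := h16_claimA τ hT2 ω (stv v (a • ψ)) hgu hvT hvu (by rw [hgv]; exact hvT) w hwT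
  rw [hgw] at h1
  have h2 := (perp τ (Bst (F := F) u ω)).sub_mem h1 hwT
  simpa using h2

/-- Claim C. -/
theorem h16_claimC {u : V} (hu : u ≠ 0)
    (τ : F →+ ZMod p)
    (hT2 : ∀ v : V, v ∉ Submodule.span F {u} → ∃ ω₀ : Ω, Bst u ω₀ ≤ Mt τ u v ∧
      ∀ ω : Ω, Bst u ω ≤ Mt τ u v → ∃ φ : Dual F V, φ u = 0 ∧ stv u φ • ω₀ = ω)
    (hA4 : ∀ v w x : V, LinearIndependent F ![u, v, w] → LinearIndependent F ![u, v, x] →
      ∃ (g : ↥(SLV F V)) (c : F), c ≠ 0 ∧ (g : V ≃ₗ[F] V) u = u ∧ (g : V ≃ₗ[F] V) v = v ∧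
        (g : V ≃ₗ[F] V) w = c • x)
    (ω : Ω) {v w : V}
    (hvT : v ∈ perp τ (Bst (F := F) u ω)) (hwT : w ∈ perp τ (Bst (F := F) u ω))
    (hvu : v ∉ Submodule.span F {u}) (hw : w ∉ Submodule.span F {u, v}) :
    perp τ (Bst (F := F) u ω) = ⊤ := by
  -- vectors outside the plane
  have hout : ∀ x : V, x ∉ Submodule.span F {u, v} → x ∈ perp τ (Bst (F := F) u ω) := by
    intro x hx
    obtain ⟨g, c, hc, hgu, hgv, hgw⟩ := hA4 v w x (h16_li3_of hu hvu hw) (h16_li3_of hu hvu hx)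
    have h1 : c • x ∈ perp τ (Bst (F := F) u ω) := by
      have := h16_claimA τ hT2 ω g hgu hvT hvu (by rw [hgv]; exact hvT) w hwT
      rwa [hgw] at this
    have hcxu : c • x ∉ Submodule.span F {u} := by
      intro h
      apply hx
      obtain ⟨a, ha⟩ := Submodule.mem_span_singleton.1 h
      rw [Submodule.mem_span_pair]
      refine ⟨c⁻¹ * a, 0, ?_⟩
      rw [zero_smul, add_zero, mul_smul, ha, smul_smul, inv_mul_cancel₀ hc, one_smul]
    have hv' : v ∉ Submodule.span F {u, c • x} := by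
      intro h
      obtain ⟨a, b, hab⟩ := Submodule.mem_span_pair.1 h
      by_cases hb : b = 0
      · apply hvu
        rw [Submodule.mem_span_singleton]
        refine ⟨a, ?_⟩
        rw [← hab, hb, zero_smul, add_zero]
      · apply hx
        rw [Submodule.mem_span_pair]
        refine ⟨-((b * c)⁻¹ * a), (b * c)⁻¹, ?_⟩
        have hbc : b * c ≠ 0 := mul_ne_zero hb hc
        have h3 : (b * c) • x = v - a • u := by
          rw [← hab, mul_smul]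
          abel
        have h4 : x = (b * c)⁻¹ • (v - a • u) := by
          rw [← h3, smul_smul, inv_mul_cancel₀ hbc, one_smul]
        rw [h4, smul_sub, smul_smul, neg_smul]
        abel
    have h5 := h16_claimB τ hT2 ω h1 hvT hcxu hv' c⁻¹
    rwa [smul_smul, inv_mul_cancel₀ hc, one_smul] at h5
  rw [AddSubgroup.eq_top_iff']
  intro y
  by_cases hy : y ∈ Submodule.span F {u, v}
  · have h1 : y + w ∉ Submodule.span F {u, v} := by
      intro h
      apply hw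
      have := (Submodule.span F {u, v}).sub_mem h hy
      simpa using this
    have h2 := (perp τ (Bst (F := F) u ω)).sub_mem (hout _ h1) hwT
    simpa using h2
  · exact hout y hy

end core

/-- (T4) with the pieces (T2), (T3), (A4) as hypotheses. -/
theorem perp_structure_aux [Fintype F] [FiniteDimensional F V] {Ω : Type*}
    [MulAction ↥(SLV F V) Ω] {p : ℕ} (_hn : 3 ≤ finrank F V) {u : V} (hu : u ≠ 0)
    (τ : F →+ ZMod p)
    (hT2 : ∀ v : V, v ∉ Submodule.span F {u} → ∃ ω₀ : Ω, Bst u ω₀ ≤ Mt τ u v ∧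
      ∀ ω : Ω, Bst u ω ≤ Mt τ u v → ∃ φ : Dual F V, φ u = 0 ∧ stv u φ • ω₀ = ω)
    (hT3 : ∀ B : AddSubgroup (Dual F V), B ≤ PhiA u →
      Nat.card ↥B * Nat.card ↥(perp τ B) = Fintype.card F ^ finrank F V)
    (hA4 : ∀ v w x : V, LinearIndependent F ![u, v, w] → LinearIndependent F ![u, v, x] →
      ∃ (g : ↥(SLV F V)) (c : F), c ≠ 0 ∧ (g : V ≃ₗ[F] V) u = u ∧ (g : V ≃ₗ[F] V) v = v ∧
        (g : V ≃ₗ[F] V) w = c • x)
    (ω : Ω) (hω : Bst u ω ≠ (PhiA u : AddSubgroup (Dual F V))) :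
    (∃ v : V, v ∉ Submodule.span F {u} ∧ ∀ x ∈ perp τ (Bst u ω), x ∈ Submodule.span F {u, v}) ∨
      perp τ (Bst u ω) = ⊤ := by
  have : Finite V := Module.finite_of_finite F
  have : Finite (Dual F V) := Module.finite_of_finite F
  have hle : Bst (F := F) u ω ≤ PhiA u := fun φ hφ => hφ.1
  -- a vector of `T` outside `F u`
  obtain ⟨v, hvT, hvu⟩ : ∃ v ∈ perp τ (Bst (F := F) u ω), v ∉ Submodule.span F {u} := by
    by_contra hcon
    push Not at hcon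
    have hTeq : perp τ (Bst (F := F) u ω) = perp τ (PhiA u : AddSubgroup (Dual F V)) := by
      apply le_antisymm
      · intro x hx φ hφ
        obtain ⟨a, rfl⟩ := Submodule.mem_span_singleton.1 (hcon x hx)
        rw [map_smul, mem_PhiA.1 hφ, smul_zero, map_zero]
      · intro x hx φ hφ
        exact hx φ (hle hφ)
    have h1 := hT3 _ hle
    have h2 := hT3 _ (le_refl (PhiA u : AddSubgroup (Dual F V)))
    rw [hTeq] at h1
    have hpos : 0 < Nat.card ↥(perp τ (PhiA u : AddSubgroup (Dual F V))) := Nat.card_pos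
    have h3 : Nat.card ↥(Bst (F := F) u ω) = Nat.card ↥(PhiA u : AddSubgroup (Dual F V)) :=
      Nat.eq_of_mul_eq_mul_right hpos (h1.trans h2.symm)
    apply hω
    have h4 : ((Bst (F := F) u ω : AddSubgroup (Dual F V)) : Set (Dual F V)) =
        ((PhiA u : AddSubgroup (Dual F V)) : Set (Dual F V)) := by
      apply Set.eq_of_subset_of_ncard_le hle _ (Set.toFinite _)
      rw [← Nat.card_coe_set_eq, ← Nat.card_coe_set_eq]
      exact h3.ge
    exact SetLike.coe_injective h4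
  by_cases hall : ∀ x ∈ perp τ (Bst (F := F) u ω), x ∈ Submodule.span F {u, v}
  · exact Or.inl ⟨v, hvu, hall⟩
  · push Not at hall
    obtain ⟨w, hwT, hw⟩ := hall
    exact Or.inr (h16_claimC hu τ hT2 hA4 ω hvT hwT hvu hw)

/-- (T4) with only (T2) as a hypothesis ((T3) = helper86, (A4) = helper95 are on main). -/
theorem perp_structure_of_T2 [Fintype F] [FiniteDimensional F V] {Ω : Type*} [Fintype Ω]
    [MulAction ↥(SLV F V) Ω] {p : ℕ} [Fact p.Prime] [CharP F p]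
    (hT2 : ∀ {u : V}, u ≠ 0 → ∀ (τ : F →+ ZMod p), τ ≠ 0 → ∀ {v : V}, v ∉ Submodule.span F {u} →
      ∃ ω₀ : Ω, Bst u ω₀ ≤ Mt τ u v ∧
        ∀ ω : Ω, Bst u ω ≤ Mt τ u v → ∃ φ : Dual F V, φ u = 0 ∧ stv u φ • ω₀ = ω)
    (hn : 3 ≤ finrank F V) {u : V} (hu : u ≠ 0)
    (τ : F →+ ZMod p) (hτ : τ ≠ 0) (ω : Ω) (hω : Bst u ω ≠ (PhiA u : AddSubgroup (Dual F V))) :
    (∃ v : V, v ∉ Submodule.span F {u} ∧ ∀ x ∈ perp τ (Bst u ω), x ∈ Submodule.span F {u, v}) ∨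
      perp τ (Bst u ω) = ⊤ :=
  perp_structure_aux hn hu τ (fun _ hv => hT2 hu τ hτ hv)
    (fun B hB => Cfsg.Agent.Helper86.MD.card_mul_card_perp hu τ hτ B hB)
    (fun _ _ _ h1 h2 => Cfsg.Agent.Helper95.MD.exists_sl_fix2_map h1 h2) ω hω

section final

variable [Fintype F] [FiniteDimensional F V]
variable {Ω : Type*} [Fintype Ω] [MulAction ↥(SLV F V) Ω] {p : ℕ} [Fact p.Prime] [CharP F p]

/-- (T4) structure of `perp τ (Bst u ω)` for a non-fixed `ω`. -/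
theorem perp_structure (hn : 3 ≤ finrank F V) {u : V} (hu : u ≠ 0) (f : ℕ)
    (hf : ∀ φ : Dual F V, φ u = 0 → φ ≠ 0 → fp Ω (stv u φ) = f)
    (hm : Fintype.card Ω = f + Fintype.card F ^ (finrank F V - 1))
    (τ : F →+ ZMod p) (hτ : τ ≠ 0) (ω : Ω) (hω : Bst u ω ≠ (PhiA u : AddSubgroup (Dual F V))) :
    (∃ v : V, v ∉ Submodule.span F {u} ∧ ∀ x ∈ perp τ (Bst u ω), x ∈ Submodule.span F {u, v}) ∨
      perp τ (Bst u ω) = ⊤ :=
  perp_structure_aux hn hu τ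
    (fun _ hv => Cfsg.Agent.Helper23.MD.exists_unique_orbit_below hn hu f hf hm τ hτ hv)
    (fun B hB => Cfsg.Agent.Helper86.MD.card_mul_card_perp hu τ hτ B hB)
    (fun _ _ _ h1 h2 => Cfsg.Agent.Helper95.MD.exists_sl_fix2_map h1 h2) ω hω

end final

end Cfsg.Agent.Helper16.MD
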