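import Mathlib
import Cfsg.Agent.Lib.Helper32.N5Defs

/-!
# (E1d) of helper32's N5 server (S1904): an extraspecial group of order 32 without normal `E8`
has exactly 11 involutions  (written by helper16; Gauss sum argument)
-/

set_option autoImplicit false
set_option linter.unusedSectionVars false

namespace Cfsg.Agent.Helper16.N5

open Cfsg Cfsg.Agent.Helper32.N5
open scoped commutatorElement

universe u

variable {X : Type u} [Group X]

/-! ### class two identities -/

theorem h16_comm_central {Z : Subgroup X} (hd : SpData Z) (x y g : X) : ⁅x, y⁆ * g = g * ⁅x, y⁆ := by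
  have h := hd.comm x y
  rw [hd.eqc, Subgroup.mem_center_iff] at h
  exact (h g).symm

theorem h16_sq_mul {Z : Subgroup X} (hd : SpData Z) (x w : X) :
    (x * w) ^ 2 = ⁅w, x⁆ * x ^ 2 * w ^ 2 := by
  have h := h16_comm_central hd w x x
  have e : ⁅w, x⁆ * x ^ 2 * w ^ 2 = x * ⁅w, x⁆ * x * w * w := by
    rw [pow_two, pow_two, ← mul_assoc, ← mul_assoc, h]
  rw [e, commutatorElement_def, pow_two]
  group

theorem h16_comm_mul {Z : Subgroup X} (hd : SpData Z) (w x y : X) :
    ⁅w, x * y⁆ = ⁅w, x⁆ * ⁅w, y⁆ := by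
  have h := h16_comm_central hd w y x⁻¹
  have e : ⁅w, x⁆ * ⁅w, y⁆ = w * x * w⁻¹ * (⁅w, y⁆ * x⁻¹) := by
    rw [commutatorElement_def w x]
    rw [h]
    simp only [mul_assoc]
  rw [e, commutatorElement_def, commutatorElement_def]
  group

theorem h16_comm_eq_one_of_mem {Z : Subgroup X} (hd : SpData Z) {w : X} (hw : w ∈ Z) (x : X) :
    ⁅w, x⁆ = 1 := by
  rw [hd.eqc, Subgroup.mem_center_iff] at hw
  rw [commutatorElement_def, ← hw x]
  group

theorem h16_exists_comm_ne_one {Z : Subgroup X} (hd : SpData Z) {w : X} (hw : w ∉ Z) :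
    ∃ x : X, ⁅w, x⁆ ≠ 1 := by
  by_contra hcon
  push Not at hcon
  apply hw
  rw [hd.eqc, Subgroup.mem_center_iff]
  intro g
  have h := hcon g
  rw [commutatorElement_def] at h
  have : w * g = g * w := by
    have h2 : w * g * w⁻¹ * g⁻¹ * (g * w) = 1 * (g * w) := by rw [h]
    rw [one_mul] at h2
    rw [← h2]
    group
  exact this.symm

/-! ### the two elements of `Z` -/

theorem h16_two_elems {Z : Subgroup X} (hZ2 : Nat.card Z = 2) :
    ∃ z0 ∈ Z, z0 ≠ 1 ∧ ∀ a ∈ Z, a = 1 ∨ a = z0 := by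
  obtain ⟨⟨z0, hz0⟩, hne, huniq⟩ := (Nat.card_eq_two_iff' (1 : Z)).1 hZ2
  refine ⟨z0, hz0, fun h => hne (Subtype.ext h), fun a ha => ?_⟩
  by_cases h1 : a = 1
  · exact Or.inl h1
  · right
    have := huniq ⟨a, ha⟩ (fun h => h1 (congrArg Subtype.val h))
    exact congrArg Subtype.val this

/-! ### the sign character -/

open Classical in
/-- `1` at the identity and `-1` elsewhere -/
noncomputable def chi (c : X) : ℤ := if c = 1 then 1 else -1

theorem chi_one : chi (1 : X) = 1 := by
  unfold chi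
  rw [if_pos rfl]

theorem chi_of_ne {c : X} (h : c ≠ 1) : chi c = -1 := by
  unfold chi
  rw [if_neg h]

theorem chi_sq (c : X) : chi c * chi c = 1 := by
  unfold chi
  split_ifs <;> norm_num

theorem chi_mul {Z : Subgroup X} (hd : SpData Z) (hZ2 : Nat.card Z = 2) {a b : X} (ha : a ∈ Z)
    (hb : b ∈ Z) : chi (a * b) = chi a * chi b := by
  obtain ⟨z0, hz0, hz01, hall⟩ := h16_two_elems hZ2
  have hz0sq : z0 * z0 = 1 := by
    have := hd.el z0 hz0
    rwa [pow_two] at this
  rcases hall a ha with rfl | rfl <;> rcases hall b hb with rfl | rfl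
  · rw [one_mul, chi_one, one_mul]
  · rw [one_mul, chi_one, one_mul]
  · rw [mul_one, chi_one, mul_one]
  · rw [hz0sq, chi_one, chi_of_ne hz01]
    norm_num

/-! ### the Gauss sum -/

section sums

variable [Fintype X] [DecidableEq X] {Z : Subgroup X}

/-- `1` on the involutions (and the identity), `-1` on the elements of order `4` -/
noncomputable def ff (x : X) : ℤ := chi (x ^ 2)

theorem ff_mul (hd : SpData Z) (hZ2 : Nat.card Z = 2) (x w : X) :
    ff (x * w) = chi ⁅w, x⁆ * ff x * ff w := by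
  unfold ff
  rw [h16_sq_mul hd, chi_mul hd hZ2 (Z.mul_mem (hd.comm w x) (hd.sq x)) (hd.sq w),
    chi_mul hd hZ2 (hd.comm w x) (hd.sq x)]

theorem ff_sq (x : X) : ff x * ff x = 1 := chi_sq _

theorem ff_of_mem (hd : SpData Z) {w : X} (hw : w ∈ Z) : ff w = 1 := by
  unfold ff
  rw [hd.el w hw, chi_one]

theorem ff_of_sq {x : X} (h : x ^ 2 = 1) : ff x = 1 := by
  unfold ff
  rw [h, chi_one]

theorem ff_of_sq_ne {x : X} (h : x ^ 2 ≠ 1) : ff x = -1 := by
  unfold ff
  rw [chi_of_ne h]

theorem T_central (hd : SpData Z) {w : X} (hw : w ∈ Z) :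
    ∑ x : X, chi ⁅w, x⁆ = (Fintype.card X : ℤ) := by
  simp only [h16_comm_eq_one_of_mem hd hw, chi_one]
  simp

theorem T_noncentral (hd : SpData Z) (hZ2 : Nat.card Z = 2) {w : X} (hw : w ∉ Z) :
    ∑ x : X, chi ⁅w, x⁆ = 0 := by
  obtain ⟨x0, hx0⟩ := h16_exists_comm_ne_one hd hw
  have h1 : ∑ x : X, chi ⁅w, x0 * x⁆ = ∑ x : X, chi ⁅w, x⁆ :=
    Fintype.sum_equiv (Equiv.mulLeft x0) (fun x => chi ⁅w, x0 * x⁆) (fun x => chi ⁅w, x⁆)
      (fun x => rfl)
  have h2 : ∑ x : X, chi ⁅w, x0 * x⁆ = - ∑ x : X, chi ⁅w, x⁆ := by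
    rw [← Finset.sum_neg_distrib]
    apply Finset.sum_congr rfl
    intro x _
    rw [h16_comm_mul hd, chi_mul hd hZ2 (hd.comm _ _) (hd.comm _ _), chi_of_ne hx0]
    ring
  linarith

theorem S_sq (hd : SpData Z) (hZ2 : Nat.card Z = 2) :
    (∑ x : X, ff x) * (∑ x : X, ff x) = (Fintype.card X : ℤ) * 2 := by
  classical
  have h1 : (∑ x : X, ff x) * (∑ y : X, ff y) = ∑ x : X, ∑ w : X, ff x * ff (x * w) := by
    rw [Finset.sum_mul_sum]
    apply Finset.sum_congr rfl
    intro x _
    exact (Fintype.sum_equiv (Equiv.mulLeft x) (fun w => ff x * ff (x * w))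
      (fun y => ff x * ff y) (fun w => rfl)).symm
  have h2 : ∀ x w : X, ff x * ff (x * w) = ff w * chi ⁅w, x⁆ := by
    intro x w
    rw [ff_mul hd hZ2]
    have := ff_sq x
    linear_combination (chi ⁅w, x⁆ * ff w) * this
  have h3 : ∀ w : X, ff w * ∑ x : X, chi ⁅w, x⁆ = if w ∈ Z then (Fintype.card X : ℤ) else 0 := by
    intro w
    by_cases hw : w ∈ Z
    · rw [if_pos hw, T_central hd hw, ff_of_mem hd hw, one_mul]
    · rw [if_neg hw, T_noncentral hd hZ2 hw, mul_zero]
  rw [h1]
  simp only [h2]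
  rw [Finset.sum_comm]
  simp only [← Finset.mul_sum, h3]
  rw [Finset.sum_ite, Finset.sum_const_zero, add_zero, Finset.sum_const, nsmul_eq_mul]
  have hc : (Finset.univ.filter (fun w : X => w ∈ Z)).card = 2 := by
    rw [← hZ2, Nat.card_eq_fintype_card, Fintype.card_subtype]
  rw [hc]
  push_cast
  ring

/-- the number of solutions of `x ^ 2 = 1` from the Gauss sum -/
theorem two_mul_card_sq (hX : Fintype.card X = 32) :
    (2 : ℤ) * ((Finset.univ.filter (fun x : X => x ^ 2 = 1)).card : ℤ) = 32 + ∑ x : X, ff x := by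
  classical
  have h1 : ∀ x : X, (1 : ℤ) + ff x = if x ^ 2 = 1 then 2 else 0 := by
    intro x
    by_cases h : x ^ 2 = 1
    · rw [if_pos h, ff_of_sq h]; norm_num
    · rw [if_neg h, ff_of_sq_ne h]; norm_num
  have h2 : ∑ x : X, ((1 : ℤ) + ff x) = 32 + ∑ x : X, ff x := by
    rw [Finset.sum_add_distrib]
    simp [hX]
  rw [← h2]
  simp only [h1]
  rw [Finset.sum_ite, Finset.sum_const_zero, add_zero, Finset.sum_const, nsmul_eq_mul]
  ring

/-- the number of solutions of `x ^ 2 = 1` commuting with a noncentral involution `u` -/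
theorem four_mul_card_comm (hd : SpData Z) (hZ2 : Nat.card Z = 2) (hX : Fintype.card X = 32) {u : X}
    (hu : u ^ 2 = 1) (huZ : u ∉ Z) :
    (4 : ℤ) * ((Finset.univ.filter (fun x : X => x ^ 2 = 1 ∧ ⁅u, x⁆ = 1)).card : ℤ) =
      32 + 2 * ∑ x : X, ff x := by
  have h1 : ∀ x : X, ((1 : ℤ) + ff x) * (1 + chi ⁅u, x⁆) =
      if x ^ 2 = 1 ∧ ⁅u, x⁆ = 1 then 4 else 0 := by
    intro x
    by_cases h : x ^ 2 = 1
    · by_cases h' : ⁅u, x⁆ = 1
      · rw [if_pos ⟨h, h'⟩, ff_of_sq h, h', chi_one]; norm_num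
      · rw [if_neg (fun hh => h' hh.2), chi_of_ne h']; norm_num
    · rw [if_neg (fun hh => h hh.1), ff_of_sq_ne h]; norm_num
  have h2 : ∑ x : X, ff x * chi ⁅u, x⁆ = ∑ x : X, ff x := by
    have e : ∀ x : X, ff x * chi ⁅u, x⁆ = ff (x * u) := by
      intro x
      rw [ff_mul hd hZ2, ff_of_sq hu]
      ring
    simp only [e]
    exact Fintype.sum_equiv (Equiv.mulRight u) (fun x => ff (x * u)) (fun x => ff x) (fun x => rfl)
  have h3 : ∑ x : X, ((1 : ℤ) + ff x) * (1 + chi ⁅u, x⁆) = 32 + 2 * ∑ x : X, ff x := by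
    have e : ∀ x : X, ((1 : ℤ) + ff x) * (1 + chi ⁅u, x⁆) =
        1 + ff x + chi ⁅u, x⁆ + ff x * chi ⁅u, x⁆ := fun x => by ring
    simp only [e, Finset.sum_add_distrib, h2, T_noncentral hd hZ2 huZ]
    simp [hX]
    ring
  rw [← h3]
  simp only [h1]
  rw [Finset.sum_ite, Finset.sum_const_zero, add_zero, Finset.sum_const, nsmul_eq_mul]
  ring

end sums

/-! ### the normal `E8` -/

theorem h16_closure_invol {S : Set X} (hcomm : ∀ a ∈ S, ∀ b ∈ S, a * b = b * a)
    (hsq : ∀ a ∈ S, a * a = 1) :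
    (∀ x ∈ Subgroup.closure S, ∀ y ∈ Subgroup.closure S, x * y = y * x) ∧
      ∀ x ∈ Subgroup.closure S, x * x = 1 := by
  have hc : ∀ x ∈ Subgroup.closure S, ∀ y ∈ Subgroup.closure S, x * y = y * x := by
    intro x hx y hy
    have := (Subgroup.isMulCommutative_closure hcomm).is_comm.comm ⟨x, hx⟩ ⟨y, hy⟩
    exact congrArg Subtype.val this
  refine ⟨hc, ?_⟩
  intro x hx
  induction hx using Subgroup.closure_induction with
  | mem x hx => exact hsq x hx
  | one => exact mul_one 1
  | mul x y hx hy ihx ihy =>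
    have e : x * y * (x * y) = (x * x) * (y * y) := by
      rw [mul_assoc, ← mul_assoc y x y, ← hc x hx y hy]
      group
    rw [e, ihx, ihy, mul_one]
  | inv x hx ihx =>
    have : x⁻¹ = x := inv_eq_of_mul_eq_one_left ihx
    rw [this, ihx]

theorem not_noNE8_of_pair [Finite X] {Z : Subgroup X} (hd : SpData Z) (hZ2 : Nat.card Z = 2)
    (h32 : Nat.card X = 32) {u v : X} (hu : u ^ 2 = 1) (hv : v ^ 2 = 1) (huv : u * v = v * u)
    (huZ : u ∉ Z) (hvZ : v ∉ Z) (hvu : ∀ z ∈ Z, v ≠ z * u) : ¬ NoNE8 X := by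
  classical
  obtain ⟨z0, hz0, hz01, hall⟩ := h16_two_elems hZ2
  have hzc : ∀ g : X, g * z0 = z0 * g := by
    have := hz0
    rw [hd.eqc, Subgroup.mem_center_iff] at this
    exact this
  have hScomm : ∀ a ∈ ({z0, u, v} : Set X), ∀ b ∈ ({z0, u, v} : Set X), a * b = b * a := by
    rintro a (rfl | rfl | rfl) b (rfl | rfl | rfl)
    · rfl
    · exact (hzc _).symm
    · exact (hzc _).symm
    · exact hzc _
    · rfl
    · exact huv
    · exact hzc _
    · exact huv.symm
    · rfl
  have hSsq : ∀ a ∈ ({z0, u, v} : Set X), a * a = 1 := by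
    rintro a (rfl | rfl | rfl)
    · have := hd.el _ hz0
      rwa [pow_two] at this
    · rwa [pow_two] at hu
    · rwa [pow_two] at hv
  obtain ⟨hAc, hA2⟩ := h16_closure_invol hScomm hSsq
  obtain ⟨A, hA⟩ : ∃ A : Subgroup X, A = Subgroup.closure ({z0, u, v} : Set X) := ⟨_, rfl⟩
  rw [← hA] at hAc hA2
  have hz0A : z0 ∈ A := by rw [hA]; exact Subgroup.subset_closure (Or.inl rfl)
  have huA : u ∈ A := by rw [hA]; exact Subgroup.subset_closure (Or.inr (Or.inl rfl))
  have hvA : v ∈ A := by rw [hA]; exact Subgroup.subset_closure (Or.inr (Or.inr rfl))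
  have hZA : Z ≤ A := by
    intro a ha
    rcases hall a ha with rfl | rfl
    · exact A.one_mem
    · exact hz0A
  -- five distinct elements
  have h1Z : (1 : X) ∈ Z := Z.one_mem
  have hu1 : u ≠ 1 := fun h => huZ (h ▸ h1Z)
  have huz0 : u ≠ z0 := fun h => huZ (h ▸ hz0)
  have hzu1 : z0 * u ≠ 1 := by
    intro h
    apply huZ
    have : u = z0⁻¹ := eq_inv_of_mul_eq_one_right h
    rw [this]
    exact Z.inv_mem hz0
  have hzuz : z0 * u ≠ z0 := by
    intro h
    exact hu1 (mul_left_cancel (h.trans (mul_one z0).symm))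
  have hzuu : z0 * u ≠ u := by
    intro h
    exact hz01 (mul_right_cancel (h.trans (one_mul u).symm))
  have hv1 : v ≠ 1 := fun h => hvZ (h ▸ h1Z)
  have hvz0 : v ≠ z0 := fun h => hvZ (h ▸ hz0)
  have hvu1 : v ≠ u := by
    have := hvu 1 h1Z
    rwa [one_mul] at this
  have hvzu : v ≠ z0 * u := hvu z0 hz0
  have hT5 : ({v, z0 * u, u, z0, 1} : Finset X).card = 5 := by
    rw [Finset.card_insert_of_notMem, Finset.card_insert_of_notMem, Finset.card_insert_of_notMem,
      Finset.card_insert_of_notMem, Finset.card_singleton]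
    · simp [hz01]
    · simp [hu1, huz0]
    · simp [hzu1, hzuz, hzuu]
    · simp [hv1, hvz0, hvu1, hvzu]
  have hT5A : ∀ t ∈ ({v, z0 * u, u, z0, 1} : Finset X), t ∈ A := by
    intro t ht
    simp only [Finset.mem_insert, Finset.mem_singleton] at ht
    rcases ht with rfl | rfl | rfl | rfl | rfl
    · exact hvA
    · exact A.mul_mem hz0A huA
    · exact huA
    · exact hz0A
    · exact A.one_mem
  have h5 : 5 ≤ Nat.card A := by
    have hinj : Function.Injective
        (fun t : ({v, z0 * u, u, z0, 1} : Finset X) => (⟨t.1, hT5A t.1 t.2⟩ : A)) := by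
      intro a b hab
      have h := congrArg (fun t : A => (t : X)) hab
      exact Subtype.ext h
    have := Nat.card_le_card_of_injective _ hinj
    rwa [Nat.card_eq_fintype_card, Fintype.card_coe, hT5] at this
  have hdvd : 2 ^ 3 ∣ Nat.card A := by
    have h1 : Nat.card A ∣ 2 ^ 5 := by
      have := Subgroup.card_subgroup_dvd_card A
      rwa [h32] at this
    obtain ⟨m, hm, hmA⟩ := (Nat.dvd_prime_pow Nat.prime_two).1 h1
    rw [hmA]
    apply pow_dvd_pow
    by_contra hcon
    push Not at hcon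
    have : 2 ^ m ≤ 2 ^ 2 := Nat.pow_le_pow_right (by norm_num) (by omega)
    rw [hmA] at h5
    omega
  have hH : Nat.card (Z.subgroupOf A) = 2 ^ 1 := by
    rw [Nat.card_congr (Subgroup.subgroupOfEquivOfLe hZA).toEquiv, hZ2, pow_one]
  obtain ⟨K', hK'card, hK'le⟩ := Sylow.exists_subgroup_card_pow_prime_le 2 hdvd (Z.subgroupOf A) hH
    (by norm_num)
  have hEA : K'.map A.subtype ≤ A := Subgroup.map_subtype_le K'
  have hZE : Z ≤ K'.map A.subtype := by
    intro a ha
    refine ⟨⟨a, hZA ha⟩, hK'le ?_, rfl⟩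
    rw [Subgroup.mem_subgroupOf]
    exact ha
  intro h8
  apply h8
  refine ⟨K'.map A.subtype, ⟨fun x hx g => ?_⟩, ⟨⟨⟨fun a b => ?_⟩⟩, fun a ha => ?_⟩, ?_⟩
  · have e : g * x * g⁻¹ = ⁅g, x⁆ * x := by
      rw [commutatorElement_def]
      group
    rw [e]
    exact Subgroup.mul_mem _ (hZE (hd.comm g x)) hx
  · exact Subtype.ext (hAc a.1 (hEA a.2) b.1 (hEA b.2))
  · rw [pow_two]
    exact hA2 a (hEA ha)
  · rw [Subgroup.card_map_of_injective (Subgroup.subtype_injective A), hK'card]
    norm_num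

/-! ### the main statement -/

variable [Finite X]

theorem card_invol_of_card_32 (h8 : NoNE8 X) (Z : Subgroup X) (hd : SpData Z) (hZ2 : Nat.card Z = 2)
    (h32 : Nat.card X = 32) : Nat.card {x : X // orderOf x = 2} = 11 := by
  classical
  letI : Fintype X := Fintype.ofFinite X
  have hX : Fintype.card X = 32 := by
    rw [← Nat.card_eq_fintype_card]
    exact h32
  have hS := S_sq hd hZ2
  rw [hX] at hS
  have hN := two_mul_card_sq (X := X) hX
  obtain ⟨S, hSdef⟩ : ∃ S : ℤ, S = ∑ x : X, ff x := ⟨_, rfl⟩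
  rw [← hSdef] at hS hN
  have hS8 : S = 8 ∨ S = -8 := by
    have h : (S - 8) * (S + 8) = 0 := by
      push_cast at hS
      linear_combination hS
    rcases mul_eq_zero.1 h with h | h
    · left; linarith
    · right; linarith
  have hN12 : (Finset.univ.filter (fun x : X => x ^ 2 = 1)).card = 12 := by
    rcases hS8 with h | h
    · exfalso
      rw [h] at hN
      have hN20 : (Finset.univ.filter (fun x : X => x ^ 2 = 1)).card = 20 := by
        have : ((Finset.univ.filter (fun x : X => x ^ 2 = 1)).card : ℤ) = 20 := by linarith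
        exact_mod_cast this
      have hZc : (Finset.univ.filter (fun w : X => w ∈ Z)).card = 2 := by
        rw [← hZ2, Nat.card_eq_fintype_card, Fintype.card_subtype]
      -- a noncentral involution
      obtain ⟨u, hu, huZ⟩ : ∃ u : X, u ^ 2 = 1 ∧ u ∉ Z := by
        by_contra hcon
        push Not at hcon
        have hsub : Finset.univ.filter (fun x : X => x ^ 2 = 1) ⊆
            Finset.univ.filter (fun w : X => w ∈ Z) := by
          intro x hx
          rw [Finset.mem_filter] at hx ⊢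
          exact ⟨hx.1, hcon x hx.2⟩
        have := Finset.card_le_card hsub
        omega
      have h4 := four_mul_card_comm hd hZ2 hX hu huZ
      rw [← hSdef, h] at h4
      have ha : (Finset.univ.filter (fun x : X => x ^ 2 = 1 ∧ ⁅u, x⁆ = 1)).card = 12 := by
        have : ((Finset.univ.filter (fun x : X => x ^ 2 = 1 ∧ ⁅u, x⁆ = 1)).card : ℤ) = 12 := by
          linarith
        exact_mod_cast this
      -- an involution commuting with `u` outside `Z ∪ Z u`
      have hT4 : ((Finset.univ.filter (fun w : X => w ∈ Z)) ∪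
          (Finset.univ.filter (fun w : X => w ∈ Z)).image (fun z => z * u)).card <
          (Finset.univ.filter (fun x : X => x ^ 2 = 1 ∧ ⁅u, x⁆ = 1)).card := by
        have h1 := Finset.card_union_le (Finset.univ.filter (fun w : X => w ∈ Z))
          ((Finset.univ.filter (fun w : X => w ∈ Z)).image (fun z => z * u))
        have h2 := Finset.card_image_le (s := Finset.univ.filter (fun w : X => w ∈ Z))
          (f := fun z => z * u)
        omega
      obtain ⟨v, hv, hvn⟩ := Finset.exists_mem_notMem_of_card_lt_card hT4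
      rw [Finset.mem_filter] at hv
      rw [Finset.mem_union, Finset.mem_filter, Finset.mem_image] at hvn
      push Not at hvn
      have hvZ : v ∉ Z := fun h => hvn.1 (Finset.mem_univ _) h
      have hvu : ∀ z ∈ Z, v ≠ z * u := by
        intro z hz hvz
        exact hvn.2 z (Finset.mem_filter.2 ⟨Finset.mem_univ _, hz⟩) hvz.symm
      have huv : u * v = v * u := commutatorElement_eq_one_iff_mul_comm.1 hv.2.2
      exact not_noNE8_of_pair hd hZ2 h32 hu hv.2.1 huv huZ hvZ hvu h8
    · rw [h] at hN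
      have : ((Finset.univ.filter (fun x : X => x ^ 2 = 1)).card : ℤ) = 12 := by linarith
      exact_mod_cast this
  -- from solutions of `x ^ 2 = 1` to elements of order two
  have hE : Finset.univ.filter (fun x : X => orderOf x = 2) =
      (Finset.univ.filter (fun x : X => x ^ 2 = 1)).erase 1 := by
    ext x
    rw [Finset.mem_erase, Finset.mem_filter, Finset.mem_filter, orderOf_eq_prime_iff]
    constructor
    · rintro ⟨h1, h2, h3⟩
      exact ⟨h3, h1, h2⟩
    · rintro ⟨h3, h1, h2⟩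
      exact ⟨h1, h2, h3⟩
  rw [Nat.card_eq_fintype_card, Fintype.card_subtype, hE, Finset.card_erase_of_mem, hN12]
  rw [Finset.mem_filter]
  exact ⟨Finset.mem_univ _, one_pow 2⟩

end Cfsg.Agent.Helper16.N5
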