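import Mathlib
import Cfsg.Agent.Lib.Helper7.M11UDefs
import Cfsg.Agent.Lib.Helper7.NSEDefs

/-!
Piece (G4) `normal_eleven` of helper7's lemma server "NSE" (row S3592).
-/

set_option autoImplicit false

namespace Cfsg.Agent.Helper16.NSE

open Subgroup Cfsg.Agent.Helper7.M11U Cfsg.Agent.Helper7.NSE
open scoped Pointwise

universe u

/-- cardinality of `D.subgroupOf K` for `D ≤ K` -/
theorem card_subgroupOf_of_le {G : Type u} [Group G] {D K : Subgroup G} (h : D ≤ K) :
    Nat.card (D.subgroupOf K) = Nat.card D :=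
  Nat.card_congr (Subgroup.subgroupOfEquivOfLe h).toEquiv

/-- (G4) a normal subgroup `N` with `11 ∣ |N|` is `G`. -/
theorem normal_eleven {G : Type u} [Group G] [Finite G] (hc : Nat.card G = 7920)
    (h144 : Nat.card (Sylow 11 G) = 144)
    (h1584 : ∀ (X : Type u) [Group X] [Finite X], Nat.card X = 1584 → ∀ P : Sylow 11 X,
      Nat.card (normalizer ((P : Subgroup X) : Set X)) = 11 → False)
    (N : Subgroup G) (hN : N.Normal) (h11 : 11 ∣ Nat.card N) : N = ⊤ := by
  classical
  have hp11 : Nat.Prime 11 := by norm_num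
  have hfact : Fact (Nat.Prime 11) := ⟨hp11⟩
  have hNn : N.Normal := hN
  -- a nontrivial `11`-subgroup of `G` has order `11`
  have hcard11 : ∀ Q : Subgroup G, IsPGroup 11 Q → Q ≠ ⊥ → Nat.card Q = 11 := by
    intro Q hQ hne
    obtain ⟨k, hk⟩ := (IsPGroup.iff_card).mp hQ
    have hdiv : Nat.card Q ∣ 7920 := by
      rw [← hc]; exact Subgroup.card_subgroup_dvd_card Q
    have hk1 : k ≤ 1 := by
      by_contra hcon
      push Not at hcon
      have h121 : 11 ^ 2 ∣ 11 ^ k := pow_dvd_pow 11 hcon
      have : 11 ^ 2 ∣ 7920 := by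
        rw [hk] at hdiv
        exact h121.trans hdiv
      norm_num at this
    have hk0 : k ≠ 0 := by
      rintro rfl
      rw [pow_zero] at hk
      exact hne (Subgroup.card_eq_one.mp hk)
    have : k = 1 := by omega
    rw [hk, this, pow_one]
  -- a Sylow `11`-subgroup of `N`
  obtain ⟨P0⟩ : Nonempty (Sylow 11 N) := inferInstance
  have hP0ne : (P0 : Subgroup N) ≠ ⊥ := P0.ne_bot_of_dvd_card h11
  set P1 : Subgroup G := (P0 : Subgroup N).map N.subtype with hP1
  have hP1p : IsPGroup 11 P1 := P0.isPGroup'.map N.subtype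
  have hP1ne : P1 ≠ ⊥ := by
    rw [hP1, Ne, Subgroup.map_eq_bot_iff_of_injective _ N.subtype_injective]
    exact hP0ne
  have hP1N : P1 ≤ N := Subgroup.map_subtype_le _
  have hP1c : Nat.card P1 = 11 := hcard11 P1 hP1p hP1ne
  obtain ⟨P, hP1P⟩ := hP1p.exists_le_sylow
  have hPne : (P : Subgroup G) ≠ ⊥ := by
    intro h
    apply hP1ne
    rw [eq_bot_iff, ← h]
    exact hP1P
  have hPc : Nat.card (P : Subgroup G) = 11 := hcard11 P P.isPGroup' hPne
  have hPeq : P1 = (P : Subgroup G) :=
    Subgroup.eq_of_le_of_card_ge hP1P (by rw [hPc, hP1c])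
  -- the normalizer
  set NP : Subgroup G := normalizer ((P : Subgroup G) : Set G) with hNP
  have hidx : NP.index = 144 := by
    have h1 := P.card_eq_index_normalizer
    rw [h144] at h1
    exact h1.symm
  have hNPc : Nat.card NP = 55 := by
    have h1 := Subgroup.card_mul_index NP
    rw [hidx, hc] at h1
    omega
  -- Frattini
  have hfrat : NP ⊔ N = ⊤ := by
    have := Sylow.normalizer_sup_eq_top P0
    rw [← hP1, hPeq] at this
    exact this
  have hrel : N.index = N.relIndex NP := by
    rw [← Subgroup.relIndex_sup_right NP N, hfrat, Subgroup.relIndex_top_right]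
  set D : Subgroup G := N ⊓ NP with hD
  have hDrel : D.relIndex NP = N.index := by
    rw [hD, Subgroup.inf_relIndex_right, hrel]
  have hDNP : D ≤ NP := inf_le_right
  have hDcard : Nat.card D * N.index = 55 := by
    have h1 := Subgroup.card_mul_index (D.subgroupOf NP)
    rw [card_subgroupOf_of_le hDNP, hNPc] at h1
    rw [← hDrel]
    exact h1
  have hNcard : Nat.card N * N.index = 7920 := by
    rw [Subgroup.card_mul_index, hc]
  have hPD : (P : Subgroup G) ≤ D := by
    rw [hD]
    exact le_inf (hPeq ▸ hP1N) Subgroup.le_normalizer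
  have h11D : 11 ∣ Nat.card D := by
    rw [← hPc]
    exact Subgroup.card_dvd_of_le hPD
  -- `N.index ∈ {1, 5}`
  have hidx15 : N.index = 1 ∨ N.index = 5 := by
    obtain ⟨m, hm⟩ := h11D
    rw [hm] at hDcard
    have h5 : m * N.index = 5 := by
      have : 11 * (m * N.index) = 11 * 5 := by rw [← mul_assoc]; exact hDcard
      exact Nat.eq_of_mul_eq_mul_left (by norm_num) this
    have hdvd : N.index ∣ 5 := Dvd.intro_left m h5
    have := (Nat.dvd_prime (by norm_num : Nat.Prime 5)).mp hdvd
    exact this
  rcases hidx15 with h1 | h5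
  · exact Subgroup.index_eq_one.mp h1
  · exfalso
    have hNc : Nat.card N = 1584 := by
      rw [h5] at hNcard
      omega
    have hDc : Nat.card D = 11 := by
      rw [h5] at hDcard
      omega
    apply h1584 N hNc P0
    -- the normalizer of `P0` in `N`
    have h1 : (normalizer ((P1 : Subgroup G) : Set G)).subgroupOf N
        = normalizer (((P1.subgroupOf N : Subgroup N)) : Set N) :=
      Subgroup.subgroupOf_normalizer_eq hP1N
    have h2 : P1.subgroupOf N = (P0 : Subgroup N) :=
      Subgroup.comap_map_eq_self_of_injective N.subtype_injective _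
    rw [h2, hPeq] at h1
    rw [← h1, ← hNP, ← Subgroup.inf_subgroupOf_right, inf_comm,
      card_subgroupOf_of_le (inf_le_left : N ⊓ NP ≤ N)]
    exact hDc

end Cfsg.Agent.Helper16.NSE
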