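import Mathlib
import Cfsg.Agent.Lib.Helper55.O2520Defs

/-!
# O2520 server (helper55, S0984): sums of a function over a cyclic subgroup and over a
"dihedral" join `⟨x⟩ ⊔ ⟨w⟩` (`w` an involution inverting `x`)
-/

set_option autoImplicit false
set_option linter.unusedSectionVars false

namespace Cfsg.Agent.Helper16.O2520

open Cfsg.Agent.Helper55.O2520
open scoped Classical

universe u

variable {G : Type u} [Group G] [Fintype G]

/-- the sum of `f` over the cyclic subgroup `⟨x⟩` -/
theorem h16_sum_zpowers (x : G) (f : G → ℂ) :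
    ∑ g : G, (if g ∈ Subgroup.zpowers x then f g else 0) =
      ∑ k ∈ Finset.range (orderOf x), f (x ^ k) := by
  rw [← Finset.sum_filter]
  have hfilter : Finset.univ.filter (fun g : G => g ∈ Subgroup.zpowers x) =
      (Finset.range (orderOf x)).image (fun k => x ^ k) := by
    ext g
    rw [Finset.mem_filter, mem_zpowers_iff_mem_range_orderOf]
    simp
  rw [hfilter, Finset.sum_image]
  intro a ha b hb hab
  exact pow_injOn_Iio_orderOf (by simpa using ha) (by simpa using hb) hab

/-- a sum of indicator values `1` computes the cardinality -/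
theorem h16_card_of_sum (K : Subgroup G) (n : ℕ)
    (h : ∑ g : G, (if g ∈ K then (1 : ℂ) else 0) = (n : ℂ)) : Nat.card K = n := by
  rw [Finset.sum_boole] at h
  have h2 : (Finset.univ.filter (fun g : G => g ∈ K)).card = n := by exact_mod_cast h
  rw [Nat.card_eq_fintype_card, Fintype.card_subtype]
  exact h2

section dih

variable (x w : G) (hw2 : w * w = 1) (hwx : w * x * w⁻¹ = x⁻¹)
include hw2 hwx

theorem h16_winv : w⁻¹ = w := inv_eq_of_mul_eq_one_right hw2

theorem h16_conj_mem (y : G) (hy : y ∈ Subgroup.zpowers x) : w * y * w⁻¹ ∈ Subgroup.zpowers x := by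
  obtain ⟨k, rfl⟩ := Subgroup.mem_zpowers_iff.1 hy
  have : w * x ^ k * w⁻¹ = (x⁻¹) ^ k := by
    rw [← hwx]
    exact (conj_zpow (a := w) (b := x) (i := k)).symm
  rw [this]
  exact Subgroup.zpow_mem _ (Subgroup.inv_mem _ (Subgroup.mem_zpowers x)) k

theorem h16_conj_mem' (y : G) (hy : y ∈ Subgroup.zpowers x) : w⁻¹ * y * w ∈ Subgroup.zpowers x := by
  have h1 := h16_conj_mem x w hw2 hwx y hy
  rw [h16_winv x w hw2 hwx] at h1 ⊢
  exact h1

/-- the elements of `⟨x⟩ ⊔ ⟨w⟩` -/
theorem h16_mem_dih (g : G) :
    g ∈ Subgroup.zpowers x ⊔ Subgroup.zpowers w ↔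
      g ∈ Subgroup.zpowers x ∨ w * g ∈ Subgroup.zpowers x := by
  have hwi := h16_winv x w hw2 hwx
  let K : Subgroup G :=
    { carrier := {g | g ∈ Subgroup.zpowers x ∨ w * g ∈ Subgroup.zpowers x}
      one_mem' := Or.inl (Subgroup.one_mem _)
      mul_mem' := by
        rintro a b (ha | ha) (hb | hb)
        · exact Or.inl (Subgroup.mul_mem _ ha hb)
        · right
          have : w * (a * b) = (w * a * w⁻¹) * (w * b) := by group
          rw [this]
          exact Subgroup.mul_mem _ (h16_conj_mem x w hw2 hwx a ha) hb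
        · right
          have : w * (a * b) = (w * a) * b := by group
          rw [this]
          exact Subgroup.mul_mem _ ha hb
        · left
          have : a * b = (w⁻¹ * (w * a) * w) * ((w * w)⁻¹ * (w * b)) := by group
          rw [this, hw2, inv_one, one_mul]
          exact Subgroup.mul_mem _ (h16_conj_mem' x w hw2 hwx _ ha) hb
      inv_mem' := by
        rintro a (ha | ha)
        · exact Or.inl (Subgroup.inv_mem _ ha)
        · right
          have : w * a⁻¹ = w * (w * a)⁻¹ * w := by group
          rw [this]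
          have h1 := h16_conj_mem x w hw2 hwx _ (Subgroup.inv_mem _ ha)
          rw [hwi] at h1
          exact h1 }
  constructor
  · intro hg
    have hle : Subgroup.zpowers x ⊔ Subgroup.zpowers w ≤ K := by
      apply sup_le
      · intro y hy
        exact Or.inl hy
      · rw [Subgroup.zpowers_le]
        right
        rw [hw2]
        exact Subgroup.one_mem _
    exact hle hg
  · rintro (hg | hg)
    · exact (le_sup_left : Subgroup.zpowers x ≤ _) hg
    · have : g = w⁻¹ * (w * g) := by group
      rw [this]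
      exact Subgroup.mul_mem _
        (Subgroup.inv_mem _ ((le_sup_right : Subgroup.zpowers w ≤ _) (Subgroup.mem_zpowers w)))
        ((le_sup_left : Subgroup.zpowers x ≤ _) hg)

/-- the sum of `f` over `⟨x⟩ ⊔ ⟨w⟩` when `w ∉ ⟨x⟩` -/
theorem h16_sum_dih (hwn : w ∉ Subgroup.zpowers x) (f : G → ℂ) :
    ∑ g : G, (if g ∈ Subgroup.zpowers x ⊔ Subgroup.zpowers w then f g else 0) =
      ∑ k ∈ Finset.range (orderOf x), f (x ^ k) +
        ∑ k ∈ Finset.range (orderOf x), f (w * x ^ k) := by
  have hwi := h16_winv x w hw2 hwx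
  have hsplit : ∀ g : G, (if g ∈ Subgroup.zpowers x ⊔ Subgroup.zpowers w then f g else 0) =
      (if g ∈ Subgroup.zpowers x then f g else 0) +
        (if w * g ∈ Subgroup.zpowers x then f g else 0) := by
    intro g
    by_cases h1 : g ∈ Subgroup.zpowers x
    · have h2 : ¬ w * g ∈ Subgroup.zpowers x := by
        intro h2
        apply hwn
        have : w = (w * g) * g⁻¹ := by group
        rw [this]
        exact Subgroup.mul_mem _ h2 (Subgroup.inv_mem _ h1)
      rw [if_pos ((h16_mem_dih x w hw2 hwx g).2 (Or.inl h1)), if_pos h1, if_neg h2, add_zero]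
    · by_cases h2 : w * g ∈ Subgroup.zpowers x
      · rw [if_pos ((h16_mem_dih x w hw2 hwx g).2 (Or.inr h2)), if_neg h1, if_pos h2, zero_add]
      · have h3 : ¬ g ∈ Subgroup.zpowers x ⊔ Subgroup.zpowers w := by
          intro h3
          rcases (h16_mem_dih x w hw2 hwx g).1 h3 with h | h
          · exact h1 h
          · exact h2 h
        rw [if_neg h3, if_neg h1, if_neg h2, add_zero]
  rw [Finset.sum_congr rfl (fun g _ => hsplit g), Finset.sum_add_distrib, h16_sum_zpowers x f]
  congr 1
  have hre : ∑ g : G, (if w * g ∈ Subgroup.zpowers x then f g else 0) =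
      ∑ h : G, (if h ∈ Subgroup.zpowers x then f (w * h) else 0) := by
    apply Fintype.sum_equiv (Equiv.mulLeft w)
    intro g
    show _ = (if w * g ∈ Subgroup.zpowers x then f (w * (w * g)) else 0)
    rw [← mul_assoc, hw2, one_mul]
  rw [hre]
  exact h16_sum_zpowers x (fun h => f (w * h))

end dih

end Cfsg.Agent.Helper16.O2520
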