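import Mathlib
import Cfsg.Agent.Lib.Helper55.O2520Defs
import Cfsg.Agent.Lib.Helper16.O2520Core

/-!
# O2520 server (helper55, S0984), pieces (SUMS) `sum_S` and (SUMU) `sum_U`
-/

set_option autoImplicit false
set_option linter.unusedSectionVars false

namespace Cfsg.Agent.Helper16.O2520

open Cfsg Cfsg.Agent.Helper55.O2520
open scoped Classical

universe u

section aux

variable {G : Type u} [Group G] (P : Subgroup G) (u w : G) (hc : Config P u w)
include hc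

theorem h16_w_sq : w * w = 1 := by
  have := pow_orderOf_eq_one w
  rw [hc.ordw, pow_two] at this
  exact this

theorem h16_order_sq : orderOf (u ^ 2) = 2 := by
  rw [orderOf_pow' u (by norm_num : (2 : ℕ) ≠ 0), hc.ordu]
  decide

theorem h16_w_notMem : w ∉ Subgroup.zpowers u := by
  intro hw
  obtain ⟨k, hk⟩ := Subgroup.mem_zpowers_iff.1 hw
  have h1 : w * u * w⁻¹ = u := by
    rw [← hk]; group
  rw [hc.wu] at h1
  have h2 : u ^ 2 = 1 := by
    rw [pow_two]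
    calc u * u = u * u⁻¹ := by rw [h1]
      _ = 1 := mul_inv_cancel u
  have h3 := orderOf_dvd_of_pow_eq_one h2
  rw [hc.ordu] at h3
  omega

theorem h16_wu_sq : w * u ^ 2 * w⁻¹ = (u ^ 2)⁻¹ := by
  rw [← conj_pow, hc.wu, inv_pow]

theorem h16_w_notMem_sq : w ∉ Subgroup.zpowers (u ^ 2) := by
  intro hw
  apply h16_w_notMem P u w hc
  have hle : Subgroup.zpowers (u ^ 2) ≤ Subgroup.zpowers u :=
    Subgroup.zpowers_le.2 (Subgroup.pow_mem _ (Subgroup.mem_zpowers u) 2)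
  exact hle hw

end aux

section sums
variable {G : Type u} [Group G] [Fintype G] (P : Subgroup G) (u w : G) (hc : Config P u w)
  (χ : G → ℂ) (hcl : ∀ g x : G, χ (g * x * g⁻¹) = χ x)
include hc hcl

/-- (SUMU) [S] `⟨u⟩ = {1,u,u²,u³}`, `⟨u²⟩ = {1,u²}`. -/
theorem sum_U :
    Nat.card (Subgroup.zpowers u) = 4 ∧ Nat.card (Subgroup.zpowers (u ^ 2)) = 2 ∧
    ∑ g : G, (if g ∈ Subgroup.zpowers u then χ g else 0) = χ 1 + χ u + χ (u ^ 2) + χ (u ^ 3) ∧
    ∑ g : G, (if g ∈ Subgroup.zpowers (u ^ 2) then χ g else 0) = χ 1 + χ (u ^ 2) := by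
  refine ⟨?_, ?_, ?_, ?_⟩
  · rw [Nat.card_zpowers, hc.ordu]
  · rw [Nat.card_zpowers, h16_order_sq P u w hc]
  · rw [h16_sum_zpowers, hc.ordu]
    simp [Finset.sum_range_succ]
  · rw [h16_sum_zpowers, h16_order_sq P u w hc]
    simp [Finset.sum_range_succ]

/-- (SUMS) [M] `S = ⟨u⟩ ⊔ ⟨w⟩ = {u^k} ∪ {w u^k}` dihedral of order 8 (`w ∉ ⟨u⟩` since `w u w⁻¹ = u⁻¹ ≠ u`),
`χ (w u^k) = χ (u²)` by `hc.conj`; `V = ⟨u²⟩ ⊔ ⟨w⟩ = {1,u²,w,w u²}` of order 4. -/
theorem sum_S :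
    Nat.card (Subgroup.zpowers u ⊔ Subgroup.zpowers w : Subgroup G) = 8 ∧
    Nat.card (Subgroup.zpowers (u ^ 2) ⊔ Subgroup.zpowers w : Subgroup G) = 4 ∧
    ∑ g : G, (if g ∈ Subgroup.zpowers u ⊔ Subgroup.zpowers w then χ g else 0) =
      χ 1 + χ u + χ (u ^ 2) + χ (u ^ 3) + 4 * χ (u ^ 2) ∧
    ∑ g : G, (if g ∈ Subgroup.zpowers (u ^ 2) ⊔ Subgroup.zpowers w then χ g else 0) =
      χ 1 + 3 * χ (u ^ 2) := by
  have hw2 := h16_w_sq P u w hc
  have hwn := h16_w_notMem P u w hc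
  have hwn' := h16_w_notMem_sq P u w hc
  have hwx' := h16_wu_sq P u w hc
  have ho' := h16_order_sq P u w hc
  have hconj : ∀ k : ℕ, χ (w * u ^ k) = χ (u ^ 2) := by
    intro k
    obtain ⟨c, hc'⟩ := isConj_iff.1 (hc.conj k)
    rw [← hc', hcl]
  refine ⟨?_, ?_, ?_, ?_⟩
  · apply h16_card_of_sum
    rw [h16_sum_dih u w hw2 hc.wu hwn (fun _ => (1 : ℂ)), hc.ordu]
    simp
    norm_num
  · apply h16_card_of_sum
    rw [h16_sum_dih (u ^ 2) w hw2 hwx' hwn' (fun _ => (1 : ℂ)), ho']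
    simp
    norm_num
  · rw [h16_sum_dih u w hw2 hc.wu hwn χ, hc.ordu,
      Finset.sum_congr rfl (fun k _ => hconj k)]
    simp [Finset.sum_range_succ]
  · rw [h16_sum_dih (u ^ 2) w hw2 hwx' hwn' χ, ho']
    have h0 : χ (w * (u ^ 2) ^ 0) = χ (u ^ 2) := by
      have := hconj 0
      rw [pow_zero] at this ⊢
      exact this
    have h1 : χ (w * (u ^ 2) ^ 1) = χ (u ^ 2) := by
      rw [pow_one]
      exact hconj 2
    rw [Finset.sum_range_succ, Finset.sum_range_succ, Finset.sum_range_zero,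
      Finset.sum_range_succ, Finset.sum_range_succ, Finset.sum_range_zero, h0, h1, pow_zero,
      pow_one]
    ring

end sums

end Cfsg.Agent.Helper16.O2520
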