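import Mathlib
import Cfsg.Agent.Lib.Helper55.O2520Defs

/-!
# O2520 server (helper55, S0984), piece (SYL2), part a: a group `S` of order 8 with a cyclic
subgroup `⟨u⟩` of order 4: elementary facts
-/

set_option autoImplicit false
set_option linter.unusedSectionVars false

namespace Cfsg.Agent.Helper16.O2520

universe u

section cyc4
variable {G : Type u} [Group G] (u : G) (hu : orderOf u = 4)
include hu

theorem h16_u4 : u ^ 4 = 1 := by rw [← hu]; exact pow_orderOf_eq_one u

theorem h16_u3 : u ^ 3 = u⁻¹ := by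
  apply eq_inv_of_mul_eq_one_left
  rw [← pow_succ]
  exact h16_u4 u hu

theorem h16_ord_u2 : orderOf (u ^ 2) = 2 := by
  rw [orderOf_pow' u (by norm_num : (2 : ℕ) ≠ 0), hu]
  decide

theorem h16_u2_ne : u ^ 2 ≠ 1 := by
  intro h
  have := orderOf_dvd_of_pow_eq_one h
  rw [hu] at this
  omega

theorem h16_u_ne_inv : u ≠ u⁻¹ := by
  intro h
  apply h16_u2_ne u hu
  rw [pow_two]
  calc u * u = u * u⁻¹ := by rw [← h]
    _ = 1 := mul_inv_cancel u

theorem h16_u2_inv : (u ^ 2)⁻¹ = u ^ 2 := by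
  apply inv_eq_of_mul_eq_one_right
  rw [← pow_add]
  exact h16_u4 u hu

theorem h16_cases [Finite G] (x : G) (hx : x ∈ Subgroup.zpowers u) :
    x = 1 ∨ x = u ∨ x = u ^ 2 ∨ x = u⁻¹ := by
  classical
  rw [mem_zpowers_iff_mem_range_orderOf, hu] at hx
  simp only [Finset.mem_image, Finset.mem_range] at hx
  obtain ⟨r, hr, rfl⟩ := hx
  interval_cases r
  · left; exact pow_zero u
  · right; left; exact pow_one u
  · right; right; left; rfl
  · right; right; right; exact h16_u3 u hu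

/-- the only involution of `⟨u⟩` is `u²` -/
theorem h16_invol_Q [Finite G] (x : G) (hx : x ∈ Subgroup.zpowers u) (h2 : orderOf x = 2) :
    x = u ^ 2 := by
  rcases h16_cases u hu x hx with rfl | rfl | rfl | rfl
  · rw [orderOf_one] at h2; omega
  · rw [hu] at h2; omega
  · rfl
  · rw [orderOf_inv, hu] at h2; omega

/-- the elements of order 4 of `⟨u⟩` are `u` and `u⁻¹` -/
theorem h16_ord4_Q [Finite G] (x : G) (hx : x ∈ Subgroup.zpowers u) (h4 : orderOf x = 4) :
    x = u ∨ x = u⁻¹ := by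
  rcases h16_cases u hu x hx with rfl | rfl | rfl | rfl
  · rw [orderOf_one] at h4; omega
  · exact Or.inl rfl
  · rw [h16_ord_u2 u hu] at h4; omega
  · exact Or.inr rfl

/-- squares in `⟨u⟩` -/
theorem h16_sq_Q [Finite G] (x : G) (hx : x ∈ Subgroup.zpowers u) :
    x * x = 1 ∨ x * x = u ^ 2 := by
  rcases h16_cases u hu x hx with rfl | rfl | rfl | rfl
  · left; rw [mul_one]
  · right; rw [pow_two]
  · left; rw [← pow_add]; exact h16_u4 u hu
  · right
    rw [← h16_u2_inv u hu, pow_two, mul_inv_rev]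

end cyc4

section idx
variable {G : Type u} [Group G] [Finite G] (u : G) (hu : orderOf u = 4) (S : Subgroup G)
  (hQS : Subgroup.zpowers u ≤ S) (hS : Nat.card S = 8)
include hu hQS hS

theorem h16_index : ((Subgroup.zpowers u).subgroupOf S).index = 2 := by
  have h1 := Subgroup.card_mul_index ((Subgroup.zpowers u).subgroupOf S)
  have h2 : Nat.card ((Subgroup.zpowers u).subgroupOf S) = 4 := by
    rw [Nat.card_congr (Subgroup.subgroupOfEquivOfLe hQS).toEquiv, Nat.card_zpowers, hu]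
  rw [h2, hS] at h1
  omega

theorem h16_idx (a b : G) (ha : a ∈ S) (hb : b ∈ S) :
    a * b ∈ Subgroup.zpowers u ↔ (a ∈ Subgroup.zpowers u ↔ b ∈ Subgroup.zpowers u) := by
  have h := Subgroup.mul_mem_iff_of_index_two (h16_index u hu S hQS hS)
    (a := (⟨a, ha⟩ : S)) (b := (⟨b, hb⟩ : S))
  simpa [Subgroup.mem_subgroupOf] using h

theorem h16_exists_out : ∃ s ∈ S, s ∉ Subgroup.zpowers u := by
  by_contra hcon
  have hle : S ≤ Subgroup.zpowers u := fun s hs => by_contra (fun h => hcon ⟨s, hs, h⟩)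
  have := Subgroup.card_le_of_le hle
  rw [hS, Nat.card_zpowers, hu] at this
  omega

theorem h16_uS : u ∈ S := hQS (Subgroup.mem_zpowers u)

/-- `⟨u⟩` is normal in `S`, so `s u s⁻¹ = u` or `u⁻¹` -/
theorem h16_conj_u (s : G) (hs : s ∈ S) : s * u * s⁻¹ = u ∨ s * u * s⁻¹ = u⁻¹ := by
  have huS := h16_uS u hu S hQS hS
  have hmem : s * u * s⁻¹ ∈ Subgroup.zpowers u := by
    by_cases hsQ : s ∈ Subgroup.zpowers u
    · exact Subgroup.mul_mem _ (Subgroup.mul_mem _ hsQ (Subgroup.mem_zpowers u))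
        (Subgroup.inv_mem _ hsQ)
    · have h1 : ¬ s * u ∈ Subgroup.zpowers u := by
        rw [h16_idx u hu S hQS hS s u hs huS]
        intro h
        exact hsQ (h.2 (Subgroup.mem_zpowers u))
      have hsi : ¬ s⁻¹ ∈ Subgroup.zpowers u := fun h => hsQ (by simpa using Subgroup.inv_mem _ h)
      rw [h16_idx u hu S hQS hS (s * u) s⁻¹ (S.mul_mem hs huS) (S.inv_mem hs)]
      exact ⟨fun h => absurd h h1, fun h => absurd h hsi⟩
  have hord : orderOf (s * u * s⁻¹) = 4 := by
    rw [← hu]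
    exact orderOf_injective (MulAut.conj s).toMonoidHom (MulAut.conj s).injective u
  exact h16_ord4_Q u hu _ hmem hord

/-- two elements outside `⟨u⟩` differ by an element of `⟨u⟩` -/
theorem h16_out_out (s t : G) (hs : s ∈ S) (ht : t ∈ S) (hsQ : s ∉ Subgroup.zpowers u)
    (htQ : t ∉ Subgroup.zpowers u) : s⁻¹ * t ∈ Subgroup.zpowers u := by
  have hsi : ¬ s⁻¹ ∈ Subgroup.zpowers u := fun h => hsQ (by simpa using Subgroup.inv_mem _ h)
  rw [h16_idx u hu S hQS hS s⁻¹ t (S.inv_mem hs) ht]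
  exact ⟨fun h => absurd h hsi, fun h => absurd h htQ⟩

theorem h16_out_mul (s q : G) (hs : s ∈ S) (hsQ : s ∉ Subgroup.zpowers u)
    (hq : q ∈ Subgroup.zpowers u) : s * q ∉ Subgroup.zpowers u := by
  rw [h16_idx u hu S hQS hS s q hs (hQS hq)]
  intro h
  exact hsQ (h.2 hq)

theorem h16_sq_mem (s : G) (hs : s ∈ S) : s * s ∈ Subgroup.zpowers u := by
  rw [h16_idx u hu S hQS hS s s hs hs]

end idx

end Cfsg.Agent.Helper16.O2520
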