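import Mathlib
import Cfsg.Agent.Lib.Helper55.O2520Defs
import Cfsg.Agent.Lib.Helper16.O2520SYL2a
import Cfsg.Agent.Lib.Helper17.Simple
import Cfsg.Agent.Lib.Helper82.UniqInv
import Cfsg.Agent.Lib.Helper79.Coprime.Fusion
import Cfsg.Agent.S0111

/-!
# O2520 server (helper55, S0984), piece (SYL2): the Sylow 2-subgroup containing an element `u` of
order 4 is dihedral, and every involution is conjugate to `u²`
-/

set_option autoImplicit false
set_option linter.unusedSectionVars false

namespace Cfsg.Agent.Helper16.O2520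

open Cfsg Cfsg.Agent.Helper55.O2520
open scoped Classical
open scoped Pointwise

universe u

section grp
variable {G : Type u} [Group G] [Finite G] [IsSimpleGroup G] (hG : Nat.card G = 2520)
include hG

theorem h16_not_comm : ¬ IsMulCommutative G := by
  intro hna
  have hp : (Nat.card G).Prime := by
    let _ : CommGroup G := { ‹Group G› with mul_comm := hna.is_comm.comm }
    exact IsSimpleGroup.prime_card
  rw [hG] at hp
  norm_num at hp

theorem h16_no_index_two (M : Subgroup G) (hM : M.Normal) (hi : M.index = 2) : False := by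
  rcases hM.eq_bot_or_eq_top with h | h
  · rw [h, Subgroup.index_bot, hG] at hi
    omega
  · rw [h, Subgroup.index_top] at hi
    omega

/-- Thompson transfer in `G`: an involution of `S` outside `⟨u⟩` is conjugate to `u²` -/
theorem h16_transfer (u : G) (hu : orderOf u = 4) (S : Sylow 2 G)
    (hQS : Subgroup.zpowers u ≤ (S : Subgroup G)) (hS : Nat.card (S : Subgroup G) = 8)
    (t : G) (ht2 : orderOf t = 2) (htS : t ∈ (S : Subgroup G)) (htQ : t ∉ Subgroup.zpowers u) :
    ∃ g : G, g * t * g⁻¹ = u ^ 2 := by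
  have hrel : (Subgroup.zpowers u).relIndex (S : Subgroup G) = 2 :=
    h16_index u hu (S : Subgroup G) hQS hS
  rcases Cfsg.Agent.S0111.result S (Subgroup.zpowers u) hQS hrel t ht2 htS htQ with
    ⟨M, hM, hi, -⟩ | ⟨g, hg⟩
  · exact (h16_no_index_two hG M hM hi).elim
  · refine ⟨g, h16_invol_Q u hu _ hg ?_⟩
    rw [Cfsg.Agent.Helper82.SV.h82_orderOf_conj, ht2]

/-- an involution of `S` outside `⟨u⟩` cannot centralize `u` (`S` would be abelian; Thompson transfer
and Burnside's fusion lemma: `u²` is the only nontrivial square of `S`) -/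
theorem h16_abel_false (u : G) (hu : orderOf u = 4) (S : Sylow 2 G)
    (hQS : Subgroup.zpowers u ≤ (S : Subgroup G)) (hS : Nat.card (S : Subgroup G) = 8)
    (t : G) (htS : t ∈ (S : Subgroup G)) (htQ : t ∉ Subgroup.zpowers u) (htt : t * t = 1)
    (htu : t * u = u * t) : False := by
  have hu4 := h16_u4 u hu
  have ht1 : t ≠ 1 := fun h => htQ (h ▸ Subgroup.one_mem _)
  have ht2 : orderOf t = 2 := orderOf_eq_prime (by rw [pow_two]; exact htt) ht1
  have htq : ∀ q ∈ Subgroup.zpowers u, t * q = q * t := by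
    intro q hq
    obtain ⟨k, rfl⟩ := Subgroup.mem_zpowers_iff.1 hq
    exact ((Commute.zpow_right (show Commute t u from htu) k)).eq
  have hqq : ∀ q ∈ Subgroup.zpowers u, ∀ q' ∈ Subgroup.zpowers u, q * q' = q' * q := by
    intro q hq q' hq'
    obtain ⟨k, rfl⟩ := Subgroup.mem_zpowers_iff.1 hq
    obtain ⟨k', rfl⟩ := Subgroup.mem_zpowers_iff.1 hq'
    exact ((Commute.refl u).zpow_zpow k k').eq
  have hform : ∀ x ∈ (S : Subgroup G), x ∉ Subgroup.zpowers u →
      ∃ q ∈ Subgroup.zpowers u, x = t * q := by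
    intro x hx hxQ
    refine ⟨t⁻¹ * x, h16_out_out u hu (S : Subgroup G) hQS hS t x htS hx htQ hxQ, ?_⟩
    group
  have hu2Q : u ^ 2 ∈ Subgroup.zpowers u := Subgroup.pow_mem _ (Subgroup.mem_zpowers u) 2
  have htC : t ∈ Subgroup.centralizer ((S : Subgroup G) : Set G) := by
    rw [Subgroup.mem_centralizer_iff]
    intro x hx
    by_cases hxQ : x ∈ Subgroup.zpowers u
    · exact (htq x hxQ).symm
    · obtain ⟨q, hq, rfl⟩ := hform x hx hxQ
      rw [mul_assoc, htq q hq]
  have hu2C : u ^ 2 ∈ Subgroup.centralizer ((S : Subgroup G) : Set G) := by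
    rw [Subgroup.mem_centralizer_iff]
    intro x hx
    by_cases hxQ : x ∈ Subgroup.zpowers u
    · exact hqq x hxQ _ hu2Q
    · obtain ⟨q, hq, rfl⟩ := hform x hx hxQ
      rw [mul_assoc, hqq q hq _ hu2Q, ← mul_assoc, htq _ hu2Q, mul_assoc]
  obtain ⟨g, hg⟩ := h16_transfer hG u hu S hQS hS t ht2 htS htQ
  obtain ⟨n, hn, hnt⟩ := Cfsg.Agent.Helper79.Cop.burnside_fusion S htC hu2C hg
  have hvS : n * u * n⁻¹ ∈ (S : Subgroup G) :=
    (Subgroup.mem_normalizer_iff.1 hn u).1 (hQS (Subgroup.mem_zpowers u))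
  have hv4 : orderOf (n * u * n⁻¹) = 4 := by
    rw [Cfsg.Agent.Helper82.SV.h82_orderOf_conj, hu]
  have hvv1 : (n * u * n⁻¹) * (n * u * n⁻¹) ≠ 1 := by
    intro h
    have := orderOf_dvd_of_pow_eq_one (show (n * u * n⁻¹) ^ 2 = 1 by rw [pow_two]; exact h)
    rw [hv4] at this
    omega
  have hvv : (n * u * n⁻¹) * (n * u * n⁻¹) = u ^ 2 := by
    by_cases hvQ : n * u * n⁻¹ ∈ Subgroup.zpowers u
    · rcases h16_sq_Q u hu _ hvQ with h | h
      · exact absurd h hvv1
      · exact h
    · obtain ⟨q, hq, hvq⟩ := hform _ hvS hvQ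
      have h1 : (n * u * n⁻¹) * (n * u * n⁻¹) = q * q := by
        rw [hvq]
        calc t * q * (t * q) = t * (q * t) * q := by group
          _ = t * (t * q) * q := by rw [htq q hq]
          _ = (t * t) * (q * q) := by group
          _ = q * q := by rw [htt, one_mul]
      rcases h16_sq_Q u hu q hq with h | h
      · exact absurd (h1.trans h) hvv1
      · exact h1.trans h
  have hnu2 : n * u ^ 2 * n⁻¹ = u ^ 2 := by
    have h : n * u ^ 2 * n⁻¹ = (n * u * n⁻¹) * (n * u * n⁻¹) := by
      rw [pow_two]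
      group
    rw [h, hvv]
  have : t = u ^ 2 := by
    have h1 : n * t * n⁻¹ = n * u ^ 2 * n⁻¹ := by rw [hnt, hnu2]
    have h2 : n * t = n * u ^ 2 := mul_right_cancel h1
    exact mul_left_cancel h2
  exact htQ (this ▸ hu2Q)

/-- the dihedral element: an involution `w ∈ S` outside `⟨u⟩` inverting `u` -/
theorem h16_exists_w (u : G) (hu : orderOf u = 4) (S : Sylow 2 G)
    (hQS : Subgroup.zpowers u ≤ (S : Subgroup G)) (hS : Nat.card (S : Subgroup G) = 8) :
    ∃ w ∈ (S : Subgroup G), w ∉ Subgroup.zpowers u ∧ w * w = 1 ∧ w * u * w⁻¹ = u⁻¹ := by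
  have hna := h16_not_comm hG
  have heven : Even (Nat.card G) := by rw [hG]; decide
  have hu4 := h16_u4 u hu
  have hu2ne := h16_u2_ne u hu
  have huinv := h16_u_ne_inv u hu
  obtain ⟨s, hsS, hsQ⟩ := h16_exists_out u hu (S : Subgroup G) hQS hS
  have hss := h16_sq_mem u hu (S : Subgroup G) hQS hS s hsS
  -- every element of `S` outside `⟨u⟩` is `s * q`
  have hform : ∀ x ∈ (S : Subgroup G), x ∉ Subgroup.zpowers u →
      ∃ q ∈ Subgroup.zpowers u, x = s * q := by
    intro x hx hxQ
    refine ⟨s⁻¹ * x, h16_out_out u hu (S : Subgroup G) hQS hS s x hsS hx hsQ hxQ, ?_⟩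
    group
  -- a unique involution is impossible
  have huniq : (∀ x ∈ (S : Subgroup G), x ∉ Subgroup.zpowers u → x * x ≠ 1) → False := by
    intro hno
    apply Cfsg.Agent.Helper82.SV.h82_not_unique_involution hna heven S
    have hall : ∀ x ∈ (S : Subgroup G), orderOf x = 2 → x = u ^ 2 := by
      intro x hx hx2
      by_cases hxQ : x ∈ Subgroup.zpowers u
      · exact h16_invol_Q u hu x hxQ hx2
      · exfalso
        apply hno x hx hxQ
        rw [← pow_two, ← hx2]
        exact pow_orderOf_eq_one x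
    intro x hx y hy hx2 hy2
    rw [hall x hx hx2, hall y hy hy2]
  rcases h16_conj_u u hu (S : Subgroup G) hQS hS s hsS with hcomm | hinv
  · -- `s` centralizes `u`
    exfalso
    have hsu : s * u = u * s := by
      calc s * u = (s * u * s⁻¹) * s := by group
        _ = u * s := by rw [hcomm]
    have hsq : ∀ q ∈ Subgroup.zpowers u, s * q = q * s := by
      intro q hq
      obtain ⟨k, rfl⟩ := Subgroup.mem_zpowers_iff.1 hq
      exact ((Commute.zpow_right (show Commute s u from hsu) k)).eq
    have hodd : ∀ z : G, s * s = z → (z * 1 ≠ 1 ∧ z * u ^ 2 ≠ 1) → False := by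
      intro z hz hz1
      apply huniq
      intro x hx hxQ
      obtain ⟨q, hq, rfl⟩ := hform x hx hxQ
      have h1 : s * q * (s * q) = z * (q * q) := by
        calc s * q * (s * q) = s * (q * s) * q := by group
          _ = s * (s * q) * q := by rw [hsq q hq]
          _ = (s * s) * (q * q) := by group
          _ = z * (q * q) := by rw [hz]
      rw [h1]
      rcases h16_sq_Q u hu q hq with h | h
      · rw [h]; exact hz1.1
      · rw [h]; exact hz1.2
    rcases h16_cases u hu (s * s) hss with h1 | h1 | h1 | h1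
    · exact h16_abel_false hG u hu S hQS hS s hsS hsQ h1 hsu
    · refine hodd u h1 ⟨?_, ?_⟩
      · rw [mul_one]
        intro h
        rw [h, orderOf_one] at hu
        omega
      · rw [← pow_succ']
        intro h
        have := orderOf_dvd_of_pow_eq_one h
        rw [hu] at this
        omega
    · have hsuS : s * u ∈ (S : Subgroup G) := S.mul_mem hsS (hQS (Subgroup.mem_zpowers u))
      have hsuQ : s * u ∉ Subgroup.zpowers u :=
        h16_out_mul u hu (S : Subgroup G) hQS hS s u hsS hsQ (Subgroup.mem_zpowers u)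
      have htt : (s * u) * (s * u) = 1 := by
        calc s * u * (s * u) = s * (u * s) * u := by group
          _ = s * (s * u) * u := by rw [hsu]
          _ = (s * s) * (u * u) := by group
          _ = u ^ 2 * u ^ 2 := by rw [h1, pow_two]
          _ = 1 := by rw [← pow_add]; exact hu4
      have htu : (s * u) * u = u * (s * u) := by
        rw [← mul_assoc, ← hsu]
      exact h16_abel_false hG u hu S hQS hS (s * u) hsuS hsuQ htt htu
    · refine hodd u⁻¹ h1 ⟨?_, ?_⟩
      · rw [mul_one]
        intro h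
        rw [inv_eq_one] at h
        rw [h, orderOf_one] at hu
        omega
      · intro h
        have h2 : u ^ 2 = u := by
          calc u ^ 2 = u * (u⁻¹ * u ^ 2) := by group
            _ = u := by rw [h, mul_one]
        have h3 : u = 1 := by
          have : u * u = u * 1 := by rw [← pow_two, h2, mul_one]
          exact mul_left_cancel this
        rw [h3, orderOf_one] at hu
        omega
  · -- `s` inverts `u`
    have hsq : ∀ q ∈ Subgroup.zpowers u, s * q * s⁻¹ = q⁻¹ := by
      intro q hq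
      obtain ⟨k, rfl⟩ := Subgroup.mem_zpowers_iff.1 hq
      rw [← conj_zpow, hinv, inv_zpow]
    have hcss : s * (s * s) * s⁻¹ = s * s := by group
    rcases h16_cases u hu (s * s) hss with h1 | h1 | h1 | h1
    · exact ⟨s, hsS, hsQ, h1, hinv⟩
    · exfalso
      rw [h1, hinv] at hcss
      exact huinv hcss.symm
    · exfalso
      apply huniq
      intro x hx hxQ
      obtain ⟨q, hq, rfl⟩ := hform x hx hxQ
      have hqq : q⁻¹ * u ^ 2 * q = u ^ 2 := by
        obtain ⟨k, rfl⟩ := Subgroup.mem_zpowers_iff.1 hq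
        have hc : Commute (u ^ 2) (u ^ k) := ((Commute.refl u).pow_left 2).zpow_right k
        calc (u ^ k)⁻¹ * u ^ 2 * u ^ k = (u ^ k)⁻¹ * (u ^ 2 * u ^ k) := by group
          _ = (u ^ k)⁻¹ * (u ^ k * u ^ 2) := by rw [hc.eq]
          _ = u ^ 2 := by group
      have h2 : s * q * (s * q) = u ^ 2 := by
        calc s * q * (s * q) = (s * q * s⁻¹) * (s * s) * q := by group
          _ = q⁻¹ * u ^ 2 * q := by rw [hsq q hq, h1]
          _ = u ^ 2 := hqq
      rw [h2]
      exact hu2ne
    · exfalso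
      have h2 : s * u⁻¹ * s⁻¹ = u := by
        have := hsq u⁻¹ (Subgroup.inv_mem _ (Subgroup.mem_zpowers u))
        rw [inv_inv] at this
        exact this
      rw [h1, h2] at hcss
      exact huinv hcss

/-- (SYL2) S a Sylow 2 containing u (order 8). S abelian: N(S)/C(S) is a 2'-group of automorphisms of
Z8 or Z4×Z2, whose Aut is a 2-group, so N(S) = C(S), Burnside. S nonabelian:
Helper17.order8_dihedral_or_unique_involution; unique involution z: S0215 (Z*) gives z central, no. So
S ≅ D8, ⟨u⟩ its cyclic subgroup of index 2, w any involution of S outside ⟨u⟩: w u w⁻¹ = u⁻¹, and Thompson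
transfer S0111 with Q = ⟨u⟩: each involution w u^k (outside Q) is conjugate into Q, i.e. to u². Every
involution of G is conjugate into S, hence to u² or to some w u^k ~ u². -/
theorem sylow2 (u : G) (hu : orderOf u = 4) :
    ∃ w : G, orderOf w = 2 ∧ w * u * w⁻¹ = u⁻¹ ∧ (∀ k : ℕ, IsConj (w * u ^ k) (u ^ 2)) ∧
      ∀ t : G, orderOf t = 2 → IsConj t (u ^ 2) := by
  have hpQ : IsPGroup 2 (Subgroup.zpowers u) :=
    IsPGroup.of_card (n := 2) (by rw [Nat.card_zpowers, hu]; norm_num)
  obtain ⟨S, hQS⟩ := hpQ.exists_le_sylow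
  have hS : Nat.card (S : Subgroup G) = 8 := by
    have := Cfsg.Agent.Helper17.sylow_card_eq S (k := 3) (m := 315) (by rw [hG]; norm_num) (by norm_num)
    rw [this]
    norm_num
  obtain ⟨w, hwS, hwQ, hww, hwu⟩ := h16_exists_w hG u hu S hQS hS
  have hinvol : ∀ t : G, t ∈ (S : Subgroup G) → t ∉ Subgroup.zpowers u → t * t = 1 →
      IsConj t (u ^ 2) := by
    intro t htS htQ htt
    have ht1 : t ≠ 1 := fun h => htQ (h ▸ Subgroup.one_mem _)
    have ht2 : orderOf t = 2 := orderOf_eq_prime (by rw [pow_two]; exact htt) ht1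
    obtain ⟨g, hg⟩ := h16_transfer hG u hu S hQS hS t ht2 htS htQ
    exact isConj_iff.2 ⟨g, hg⟩
  have hwk : ∀ k : ℕ, w * u ^ k ∈ (S : Subgroup G) ∧ w * u ^ k ∉ Subgroup.zpowers u ∧
      (w * u ^ k) * (w * u ^ k) = 1 := by
    intro k
    have hkQ : u ^ k ∈ Subgroup.zpowers u := Subgroup.pow_mem _ (Subgroup.mem_zpowers u) k
    refine ⟨S.mul_mem hwS (hQS hkQ),
      h16_out_mul u hu (S : Subgroup G) hQS hS w (u ^ k) hwS hwQ hkQ, ?_⟩
    have hc : w * u ^ k * w⁻¹ = (u ^ k)⁻¹ := by
      rw [← conj_pow, hwu, inv_pow]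
    calc w * u ^ k * (w * u ^ k) = (w * u ^ k * w⁻¹) * (w * w) * u ^ k := by group
      _ = 1 := by rw [hc, hww, mul_one, inv_mul_cancel]
  have hw1 : w ≠ 1 := fun h => hwQ (h ▸ Subgroup.one_mem _)
  refine ⟨w, orderOf_eq_prime (by rw [pow_two]; exact hww) hw1, hwu, ?_, ?_⟩
  · intro k
    obtain ⟨h1, h2, h3⟩ := hwk k
    exact hinvol _ h1 h2 h3
  · intro t ht2
    have hpT : IsPGroup 2 (Subgroup.zpowers t) :=
      IsPGroup.of_card (n := 1) (by rw [Nat.card_zpowers, ht2]; norm_num)
    obtain ⟨S', hTS'⟩ := hpT.exists_le_sylow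
    obtain ⟨g, hg⟩ := MulAction.exists_smul_eq G S' S
    have htS' : t ∈ (S' : Subgroup G) := hTS' (Subgroup.mem_zpowers t)
    have hgt : g * t * g⁻¹ ∈ (S : Subgroup G) := by
      rw [← hg, Sylow.coe_subgroup_smul, Subgroup.mem_pointwise_smul_iff_inv_smul_mem]
      simpa [MulAut.smul_def, mul_assoc] using htS'
    have hc1 : IsConj t (g * t * g⁻¹) := isConj_iff.2 ⟨g, rfl⟩
    have ho : orderOf (g * t * g⁻¹) = 2 := by
      rw [Cfsg.Agent.Helper82.SV.h82_orderOf_conj, ht2]
    by_cases hQ : g * t * g⁻¹ ∈ Subgroup.zpowers u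
    · rw [h16_invol_Q u hu _ hQ ho] at hc1
      exact hc1
    · have htt : (g * t * g⁻¹) * (g * t * g⁻¹) = 1 := by
        rw [← pow_two, ← ho]
        exact pow_orderOf_eq_one _
      exact hc1.trans (hinvol _ hgt hQ htt)

end grp

end Cfsg.Agent.Helper16.O2520
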