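import Mathlib
import Cfsg.Agent.Lib.Helper87.SVKit

/-!
# S1022 (order 459648 = 2^7 * 3^3 * 7 * 19), helper53's server O459648, piece (D): Sylow 19 data

`n_19 ∣ 24192`, `n_19 ≡ 1 (mod 19)`, `n_19 > 1`, so `n_19 ∈ {96, 1008}`; and for every Sylow
19-subgroup `P`, `|C(P)| * e * n_19 = 459648` with `e ∣ 18`, `e ≠ 1`.
-/

set_option autoImplicit false

namespace Cfsg.Agent.Helper16.O459648

/-- the divisors of `24192 = 2^7 * 3^3 * 7` that are `1 mod 19` are `1`, `96`, `1008` -/
theorem dvd_24192_mod_19 (d : ℕ) (hd : d ∣ 24192) (h19 : d % 19 = 1) (h1 : 1 < d) :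
    d = 96 ∨ d = 1008 := by
  obtain ⟨c, hc⟩ := hd
  by_cases hdle : d ≤ 155
  · interval_cases d <;> omega
  · have hcle : c ≤ 155 := by
      by_contra hcon
      have h1 : 156 ≤ d := by omega
      have h2 : 156 ≤ c := by omega
      have := Nat.mul_le_mul h1 h2
      omega
    interval_cases c <;> omega

/-- (D) `h87_data` with `p = 19`, `m = 24192`; the divisors of 24192 that are 1 mod 19 are 1, 96, 1008 -/
theorem data {G : Type*} [Group G] [Finite G] [IsSimpleGroup G] (hG : Nat.card G = 459648) :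
    (∀ P : Sylow 19 G, Nat.card (P : Subgroup G) = 19) ∧
    (Nat.card (Sylow 19 G) = 96 ∨ Nat.card (Sylow 19 G) = 1008) ∧
    ∀ P : Sylow 19 G, ∃ e : ℕ, e ∣ 18 ∧ e ≠ 1 ∧
      Nat.card (Subgroup.centralizer ((P : Subgroup G) : Set G)) * e * Nat.card (Sylow 19 G) =
        459648 := by
  by_cases hna : IsMulCommutative G
  · exfalso
    have hp : (Nat.card G).Prime := by
      let _ : CommGroup G := { ‹Group G› with mul_comm := hna.is_comm.comm }
      exact IsSimpleGroup.prime_card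
    rw [hG] at hp
    norm_num at hp
  have h19 : Fact (Nat.Prime 19) := ⟨by norm_num⟩
  have hn19 : Nat.card G = 19 ^ 1 * 24192 := by rw [hG]; norm_num
  obtain ⟨hP19, -, hdvd, hmod, -, hone, he19⟩ :=
    Cfsg.Agent.Helper87.SV.h87_data hna 19 24192 (by norm_num) hn19 (by norm_num)
  refine ⟨hP19, dvd_24192_mod_19 _ hdvd hmod hone, ?_⟩
  intro P
  obtain ⟨e, hea, heb, hec⟩ := he19 P
  refine ⟨e, ?_, heb, ?_⟩
  · have h18 : 19 - 1 = 18 := by norm_num
    rw [h18] at hea
    exact hea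
  · rw [hec]

end Cfsg.Agent.Helper16.O459648
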