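import Mathlib
import Cfsg.Agent.Lib.Helper87.SVKit
import Cfsg.Agent.Lib.Helper16.O459648_D

/-!
# S1022 (order 459648), helper53's server O459648, piece (NC): `|N(P)| = 456`, `|C(P)| ∈ {76,152,228}`
-/

set_option autoImplicit false

namespace Cfsg.Agent.Helper16.O459648

/-- (NC) from (D): `|N| = 459648 / 1008 = 456` and `|C| * e = 456`, `e ∈ {2,3,6,9,18}`, `e ∣ 456` -/
theorem cardNC {G : Type*} [Group G] [Finite G] [IsSimpleGroup G] (hG : Nat.card G = 459648)
    (h1008 : Nat.card (Sylow 19 G) = 1008) (P : Sylow 19 G) :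
    Nat.card (Subgroup.normalizer ((P : Subgroup G) : Set G)) = 456 ∧
    (Nat.card (Subgroup.centralizer ((P : Subgroup G) : Set G)) = 76 ∨
     Nat.card (Subgroup.centralizer ((P : Subgroup G) : Set G)) = 152 ∨
     Nat.card (Subgroup.centralizer ((P : Subgroup G) : Set G)) = 228) := by
  have h19 : Fact (Nat.Prime 19) := ⟨by norm_num⟩
  refine ⟨?_, ?_⟩
  · rw [Cfsg.Agent.Helper87.SV.h87_card_normalizer P, hG, h1008]
  · obtain ⟨-, -, he19⟩ := data hG
    obtain ⟨e, hea, heb, hec⟩ := he19 P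
    rw [h1008] at hec
    have hele : e ≤ 18 := Nat.le_of_dvd (by norm_num) hea
    generalize Nat.card (Subgroup.centralizer ((P : Subgroup G) : Set G)) = c at hec ⊢
    interval_cases e <;> omega

end Cfsg.Agent.Helper16.O459648
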