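import Mathlib
import Cfsg.Prelude.Def_Spor_Fi22
import Cfsg.Prelude.Def_Classical
import Cfsg.Agent.Lib.Helper27.Fi22.Tower
import Cfsg.Agent.Lib.Helper27.Fi22.Simple

/-!
Piece (PRES) of lead's lemma server "O73" (row S1686): the presented group `A1` of helper27's tower is
isomorphic to the subgroup `⟨b,…,i⟩` of the presented `Fi22`, and has order `4585351680`.
-/

set_option autoImplicit false
set_option maxRecDepth 100000

namespace Cfsg.Agent.Helper16.O73

open Cfsg.Spor.Fi22 (Gen)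

/-- the presented group A1 of helper27's tower -/
abbrev A1G : Type := PresentedGroup Cfsg.Agent.Helper27.Fi22TC.A1.D.rels

/-- the subgroup of statement S1686 -/
abbrev K : Subgroup (PresentedGroup (Cfsg.Spor.coxRelators Cfsg.Spor.Fi22.edges ∪ {r | r ∈ Cfsg.Spor.Fi22.extra})) :=
  (Subgroup.closure ({Cfsg.Spor.Fi22.b, Cfsg.Spor.Fi22.c, Cfsg.Spor.Fi22.d, Cfsg.Spor.Fi22.e, Cfsg.Spor.Fi22.f,
    Cfsg.Spor.Fi22.g, Cfsg.Spor.Fi22.h, Cfsg.Spor.Fi22.i} : Set (FreeGroup Cfsg.Spor.Fi22.Gen))).map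
    (PresentedGroup.mk (Cfsg.Spor.coxRelators Cfsg.Spor.Fi22.edges ∪ {r | r ∈ Cfsg.Spor.Fi22.extra}))

/-- (PRES) `A1G ≃* K` and `|A1G| = 4585351680`. -/
theorem pres : Nat.card A1G = 4585351680 ∧ Nonempty (A1G ≃* K) := by
  obtain ⟨hf, hc⟩ := Cfsg.Agent.Helper27.Fi22Tower.card_A1
  obtain ⟨f, hff⟩ := Cfsg.Agent.Helper27.Fi22Tower.hom_A1_Fi22
  have hH : K ≤ f.range :=
    Cfsg.Agent.Helper27.Fi22Glue.map_closure_le_range Cfsg.Agent.Helper28.S1685.rels
      Cfsg.Agent.Helper27.Fi22Tower.liveA1 f (fun x => PresentedGroup.of x) hff _ (by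
      intro s hs
      simp only [Set.mem_insert_iff, Set.mem_singleton_iff] at hs
      rcases hs with rfl | rfl | rfl | rfl | rfl | rfl | rfl | rfl
      · exact ⟨Gen.b, rfl, rfl⟩
      · exact ⟨Gen.c, rfl, rfl⟩
      · exact ⟨Gen.d, rfl, rfl⟩
      · exact ⟨Gen.e, rfl, rfl⟩
      · exact ⟨Gen.f, rfl, rfl⟩
      · exact ⟨Gen.g, rfl, rfl⟩
      · exact ⟨Gen.h, rfl, rfl⟩
      · exact ⟨Gen.i, rfl, rfl⟩)
  have hfinFi : Finite Cfsg.Spor.Fi22 := Cfsg.Agent.Helper27.Fi22.finite_Fi22
  have hfinFi' : Finite (PresentedGroup Cfsg.Agent.Helper28.S1685.rels) := hfinFi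
  have hcardFi : Nat.card (PresentedGroup Cfsg.Agent.Helper28.S1685.rels) = 64561751654400 :=
    Cfsg.Agent.Helper27.Fi22.card_eq
  have hidx : K.index = 14080 := Cfsg.Agent.S1685.result
  have hK : Nat.card K * 14080 = 64561751654400 := by
    rw [← hidx, ← hcardFi]
    exact Subgroup.card_mul_index K
  have hKc : Nat.card K = 4585351680 := by omega
  have hA1le : Nat.card A1G ≤ 4585351680 := by
    have : 364 * (243 * (72 * 720)) = 4585351680 := by norm_num
    rw [← this]
    exact hc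
  have hrange_le : Nat.card f.range ≤ Nat.card A1G :=
    Nat.card_le_card_of_surjective f.rangeRestrict f.rangeRestrict_surjective
  have hK_le : Nat.card K ≤ Nat.card f.range := Subgroup.card_le_of_le hH
  have hA1 : Nat.card A1G = 4585351680 :=
    le_antisymm hA1le (by rw [← hKc]; exact hK_le.trans hrange_le)
  have hrange : Nat.card f.range = Nat.card A1G :=
    le_antisymm hrange_le (by rw [hA1, ← hKc]; exact hK_le)
  have hinj : Function.Injective f := by
    have hbij : Function.Bijective f.rangeRestrict :=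
      (Nat.bijective_iff_surjective_and_card f.rangeRestrict).2
        ⟨f.rangeRestrict_surjective, hrange.symm⟩
    intro x y hxy
    apply hbij.1
    exact Subtype.ext hxy
  have h3 : Nat.card f.range ≤ Nat.card K := by
    rw [hKc]
    exact hrange_le.trans hA1le
  have hrK : K = f.range := Subgroup.eq_of_le_of_card_ge hH h3
  exact ⟨hA1, ⟨(MonoidHom.ofInjective hinj).trans (MulEquiv.subgroupCongr hrK.symm)⟩⟩

end Cfsg.Agent.Helper16.O73
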