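import Mathlib
import Cfsg.Agent.Lib.Helper84.O7Defs
import Cfsg.Agent.Lib.Helper16.O73PRES

/-!
Piece (ISO) of helper84's lemma server "O7F" (row S1686): `A1G ≃* K` and `|A1G| = 4585351680`.
-/

set_option autoImplicit false

namespace Cfsg.Agent.Helper16.O7F

open Cfsg.Agent.Helper84.O7
open Cfsg.Spor.Fi22 (Gen)
open Matrix

/-- (ISO) `A1G ≃* K` and `|A1G| = 4585351680`. -/
theorem iso_A1_K : Nonempty (A1G ≃* ↥K) ∧ Nat.card A1G = 4585351680 :=
  ⟨Cfsg.Agent.Helper16.O73.pres.2, Cfsg.Agent.Helper16.O73.pres.1⟩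

end Cfsg.Agent.Helper16.O7F
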