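import Cfsg.Agent.S4717
import Cfsg.Agent.Lib.Helper16.Osima
import Cfsg.Agent.Lib.Helper79.Orthogonality

set_option autoImplicit false
set_option linter.style.haveILetI false
set_option linter.unusedSectionVars false
open Cfsg

/-!
# Column sums over the principal block

For a `p`-element `u`, the sum of `|χ(u)|²` over the principal block of `G` is the sum of the
squared degrees over the principal block of `C_G(u)` (Brauer's second and third main theorems).
-/

namespace Cfsg.Agent.Helper16

open scoped ComplexConjugate
open Cfsg.Agent.Helper77 Cfsg.Agent.Helper78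

section

variable {G : Type*} [Group G] [Fintype G] {p : ℕ} {M : Ideal AlgInt}

/-- The principal block of `C_G(u)` induces the principal block of `G`. -/
theorem isInducedBlock_principal_centralizer [Fact p.Prime] (hM : IsPModular p M) (u : G)
    (hu : ∃ k : ℕ, orderOf u = p ^ k) :
    IsInducedBlock M (Subgroup.centralizer ({u} : Set G))
      (principalBlock M (Subgroup.centralizer ({u} : Set G))) (principalBlock M G) := by
  classical
  haveI : Fintype (Subgroup.centralizer ({u} : Set G)) := Fintype.ofFinite _
  obtain ⟨B', hind⟩ := exists_isInducedBlock_centralizer hM u hu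
    (isPBlock_principalBlock M (G := Subgroup.centralizer ({u} : Set G)))
  have hQ := Cfsg.Agent.S4717.isPGroup_zpowers (p := p) u hu
  have hiff := Cfsg.Agent.S4717.principal_iff_of_isInducedBlock hM (Subgroup.zpowers u) hQ _
    (Cfsg.Agent.S4717.centralizer_singleton_eq_zpowers u) hind
  rw [hiff.2 rfl] at hind
  exact hind

open scoped Classical in
/-- The idempotent of the principal block of `C_G(u)` cuts out the principal block on the
section of `u`. -/
theorem sum_blockCoeff_principal_mul [Fact p.Prime] (hM : IsPModular p M) (u : G)
    (hu : ∃ k : ℕ, orderOf u = p ^ k) [Fintype (Subgroup.centralizer ({u} : Set G))]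
    (χ : IrrCharacter G) :
    ∑ k : Subgroup.centralizer ({u} : Set G),
        blockCoeff (principalBlock M (Subgroup.centralizer ({u} : Set G))) k *
          (χ : G → ℂ) ((k : G) * u) =
      if χ ∈ principalBlock M G then (χ : G → ℂ) u else 0 := by
  haveI hpr := isPrime_of_isPModular hM
  have hp : p.Prime := hM.1
  have huC : u ∈ Subgroup.centralizer ({u} : Set G) := (mem_centralizer_singleton_iff' u u).2 rfl
  have hpart : IsPPart p ((⟨u, huC⟩ : Subgroup.centralizer ({u} : Set G)) : G) u :=
    ⟨1, mul_one u, Commute.one_right u, hu, by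
      rw [orderOf_one]; exact fun h => hp.one_lt.ne' (Nat.dvd_one.1 h)⟩
  have hC : ∀ z : G, IsPPart p ((⟨u, huC⟩ : Subgroup.centralizer ({u} : Set G)) : G) z →
      Subgroup.centralizer ({z} : Set G) ≤ Subgroup.centralizer ({u} : Set G) := by
    intro z hz
    rw [isPPart_unique hp hz hpart]
  have hQ := Cfsg.Agent.S4717.isPGroup_zpowers (p := p) u hu
  by_cases hχ : χ ∈ principalBlock M G
  · rw [if_pos hχ]
    -- decompose along all blocks of the centralizer
    have hall := sum_blockCoeff_allBlocks (M := M) (G := Subgroup.centralizer ({u} : Set G))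
    have h1 : (χ : G → ℂ) u = ∑ b ∈ allBlocks M (Subgroup.centralizer ({u} : Set G)),
        ∑ k : Subgroup.centralizer ({u} : Set G), blockCoeff b k * (χ : G → ℂ) ((k : G) * u) := by
      rw [Finset.sum_comm]
      simp_rw [← Finset.sum_mul]
      have hk : ∀ k : Subgroup.centralizer ({u} : Set G),
          ∑ b ∈ allBlocks M (Subgroup.centralizer ({u} : Set G)), blockCoeff b k = delta k := by
        intro k
        rw [← hall, Finset.sum_apply]
      simp_rw [hk]
      unfold delta
      simp
    rw [h1]
    symm
    apply Finset.sum_eq_single_of_mem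
    · exact mem_allBlocks.2 (isPBlock_principalBlock M)
    · intro b hb hbne
      rw [mem_allBlocks] at hb
      obtain ⟨B', hind⟩ := exists_isInducedBlock_centralizer hM u hu hb
      have hiff := Cfsg.Agent.S4717.principal_iff_of_isInducedBlock hM (Subgroup.zpowers u) hQ _
        (Cfsg.Agent.S4717.centralizer_singleton_eq_zpowers u) hind
      have hB'ne : B' ≠ principalBlock M G := fun h => hbne (hiff.1 h)
      have hχB' : χ ∉ B' := fun h =>
        hB'ne (eq_of_isPBlock_of_mem hind.2.1 (isPBlock_principalBlock M) h hχ)
      exact second_main_idem hM _ hind ⟨u, huC⟩ hC χ hχB'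
  · rw [if_neg hχ]
    exact second_main_idem hM _ (isInducedBlock_principal_centralizer hM u hu) ⟨u, huC⟩ hC χ hχ

open scoped Classical in
/-- **Column sum over the principal block** at a `p`-element `u`: `∑ |χ(u)|²` over the principal
block of `G` equals `|C_G(u)|` times the coefficient at `1` of the principal block idempotent of
`C_G(u)`. -/
theorem sum_mul_conj_principal [Fact p.Prime] (hM : IsPModular p M) (u : G)
    (hu : ∃ k : ℕ, orderOf u = p ^ k) [Fintype (Subgroup.centralizer ({u} : Set G))] :
    ∑ χ ∈ Finset.univ.filter (fun χ : IrrCharacter G => χ ∈ principalBlock M G),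
        (χ : G → ℂ) u * conj ((χ : G → ℂ) u) =
      (Nat.card (Subgroup.centralizer ({u} : Set G)) : ℂ) *
        blockCoeff (principalBlock M (Subgroup.centralizer ({u} : Set G))) 1 := by
  haveI hpr := isPrime_of_isPModular hM
  have hp : p.Prime := hM.1
  rw [Finset.sum_filter]
  have h1 : ∀ χ : IrrCharacter G,
      (if χ ∈ principalBlock M G then (χ : G → ℂ) u * conj ((χ : G → ℂ) u) else 0) =
        (∑ k : Subgroup.centralizer ({u} : Set G),
          blockCoeff (principalBlock M (Subgroup.centralizer ({u} : Set G))) k *
            (χ : G → ℂ) ((k : G) * u)) * conj ((χ : G → ℂ) u) := by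
    intro χ
    rw [sum_blockCoeff_principal_mul hM u hu χ]
    split_ifs <;> simp
  simp_rw [h1, Finset.sum_mul]
  rw [Finset.sum_comm]
  have h2 : ∀ k : Subgroup.centralizer ({u} : Set G),
      ∑ χ : IrrCharacter G,
          blockCoeff (principalBlock M (Subgroup.centralizer ({u} : Set G))) k *
            (χ : G → ℂ) ((k : G) * u) * conj ((χ : G → ℂ) u) =
        blockCoeff (principalBlock M (Subgroup.centralizer ({u} : Set G))) k *
          ∑ χ : IrrCharacter G, (χ : G → ℂ) ((k : G) * u) * conj ((χ : G → ℂ) u) := by
    intro k
    rw [Finset.mul_sum]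
    refine Finset.sum_congr rfl fun χ _ => ?_
    ring
  simp_rw [h2]
  rw [Finset.sum_eq_single (1 : Subgroup.centralizer ({u} : Set G))]
  · rw [Subgroup.coe_one, one_mul, Cfsg.Agent.Helper79.col_orth_self, mul_comm]
  · intro k _ hk1
    by_cases hk : p ∣ orderOf k
    · rw [blockCoeff_eq_zero_of_singular hM (isPBlock_principalBlock M) k hk, zero_mul]
    · have hnc : ¬ IsConj ((k : G) * u) u := by
        intro hc
        have hord : orderOf ((k : G) * u) = orderOf u := by
          obtain ⟨c, hc⟩ := isConj_iff.1 hc
          have : c * ((k : G) * u) * c⁻¹ = MulAut.conj c ((k : G) * u) := by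
            simp [MulAut.conj_apply]
          have h3 : orderOf (c * ((k : G) * u) * c⁻¹) = orderOf ((k : G) * u) := by
            rw [this]
            exact orderOf_injective (MulAut.conj c).toMonoidHom (MulAut.conj c).injective _
          rw [hc] at h3
          exact h3.symm
        have hcomm : Commute (k : G) u :=
          ((mem_centralizer_singleton_iff' u (k : G)).1 k.2).symm
        obtain ⟨j, hj⟩ := hu
        have hcop : (orderOf (k : G)).Coprime (orderOf u) := by
          rw [hj]
          apply Nat.Coprime.pow_right
          rw [Nat.coprime_comm, Nat.Prime.coprime_iff_not_dvd hp, Subgroup.orderOf_coe]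
          exact hk
        rw [hcomm.orderOf_mul_eq_mul_orderOf_of_coprime hcop] at hord
        have hupos : 0 < orderOf u := orderOf_pos u
        have hk1' : orderOf (k : G) = 1 := by
          have := Nat.eq_of_mul_eq_mul_right hupos (by rw [hord, one_mul] :
            orderOf (k : G) * orderOf u = 1 * orderOf u)
          exact this
        rw [Subgroup.orderOf_coe, orderOf_eq_one_iff] at hk1'
        exact hk1 hk1'
      rw [Cfsg.Agent.Helper79.col_orth_of_not_isConj _ _ hnc, mul_zero]
  · intro h
    exact absurd (Finset.mem_univ _) h

end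

end Cfsg.Agent.Helper16
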