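import Mathlib
import Cfsg.Agent.Lib.Helper87.Psu3Defs

/-!
# PSU3F server of helper87 (S5319): shared core for the pieces (SCU1) and (SCU3)

Basic facts on `tau`, `P2`, `S2`, `S3`, a column criterion for membership in `SU₃(q)`, and the
"every involution of `S3U` lies in a strongly closed subgroup" argument, transported to `GL₂`.
-/

set_option autoImplicit false

namespace Cfsg.Agent.Helper16.Psu3

open Matrix Cfsg Cfsg.Agent.Helper87.Psl3 Cfsg.Agent.Helper87.Psu3

variable {K : Type*} [Field K] {q : ℕ}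

local notation "SL3" => Matrix.SpecialLinearGroup (Fin 3) K
local notation "GL2" => GL (Fin 2) K

/-! ### general facts on `tau`, `P2`, `S2`, `S3` (as in the PSL3F pieces) -/

theorem h16_tau_mul_tau : (tau : GL2) * tau = 1 := by
  apply Units.ext
  rw [Units.val_mul, tau_val, Units.val_one]
  ext i j
  fin_cases i <;> fin_cases j <;> simp [Matrix.mul_apply, Fin.sum_univ_two]

theorem h16_tau_inv : (tau : GL2)⁻¹ = tau := inv_eq_of_mul_eq_one_right h16_tau_mul_tau

/-- the matrix of `M * tau` for `M = rot a b`. -/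
theorem h16_mul_tau_val (M : GL2) (a b : K) (h : (M : Matrix (Fin 2) (Fin 2) K) = rot a b) :
    ((M * tau : GL2) : Matrix (Fin 2) (Fin 2) K) = !![a, -b; -b, -a] := by
  rw [Units.val_mul, h, tau_val]
  ext i j
  fin_cases i <;> fin_cases j <;> simp [rot, Matrix.mul_apply, Fin.sum_univ_two]

theorem h16_sq_val (a b : K) :
    (!![a, -b; -b, -a] : Matrix (Fin 2) (Fin 2) K) * !![a, -b; -b, -a] =
      (a * a + b * b) • (1 : Matrix (Fin 2) (Fin 2) K) := by
  ext i j
  fin_cases i <;> fin_cases j <;> simp [Matrix.mul_apply, Fin.sum_univ_two] <;> ring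

/-- conjugation by `tau` on the torus. -/
theorem h16_tau_conj_val (X : GL2) (a b : K) (h : (X : Matrix (Fin 2) (Fin 2) K) = rot a b) :
    ((tau * X * tau⁻¹ : GL2) : Matrix (Fin 2) (Fin 2) K) = rot a (-b) := by
  rw [h16_tau_inv, Units.val_mul, Units.val_mul, h, tau_val]
  ext i j
  fin_cases i <;> fin_cases j <;> simp [rot, Matrix.mul_apply, Fin.sum_univ_two]

theorem h16_tau_conj_mem_P2 {X : GL2} (h : X ∈ P2) : tau * X * tau⁻¹ ∈ P2 := by
  obtain ⟨hE, m, hm⟩ := h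
  obtain ⟨a, b, hab⟩ := (mem_Eu_iff X).1 hE
  refine ⟨(mem_Eu_iff _).2 ⟨a, -b, h16_tau_conj_val X a b hab⟩, m, ?_⟩
  rw [conj_pow, hm, mul_one, mul_inv_cancel]

theorem h16_tau_mem_normalizer :
    (tau : GL2) ∈ Subgroup.normalizer ((P2 : Subgroup GL2) : Set GL2) := by
  rw [Subgroup.mem_normalizer_iff]
  intro X
  constructor
  · exact h16_tau_conj_mem_P2
  · intro h
    have h1 := h16_tau_conj_mem_P2 h
    have h2 : tau * (tau * X * tau⁻¹) * tau⁻¹ = X := by
      rw [h16_tau_inv]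
      calc tau * (tau * X * tau) * tau = (tau * tau) * X * (tau * tau) := by group
        _ = X := by rw [h16_tau_mul_tau, one_mul, mul_one]
    rwa [h2] at h1

theorem h16_isPGroup_P2 : IsPGroup 2 (P2 : Subgroup GL2) := by
  rintro ⟨X, hE, m, hm⟩
  exact ⟨m, Subtype.ext hm⟩

theorem h16_isPGroup_tau : IsPGroup 2 (Subgroup.zpowers (tau : GL2)) := by
  rintro ⟨X, hX⟩
  refine ⟨1, Subtype.ext ?_⟩
  obtain ⟨k, rfl⟩ := Subgroup.mem_zpowers_iff.1 hX
  show (tau ^ k) ^ 2 ^ 1 = 1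
  rw [pow_one, ← zpow_natCast, ← _root_.zpow_mul, mul_comm, _root_.zpow_mul, zpow_natCast, pow_two,
    h16_tau_mul_tau, _root_.one_zpow]

theorem h16_isPGroup_S2 : IsPGroup 2 (S2 : Subgroup GL2) := by
  unfold S2
  refine IsPGroup.to_sup_of_normal_left' h16_isPGroup_P2 h16_isPGroup_tau ?_
  rw [Subgroup.zpowers_le]
  exact h16_tau_mem_normalizer

theorem h16_isPGroup_S3 : IsPGroup 2 (S3 : Subgroup SL3) := by
  unfold S3
  exact h16_isPGroup_S2.map iota

theorem h16_isPGroup_S3U : IsPGroup 2 (S3U q : Subgroup ↥(Cfsg.SU 3 K q)) := by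
  unfold S3U
  exact h16_isPGroup_S3.comap_subtype

theorem h16_tau_mem_S2 : (tau : GL2) ∈ S2 :=
  (le_sup_right : Subgroup.zpowers tau ≤ S2) (Subgroup.mem_zpowers tau)

theorem h16_P2_le_S2 : (P2 : Subgroup GL2) ≤ S2 := le_sup_left

theorem h16_conj_tau_tau (y : GL2) : (tau : GL2) * (tau * y * tau) = y * tau := by
  rw [← mul_assoc, ← mul_assoc, h16_tau_mul_tau, one_mul]

/-- the set `P2 ∪ P2 * tau` as a subgroup -/
def h16_PT : Subgroup GL2 where
  carrier := {X | X ∈ P2 ∨ X * tau ∈ P2}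
  one_mem' := Or.inl P2.one_mem
  mul_mem' := by
    rintro x y (hx | hx) (hy | hy)
    · exact Or.inl (P2.mul_mem hx hy)
    · right
      rw [mul_assoc]
      exact P2.mul_mem hx hy
    · right
      have : x * y * tau = (x * tau) * (tau * y * tau⁻¹) := by
        rw [h16_tau_inv, mul_assoc x tau, h16_conj_tau_tau, mul_assoc]
      rw [this]
      exact P2.mul_mem hx (h16_tau_conj_mem_P2 hy)
    · left
      have : x * y = (x * tau) * (tau * (y * tau) * tau⁻¹) := by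
        rw [h16_tau_inv, mul_assoc x tau, h16_conj_tau_tau, mul_assoc y, h16_tau_mul_tau, mul_one]
      rw [this]
      exact P2.mul_mem hx (h16_tau_conj_mem_P2 hy)
  inv_mem' := by
    rintro x (hx | hx)
    · exact Or.inl (P2.inv_mem hx)
    · right
      have : x⁻¹ * tau = tau * (x * tau)⁻¹ * tau⁻¹ := by
        rw [_root_.mul_inv_rev, h16_tau_inv, ← mul_assoc, h16_tau_mul_tau, one_mul]
      rw [this]
      exact h16_tau_conj_mem_P2 (P2.inv_mem hx)

theorem h16_mem_S2 {X : GL2} (hX : X ∈ S2) : X ∈ P2 ∨ X * tau ∈ P2 := by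
  have hle : (S2 : Subgroup GL2) ≤ h16_PT := by
    refine sup_le (fun x hx => Or.inl hx) ?_
    rw [Subgroup.zpowers_le]
    right
    rw [h16_tau_mul_tau]
    exact P2.one_mem
  exact hle hX

theorem h16_iota_injective : Function.Injective (iota : GL2 →* SL3) := by
  intro X Y h
  have h1 : iotaMat X = iotaMat Y := by
    have := congrArg (fun g : SL3 => (g : Matrix (Fin 3) (Fin 3) K)) h
    simpa using this
  apply Units.ext
  have e00 := congrFun (congrFun h1 0) 0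
  have e01 := congrFun (congrFun h1 0) 1
  have e10 := congrFun (congrFun h1 1) 0
  have e11 := congrFun (congrFun h1 1) 1
  simp [iotaMat] at e00 e01 e10 e11
  ext i j
  fin_cases i <;> fin_cases j
  · exact e00
  · exact e01
  · exact e10
  · exact e11

theorem h16_det_rot (a b : K) : (rot a b).det = a * a + b * b := by
  rw [rot, Matrix.det_fin_two_of]
  ring

/-- the matrix of `iota X` for `X = rot a b`. -/
theorem h16_iotaMat_rot (X : GL2) (a b : K) (h : (X : Matrix (Fin 2) (Fin 2) K) = rot a b) :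
    iotaMat X = !![a, b, 0; -b, a, 0; 0, 0, (a * a + b * b)⁻¹] := by
  have hd : ((Matrix.GeneralLinearGroup.det X : Kˣ) : K) = a * a + b * b := by
    show (X : Matrix (Fin 2) (Fin 2) K).det = _
    rw [h, h16_det_rot]
  have hd' : (((Matrix.GeneralLinearGroup.det X : Kˣ)⁻¹ : Kˣ) : K) = (a * a + b * b)⁻¹ := by
    rw [Units.val_inv_eq_inv_val, hd]
  unfold iotaMat
  rw [hd', h]
  ext i j
  fin_cases i <;> fin_cases j <;> simp [rot]

/-! ### the Frobenius and a column criterion for membership in `SU₃(q)` -/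

section Unitary

variable [Fintype K]

theorem h16_exists_char_pow (hK : Fintype.card K = q ^ 2) :
    ∃ (p m : ℕ), p.Prime ∧ CharP K p ∧ q = p ^ m := by
  obtain ⟨p, hc, n, hp, hn⟩ := FiniteField.card' K
  have hq : q ∣ p ^ (n : ℕ) := by
    rw [← hn, hK]; exact Dvd.intro_left (q ^ 1) (by ring)
  obtain ⟨m, -, hm⟩ := (Nat.dvd_prime_pow hp).mp hq
  exact ⟨p, m, hp, hc, hm⟩

theorem h16_q_ne_zero (hK : Fintype.card K = q ^ 2) : q ≠ 0 := by
  rintro rfl
  have : 0 < Fintype.card K := Fintype.card_pos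
  rw [hK] at this
  simp at this

/-- the Frobenius `x ↦ x^q` as a ring hom -/
noncomputable def frobK (hK : Fintype.card K = q ^ 2) : K →+* K where
  toFun x := x ^ q
  map_one' := one_pow q
  map_mul' x y := mul_pow x y q
  map_zero' := zero_pow (h16_q_ne_zero hK)
  map_add' x y := by
    obtain ⟨p, m, hp, hc, rfl⟩ := h16_exists_char_pow hK
    have := Fact.mk hp
    exact add_pow_char_pow x y p m

theorem frobK_apply (hK : Fintype.card K = q ^ 2) (x : K) : frobK hK x = x ^ q := rfl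

theorem frobK_frobK (hK : Fintype.card K = q ^ 2) (x : K) : frobK hK (frobK hK x) = x := by
  rw [frobK_apply, frobK_apply, ← pow_mul, ← sq, ← hK, FiniteField.pow_card]

theorem h16_two_ne_zero (hK : Fintype.card K = q ^ 2) (hodd : q % 2 = 1) : (2 : K) ≠ 0 := by
  obtain ⟨p, m, hp, hc, rfl⟩ := h16_exists_char_pow hK
  intro h
  have h1 : ((2 : ℕ) : K) = 0 := by exact_mod_cast h
  rw [CharP.cast_eq_zero_iff K p] at h1
  have h2 : p = 2 := (Nat.prime_dvd_prime_iff_eq hp Nat.prime_two).1 h1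
  subst h2
  rcases Nat.eq_zero_or_pos m with rfl | hm
  · have h3 : 1 < Fintype.card K := Fintype.one_lt_card
    rw [hK] at h3
    simp at h3
  · have : 2 ∣ 2 ^ m := dvd_pow_self 2 hm.ne'
    omega

theorem h16_hermForm_eq (hK : Fintype.card K = q ^ 2) (x y : Fin 3 → K) :
    Cfsg.hermForm 3 K q x y =
      x 0 * frobK hK (y 0) + x 1 * frobK hK (y 1) + x 2 * frobK hK (y 2) := by
  simp only [Cfsg.hermForm, Fin.sum_univ_three, frobK_apply]

/-- column criterion for membership in `SU₃(q)` -/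
theorem h16_mem_SU_of (hK : Fintype.card K = q ^ 2) (A : SL3)
    (h : ∀ j k : Fin 3, ∑ i, (A : Matrix (Fin 3) (Fin 3) K) i j *
      frobK hK ((A : Matrix (Fin 3) (Fin 3) K) i k) = if j = k then 1 else 0) :
    A ∈ Cfsg.SU 3 K q := by
  rw [mem_SU_iff]
  intro u v
  rw [h16_hermForm_eq hK, h16_hermForm_eq hK]
  simp only [Matrix.mulVec, dotProduct, Fin.sum_univ_three, map_add, map_mul]
  have h00 := (h 0 0).trans (if_pos rfl)
  have h01 := (h 0 1).trans (if_neg (by decide))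
  have h02 := (h 0 2).trans (if_neg (by decide))
  have h10 := (h 1 0).trans (if_neg (by decide))
  have h11 := (h 1 1).trans (if_pos rfl)
  have h12 := (h 1 2).trans (if_neg (by decide))
  have h20 := (h 2 0).trans (if_neg (by decide))
  have h21 := (h 2 1).trans (if_neg (by decide))
  have h22 := (h 2 2).trans (if_pos rfl)
  simp only [Fin.sum_univ_three] at h00 h01 h02 h10 h11 h12 h20 h21 h22
  linear_combination (u 0 * frobK hK (v 0)) * h00 + (u 0 * frobK hK (v 1)) * h01 +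
    (u 0 * frobK hK (v 2)) * h02 + (u 1 * frobK hK (v 0)) * h10 + (u 1 * frobK hK (v 1)) * h11 +
    (u 1 * frobK hK (v 2)) * h12 + (u 2 * frobK hK (v 0)) * h20 + (u 2 * frobK hK (v 1)) * h21 +
    (u 2 * frobK hK (v 2)) * h22

/-- a rotation-scaling matrix with orthonormal columns lies in `GU₂(q)` -/
theorem h16_rot_mem_U2 (hK : Fintype.card K = q ^ 2) (X : GL2) (a b : K)
    (h : (X : Matrix (Fin 2) (Fin 2) K) = rot a b)
    (h1 : a * frobK hK a + b * frobK hK b = 1) (h2 : a * frobK hK b = b * frobK hK a) :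
    X ∈ U2 q := by
  rw [mem_U2_iff]
  apply h16_mem_SU_of hK
  have hd : (a * a + b * b) * frobK hK (a * a + b * b) = 1 := by
    simp only [map_add, map_mul]
    linear_combination (a * frobK hK a + b * frobK hK b + 1) * h1 +
      (a * frobK hK b - b * frobK hK a) * h2
  have hd' : (a * a + b * b)⁻¹ * frobK hK ((a * a + b * b)⁻¹) = 1 := by
    rw [map_inv₀, ← mul_inv, hd, inv_one]
  rw [iota_val, h16_iotaMat_rot X a b h]
  intro j k
  fin_cases j <;> fin_cases k <;> simp [Fin.sum_univ_three]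
  · linear_combination h1
  · linear_combination h2
  · linear_combination (-1 : K) * h2
  · linear_combination h1
  · simpa using hd'

/-- the determinant of a unitary rotation-scaling matrix has norm one -/
theorem h16_norm_of_mem_U2 (hK : Fintype.card K = q ^ 2) (X : GL2) (a b : K)
    (h : (X : Matrix (Fin 2) (Fin 2) K) = rot a b) (hX : X ∈ U2 q) :
    (a * a + b * b) * frobK hK (a * a + b * b) = 1 := by
  have h1 := (mem_SU_iff q (iota X)).1 hX ![0, 0, 1] ![0, 0, 1]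
  rw [h16_hermForm_eq hK, h16_hermForm_eq hK, iota_val, h16_iotaMat_rot X a b h] at h1
  simp [Matrix.mulVec, dotProduct, Fin.sum_univ_three] at h1
  have hne : a * a + b * b ≠ 0 := by
    intro h0
    rw [h0] at h1
    simp at h1
  have h3 : (a * a + b * b)⁻¹ * frobK hK ((a * a + b * b)⁻¹) = 1 := by
    rw [map_inv₀]
    simpa using h1
  rw [map_inv₀, ← mul_inv] at h3
  exact inv_eq_one.1 h3

theorem h16_tau_mem_U2 (hK : Fintype.card K = q ^ 2) : (tau : GL2) ∈ U2 q := by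
  rw [mem_U2_iff]
  apply h16_mem_SU_of hK
  rw [iota_val]
  have hd : (((Matrix.GeneralLinearGroup.det (tau : GL2) : Kˣ)⁻¹ : Kˣ) : K) = -1 := by
    rw [Units.val_inv_eq_inv_val]
    have : ((Matrix.GeneralLinearGroup.det (tau : GL2) : Kˣ) : K) = -1 := by
      show ((tau : GL2) : Matrix (Fin 2) (Fin 2) K).det = -1
      rw [tau_val, Matrix.det_fin_two_of]
      ring
    rw [this, inv_neg_one]
  intro j k
  fin_cases j <;> fin_cases k <;> simp [Fin.sum_univ_three, iotaMat, hd]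

theorem h16_M0_mem_U2 (hK : Fintype.card K = q ^ 2) : (M0 : GL2) ∈ U2 q := by
  apply h16_rot_mem_U2 hK M0 0 1 M0_val
  · simp
  · simp

omit [Fintype K] in
theorem h16_M0_mem_P2 : (M0 : GL2) ∈ P2 := by
  refine ⟨(mem_Eu_iff _).2 ⟨0, 1, M0_val⟩, 2, ?_⟩
  apply Units.ext
  rw [Units.val_pow_eq_pow_val, M0_val, Units.val_one]
  have h1 : (rot (0 : K) 1) ^ 2 = rot (-1) 0 := by
    rw [pow_two, rot_mul]; congr 1 <;> ring
  have h2 : (rot (-1 : K) 0) ^ 2 = 1 := by
    rw [pow_two, rot_mul, ← rot_one]; congr 1 <;> ring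
  rw [show (2 : ℕ) ^ 2 = 2 * 2 from rfl, pow_mul, h1, h2]

end Unitary

/-! ### strongly closed subgroups, transported to `GL₂` -/

section Closed

/-- the elements of `GL₂` whose image under `iota` lies in `T` -/
def pullT (T : Subgroup ↥(Cfsg.SU 3 K q)) : Subgroup GL2 :=
  (T.map (Cfsg.SU 3 K q).subtype).comap iota

theorem mem_pullT {T : Subgroup ↥(Cfsg.SU 3 K q)} {X : GL2} :
    X ∈ pullT T ↔ ∃ t ∈ T, (t : SL3) = iota X := by
  unfold pullT
  rw [Subgroup.mem_comap, Subgroup.mem_map]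
  rfl

theorem pullT_le_U2 (T : Subgroup ↥(Cfsg.SU 3 K q)) : pullT T ≤ U2 q := by
  intro X hX
  obtain ⟨t, -, ht⟩ := mem_pullT.1 hX
  rw [mem_U2_iff, ← ht]
  exact t.2

variable (T : Subgroup ↥(Cfsg.SU 3 K q))

theorem h16_exists_invol (hT : T ≤ S3U q) (hT1 : T ≠ ⊥) : ∃ t0 ∈ T, t0 * t0 = 1 ∧ t0 ≠ 1 := by
  obtain ⟨⟨t, htT⟩, ht1⟩ := (Subgroup.ne_bot_iff_exists_ne_one).1 hT1
  have ht1' : t ≠ 1 := fun h => ht1 (Subtype.ext h)
  obtain ⟨k, hk⟩ := h16_isPGroup_S3U ⟨t, hT htT⟩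
  have hk' : t ^ (2 ^ k) = 1 := congrArg Subtype.val hk
  have hex : ∃ k, t ^ (2 ^ k) = 1 := ⟨k, hk'⟩
  classical
  obtain ⟨k0, hk0spec, hk0min⟩ : ∃ k0, t ^ (2 ^ k0) = 1 ∧ ∀ j < k0, t ^ (2 ^ j) ≠ 1 :=
    ⟨Nat.find hex, Nat.find_spec hex, fun j hj => Nat.find_min hex hj⟩
  have hk0pos : k0 ≠ 0 := by
    intro h
    rw [h, pow_zero, pow_one] at hk0spec
    exact ht1' hk0spec
  obtain ⟨j, hj⟩ := Nat.exists_eq_succ_of_ne_zero hk0pos
  refine ⟨t ^ (2 ^ j), T.pow_mem htT _, ?_, hk0min j (by omega)⟩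
  rw [← pow_two, ← pow_mul, ← pow_succ, ← Nat.succ_eq_add_one, ← hj]
  exact hk0spec

/-- every involution of `S2U` lies in (the pullback of) a nontrivial strongly closed subgroup -/
theorem pullT_of_invol
    (hINV : ∀ g : ↥(Cfsg.SU 3 K q), g * g = 1 → g ≠ 1 →
      ∃ c : ↥(Cfsg.SU 3 K q), ((c * g * c⁻¹ : ↥(Cfsg.SU 3 K q)) : SL3) = zz)
    (hT : T ≤ S3U q) (hT1 : T ≠ ⊥)
    (hcl : ∀ t ∈ T, ∀ g : ↥(Cfsg.SU 3 K q),
      g * t * g⁻¹ ∈ (S3U q : Subgroup ↥(Cfsg.SU 3 K q)) → g * t * g⁻¹ ∈ T)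
    (X : GL2) (hX : X ∈ S2U q) (hsq : X * X = 1) (hne : X ≠ 1) : X ∈ pullT T := by
  obtain ⟨t0, ht0T, ht0sq, ht0ne⟩ := h16_exists_invol T hT hT1
  have hXS : X ∈ S2 := hX.1
  have hXU : X ∈ U2 q := hX.2
  set s : ↥(Cfsg.SU 3 K q) := ⟨iota X, hXU⟩ with hs
  have hss : s * s = 1 := by
    apply Subtype.ext
    show iota X * iota X = 1
    rw [← map_mul, hsq, map_one]
  have hs1 : s ≠ 1 := by
    intro h
    apply hne
    apply h16_iota_injective
    rw [map_one]
    exact congrArg Subtype.val h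
  have hsS : s ∈ S3U q := by
    rw [mem_S3U_iff]
    exact Subgroup.mem_map_of_mem iota hXS
  obtain ⟨c1, hc1⟩ := hINV t0 ht0sq ht0ne
  obtain ⟨c2, hc2⟩ := hINV s hss hs1
  have e : c1 * t0 * c1⁻¹ = c2 * s * c2⁻¹ := Subtype.ext (hc1.trans hc2.symm)
  have h1 : (c2⁻¹ * c1) * t0 * (c2⁻¹ * c1)⁻¹ = s := by
    calc (c2⁻¹ * c1) * t0 * (c2⁻¹ * c1)⁻¹ = c2⁻¹ * (c1 * t0 * c1⁻¹) * c2 := by group
      _ = s := by rw [e]; group
  have h3 := hcl t0 ht0T (c2⁻¹ * c1) (by rw [h1]; exact hsS)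
  rw [h1] at h3
  exact mem_pullT.2 ⟨s, h3, rfl⟩

/-- strong closure, transported -/
theorem pullT_conj
    (hcl : ∀ t ∈ T, ∀ g : ↥(Cfsg.SU 3 K q),
      g * t * g⁻¹ ∈ (S3U q : Subgroup ↥(Cfsg.SU 3 K q)) → g * t * g⁻¹ ∈ T)
    (X : GL2) (hX : X ∈ pullT T) (g : ↥(Cfsg.SU 3 K q)) (Y : GL2) (hY : Y ∈ S2)
    (h : (g : SL3) * iota X = iota Y * (g : SL3)) : Y ∈ pullT T := by
  obtain ⟨t, htT, ht⟩ := mem_pullT.1 hX
  have h1 : ((g * t * g⁻¹ : ↥(Cfsg.SU 3 K q)) : SL3) = iota Y := by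
    show (g : SL3) * (t : SL3) * ((g : SL3))⁻¹ = iota Y
    rw [ht, h, mul_assoc, mul_inv_cancel, mul_one]
  have h2 : g * t * g⁻¹ ∈ S3U q := by
    rw [mem_S3U_iff, h1]
    exact Subgroup.mem_map_of_mem iota hY
  exact mem_pullT.2 ⟨g * t * g⁻¹, hcl t htT g h2, h1⟩

theorem eq_S3U_of_le_pullT (hT : T ≤ S3U q) (h : S2U q ≤ pullT T) : T = S3U q := by
  apply le_antisymm hT
  intro g hg
  rw [mem_S3U_iff] at hg
  obtain ⟨X, hXS, hXg⟩ := Subgroup.mem_map.1 hg
  have hXU : X ∈ U2 q := by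
    rw [mem_U2_iff, hXg]
    exact g.2
  obtain ⟨t, htT, ht⟩ := mem_pullT.1 (h ⟨hXS, hXU⟩)
  have : t = g := Subtype.ext (ht.trans hXg)
  rwa [← this]

theorem h16_tau_ne_one (h2 : (2 : K) ≠ 0) : (tau : GL2) ≠ 1 := by
  intro h
  have h1 := congrArg (fun g : GL2 => (g : Matrix (Fin 2) (Fin 2) K) 1 1) h
  simp only [tau_val] at h1
  have h3 : (-1 : K) = 1 := by simpa using h1
  apply h2
  linear_combination (-1 : K) * h3

/-- elements of `P2U` of determinant one lie in the pullback of `T` -/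
theorem pullT_of_norm_one (h2 : (2 : K) ≠ 0) (htauU : (tau : GL2) ∈ U2 q)
    (hinvol : ∀ X : GL2, X ∈ S2U q → X * X = 1 → X ≠ 1 → X ∈ pullT T)
    (M : GL2) (hM : M ∈ P2U q) (a b : K) (hab : (M : Matrix (Fin 2) (Fin 2) K) = rot a b)
    (h1 : a * a + b * b = 1) : M ∈ pullT T := by
  have htauT : (tau : GL2) ∈ pullT T :=
    hinvol tau ⟨h16_tau_mem_S2, htauU⟩ h16_tau_mul_tau (h16_tau_ne_one h2)
  have hv := h16_mul_tau_val M a b hab
  have hsq : (M * tau) * (M * tau) = 1 := by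
    apply Units.ext
    rw [Units.val_mul, hv, h16_sq_val, h1, one_smul, Units.val_one]
  have hne : M * tau ≠ 1 := by
    intro h
    have h3 := congrArg (fun g : GL2 => (g : Matrix (Fin 2) (Fin 2) K)) h
    simp only [hv, Units.val_one] at h3
    have e00 := congrFun (congrFun h3 0) 0
    have e11 := congrFun (congrFun h3 1) 1
    simp at e00 e11
    apply h2
    linear_combination (-1 : K) * e00 - e11
  have hmem : M * tau ∈ pullT T :=
    hinvol (M * tau) ⟨S2.mul_mem (h16_P2_le_S2 hM.1) h16_tau_mem_S2, (U2 q).mul_mem hM.2 htauU⟩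
      hsq hne
  have : M = (M * tau) * tau := by rw [mul_assoc, h16_tau_mul_tau, mul_one]
  rw [this]
  exact (pullT T).mul_mem hmem htauT

/-- it suffices to treat the torus part -/
theorem le_pullT_of_P2U (htauU : (tau : GL2) ∈ U2 q) (htauT : (tau : GL2) ∈ pullT T)
    (h : P2U q ≤ pullT T) : S2U q ≤ pullT T := by
  rintro X ⟨hXS, hXU⟩
  rcases h16_mem_S2 hXS with h1 | h1
  · exact h ⟨h1, hXU⟩
  · have h3 : X * tau ∈ pullT T := h ⟨h1, (U2 q).mul_mem hXU htauU⟩
    have : X = (X * tau) * tau := by rw [mul_assoc, h16_tau_mul_tau, mul_one]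
    rw [this]
    exact (pullT T).mul_mem h3 htauT

end Closed

end Cfsg.Agent.Helper16.Psu3
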