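import Mathlib
import Cfsg.Agent.Lib.Helper87.Psu3Defs
import Cfsg.Agent.Lib.Helper16.Psu3SCCore

/-!
# PSU3F server of helper87 (S5319): piece (SCU1) `strongly_closed_U_one`

No proper nontrivial strongly closed subgroup of `S3U q` when `q ≡ 1 mod 4`.
-/

set_option autoImplicit false

namespace Cfsg.Agent.Helper16.Psu3

open Matrix Cfsg Cfsg.Agent.Helper87.Psl3 Cfsg.Agent.Helper87.Psu3

variable {K : Type*} [Field K] {q : ℕ}

local notation "SL3" => Matrix.SpecialLinearGroup (Fin 3) K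
local notation "GL2" => GL (Fin 2) K

/-- a `2`-element of norm one is `±1` when `q ≡ 1 mod 4` -/
theorem h16_two_elt_norm_one (hq : q % 4 = 1) (x : K) (m : ℕ) (h1 : x ^ (2 ^ m) = 1)
    (h2 : x ^ (q + 1) = 1) : x = 1 ∨ x = -1 := by
  have h3 : x ^ (Nat.gcd (2 ^ m) (q + 1)) = 1 := pow_gcd_eq_one.2 ⟨h1, h2⟩
  have h4 : Nat.gcd (2 ^ m) (q + 1) ∣ 2 := by
    obtain ⟨j, -, hj⟩ := (Nat.dvd_prime_pow Nat.prime_two).1 (Nat.gcd_dvd_left (2 ^ m) (q + 1))
    rw [hj]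
    have h5 : 2 ^ j ∣ q + 1 := hj ▸ Nat.gcd_dvd_right (2 ^ m) (q + 1)
    rcases Nat.lt_or_ge j 2 with h6 | h6
    · interval_cases j
      · exact one_dvd _
      · exact dvd_refl _
    · exfalso
      have h7 : 2 ^ 2 ∣ q + 1 := (pow_dvd_pow 2 h6).trans h5
      omega
  have h5 : x ^ 2 = 1 := by
    obtain ⟨c, hc⟩ := h4
    rw [hc, pow_mul, h3, one_pow]
  have h6 : (x - 1) * (x + 1) = 0 := by linear_combination h5
  rcases mul_eq_zero.1 h6 with h7 | h7
  · left; exact sub_eq_zero.1 h7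
  · right; exact eq_neg_of_add_eq_zero_left h7

theorem strongly_closed_U_one [Fintype K] (hK : Fintype.card K = q ^ 2) (hq : q % 4 = 1)
    (hINV : ∀ g : ↥(Cfsg.SU 3 K q), g * g = 1 → g ≠ 1 → ∃ c : ↥(Cfsg.SU 3 K q), ((c * g * c⁻¹ : ↥(Cfsg.SU 3 K q)) : SL3) = zz)
    (hC4 : ∀ X : GL2, X ∈ U2 q → X * X = sc (-1) → (∀ c : Kˣ, X ≠ sc c) →
      ∃ C : GL2, C ∈ U2 q ∧ C * X * C⁻¹ = M0)
    (T : Subgroup ↥(Cfsg.SU 3 K q)) (hT : T ≤ S3U q) (hT1 : T ≠ ⊥)
    (hcl : ∀ t ∈ T, ∀ g : ↥(Cfsg.SU 3 K q), g * t * g⁻¹ ∈ (S3U q : Subgroup ↥(Cfsg.SU 3 K q)) → g * t * g⁻¹ ∈ T) :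
    T = S3U q := by
  have hodd : q % 2 = 1 := by omega
  have h2 : (2 : K) ≠ 0 := h16_two_ne_zero hK hodd
  have htauU : (tau : GL2) ∈ U2 q := h16_tau_mem_U2 hK
  have hinvol := pullT_of_invol T hINV hT hT1 hcl
  have hnorm1 := pullT_of_norm_one T h2 htauU hinvol
  have htauT : (tau : GL2) ∈ pullT T :=
    hinvol tau ⟨h16_tau_mem_S2, htauU⟩ h16_tau_mul_tau (h16_tau_ne_one h2)
  have hM0T : (M0 : GL2) ∈ pullT T :=
    hnorm1 M0 ⟨h16_M0_mem_P2, h16_M0_mem_U2 hK⟩ 0 1 M0_val (by ring)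
  -- norm minus one
  have hnormm1 : ∀ M : GL2, M ∈ P2U q → ∀ a b : K, (M : Matrix (Fin 2) (Fin 2) K) = rot a b →
      a * a + b * b = -1 → M ∈ pullT T := by
    intro M hM a b hab h1
    have hv := h16_mul_tau_val M a b hab
    have hsq : (M * tau) * (M * tau) = sc (-1) := by
      apply Units.ext
      rw [Units.val_mul, hv, h16_sq_val, h1]
      ext i j
      fin_cases i <;> fin_cases j <;> simp [sc, Matrix.GeneralLinearGroup.coe_scalar]
    have hnsc : ∀ c : Kˣ, M * tau ≠ sc c := by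
      intro c h
      have h3 := congrArg (fun g : GL2 => (g : Matrix (Fin 2) (Fin 2) K)) h
      simp only [hv] at h3
      have e00 := congrFun (congrFun h3 0) 0
      have e11 := congrFun (congrFun h3 1) 1
      simp [sc, Matrix.GeneralLinearGroup.coe_scalar] at e00 e11
      have h4 : (2 : K) * (c : K) = 0 := by linear_combination (-1 : K) * e00 - e11
      rcases mul_eq_zero.1 h4 with h5 | h5
      · exact h2 h5
      · exact c.ne_zero h5
    have hMtS : M * tau ∈ S2 := S2.mul_mem (h16_P2_le_S2 hM.1) h16_tau_mem_S2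
    have hMtU : M * tau ∈ U2 q := (U2 q).mul_mem hM.2 htauU
    obtain ⟨C, hCU, hC⟩ := hC4 (M * tau) hMtU hsq hnsc
    have hmem : M * tau ∈ pullT T := by
      refine pullT_conj T hcl M0 hM0T ⟨iota C⁻¹, (U2 q).inv_mem hCU⟩ (M * tau) hMtS ?_
      show iota C⁻¹ * iota M0 = iota (M * tau) * iota C⁻¹
      rw [← map_mul, ← map_mul, ← hC]
      congr 1
      group
    have : M = (M * tau) * tau := by rw [mul_assoc, h16_tau_mul_tau, mul_one]
    rw [this]
    exact (pullT T).mul_mem hmem htauT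
  apply eq_S3U_of_le_pullT T hT
  apply le_pullT_of_P2U T htauU htauT
  intro M hM
  obtain ⟨a, b, hab⟩ := (mem_Eu_iff M).1 hM.1.1
  obtain ⟨m, hm⟩ := hM.1.2
  have hn := h16_norm_of_mem_U2 hK M a b hab hM.2
  rw [frobK_apply, ← pow_succ'] at hn
  have h1 : (rot a b) ^ (2 ^ m) = 1 := by
    rw [← hab, ← Units.val_pow_eq_pow_val, hm, Units.val_one]
  have h3 := congrArg Matrix.det h1
  rw [Matrix.det_pow, Matrix.det_one, h16_det_rot] at h3
  rcases h16_two_elt_norm_one hq _ m h3 hn with h | h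
  · exact hnorm1 M hM a b hab h
  · exact hnormm1 M hM a b hab h

end Cfsg.Agent.Helper16.Psu3
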