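import Mathlib
import Cfsg.Agent.Lib.Helper87.Psu3Defs
import Cfsg.Agent.Lib.Helper13.NormSurj
import Cfsg.Agent.Lib.Helper16.Psu3SCCore

/-!
# PSU3F server of helper87 (S5319): piece (SCU3) `strongly_closed_U_three`

No proper nontrivial strongly closed subgroup of `S3U q` when `q ≡ 3 mod 4`.
-/

set_option autoImplicit false

namespace Cfsg.Agent.Helper16.Psu3

open Matrix Cfsg Cfsg.Agent.Helper87.Psl3 Cfsg.Agent.Helper87.Psu3

variable {K : Type*} [Field K] {q : ℕ}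

local notation "SL3" => Matrix.SpecialLinearGroup (Fin 3) K
local notation "GL2" => GL (Fin 2) K

/-! ### the torus in eigen-coordinates -/

section Dm

variable (i : K)

/-- the torus element with eigenvalues `α` (on `(1,i)`) and `β` (on `(1,-i)`), as a matrix -/
def dm (α β : K) : Matrix (Fin 2) (Fin 2) K := rot ((α + β) / 2) ((α - β) / (2 * i))

variable {i}

theorem h16_i_ne_zero (hi : i * i = -1) : i ≠ 0 := by
  rintro rfl
  simp at hi

theorem dm_mul (hi : i * i = -1) (h2 : (2 : K) ≠ 0) (α β α' β' : K) :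
    dm i α β * dm i α' β' = dm i (α * α') (β * β') := by
  have hi0 : i ≠ 0 := h16_i_ne_zero hi
  unfold dm
  rw [rot_mul]
  congr 1 <;> grind

theorem dm_one (h2 : (2 : K) ≠ 0) : dm i 1 1 = 1 := by
  unfold dm
  rw [← rot_one]
  congr 1
  · field_simp
    norm_num
  · simp

theorem dm_pow (hi : i * i = -1) (h2 : (2 : K) ≠ 0) (α β : K) (n : ℕ) :
    dm i α β ^ n = dm i (α ^ n) (β ^ n) := by
  induction n with
  | zero => simp [dm_one h2]
  | succ n ih => rw [pow_succ, ih, dm_mul hi h2, ← pow_succ, ← pow_succ]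

theorem dm_norm (hi : i * i = -1) (h2 : (2 : K) ≠ 0) (α β : K) :
    ((α + β) / 2) * ((α + β) / 2) + ((α - β) / (2 * i)) * ((α - β) / (2 * i)) = α * β := by
  have hi0 : i ≠ 0 := h16_i_ne_zero hi
  grind

theorem exists_dU (hi : i * i = -1) (h2 : (2 : K) ≠ 0) (α β : K) (hα : α ≠ 0) (hβ : β ≠ 0) :
    ∃ X : GL2, (X : Matrix (Fin 2) (Fin 2) K) = dm i α β :=
  ⟨Matrix.GeneralLinearGroup.mkOfDetNeZero (dm i α β) (by
    unfold dm
    rw [h16_det_rot, dm_norm hi h2]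
    exact mul_ne_zero hα hβ), rfl⟩

theorem dU_mem_P2 (hi : i * i = -1) (h2 : (2 : K) ≠ 0) (X : GL2) (α β : K)
    (hX : (X : Matrix (Fin 2) (Fin 2) K) = dm i α β) (m : ℕ) (hα : α ^ (2 ^ m) = 1)
    (hβ : β ^ (2 ^ m) = 1) : X ∈ P2 := by
  refine ⟨(mem_Eu_iff X).2 ⟨_, _, hX⟩, m, ?_⟩
  apply Units.ext
  rw [Units.val_pow_eq_pow_val, hX, dm_pow hi h2, hα, hβ, dm_one h2, Units.val_one]

theorem dU_mem_U2 [Fintype K] (hK : Fintype.card K = q ^ 2) (hi : i * i = -1) (h2 : (2 : K) ≠ 0)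
    (hσi : frobK hK i = -i) (X : GL2) (α β : K)
    (hX : (X : Matrix (Fin 2) (Fin 2) K) = dm i α β) (hα : α * frobK hK α = 1)
    (hβ : β * frobK hK β = 1) : X ∈ U2 q := by
  have hi0 : i ≠ 0 := h16_i_ne_zero hi
  have hα0 : α ≠ 0 := by
    rintro rfl
    simp at hα
  have hβ0 : β ≠ 0 := by
    rintro rfl
    simp at hβ
  have eα : frobK hK α = α⁻¹ := eq_inv_of_mul_eq_one_right hα
  have eβ : frobK hK β = β⁻¹ := eq_inv_of_mul_eq_one_right hβ
  apply h16_rot_mem_U2 hK X _ _ hX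
  · simp only [map_div₀, map_add, map_sub, map_mul, map_ofNat, hσi, eα, eβ]
    grind
  · simp only [map_div₀, map_add, map_sub, map_mul, map_ofNat, hσi, eα, eβ]
    grind

end Dm

/-! ### the element of `SU₃(q)` permuting the eigenvectors cyclically -/

section Gm

/-- `g` maps `s(1,i,0) ↦ s(1,-i,0) ↦ (0,0,1) ↦ s(1,i,0)` -/
def gm (i s : K) : Matrix (Fin 3) (Fin 3) K :=
  !![1 / 2, -i / 2, s; -i / 2, -1 / 2, s * i; 1 / (2 * s), i / (2 * s), 0]

theorem gm_det {i s : K} (hi : i * i = -1) (h2 : (2 : K) ≠ 0) (hs : s ≠ 0) : (gm i s).det = 1 := by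
  rw [gm, Matrix.det_fin_three]
  simp only [Matrix.of_apply, Matrix.cons_val', Matrix.cons_val_zero, Matrix.cons_val_one,
    Matrix.cons_val_two, Matrix.empty_val', Matrix.cons_val_fin_one, Matrix.head_cons,
    Matrix.tail_cons, Matrix.head_fin_const]
  grind

theorem gm_mem_SU [Fintype K] (hK : Fintype.card K = q ^ 2) {i s : K} (hi : i * i = -1)
    (h2 : (2 : K) ≠ 0) (hσi : frobK hK i = -i) (hs0 : s ≠ 0) (hs : s * frobK hK s = 1 / 2) :
    (⟨gm i s, gm_det hi h2 hs0⟩ : SL3) ∈ Cfsg.SU 3 K q := by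
  have hs' : 2 * (s * frobK hK s) = 1 := by
    rw [hs]
    field_simp
  have es : frobK hK s = 1 / (2 * s) := by
    rw [eq_div_iff (mul_ne_zero h2 hs0)]
    linear_combination hs'
  have e2 : frobK hK 2 = 2 := map_ofNat _ 2
  apply h16_mem_SU_of hK
  intro j k
  fin_cases j <;> fin_cases k <;>
    simp [gm, Fin.sum_univ_three, hσi, es, e2] <;> grind

theorem gm_conj {i s : K} (hi : i * i = -1) (h2 : (2 : K) ≠ 0) (hs0 : s ≠ 0) (γ : K) (hγ : γ ≠ 0)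
    (X Y : GL2) (hX : (X : Matrix (Fin 2) (Fin 2) K) = dm i γ γ⁻¹)
    (hY : (Y : Matrix (Fin 2) (Fin 2) K) = dm i 1 γ) :
    gm i s * iotaMat X = iotaMat Y * gm i s := by
  have hi0 : i ≠ 0 := h16_i_ne_zero hi
  rw [h16_iotaMat_rot X _ _ hX, h16_iotaMat_rot Y _ _ hY, dm_norm hi h2, dm_norm hi h2]
  ext r c
  fin_cases r <;> fin_cases c <;>
    simp [gm, Matrix.mul_apply, Fin.sum_univ_three] <;> grind

end Gm

theorem strongly_closed_U_three [Fintype K] (hK : Fintype.card K = q ^ 2) (hq : q % 4 = 3)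
    (hINV : ∀ g : ↥(Cfsg.SU 3 K q), g * g = 1 → g ≠ 1 → ∃ c : ↥(Cfsg.SU 3 K q), ((c * g * c⁻¹ : ↥(Cfsg.SU 3 K q)) : SL3) = zz)
    (T : Subgroup ↥(Cfsg.SU 3 K q)) (hT : T ≤ S3U q) (hT1 : T ≠ ⊥)
    (hcl : ∀ t ∈ T, ∀ g : ↥(Cfsg.SU 3 K q), g * t * g⁻¹ ∈ (S3U q : Subgroup ↥(Cfsg.SU 3 K q)) → g * t * g⁻¹ ∈ T) :
    T = S3U q := by
  have hodd : q % 2 = 1 := by omega
  have h2 : (2 : K) ≠ 0 := h16_two_ne_zero hK hodd
  -- a square root of `-1`
  obtain ⟨i, hi⟩ : ∃ i : K, i * i = -1 := by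
    have h1 : IsSquare (-1 : K) := by
      rw [FiniteField.isSquare_neg_one_iff, hK]
      have : q ^ 2 % 4 = 1 := by rw [Nat.pow_mod, hq]
      omega
    obtain ⟨i, hi⟩ := h1
    exact ⟨i, hi.symm⟩
  have hi0 : i ≠ 0 := h16_i_ne_zero hi
  have hσi : frobK hK i = -i := by
    rw [frobK_apply]
    obtain ⟨k, hk⟩ : ∃ k, q = 4 * k + 3 := ⟨q / 4, by omega⟩
    have h4 : i ^ 4 = 1 := by
      have : i ^ 4 = (i * i) * (i * i) := by ring
      rw [this, hi]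
      ring
    have h3 : i ^ 3 = -i := by
      have : i ^ 3 = (i * i) * i := by ring
      rw [this, hi]
      ring
    rw [hk, pow_add, pow_mul, h4, one_pow, one_mul, h3]
  -- an element of norm `1/2`
  obtain ⟨s, hs⟩ : ∃ s : K, s * frobK hK s = 1 / 2 := by
    apply Cfsg.Agent.Helper13.norm_surj_involution (frobK hK) ?_ (frobK_frobK hK) (1 / 2)
      (by simp [h2]) (by rw [map_div₀, map_one, map_ofNat])
    intro h
    have h1 : frobK hK i = i := by rw [h]; rfl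
    rw [hσi] at h1
    have h3 : (2 : K) * i = 0 := by linear_combination (-1 : K) * h1
    rcases mul_eq_zero.1 h3 with h5 | h5
    · exact h2 h5
    · exact hi0 h5
  have hs0 : s ≠ 0 := by
    rintro rfl
    rw [zero_mul] at hs
    exact one_div_ne_zero h2 hs.symm
  have htauU : (tau : GL2) ∈ U2 q := h16_tau_mem_U2 hK
  have hinvol := pullT_of_invol T hINV hT hT1 hcl
  have hnorm1 := pullT_of_norm_one T h2 htauU hinvol
  have htauT : (tau : GL2) ∈ pullT T :=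
    hinvol tau ⟨h16_tau_mem_S2, htauU⟩ h16_tau_mul_tau (h16_tau_ne_one h2)
  apply eq_S3U_of_le_pullT T hT
  apply le_pullT_of_P2U T htauU htauT
  intro M hM
  obtain ⟨a, b, hab⟩ := (mem_Eu_iff M).1 hM.1.1
  obtain ⟨m, hm⟩ := hM.1.2
  have hn : (a * a + b * b) * frobK hK (a * a + b * b) = 1 :=
    h16_norm_of_mem_U2 hK M a b hab hM.2
  have hγm : (a * a + b * b) ^ (2 ^ m) = 1 := by
    have h1 : (rot a b) ^ (2 ^ m) = 1 := by
      rw [← hab, ← Units.val_pow_eq_pow_val, hm, Units.val_one]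
    have h3 := congrArg Matrix.det h1
    rwa [Matrix.det_pow, Matrix.det_one, h16_det_rot] at h3
  obtain ⟨γ, hγ⟩ : ∃ γ : K, γ = a * a + b * b := ⟨_, rfl⟩
  rw [← hγ] at hn hγm
  have hγ0 : γ ≠ 0 := by
    rintro rfl
    simp at hn
  obtain ⟨N1, hN1⟩ := exists_dU hi h2 1 γ one_ne_zero hγ0
  obtain ⟨N2, hN2⟩ := exists_dU hi h2 γ γ⁻¹ hγ0 (inv_ne_zero hγ0)
  have hN1P : N1 ∈ P2U q :=
    ⟨dU_mem_P2 hi h2 N1 1 γ hN1 m (one_pow _) hγm,
      dU_mem_U2 hK hi h2 hσi N1 1 γ hN1 (by rw [map_one, mul_one]) hn⟩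
  have hN2P : N2 ∈ P2U q :=
    ⟨dU_mem_P2 hi h2 N2 γ γ⁻¹ hN2 m hγm (by rw [inv_pow, hγm, inv_one]),
      dU_mem_U2 hK hi h2 hσi N2 γ γ⁻¹ hN2 hn (by rw [map_inv₀, ← mul_inv, hn, inv_one])⟩
  have hN2T : N2 ∈ pullT T :=
    hnorm1 N2 hN2P _ _ hN2 (by rw [dm_norm hi h2]; exact mul_inv_cancel₀ hγ0)
  have hN1T : N1 ∈ pullT T := by
    refine pullT_conj T hcl N2 hN2T ⟨⟨gm i s, gm_det hi h2 hs0⟩, gm_mem_SU hK hi h2 hσi hs0 hs⟩ N1
      (h16_P2_le_S2 hN1P.1) ?_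
    apply Subtype.ext
    show gm i s * iotaMat N2 = iotaMat N1 * gm i s
    exact gm_conj hi h2 hs0 γ hγ0 N2 N1 hN2 hN1
  have hQ : M * N1⁻¹ ∈ P2U q := (P2U q).mul_mem hM ((P2U q).inv_mem hN1P)
  obtain ⟨a', b', hab'⟩ := (mem_Eu_iff _).1 hQ.1.1
  have hdet : a' * a' + b' * b' = 1 := by
    have e : ((M * N1⁻¹ : GL2) : Matrix (Fin 2) (Fin 2) K) * (N1 : Matrix (Fin 2) (Fin 2) K) =
        (M : Matrix (Fin 2) (Fin 2) K) := by
      rw [← Units.val_mul, inv_mul_cancel_right]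
    rw [hab', hN1, hab] at e
    have h3 := congrArg Matrix.det e
    unfold dm at h3
    rw [Matrix.det_mul, h16_det_rot, h16_det_rot, dm_norm hi h2, h16_det_rot, one_mul, ← hγ] at h3
    exact mul_right_cancel₀ hγ0 (h3.trans (one_mul γ).symm)
  have hQT : M * N1⁻¹ ∈ pullT T := hnorm1 _ hQ a' b' hab' hdet
  have : M = (M * N1⁻¹) * N1 := by group
  rw [this]
  exact (pullT T).mul_mem hQT hN1T

end Cfsg.Agent.Helper16.Psu3
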