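import Mathlib
import Cfsg.Agent.Lib.Helper74.Subsec3
import Cfsg.Agent.Lib.Helper74.Klein1
import Cfsg.Agent.Lib.Helper74.Klein2
import Cfsg.Agent.Lib.Helper78.Laradji
import Cfsg.Agent.S4512
import Cfsg.Agent.S4571

/-!
# Quaternion Sylow `2`-subgroups of order `8`: the principal block has `7` characters (helper16)

Conditional on the Brauer–Suzuki theorem (the centre has order `2`) and on the fusion of the
elements of order `4`, we count `k(B₀) = l(B₀(G)) + l(B₀(C(z))) + l(B₀(C(u))) = 3 + 3 + 1`.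
-/

set_option autoImplicit false
set_option linter.unusedSectionVars false
set_option linter.unusedVariables false
set_option linter.style.haveILetI false

namespace Cfsg.Agent.Helper16.QuatSeven

open Cfsg
open scoped ComplexConjugate Pointwise

universe u

/-! ### The quaternion group of order `8` -/

theorem Q1 : ∀ q : QuaternionGroup 2, q * q = 1 ∨ q * q = QuaternionGroup.a 2 := by decide
theorem Q2 : ∀ q : QuaternionGroup 2, q * q = 1 → q = 1 ∨ q = QuaternionGroup.a 2 := by decide
theorem Q3 : ∀ q r : QuaternionGroup 2, q * q ≠ 1 → q * r = r * q →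
    r = 1 ∨ r = q ∨ r = q * q ∨ r = q * q * q := by decide
theorem Q4 : ∀ q : QuaternionGroup 2, q * q ≠ 1 →
    ∃ r : QuaternionGroup 2, r * q * r⁻¹ = q⁻¹ := by decide
theorem Q5 : (QuaternionGroup.a 1 : QuaternionGroup 2) * QuaternionGroup.a 1 ≠ 1 := by decide
theorem Q7 : (QuaternionGroup.a 2 : QuaternionGroup 2) * QuaternionGroup.a 2 = 1 := by decide
theorem Q8 : (QuaternionGroup.a 2 : QuaternionGroup 2) ≠ 1 := by decide

section quat

variable {G : Type u} [Group G] (S : Subgroup G) (e : S ≃* QuaternionGroup 2)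

/-- the involution of the quaternion subgroup -/
noncomputable def zS : G := ((e.symm (QuaternionGroup.a 2) : S) : G)

theorem zS_mem : zS S e ∈ S := (e.symm (QuaternionGroup.a 2)).2

theorem zS_mul_self : zS S e * zS S e = 1 := by
  have h : e.symm (QuaternionGroup.a 2) * e.symm (QuaternionGroup.a 2) = 1 := by
    rw [← map_mul, Q7, map_one]
  exact congrArg Subtype.val h

theorem zS_ne_one : zS S e ≠ 1 := by
  intro h
  have h1 : e.symm (QuaternionGroup.a 2) = 1 := Subtype.ext h
  have h2 := congrArg e h1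
  rw [e.apply_symm_apply, map_one] at h2
  exact Q8 h2

theorem sq_cases {x : G} (hx : x ∈ S) : x * x = 1 ∨ x * x = zS S e := by
  rcases Q1 (e ⟨x, hx⟩) with h | h
  · left
    have h1 : (⟨x, hx⟩ : S) * ⟨x, hx⟩ = 1 := by
      apply e.injective
      rw [map_mul, h, map_one]
    exact congrArg Subtype.val h1
  · right
    have h1 : (⟨x, hx⟩ : S) * ⟨x, hx⟩ = e.symm (QuaternionGroup.a 2) := by
      rw [← h, ← map_mul, e.symm_apply_apply]
    exact congrArg Subtype.val h1

theorem eq_of_sq_one {x : G} (hx : x ∈ S) (h : x * x = 1) : x = 1 ∨ x = zS S e := by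
  have h1 : e ⟨x, hx⟩ * e ⟨x, hx⟩ = 1 := by
    rw [← map_mul]
    have : (⟨x, hx⟩ : S) * ⟨x, hx⟩ = 1 := Subtype.ext h
    rw [this, map_one]
  rcases Q2 _ h1 with h2 | h2
  · left
    have : (⟨x, hx⟩ : S) = 1 := by
      apply e.injective
      rw [h2, map_one]
    exact congrArg Subtype.val this
  · right
    have : (⟨x, hx⟩ : S) = e.symm (QuaternionGroup.a 2) := by
      rw [← h2, e.symm_apply_apply]
    exact congrArg Subtype.val this

include e in
theorem centralizer_cases {x r : G} (hx : x ∈ S) (hr : r ∈ S) (hx2 : x * x ≠ 1)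
    (hc : x * r = r * x) : r = 1 ∨ r = x ∨ r = x * x ∨ r = x * x * x := by
  have h1 : e ⟨x, hx⟩ * e ⟨x, hx⟩ ≠ 1 := by
    intro h
    apply hx2
    have : (⟨x, hx⟩ : S) * ⟨x, hx⟩ = 1 := by
      apply e.injective
      rw [map_mul, h, map_one]
    exact congrArg Subtype.val this
  have h2 : e ⟨x, hx⟩ * e ⟨r, hr⟩ = e ⟨r, hr⟩ * e ⟨x, hx⟩ := by
    rw [← map_mul, ← map_mul]
    congr 1
    exact Subtype.ext hc
  rcases Q3 _ _ h1 h2 with h | h | h | h
  · left
    have : (⟨r, hr⟩ : S) = 1 := by
      apply e.injective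
      rw [h, map_one]
    exact congrArg Subtype.val this
  · right; left
    have : (⟨r, hr⟩ : S) = ⟨x, hx⟩ := e.injective h
    exact congrArg Subtype.val this
  · right; right; left
    have : (⟨r, hr⟩ : S) = ⟨x, hx⟩ * ⟨x, hx⟩ := by
      apply e.injective
      rw [h, map_mul]
    exact congrArg Subtype.val this
  · right; right; right
    have : (⟨r, hr⟩ : S) = ⟨x, hx⟩ * ⟨x, hx⟩ * ⟨x, hx⟩ := by
      apply e.injective
      rw [h, map_mul, map_mul]
    exact congrArg Subtype.val this

include e in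
theorem exists_inverting {x : G} (hx : x ∈ S) (hx2 : x * x ≠ 1) :
    ∃ r ∈ S, r * x * r⁻¹ = x⁻¹ := by
  have h1 : e ⟨x, hx⟩ * e ⟨x, hx⟩ ≠ 1 := by
    intro h
    apply hx2
    have : (⟨x, hx⟩ : S) * ⟨x, hx⟩ = 1 := by
      apply e.injective
      rw [map_mul, h, map_one]
    exact congrArg Subtype.val this
  obtain ⟨r, hr⟩ := Q4 _ h1
  refine ⟨(e.symm r : S), (e.symm r).2, ?_⟩
  have h2 : e.symm r * ⟨x, hx⟩ * (e.symm r)⁻¹ = (⟨x, hx⟩ : S)⁻¹ := by
    apply e.injective
    rw [map_mul, map_mul, map_inv, map_inv, e.apply_symm_apply, hr]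
  exact congrArg Subtype.val h2

include e in
theorem exists_order_four : ∃ u ∈ S, u * u ≠ 1 := by
  refine ⟨(e.symm (QuaternionGroup.a 1) : S), (e.symm _).2, ?_⟩
  intro h
  have h1 : e.symm (QuaternionGroup.a 1) * e.symm (QuaternionGroup.a 1) = 1 := Subtype.ext h
  have h2 := congrArg e h1
  rw [map_mul, e.apply_symm_apply, map_one] at h2
  exact Q5 h2

end quat


/-! ### Group theory with a quaternion Sylow `2`-subgroup -/

section grp

variable {G : Type u} [Group G] [Finite G] (S : Sylow 2 G)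

/-- a `2`-subgroup is conjugate into the given Sylow subgroup -/
theorem exists_conj_mem_sylow (K : Subgroup G) (hK : IsPGroup 2 K) :
    ∃ c : G, ∀ y ∈ K, c * y * c⁻¹ ∈ (S : Subgroup G) := by
  haveI : Fact (Nat.Prime 2) := ⟨Nat.prime_two⟩
  obtain ⟨Q, hQ⟩ := hK.exists_le_sylow
  obtain ⟨c, hc⟩ := MulAction.exists_smul_eq G Q S
  refine ⟨c, fun y hy => ?_⟩
  rw [← hc]
  show c * y * c⁻¹ ∈ (MulAut.conj c • (Q : Subgroup G))
  rw [Subgroup.mem_pointwise_smul_iff_inv_smul_mem]
  have h2 : (MulAut.conj c)⁻¹ • (c * y * c⁻¹) = y := by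
    rw [← map_inv, MulAut.smul_def, MulAut.conj_apply]
    group
  rw [h2]
  exact hQ hy

/-- a `2`-element is conjugate into the given Sylow subgroup -/
theorem exists_conj_mem_sylow_elt (g : G) (hg : ∃ k : ℕ, orderOf g = 2 ^ k) :
    ∃ c : G, c * g * c⁻¹ ∈ (S : Subgroup G) := by
  obtain ⟨k, hk⟩ := hg
  have hpg : IsPGroup 2 (Subgroup.zpowers g) := by
    apply IsPGroup.of_card (n := k)
    rw [Nat.card_zpowers, hk]
  obtain ⟨c, hc⟩ := exists_conj_mem_sylow S _ hpg
  exact ⟨c, hc g (Subgroup.mem_zpowers g)⟩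

variable (e : (S : Subgroup G) ≃* QuaternionGroup 2)

include e in
theorem card_sylow_eq : Nat.card (S : Subgroup G) = 8 := by
  rw [Nat.card_congr e.toEquiv, Nat.card_eq_fintype_card, QuaternionGroup.card]

include e in
theorem factorization_card : (Nat.card G).factorization 2 = 3 := by
  haveI : Fact (Nat.Prime 2) := ⟨Nat.prime_two⟩
  have h := Sylow.card_eq_multiplicity S
  rw [card_sylow_eq S e] at h
  have h' : 2 ^ 3 = 2 ^ (Nat.card G).factorization 2 := by simpa using h
  exact (Nat.pow_right_injective (le_refl 2) h').symm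

/-- Brauer–Suzuki form: the involution of `S` is central -/
theorem zS_central (hcenter : Nat.card (Subgroup.center G) = 2) :
    zS (S : Subgroup G) e ∈ Subgroup.center G := by
  haveI : Fact (Nat.Prime 2) := ⟨Nat.prime_two⟩
  haveI : Nontrivial (Subgroup.center G) :=
    Finite.one_lt_card_iff_nontrivial.1 (by rw [hcenter]; norm_num)
  obtain ⟨z₀, hz₀⟩ := exists_ne (1 : Subgroup.center G)
  have hz₀2 : (z₀ : G) * (z₀ : G) = 1 := by
    have h : z₀ ^ Nat.card (Subgroup.center G) = 1 := pow_card_eq_one'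
    rw [hcenter, pow_two] at h
    exact_mod_cast congrArg Subtype.val h
  have hz₀1 : (z₀ : G) ≠ 1 := fun h => hz₀ (Subtype.ext h)
  have hpc : IsPGroup 2 (Subgroup.center G) := by
    apply IsPGroup.of_card (n := 1)
    rw [hcenter, pow_one]
  obtain ⟨c, hc⟩ := exists_conj_mem_sylow S _ hpc
  have h1 := hc z₀ z₀.2
  have h2 : c * (z₀ : G) * c⁻¹ = z₀ := by
    rw [(Subgroup.mem_center_iff.1 z₀.2) c, mul_inv_cancel_right]
  rw [h2] at h1
  rcases eq_of_sq_one (S : Subgroup G) e h1 hz₀2 with h | h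
  · exact absurd h hz₀1
  · rw [← h]; exact z₀.2

end grp


section fus

variable {G : Type u} [Group G] [Finite G] (S : Sylow 2 G)
  (e : (S : Subgroup G) ≃* QuaternionGroup 2)

include e

theorem orderOf_eq_four {x : G} (hx : x ∈ (S : Subgroup G)) (hx2 : x * x ≠ 1) :
    orderOf x = 4 := by
  haveI : Fact (Nat.Prime 2) := ⟨Nat.prime_two⟩
  have h1 : x * x = zS (S : Subgroup G) e := by
    rcases sq_cases (S : Subgroup G) e hx with h | h
    · exact absurd h hx2
    · exact h
  have h2 : ¬ x ^ 2 ^ 1 = 1 := by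
    rw [pow_one, pow_two]; exact hx2
  have h3 : x ^ 2 ^ (1 + 1) = 1 := by
    have : x ^ 2 ^ (1 + 1) = (x * x) * (x * x) := by
      norm_num
      rw [show (4 : ℕ) = 2 + 2 from rfl, pow_add, pow_two]
    rw [this, h1, zS_mul_self]
  have := orderOf_eq_prime_pow h2 h3
  simpa using this

theorem pow_four_eq_one {x : G} (hx : x ∈ (S : Subgroup G)) : x * x * (x * x) = 1 := by
  rcases sq_cases (S : Subgroup G) e hx with h | h
  · rw [h, one_mul]
  · rw [h, zS_mul_self]

/-- elements of order four of `S` are conjugate in `G`, given the fusion of subgroups -/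
theorem order_four_conj
    (hfuse : ∀ A B : Subgroup G, A ≤ S → B ≤ S → Nat.card A = 4 → Nat.card B = 4 →
      ∃ n ∈ Subgroup.normalizer ((S : Subgroup G) : Set G),
        B = A.map (MulAut.conj n).toMonoidHom)
    {x x' : G} (hx : x ∈ (S : Subgroup G)) (hx' : x' ∈ (S : Subgroup G))
    (hx2 : x * x ≠ 1) (hx'2 : x' * x' ≠ 1) : IsConj x x' := by
  have hA : Subgroup.zpowers x ≤ (S : Subgroup G) := by
    rw [Subgroup.zpowers_le]; exact hx
  have hB : Subgroup.zpowers x' ≤ (S : Subgroup G) := by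
    rw [Subgroup.zpowers_le]; exact hx'
  have hA4 : Nat.card (Subgroup.zpowers x) = 4 := by
    rw [Nat.card_zpowers, orderOf_eq_four S e hx hx2]
  have hB4 : Nat.card (Subgroup.zpowers x') = 4 := by
    rw [Nat.card_zpowers, orderOf_eq_four S e hx' hx'2]
  obtain ⟨n, _, hn⟩ := hfuse _ _ hA hB hA4 hB4
  have hr : n * x * n⁻¹ ∈ Subgroup.zpowers x' := by
    rw [hn]
    exact Subgroup.mem_map.2 ⟨x, Subgroup.mem_zpowers x, rfl⟩
  have hrS : n * x * n⁻¹ ∈ (S : Subgroup G) := hB hr
  have hrr : n * x * n⁻¹ * (n * x * n⁻¹) ≠ 1 := by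
    intro h
    apply hx2
    have h1 : n * x * n⁻¹ * (n * x * n⁻¹) = n * (x * x) * n⁻¹ := by group
    rw [h1] at h
    have h2 : x * x = n⁻¹ * (n * (x * x) * n⁻¹) * n := by group
    rw [h2, h]; group
  have hcomm : x' * (n * x * n⁻¹) = n * x * n⁻¹ * x' := by
    obtain ⟨k, hk⟩ := Subgroup.mem_zpowers_iff.1 hr
    rw [← hk]
    exact ((Commute.refl x').zpow_right k).eq
  rcases centralizer_cases (S : Subgroup G) e hx' hrS hx'2 hcomm with h | h | h | h
  · rw [h, one_mul] at hrr
    exact absurd rfl hrr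
  · exact isConj_iff.2 ⟨n, h⟩
  · rw [h] at hrr
    exact absurd (pow_four_eq_one S e hx') hrr
  · obtain ⟨r₀, _, hr₀⟩ := exists_inverting (S : Subgroup G) e hx' hx'2
    have hinv : x' * x' * x' = x'⁻¹ := by
      have h4 := pow_four_eq_one S e hx'
      have : x' * x' * x' * x' = 1 := by rw [← h4]; group
      exact eq_inv_of_mul_eq_one_left this
    rw [hinv] at h
    have h1 : IsConj x x'⁻¹ := isConj_iff.2 ⟨n, h⟩
    have h2 : IsConj x' x'⁻¹ := isConj_iff.2 ⟨r₀, hr₀⟩
    exact h1.trans h2.symm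

variable (hzc : zS (S : Subgroup G) e ∈ Subgroup.center G)

include hzc in
theorem conj_zS (c : G) : c * zS (S : Subgroup G) e * c⁻¹ = zS (S : Subgroup G) e := by
  rw [(Subgroup.mem_center_iff.1 hzc) c, mul_inv_cancel_right]

include hzc in
theorem two_elt_sq (g : G) (hg : ∃ k : ℕ, orderOf g = 2 ^ k) :
    g * g = 1 ∨ g * g = zS (S : Subgroup G) e := by
  obtain ⟨c, hc⟩ := exists_conj_mem_sylow_elt S g hg
  have h1 : c * g * c⁻¹ * (c * g * c⁻¹) = c * (g * g) * c⁻¹ := by group
  have h2 : g * g = c⁻¹ * (c * (g * g) * c⁻¹) * c := by group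
  rcases sq_cases (S : Subgroup G) e hc with h | h
  · left
    rw [h1] at h
    rw [h2, h]; group
  · right
    rw [h1] at h
    rw [h2, h]
    have := conj_zS S e hzc c⁻¹
    rwa [inv_inv] at this

include hzc in
theorem two_elt_sq_one (g : G) (hg : ∃ k : ℕ, orderOf g = 2 ^ k) (h : g * g = 1) :
    g = 1 ∨ g = zS (S : Subgroup G) e := by
  obtain ⟨c, hc⟩ := exists_conj_mem_sylow_elt S g hg
  have h1 : c * g * c⁻¹ * (c * g * c⁻¹) = 1 := by
    have : c * g * c⁻¹ * (c * g * c⁻¹) = c * (g * g) * c⁻¹ := by group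
    rw [this, h]; group
  have h2 : g = c⁻¹ * (c * g * c⁻¹) * c := by group
  rcases eq_of_sq_one (S : Subgroup G) e hc h1 with h3 | h3
  · left
    rw [h2, h3]; group
  · right
    rw [h2, h3]
    have := conj_zS S e hzc c⁻¹
    rwa [inv_inv] at this

include hzc in
/-- all elements of order four are conjugate -/
theorem isConj_of_sq_eq
    (hfuse : ∀ A B : Subgroup G, A ≤ S → B ≤ S → Nat.card A = 4 → Nat.card B = 4 →
      ∃ n ∈ Subgroup.normalizer ((S : Subgroup G) : Set G),
        B = A.map (MulAut.conj n).toMonoidHom)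
    {g u : G} (hg : ∃ k : ℕ, orderOf g = 2 ^ k) (hgg : g * g = zS (S : Subgroup G) e)
    (hu : u ∈ (S : Subgroup G)) (huu : u * u ≠ 1) : IsConj g u := by
  obtain ⟨c, hc⟩ := exists_conj_mem_sylow_elt S g hg
  have h1 : c * g * c⁻¹ * (c * g * c⁻¹) ≠ 1 := by
    have : c * g * c⁻¹ * (c * g * c⁻¹) = c * (g * g) * c⁻¹ := by group
    rw [this, hgg, conj_zS S e hzc c]
    exact zS_ne_one (S : Subgroup G) e
  have h2 := order_four_conj S e hfuse hc hu h1 huu
  have h3 : IsConj g (c * g * c⁻¹) := isConj_iff.2 ⟨c, rfl⟩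
  exact h3.trans h2

end fus


/-! ### The centralizer of an element of order four -/

section cent

variable {G : Type u} [Group G] [Finite G] (S : Sylow 2 G)
  (e : (S : Subgroup G) ≃* QuaternionGroup 2)

include e

theorem factorization_card_centralizer {u : G} (hu : u ∈ (S : Subgroup G)) (huu : u * u ≠ 1) :
    (Nat.card (Subgroup.centralizer ({u} : Set G))).factorization 2 = 2 := by
  classical
  haveI : Fact (Nat.Prime 2) := ⟨Nat.prime_two⟩
  have huC : u ∈ Subgroup.centralizer ({u} : Set G) := by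
    rw [Subgroup.mem_centralizer_iff]
    intro y hy
    rw [Set.mem_singleton_iff.1 hy]
  have hcomm : ∀ t : Subgroup.centralizer ({u} : Set G), u * (t : G) = (t : G) * u := by
    intro t
    have := (Subgroup.mem_centralizer_iff.1 t.2) u (Set.mem_singleton u)
    exact this
  obtain ⟨u', hu'⟩ : ∃ u' : Subgroup.centralizer ({u} : Set G), u' = ⟨u, huC⟩ := ⟨_, rfl⟩
  have hu'val : (u' : G) = u := by rw [hu']
  have hord : orderOf u' = 4 := by
    rw [← Subgroup.orderOf_coe, hu'val]
    exact orderOf_eq_four S e hu huu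
  have hcardZ : Nat.card (Subgroup.zpowers u') = 2 ^ 2 := by
    rw [Nat.card_zpowers, hord]; norm_num
  have hC0 : Nat.card (Subgroup.centralizer ({u} : Set G)) ≠ 0 := Nat.card_pos.ne'
  have h4 : 2 ^ 2 ∣ Nat.card (Subgroup.centralizer ({u} : Set G)) := by
    rw [← hcardZ]
    exact Subgroup.card_subgroup_dvd_card _
  have h8 : ¬ 2 ^ 3 ∣ Nat.card (Subgroup.centralizer ({u} : Set G)) := by
    intro hdvd
    obtain ⟨K, hK8, hKle⟩ := Sylow.exists_subgroup_card_pow_prime_le 2 hdvd
      (Subgroup.zpowers u') hcardZ (by norm_num)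
    have hu'K : u' ∈ K := hKle (Subgroup.mem_zpowers u')
    have hpK : IsPGroup 2 (K.map (Subgroup.centralizer ({u} : Set G)).subtype) := by
      apply IsPGroup.map
      exact IsPGroup.of_card hK8
    obtain ⟨c, hc⟩ := exists_conj_mem_sylow S _ hpK
    have hvS : c * u * c⁻¹ ∈ (S : Subgroup G) := by
      apply hc
      exact Subgroup.mem_map.2 ⟨u', hu'K, hu'val⟩
    have hvv : c * u * c⁻¹ * (c * u * c⁻¹) ≠ 1 := by
      intro h
      apply huu
      have h1 : c * u * c⁻¹ * (c * u * c⁻¹) = c * (u * u) * c⁻¹ := by group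
      rw [h1] at h
      have h2 : u * u = c⁻¹ * (c * (u * u) * c⁻¹) * c := by group
      rw [h2, h]; group
    have hmem : ∀ t : K, ((t : Subgroup.centralizer ({u} : Set G)) : G) ∈
        ({1, u, u * u, u * u * u} : Finset G) := by
      intro t
      have htS : c * ((t : Subgroup.centralizer ({u} : Set G)) : G) * c⁻¹ ∈ (S : Subgroup G) := by
        apply hc
        exact Subgroup.mem_map.2 ⟨t, t.2, rfl⟩
      have hct : c * u * c⁻¹ * (c * ((t : Subgroup.centralizer ({u} : Set G)) : G) * c⁻¹) =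
          c * ((t : Subgroup.centralizer ({u} : Set G)) : G) * c⁻¹ * (c * u * c⁻¹) := by
        have h1 : c * u * c⁻¹ * (c * ((t : Subgroup.centralizer ({u} : Set G)) : G) * c⁻¹) =
            c * (u * ((t : Subgroup.centralizer ({u} : Set G)) : G)) * c⁻¹ := by group
        rw [h1, hcomm]; group
      have hback : ∀ w : G, c * ((t : Subgroup.centralizer ({u} : Set G)) : G) * c⁻¹ = c * w * c⁻¹ →
          ((t : Subgroup.centralizer ({u} : Set G)) : G) = w := by
        intro w hw
        have := mul_right_cancel hw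
        exact mul_left_cancel this
      simp only [Finset.mem_insert, Finset.mem_singleton]
      rcases centralizer_cases (S : Subgroup G) e hvS htS hvv hct with h | h | h | h
      · left
        apply hback 1
        rw [h]; group
      · right; left
        exact hback u h
      · right; right; left
        apply hback (u * u)
        rw [h]; group
      · right; right; right
        apply hback (u * u * u)
        rw [h]; group
    let f : K → (({1, u, u * u, u * u * u} : Finset G) : Type u) :=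
      fun t => ⟨((t : Subgroup.centralizer ({u} : Set G)) : G), hmem t⟩
    have hf : Function.Injective f := by
      intro a b hab
      have : ((a : Subgroup.centralizer ({u} : Set G)) : G) =
          ((b : Subgroup.centralizer ({u} : Set G)) : G) :=
        congrArg (fun q : (({1, u, u * u, u * u * u} : Finset G) : Type u) => (q : G)) hab
      exact Subtype.ext (Subtype.ext this)
    have h1 := Nat.card_le_card_of_injective f hf
    rw [hK8, Nat.card_eq_fintype_card, Fintype.card_coe] at h1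
    have h2 : ({1, u, u * u, u * u * u} : Finset G).card ≤ 4 := Finset.card_le_four
    omega
  have h2 := (Nat.Prime.pow_dvd_iff_le_factorization Nat.prime_two hC0).1 h4
  have h3 : ¬ 3 ≤ (Nat.card (Subgroup.centralizer ({u} : Set G))).factorization 2 := fun h =>
    h8 ((Nat.Prime.pow_dvd_iff_le_factorization Nat.prime_two hC0).2 h)
  omega

end cent


/-! ### The rank of the principal block -/

section rank

variable {G : Type u} [Group G] [Finite G] (S : Sylow 2 G)
  (e : (S : Subgroup G) ≃* QuaternionGroup 2)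
  (hzc : zS (S : Subgroup G) e ∈ Subgroup.center G)

theorem orderOf_zS : orderOf (zS (S : Subgroup G) e) = 2 :=
  orderOf_eq_prime (by rw [pow_two]; exact zS_mul_self (S : Subgroup G) e)
    (zS_ne_one (S : Subgroup G) e)

theorem sq_eq_one_of_mem_zpowers {y : G} (hy : y ∈ Subgroup.zpowers (zS (S : Subgroup G) e)) :
    y * y = 1 := by
  obtain ⟨k, rfl⟩ := Subgroup.mem_zpowers_iff.1 hy
  rw [← (Commute.refl (zS (S : Subgroup G) e)).mul_zpow, zS_mul_self, one_zpow]

/-- an element whose `2^k`-th power lies in `⟨z⟩` is a `2`-element -/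
theorem two_elt_of_pow_mem (g : G) (k : ℕ)
    (h : g ^ 2 ^ k ∈ Subgroup.zpowers (zS (S : Subgroup G) e)) : ∃ j : ℕ, orderOf g = 2 ^ j := by
  have h1 := sq_eq_one_of_mem_zpowers S e h
  have h2 : g ^ 2 ^ (k + 1) = 1 := by
    rw [pow_succ, pow_mul, pow_two]; exact h1
  obtain ⟨j, _, hj⟩ := (Nat.dvd_prime_pow Nat.prime_two).1 (orderOf_dvd_of_pow_eq_one h2)
  exact ⟨j, hj⟩

include hzc in
theorem normal_zpowers_zS : (Subgroup.zpowers (zS (S : Subgroup G) e)).Normal := by
  refine ⟨fun n hn g => ?_⟩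
  have hc : g * n * g⁻¹ = n := by
    obtain ⟨k, rfl⟩ := Subgroup.mem_zpowers_iff.1 hn
    have hzk : zS (S : Subgroup G) e ^ k ∈ Subgroup.center G := Subgroup.zpow_mem _ hzc k
    have := Subgroup.mem_center_iff.1 hzk g
    rw [this, mul_inv_cancel_right]
  rw [hc]
  exact hn

include hzc in
/-- `l(B₀(G)) = 3` -/
theorem blockRank_principal_eq_three (M : Ideal AlgInt) (hM : IsPModular 2 M)
    (hfuse : ∀ A B : Subgroup G, A ≤ S → B ≤ S → Nat.card A = 4 → Nat.card B = 4 →
      ∃ n ∈ Subgroup.normalizer ((S : Subgroup G) : Set G),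
        B = A.map (MulAut.conj n).toMonoidHom) :
    blockRank 2 (principalBlock M G) = 3 := by
  classical
  haveI : Fact (Nat.Prime 2) := ⟨Nat.prime_two⟩
  obtain ⟨z, hzdef⟩ : ∃ z : G, z = zS (S : Subgroup G) e := ⟨_, rfl⟩
  haveI hnorm : (Subgroup.zpowers z).Normal := by
    rw [hzdef]; exact normal_zpowers_zS S e hzc
  have hz2 : orderOf z = 2 := by rw [hzdef]; exact orderOf_zS S e
  have hQ : IsPGroup 2 (Subgroup.zpowers z) := by
    apply IsPGroup.of_card (n := 1)
    rw [Nat.card_zpowers, hz2, pow_one]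
  have hsup : Subgroup.zpowers z ⊔ Subgroup.centralizer ((Subgroup.zpowers z : Subgroup G) : Set G)
      = ⊤ := by
    have : Subgroup.centralizer ((Subgroup.zpowers z : Subgroup G) : Set G) = ⊤ := by
      rw [Subgroup.centralizer_eq_top_iff_subset]
      intro y hy
      obtain ⟨k, rfl⟩ := Subgroup.mem_zpowers_iff.1 hy
      rw [hzdef]
      exact Subgroup.zpow_mem _ hzc k
    rw [this]
    exact sup_top_eq _
  rw [Cfsg.Agent.S4571.result 2 M hM (Subgroup.zpowers z) hQ hsup]
  -- a Sylow subgroup of the quotient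
  obtain ⟨P⟩ : Nonempty (Sylow 2 (G ⧸ Subgroup.zpowers z)) := inferInstance
  have hcardQ : (Nat.card (G ⧸ Subgroup.zpowers z)).factorization 2 = 2 := by
    have h1 := Subgroup.card_eq_card_quotient_mul_card_subgroup (Subgroup.zpowers z)
    rw [Nat.card_zpowers, hz2] at h1
    have hq : Nat.card (G ⧸ Subgroup.zpowers z) ≠ 0 := Nat.card_pos.ne'
    have h2 : (Nat.card G).factorization 2 =
        (Nat.card (G ⧸ Subgroup.zpowers z)).factorization 2 + 1 := by
      rw [h1, Nat.factorization_mul hq (by norm_num)]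
      simp [Nat.Prime.factorization_self Nat.prime_two]
    have h3 := factorization_card S e
    omega
  have hP : Nat.card P = 4 := by
    have h := Sylow.card_eq_multiplicity P
    rw [hcardQ] at h
    exact h
  -- membership in `⟨z⟩`
  have hmemQ : ∀ g : G, g = 1 ∨ g = z → g ∈ Subgroup.zpowers z := by
    rintro g (rfl | rfl)
    · exact Subgroup.one_mem _
    · exact Subgroup.mem_zpowers _
  have hlift : ∀ (g : G) (k : ℕ), (QuotientGroup.mk g : G ⧸ Subgroup.zpowers z) ^ 2 ^ k = 1 →
      ∃ j : ℕ, orderOf g = 2 ^ j := by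
    intro g k hk
    rw [← QuotientGroup.mk_pow, QuotientGroup.eq_one_iff, hzdef] at hk
    exact two_elt_of_pow_mem S e g k hk
  have hexp : ∀ x : P, x * x = 1 := by
    intro x
    obtain ⟨g, hg⟩ := QuotientGroup.mk_surjective (x : G ⧸ Subgroup.zpowers z)
    obtain ⟨k, hk⟩ := P.2 x
    have hk' : (QuotientGroup.mk g : G ⧸ Subgroup.zpowers z) ^ 2 ^ k = 1 := by
      rw [hg]
      exact_mod_cast congrArg Subtype.val hk
    have hg2 := hlift g k hk'
    have h1 : g * g ∈ Subgroup.zpowers z := by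
      apply hmemQ
      rw [hzdef]
      exact two_elt_sq S e hzc g hg2
    apply Subtype.ext
    have h2 : (QuotientGroup.mk (g * g) : G ⧸ Subgroup.zpowers z) = 1 :=
      (QuotientGroup.eq_one_iff _).2 h1
    rw [QuotientGroup.mk_mul, hg] at h2
    exact_mod_cast h2
  obtain ⟨u, huS, huu⟩ := exists_order_four (S : Subgroup G) e
  have hinv : ∀ s : G ⧸ Subgroup.zpowers z, orderOf s = 2 →
      ∃ g : G, (QuotientGroup.mk g : G ⧸ Subgroup.zpowers z) = s ∧ IsConj g u := by
    intro s hs
    obtain ⟨g, hg⟩ := QuotientGroup.mk_surjective s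
    have hs2 : s ^ 2 ^ 1 = 1 := by
      rw [pow_one, ← hs]; exact pow_orderOf_eq_one s
    have hg2 : ∃ j : ℕ, orderOf g = 2 ^ j := by
      apply hlift g 1
      rw [hg]; exact hs2
    refine ⟨g, hg, ?_⟩
    rcases two_elt_sq S e hzc g hg2 with h | h
    · exfalso
      have h1 : g ∈ Subgroup.zpowers z := by
        apply hmemQ
        rw [hzdef]
        exact two_elt_sq_one S e hzc g hg2 h
      have h2 : (QuotientGroup.mk g : G ⧸ Subgroup.zpowers z) = 1 :=
        (QuotientGroup.eq_one_iff _).2 h1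
      rw [hg] at h2
      rw [h2, orderOf_one] at hs
      norm_num at hs
    · exact isConj_of_sq_eq S e hzc hfuse hg2 h huS huu
  have hone : ∀ s t : G ⧸ Subgroup.zpowers z, orderOf s = 2 → orderOf t = 2 → IsConj s t := by
    intro s t hs ht
    obtain ⟨g, hg, hgu⟩ := hinv s hs
    obtain ⟨h, hh, hhu⟩ := hinv t ht
    have := (QuotientGroup.mk' (Subgroup.zpowers z)).map_isConj (hgu.trans hhu.symm)
    rw [← hg, ← hh]
    exact this
  exact Cfsg.Agent.S4512.result M hM P hP hexp hone

end rank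


/-! ### Subsections of central elements -/

section central

open Cfsg.Agent.Helper74.SS Cfsg.Agent.Helper77 Cfsg.Agent.Helper78

variable {G : Type u} [Group G] [Fintype G]

theorem secNorm_of_central (x : G) (hx : x ∈ Subgroup.center G) (χ : IrrCharacter G) :
    secNorm 2 x χ = (Nat.card G : ℂ)⁻¹ *
      ∑ g : G, pRegularPart 2 (χ : G → ℂ) g * conj (pRegularPart 2 (χ : G → ℂ) g) := by
  classical
  letI : Fintype (Subgroup.centralizer ({x} : Set G)) := Fintype.ofFinite _
  have htop : Subgroup.centralizer ({x} : Set G) = ⊤ := by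
    rw [Subgroup.centralizer_eq_top_iff_subset]
    intro y hy
    rw [Set.mem_singleton_iff.1 hy]
    exact hx
  have hcard : Nat.card (Subgroup.centralizer ({x} : Set G)) = Nat.card G := by
    rw [htop, Subgroup.card_top]
  unfold secNorm classInner
  rw [hcard]
  congr 1
  have h1 := sum_subgroup_eq (Subgroup.centralizer ({x} : Set G))
    (fun g : G => pRegularPart 2 (χ : G → ℂ) g * conj (pRegularPart 2 (χ : G → ℂ) g))
    (fun y hy => absurd (by rw [htop]; trivial) hy)
  rw [← h1]
  refine Finset.sum_congr rfl fun c _ => ?_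
  by_cases hc : 2 ∣ orderOf c
  · have hc' : 2 ∣ orderOf (c : G) := by rwa [Subgroup.orderOf_coe]
    rw [pRegularPart_of_singular 2 _ hc, pRegularPart_of_singular 2 _ hc']
  · have hc' : ¬ 2 ∣ orderOf (c : G) := by rwa [Subgroup.orderOf_coe]
    rw [pRegularPart_of_regular 2 _ hc, pRegularPart_of_regular 2 _ hc']
    have h2 : (χ : G → ℂ) (x * (c : G)) =
        ((χ : G → ℂ) x / (χ : G → ℂ) 1) * (χ : G → ℂ) (c : G) := by
      rw [← (Subgroup.mem_center_iff.1 hx) (c : G)]
      exact irr_mul_central' χ x hx (c : G)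
    have h3 := irr_central_norm χ x hx
    show (χ : G → ℂ) (x * (c : G)) * conj ((χ : G → ℂ) (x * (c : G))) = _
    rw [h2, map_mul]
    calc (χ : G → ℂ) x / (χ : G → ℂ) 1 * (χ : G → ℂ) (c : G) *
          (conj ((χ : G → ℂ) x / (χ : G → ℂ) 1) * conj ((χ : G → ℂ) (c : G)))
        = ((χ : G → ℂ) x / (χ : G → ℂ) 1 * conj ((χ : G → ℂ) x / (χ : G → ℂ) 1)) *
          ((χ : G → ℂ) (c : G) * conj ((χ : G → ℂ) (c : G))) := by ring
      _ = (χ : G → ℂ) (c : G) * conj ((χ : G → ℂ) (c : G)) := by rw [h3, one_mul]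

theorem secNorm_central_eq (x : G) (hx : x ∈ Subgroup.center G) (χ : IrrCharacter G) :
    secNorm 2 x χ = secNorm 2 (1 : G) χ := by
  rw [secNorm_of_central x hx χ, secNorm_of_central 1 (Subgroup.one_mem _) χ]

end central


/-! ### The count -/

section main

open Cfsg.Agent.Helper74.SS Cfsg.Agent.Helper74.KL Cfsg.Agent.Helper77 Cfsg.Agent.Helper78

/-- **`k(B₀) = 7`** for a quaternion Sylow `2`-subgroup of order `8`, given the Brauer–Suzuki
theorem (the centre has order `2`) and the fusion of the subgroups of order `4`. -/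
theorem card_principalBlock_eq_seven {G : Type u} [Group G] [Finite G] (M : Ideal AlgInt)
    (hM : IsPModular 2 M) (S : Sylow 2 G) (e : (S : Subgroup G) ≃* QuaternionGroup 2)
    (hcenter : Nat.card (Subgroup.center G) = 2)
    (hfuse : ∀ A B : Subgroup G, A ≤ S → B ≤ S → Nat.card A = 4 → Nat.card B = 4 →
      ∃ n ∈ Subgroup.normalizer ((S : Subgroup G) : Set G),
        B = A.map (MulAut.conj n).toMonoidHom) :
    Nat.card (principalBlock M G) = 7 := by
  classical
  letI : Fintype G := Fintype.ofFinite G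
  haveI : Fact (Nat.Prime 2) := ⟨Nat.prime_two⟩
  haveI := isPrime_of_isPModular hM
  have hzc := zS_central S e hcenter
  obtain ⟨z, hzdef⟩ : ∃ z : G, z = zS (S : Subgroup G) e := ⟨_, rfl⟩
  obtain ⟨u, huS, huu⟩ := exists_order_four (S : Subgroup G) e
  have hzcen : z ∈ Subgroup.center G := by rw [hzdef]; exact hzc
  have hz1 : z ≠ 1 := by rw [hzdef]; exact zS_ne_one (S : Subgroup G) e
  have hzz : z * z = 1 := by rw [hzdef]; exact zS_mul_self (S : Subgroup G) e
  have hu4 : orderOf u = 4 := orderOf_eq_four S e huS huu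
  have hup : ∃ k : ℕ, orderOf u = 2 ^ k := ⟨2, by rw [hu4]; norm_num⟩
  have hz2 : orderOf z = 2 := by rw [hzdef]; exact orderOf_zS S e
  have hzp : ∃ k : ℕ, orderOf z = 2 ^ k := ⟨1, by rw [hz2]; norm_num⟩
  have h1z : (1 : G) ≠ z := hz1.symm
  have h1u : (1 : G) ≠ u := by
    intro h; apply huu; rw [← h, one_mul]
  have hzu : z ≠ u := by
    intro h; apply huu; rw [← h]; exact hzz
  have hconjz : ∀ y : G, IsConj z y → y = z := by
    intro y hy
    obtain ⟨c, hc⟩ := isConj_iff.1 hy
    rw [← hc, hzdef]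
    exact conj_zS S e hzc c
  -- the representatives
  have hX : ∀ x ∈ ({1, z, u} : Finset G), ∃ k : ℕ, orderOf x = 2 ^ k := by
    intro x hx
    simp only [Finset.mem_insert, Finset.mem_singleton] at hx
    rcases hx with rfl | rfl | rfl
    · exact ⟨0, by simp⟩
    · exact hzp
    · exact hup
  have hXrep : ∀ g : G, (∃ k : ℕ, orderOf g = 2 ^ k) →
      ∃! x, x ∈ ({1, z, u} : Finset G) ∧ IsConj g x := by
    intro g hg
    by_cases hg1 : g = 1
    · subst hg1
      refine ⟨1, ⟨by simp, IsConj.refl 1⟩, ?_⟩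
      rintro y ⟨_, hy⟩
      exact isConj_one_right.1 hy
    by_cases hgz : g = z
    · subst hgz
      refine ⟨g, ⟨by simp, IsConj.refl g⟩, ?_⟩
      rintro y ⟨_, hy⟩
      exact hconjz y hy
    have hgg : g * g = zS (S : Subgroup G) e := by
      rcases two_elt_sq S e hzc g hg with h | h
      · rcases two_elt_sq_one S e hzc g hg h with h' | h'
        · exact absurd h' hg1
        · exact absurd (h'.trans hzdef.symm) hgz
      · exact h
    refine ⟨u, ⟨by simp, isConj_of_sq_eq S e hzc hfuse hg hgg huS huu⟩, ?_⟩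
    rintro y ⟨hyX, hy⟩
    simp only [Finset.mem_insert, Finset.mem_singleton] at hyX
    rcases hyX with rfl | rfl | rfl
    · exact absurd (isConj_one_left.1 hy) hg1
    · exact absurd (hconjz g hy.symm) hgz
    · rfl
  -- the rank of the principal block
  have hrank3 : blockRank 2 (principalBlock M G) = 3 :=
    blockRank_principal_eq_three S e hzc M hM hfuse
  -- the centralizer of `u`
  letI : Fintype (Subgroup.centralizer ({u} : Set G)) := Fintype.ofFinite _
  have hCcard := factorization_card_centralizer S e huS huu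
  have hzC : z ∈ Subgroup.centralizer ({u} : Set G) := by
    rw [mem_cent_iff]
    exact (Subgroup.mem_center_iff.1 hzcen) u
  have hzord : orderOf (⟨z, hzC⟩ : Subgroup.centralizer ({u} : Set G)) = 2 := by
    rw [← Subgroup.orderOf_coe]
    exact hz2
  have hzcenC : (⟨z, hzC⟩ : Subgroup.centralizer ({u} : Set G)) ∈
      Subgroup.center (Subgroup.centralizer ({u} : Set G)) := by
    rw [Subgroup.mem_center_iff]
    intro c
    apply Subtype.ext
    exact (Subgroup.mem_center_iff.1 hzcen) (c : G)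
  have hrankC : blockRank 2 (principalBlock M (Subgroup.centralizer ({u} : Set G))) = 1 :=
    blockRank_principal_of_central_involution hM _ hzord hzcenC hCcard
  -- the subsection sums
  have hB₀ : IsPBlock M (principalBlock M G) := isPBlock_principalBlock M
  have hS : {b : Set (IrrCharacter (Subgroup.centralizer ({u} : Set G))) |
      IsInducedBlock M (Subgroup.centralizer ({u} : Set G)) b (principalBlock M G)} =
      {principalBlock M (Subgroup.centralizer ({u} : Set G))} := by
    ext b
    rw [Set.mem_singleton_iff]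
    show IsInducedBlock M (Subgroup.centralizer ({u} : Set G)) b (principalBlock M G) ↔ _
    exact blocks_inducing_principal hM u hup b
  have hsumu : ∑ χ ∈ (Set.toFinite (principalBlock M G)).toFinset, secNorm 2 u χ = 1 := by
    have h := sum_blockRank_eq hM u hup hB₀
    rw [hS, finsum_mem_singleton, hrankC] at h
    rw [← h]
    norm_num
  have hsec : ∀ χ : IrrCharacter G,
      secNorm 2 (1 : G) χ + (secNorm 2 z χ + secNorm 2 u χ) = 1 := by
    intro χ
    have h := sum_secNorm ({1, z, u} : Finset G) hX hXrep χ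
    rw [Finset.sum_insert (by simp [h1z, h1u]), Finset.sum_pair hzu] at h
    exact h
  obtain ⟨T, hTdef⟩ : ∃ T : Finset (IrrCharacter G),
      T = (Set.toFinite (principalBlock M G)).toFinset := ⟨_, rfl⟩
  have hl := blockRank_eq_sum hM hB₀
  rw [← hTdef] at hl hsumu
  rw [hrank3] at hl
  have hsum1 : ∑ χ ∈ T, secNorm 2 (1 : G) χ = 3 := by
    rw [Finset.sum_congr rfl (fun χ _ => Cfsg.Agent.S4512.secNorm_one χ), ← hl]
    norm_num
  have hsumz : ∑ χ ∈ T, secNorm 2 z χ = 3 := by
    rw [Finset.sum_congr rfl (fun χ _ => secNorm_central_eq z hzcen χ), hsum1]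
  have hcard : (T.card : ℂ) = 7 := by
    have h1 : (T.card : ℂ) = ∑ χ ∈ T, (1 : ℂ) := by
      rw [Finset.sum_const, nsmul_eq_mul, mul_one]
    rw [h1, Finset.sum_congr rfl (fun χ _ => (hsec χ).symm), Finset.sum_add_distrib,
      Finset.sum_add_distrib, hsum1, hsumz, hsumu]
    norm_num
  have hcard' : T.card = 7 := by exact_mod_cast hcard
  rw [Nat.card_coe_set_eq, Set.ncard_eq_toFinset_card _ (Set.toFinite _), ← hTdef, hcard']

end main

end Cfsg.Agent.Helper16.QuatSeven
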