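import Mathlib
import Cfsg.Agent.Lib.Helper16.QuatSeven
import Cfsg.Agent.S0950

/-!
# Quaternion Sylow `2`-subgroups of order `8`: `k(B₀) = 7` from the centre having order `2` (helper16)
-/

set_option autoImplicit false
set_option linter.unusedSectionVars false
set_option linter.unusedVariables false
set_option linter.style.haveILetI false

namespace Cfsg.Agent.Helper16.QuatSeven

open Cfsg

universe u

/-- no normal complement to `S` when `O(G) = 1` and `G ≠ S` -/
theorem no_normal_complement {G : Type u} [Group G] [Finite G] (S : Sylow 2 G)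
    (hO : ∀ N : Subgroup G, N.Normal → Odd (Nat.card N) → N = ⊥) (hG : (S : Subgroup G) ≠ ⊤) :
    ∀ N : Subgroup G, N.Normal → ¬ Subgroup.IsComplement' N (S : Subgroup G) := by
  haveI : Fact (Nat.Prime 2) := ⟨Nat.prime_two⟩
  intro N hN hc
  have h1 : Nat.card N = (S : Subgroup G).index := hc.index_eq_card.symm
  have h2 : ¬ 2 ∣ (S : Subgroup G).index := S.not_dvd_index
  have h3 : Odd (Nat.card N) := by
    rw [h1]
    exact Nat.odd_iff.2 (Nat.two_dvd_ne_zero.1 h2)
  have h4 := hO N hN h3
  rw [h4] at hc
  exact hG (Subgroup.isComplement'_bot_left.1 hc)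

/-- **`k(B₀) = 7`**, given that the centre has order `2` (the Brauer–Suzuki theorem). -/
theorem card_principalBlock_eq_seven_of_center {G : Type u} [Group G] [Finite G]
    (M : Ideal AlgInt) (hM : IsPModular 2 M) (S : Sylow 2 G)
    (e : (S : Subgroup G) ≃* QuaternionGroup 2)
    (hO : ∀ N : Subgroup G, N.Normal → Odd (Nat.card N) → N = ⊥) (hG : (S : Subgroup G) ≠ ⊤)
    (hcenter : Nat.card (Subgroup.center G) = 2) :
    Nat.card (principalBlock M G) = 7 :=
  card_principalBlock_eq_seven M hM S e hcenter
    (fun A B hA hB hA4 hB4 =>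
      Cfsg.Agent.S0950.result S e (no_normal_complement S hO hG) A B hA hB hA4 hB4)

end Cfsg.Agent.Helper16.QuatSeven
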