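import Mathlib
import Cfsg.Agent.Lib.Helper93.RU0
import Cfsg.Agent.Lib.Helper35.RJ0
import Cfsg.Agent.Lib.Helper82.RUA

/-!
# RJ server (helper35, S2279), piece (CM): the general commutator rule for rank-one perturbations
-/

set_option autoImplicit false

namespace Cfsg.Agent.Helper16.RJ

open Matrix Cfsg.Agent.Helper93.RU Cfsg.Agent.Helper35.RJ

variable {F : Type*} [Field F] {m : ℕ}

/-- (CM) general commutator rule.  `A = aφᵀ`, `B = a'φ'ᵀ`: `AB = 0`, `BA = (φ'⬝a) a'φᵀ`, `A² = B² = 0`,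
`(1+A)(1+B)(1-A)(1-B) = 1 - BA`. -/
theorem comm_tvS (a a' φ φ' : Fin (m + 3) → F) (h1 : φ ⬝ᵥ a = 0) (h2 : φ' ⬝ᵥ a' = 0)
    (h3 : φ ⬝ᵥ a' = 0) :
    tvS a φ * tvS a' φ' * (tvS a φ)⁻¹ * (tvS a' φ')⁻¹ = tvS a' (-(φ' ⬝ᵥ a) • φ) := by
  have h4 : (-(φ' ⬝ᵥ a) • φ) ⬝ᵥ a' = 0 := by
    rw [smul_dotProduct, h3, smul_zero]
  have hn1 : (-φ) ⬝ᵥ a = 0 := by rw [neg_dotProduct, h1, neg_zero]
  have hn2 : (-φ') ⬝ᵥ a' = 0 := by rw [neg_dotProduct, h2, neg_zero]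
  rw [Cfsg.Agent.Helper82.RU.tvS_inv a φ h1, Cfsg.Agent.Helper82.RU.tvS_inv a' φ' h2]
  apply Subtype.ext
  rw [Matrix.SpecialLinearGroup.coe_mul, Matrix.SpecialLinearGroup.coe_mul,
    Matrix.SpecialLinearGroup.coe_mul, Cfsg.Agent.Helper82.RU.tvS_val a φ h1,
    Cfsg.Agent.Helper82.RU.tvS_val a' φ' h2, Cfsg.Agent.Helper82.RU.tvS_val a (-φ) hn1,
    Cfsg.Agent.Helper82.RU.tvS_val a' (-φ') hn2, Cfsg.Agent.Helper82.RU.tvS_val a' _ h4]
  unfold tvM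
  set A := Matrix.vecMulVec a φ with hA
  set B := Matrix.vecMulVec a' φ' with hB
  have hAA : A * A = 0 := by
    rw [hA, Matrix.vecMulVec_mul_vecMulVec, h1, zero_smul, Matrix.vecMulVec_zero]
  have hBB : B * B = 0 := by
    rw [hB, Matrix.vecMulVec_mul_vecMulVec, h2, zero_smul, Matrix.vecMulVec_zero]
  have hAB : A * B = 0 := by
    rw [hA, hB, Matrix.vecMulVec_mul_vecMulVec, h3, zero_smul, Matrix.vecMulVec_zero]
  have hBA : B * A = (φ' ⬝ᵥ a) • Matrix.vecMulVec a' φ := by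
    rw [hA, hB, Matrix.vecMulVec_mul_vecMulVec, Matrix.vecMulVec_smul]
  have hnA : Matrix.vecMulVec a (-φ) = -A := by rw [hA, Matrix.vecMulVec_neg]
  have hnB : Matrix.vecMulVec a' (-φ') = -B := by rw [hB, Matrix.vecMulVec_neg]
  have hR : Matrix.vecMulVec a' (-(φ' ⬝ᵥ a) • φ) = -(B * A) := by
    rw [hBA, Matrix.vecMulVec_smul, neg_smul]
  rw [hnA, hnB, hR]
  have e1 : (1 + A) * (1 + B) = 1 + A + B + A * B := by noncomm_ring
  have e2 : (1 + A + B) * (1 + -A) = 1 + B - B * A - A * A := by noncomm_ring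
  have e3 : (1 + B - B * A) * (1 + -B) = 1 - B * A - B * B + B * (A * B) := by noncomm_ring
  rw [e1, hAB, add_zero, e2, hAA, sub_zero, e3, hBB, hAB, mul_zero, sub_zero, add_zero,
    sub_eq_add_neg]

end Cfsg.Agent.Helper16.RJ
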