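import Mathlib
import Cfsg.Agent.Lib.Helper93.RU0
import Cfsg.Agent.Lib.Helper35.RJ0
import Cfsg.Agent.Lib.Helper82.RUA
import Cfsg.Agent.Lib.Helper87.RJP
import Cfsg.Agent.Lib.Helper87.RJW1

/-!
# RJ server (helper35, S2279), piece (W2): `e_last` is a full centre
-/

set_option autoImplicit false

namespace Cfsg.Agent.Helper16.RJ

open Matrix Cfsg.Agent.Helper93.RU Cfsg.Agent.Helper35.RJ

variable {F : Type*} [Field F] {m : ℕ}

theorem h16_dot_eV (ψ : Fin (m + 3) → F) (k : Fin (m + 3)) : ψ ⬝ᵥ (eV k : Fin (m + 3) → F) = ψ k := by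
  unfold eV
  rw [dotProduct_single_one]

theorem h16_phV_zero : phV m F 0 = eV 0 := by
  unfold phV
  rw [neg_zero, zpow_zero, Matrix.SpecialLinearGroup.coe_one, Matrix.vecMul_one]

theorem h16_phV_neg_last (i : ℕ) (hi : i ≤ m + 1) : phV m F (-(i : ℤ)) (lastI m) = 0 := by
  rw [Cfsg.Agent.Helper87.RJ.h87_phV_neg_apply, Cfsg.Agent.Helper87.RJ.h87_lastI_val,
    Nat.choose_eq_zero_of_lt (by omega), Nat.cast_zero]

/-- `tvS e_last (c • φ_{-i}) = J^{-i} T(i,0;c) J^{i} ∈ H`. -/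
theorem h16_T0_mem (H : Subgroup (SLm m F)) (hu : uEl m F ∈ H)
    (hL : ∀ d, d ≤ m + 1 → ∀ x : F, x ∈ Lam H d) (i : ℕ) (hi : i ≤ m + 1) (c : F) :
    tvS (eV (lastI m)) (c • phV m F (-(i : ℤ))) ∈ H := by
  have hT : Tjk (m := m) (i : ℤ) 0 c ∈ H := hL i hi c
  unfold Tjk at hT
  have hφ : (c • phV m F 0) ⬝ᵥ aV m F (i : ℤ) = 0 := by
    rw [smul_dotProduct, Cfsg.Agent.Helper87.RJ.pair, sub_zero, Cfsg.Agent.Helper87.RJ.pi_nat,
      Nat.choose_eq_zero_of_lt (by omega), Nat.cast_zero, smul_zero]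
  have hg : (uEl m F) ^ (-(i : ℤ)) ∈ H := H.zpow_mem hu _
  obtain ⟨-, hconj⟩ := Cfsg.Agent.Helper82.RU.tvS_conj ((uEl m F) ^ (-(i : ℤ))) (aV m F (i : ℤ))
    (c • phV m F 0) hφ
  have hmem : (uEl m F) ^ (-(i : ℤ)) * tvS (aV m F (i : ℤ)) (c • phV m F 0) *
      ((uEl m F) ^ (-(i : ℤ)))⁻¹ ∈ H := H.mul_mem (H.mul_mem hg hT) (H.inv_mem hg)
  rw [hconj] at hmem
  have e1 : ((uEl m F) ^ (-(i : ℤ))).1 *ᵥ aV m F (i : ℤ) = eV (lastI m) := by
    unfold aV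
    rw [Matrix.mulVec_mulVec, ← Matrix.SpecialLinearGroup.coe_mul, ← _root_.zpow_add,
      neg_add_cancel, zpow_zero, Matrix.SpecialLinearGroup.coe_one, Matrix.one_mulVec]
  have e2 : (c • phV m F 0) ᵥ* (((uEl m F) ^ (-(i : ℤ)))⁻¹).1 = c • phV m F (-(i : ℤ)) := by
    rw [Matrix.smul_vecMul, h16_phV_zero]
    unfold phV
    rw [← _root_.zpow_neg]
  rw [e1, e2] at hmem
  exact hmem

/-- (W2) `ψ ⬝ e_last = ψ last = 0`; (W1); `tvS e_last (c • φ_{-i}) = T(0,-i;c)` = (TS) of `T(i,0;c) ∈ H` by `-i`;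
products by `tvS_mul` (finite sum: induction). -/
theorem last_mem_W (H : Subgroup (SLm m F)) (hu : uEl m F ∈ H)
    (hL : ∀ d, d ≤ m + 1 → ∀ x : F, x ∈ Lam H d) : eV (lastI m) ∈ Wset H := by
  intro φ hφ
  rw [h16_dot_eV] at hφ
  obtain ⟨c, hc⟩ := Cfsg.Agent.Helper87.RJ.phV_span φ hφ
  have key : ∀ s : Finset (Fin (m + 2)),
      (∑ i ∈ s, c i • phV m F (-(i.val : ℤ))) ⬝ᵥ (eV (lastI m) : Fin (m + 3) → F) = 0 ∧
      tvS (eV (lastI m)) (∑ i ∈ s, c i • phV m F (-(i.val : ℤ))) ∈ H := by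
    intro s
    induction s using Finset.induction_on with
    | empty =>
      refine ⟨?_, ?_⟩
      · rw [Finset.sum_empty, zero_dotProduct]
      · rw [Finset.sum_empty, Cfsg.Agent.Helper82.RU.tvS_zero]
        exact H.one_mem
    | insert a s ha ih =>
      obtain ⟨ih1, ih2⟩ := ih
      have ha1 : (c a • phV m F (-(a.val : ℤ))) ⬝ᵥ (eV (lastI m) : Fin (m + 3) → F) = 0 := by
        rw [h16_dot_eV, Pi.smul_apply, h16_phV_neg_last a.val (by have := a.isLt; omega),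
          smul_zero]
      have ha2 : tvS (eV (lastI m)) (c a • phV m F (-(a.val : ℤ))) ∈ H :=
        h16_T0_mem H hu hL a.val (by have := a.isLt; omega) (c a)
      refine ⟨?_, ?_⟩
      · rw [Finset.sum_insert ha, add_dotProduct, ha1, ih1, add_zero]
      · rw [Finset.sum_insert ha, ← Cfsg.Agent.Helper82.RU.tvS_mul _ _ _ ha1 ih1]
        exact H.mul_mem ha2 ih2
  have := (key Finset.univ).2
  rw [← hc] at this
  exact this

end Cfsg.Agent.Helper16.RJ
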