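import Mathlib
import Cfsg.Agent.Lib.Helper93.RU0

/-!
Pieces (B1), (B2) of helper93's lemma server "RU" (row S2280): the Jordan blocks `1 + N`, `1 + L_ε` have
determinant one, so `uEl`, `lEl` have the expected underlying matrices.
-/

set_option autoImplicit false

namespace Cfsg.Agent.Helper16.RU

open Matrix Cfsg.Agent.Helper93.RU

variable {F : Type*} [Field F] {m : ℕ}

theorem h16_det_one_add_Nmat : (1 + Nmat m F).det = 1 := by
  have h : (1 + Nmat m F).IsUpperTriangular := by
    intro i j hij
    simp only [id] at hij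
    have h1 : i ≠ j := ne_of_gt hij
    have h2 : ¬ (i.val + 1 = j.val) := by
      have := Fin.lt_def.1 hij
      omega
    simp [Nmat, h1, h2]
  rw [Matrix.det_of_isUpperTriangular h]
  apply Finset.prod_eq_one
  intro i _
  simp [Nmat]

theorem h16_det_one_add_Lmat (ε : F) : (1 + Lmat (m := m) ε).det = 1 := by
  have h : (1 + Lmat (m := m) ε).IsLowerTriangular := by
    intro i j hij
    have hij' : i < j := hij
    have h1 : i ≠ j := ne_of_lt hij'
    have h2 : ¬ (j.val + 1 = i.val) := by
      have := Fin.lt_def.1 hij'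
      omega
    simp [Lmat, h1, h2]
  rw [Matrix.det_of_isLowerTriangular _ h]
  apply Finset.prod_eq_one
  intro i _
  simp [Lmat]

theorem h16_dite_val (M : Matrix (Fin (m + 3)) (Fin (m + 3)) F) (h : M.det = 1)
    (inst : Decidable (M.det = 1)) :
    (@dite (SLm m F) (M.det = 1) inst (fun h' => (⟨M, h'⟩ : SLm m F)) (fun _ => 1)).1 = M := by
  cases inst with
  | isTrue h' => rfl
  | isFalse h' => exact absurd h h'

/-- (B1) `det (1 + N) = 1`. -/
theorem uEl_val : (uEl m F).1 = 1 + Nmat m F := by
  exact h16_dite_val (1 + Nmat m F) h16_det_one_add_Nmat _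

/-- (B2) -/
theorem lEl_val (ε : F) : (lEl (m := m) ε).1 = 1 + Lmat ε := by
  exact h16_dite_val (1 + Lmat ε) (h16_det_one_add_Lmat ε) _

end Cfsg.Agent.Helper16.RU
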