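import Mathlib
import Cfsg.Agent.Lib.Helper16.PRegDiv
import Cfsg.Agent.Lib.Helper16.AvgInt
import Cfsg.Agent.Lib.Helper78.DefectClass
import Cfsg.Agent.Lib.Helper77.FMT
import Cfsg.Agent.Lib.Helper3.CharComplete

/-!
# The `p`-regular norm of a height zero character (helper16)

* `regSum p χ ψ` : the truncated sum `∑_{x p-regular} χ(x) conj ψ(x)`.
* `not_memLocalIdeal_regSum_self` : if `χ` has height zero in its block then
  `regSum p χ χ / χ(1)` is a unit of the local ring.
* `not_memLocalIdeal_regSum_of_induced` : if `b^G = B`, `χ ∈ B` has height zero and `ψ ∈ b`, then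
  `∑_{h ∈ H p-regular} χ(h) conj ψ(h) / ψ(1)` is a unit of the local ring.
-/

set_option autoImplicit false
set_option linter.style.haveILetI false
set_option linter.unusedSectionVars false
open Cfsg

namespace Cfsg.Agent.Helper16

open scoped ComplexConjugate
open Cfsg.Agent.Helper77 Cfsg.Agent.Helper78

universe u

section
variable {G : Type u} [Group G] [Fintype G]

open scoped Classical in
/-- The truncated sum `∑_{x p-regular} χ(x) conj ψ(x)`. -/
noncomputable def regSum (p : ℕ) (χ ψ : G → ℂ) : ℂ :=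
  ∑ x ∈ Finset.univ.filter (fun x : G => ¬ p ∣ orderOf x), χ x * conj (ψ x)

open scoped Classical in
theorem regSum_comm (p : ℕ) (χ ψ : IrrCharacter G) :
    regSum p (χ : G → ℂ) (ψ : G → ℂ) = regSum p (ψ : G → ℂ) (χ : G → ℂ) := by
  unfold regSum
  refine Finset.sum_nbij' (fun x => x⁻¹) (fun x => x⁻¹) ?_ ?_ ?_ ?_ ?_
  · intro x hx
    simp only [Finset.mem_filter, Finset.mem_univ, true_and] at hx ⊢
    rwa [orderOf_inv]
  · intro x hx
    simp only [Finset.mem_filter, Finset.mem_univ, true_and] at hx ⊢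
    rwa [orderOf_inv]
  · intro x _; simp
  · intro x _; simp
  · intro x _
    rw [Cfsg.Agent.Helper79.irr_inv, Cfsg.Agent.Helper79.irr_inv, Complex.conj_conj, mul_comm]

theorem isClassFunction_pRegScaled' (p : ℕ) (k : ℂ) {χ : G → ℂ} (hχ : IsClassFunction G χ) :
    IsClassFunction G (pRegScaled p k χ) := by
  intro g h
  unfold pRegScaled
  have h1 : orderOf (h * g * h⁻¹) = orderOf g := by
    have : h * g * h⁻¹ = MulAut.conj h g := by simp [MulAut.conj_apply]
    rw [this]
    exact orderOf_injective (MulAut.conj h).toMonoidHom (MulAut.conj h).injective g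
  rw [h1, hχ g h]

/-- Expansion of the `p`-regular truncation of `χ₀`. -/
theorem sum_regSum_mul (p : ℕ) (χ₀ : IrrCharacter G) (a : G) :
    ∑ χ : IrrCharacter G, regSum p (χ₀ : G → ℂ) (χ : G → ℂ) * (χ : G → ℂ) a =
      (Nat.card G : ℂ) * (if p ∣ orderOf a then 0 else (χ₀ : G → ℂ) a) := by
  classical
  have hcl := isClassFunction_pRegScaled' p 1 (isClassFunction_of_isIrrCharacter χ₀.2)
  have h := congrFun (Cfsg.Agent.Helper3.classFunction_eq_sum _ hcl) a
  rw [Finset.sum_apply] at h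
  have hG : (Nat.card G : ℂ) ≠ 0 := by
    have : 0 < Nat.card G := Nat.card_pos
    exact_mod_cast this.ne'
  have h2 : (if p ∣ orderOf a then 0 else (χ₀ : G → ℂ) a) = pRegScaled p 1 (χ₀ : G → ℂ) a := by
    unfold pRegScaled
    simp
  rw [h2, h, Finset.mul_sum]
  refine Finset.sum_congr rfl fun χ _ => ?_
  rw [Pi.smul_apply, smul_eq_mul, classInner_pRegScaled, one_mul]
  unfold regSum
  field_simp

end

section main
variable {G : Type u} [Group G] [Fintype G] {p : ℕ} [hpf : Fact p.Prime] {M : Ideal AlgInt}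

/-- Key identity: averaging over a `p`-subgroup centralizing the `p`-regular element `g₀`. -/
theorem sum_regSum_mul_avg (χ₀ : IrrCharacter G) (g₀ : G) (hg₀ : ¬ p ∣ orderOf g₀)
    (P : Subgroup G) [Fintype P] (hP : IsPGroup p P) (hc : ∀ u ∈ P, u * g₀ = g₀ * u) :
    ∑ χ : IrrCharacter G, regSum p (χ₀ : G → ℂ) (χ : G → ℂ) *
        ((Nat.card P : ℂ)⁻¹ * ∑ u : P, (χ : G → ℂ) ((u : G) * g₀)) =
      (Nat.card P : ℂ)⁻¹ * ((Nat.card G : ℂ) * (χ₀ : G → ℂ) g₀) := by
  classical
  have h1 : ∀ χ : IrrCharacter G, regSum p (χ₀ : G → ℂ) (χ : G → ℂ) *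
        ((Nat.card P : ℂ)⁻¹ * ∑ u : P, (χ : G → ℂ) ((u : G) * g₀)) =
      (Nat.card P : ℂ)⁻¹ * ∑ u : P, regSum p (χ₀ : G → ℂ) (χ : G → ℂ) *
        (χ : G → ℂ) ((u : G) * g₀) := by
    intro χ
    rw [Finset.mul_sum, Finset.mul_sum, Finset.mul_sum]
    refine Finset.sum_congr rfl fun u _ => ?_
    ring
  simp_rw [h1]
  rw [← Finset.mul_sum, Finset.sum_comm]
  congr 1
  simp_rw [sum_regSum_mul p χ₀]
  rw [Finset.sum_eq_single (1 : P)]
  · have : ¬ p ∣ orderOf (((1 : P) : G) * g₀) := by simpa using hg₀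
    rw [if_neg this]
    simp
  · intro u _ hu
    have hu1 : (u : G) ≠ 1 := fun h => hu (Subtype.ext h)
    have hord : ∃ k : ℕ, orderOf (u : G) = p ^ k := by
      obtain ⟨k, hk⟩ := (IsPGroup.iff_orderOf.1 hP) u
      exact ⟨k, by rw [← hk, Subgroup.orderOf_coe]⟩
    have hdvd : p ∣ orderOf ((u : G) * g₀) := by
      rw [hc u u.2]
      exact Cfsg.Agent.Helper74.DO.dvd_orderOf_mul_of_pElement g₀ (u : G) hg₀
        (hc u u.2).symm hord hu1
    rw [if_pos hdvd, mul_zero]
  · intro h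
    exact absurd (Finset.mem_univ _) h


/-- `regSum` against a fixed character is a central character value. -/
theorem regSum_div_eq_omega (p : ℕ) (χ ψ : G → ℂ) :
    regSum p χ ψ / χ 1 = omega χ (fun g => if p ∣ orderOf g then 0 else conj (ψ g)) := by
  classical
  unfold regSum omega
  congr 1
  rw [Finset.sum_filter]
  refine Finset.sum_congr rfl fun g _ => ?_
  by_cases h : p ∣ orderOf g
  · simp [h]
  · simp [h, mul_comm]

theorem isClassFunction_regConj (p : ℕ) {ψ : G → ℂ} (hψ : IsClassFunction G ψ) :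
    IsClassFunction G (fun g => if p ∣ orderOf g then 0 else conj (ψ g)) := by
  intro g h
  have h1 : orderOf (h * g * h⁻¹) = orderOf g := by
    have : h * g * h⁻¹ = MulAut.conj h g := by simp [MulAut.conj_apply]
    rw [this]
    exact orderOf_injective (MulAut.conj h).toMonoidHom (MulAut.conj h).injective g
  simp only [h1, hψ g h]

theorem isRValued_regConj [hpr : M.IsPrime] (ψ : IrrCharacter G) :
    IsRValued M (fun g => if p ∣ orderOf g then 0 else conj ((ψ : G → ℂ) g)) := by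
  intro g
  by_cases h : p ∣ orderOf g
  · simp only [h, if_true]
    exact memLocalRing_zero hpr.ne_top
  · simp only [h, if_false]
    rw [← Cfsg.Agent.Helper79.irr_inv]
    exact Cfsg.Agent.Helper74.DO.memLocalRing_of_isIntegral
      (Cfsg.Agent.Helper78.IsCharacter.isIntegral
        (Cfsg.Agent.Helper78.IsIrrCharacter.isCharacter ψ.2) g⁻¹)

/-- **The `p`-regular norm of a height zero character is a unit** (Brauer). -/
theorem not_memLocalIdeal_regSum_self (hM : IsPModular p M) {B : Set (IrrCharacter G)}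
    (hB : IsPBlock M B) {χ₀ : IrrCharacter G} (hχ₀ : χ₀ ∈ B)
    (hht : (charDegree (χ₀ : G → ℂ)).factorization p = Cfsg.Agent.Helper74.DO.minVal p B) :
    ¬ MemLocalIdeal M (regSum p (χ₀ : G → ℂ) (χ₀ : G → ℂ) / (χ₀ : G → ℂ) 1) := by
  classical
  haveI hpr := isPrime_of_isPModular hM
  have hp : p.Prime := hM.1
  intro hcon
  obtain ⟨g₀, hg₀⟩ := exists_isDefectClass hB
  have hreg : ¬ p ∣ orderOf g₀ :=
    (Cfsg.Agent.Helper74.DO.defect_le_of_blockCoeff hM hB g₀ hg₀.2.1).1
  obtain ⟨Q⟩ : Nonempty (Sylow p (Subgroup.centralizer ({g₀} : Set G))) := inferInstance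
  set C := Subgroup.centralizer ({g₀} : Set G) with hC
  set P : Subgroup G := (Q : Subgroup C).map C.subtype with hPdef
  haveI : Fintype P := Fintype.ofFinite P
  have hPp : IsPGroup p P := Q.isPGroup'.map C.subtype
  have hPc : ∀ u ∈ P, u * g₀ = g₀ * u := by
    rintro u ⟨w, -, rfl⟩
    have := Subgroup.mem_centralizer_iff.1 w.2 g₀ rfl
    exact this.symm
  have hPcard : Nat.card P = p ^ (Nat.card C).factorization p := by
    rw [hPdef, Subgroup.card_map_of_injective C.subtype_injective]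
    exact Q.card_eq_multiplicity
  obtain ⟨hone₀, hpos₀⟩ := Cfsg.Agent.Helper79.irr_one_eq χ₀
  have hχ₀1 : (χ₀ : G → ℂ) 1 ≠ 0 := by
    rw [hone₀]; exact_mod_cast hpos₀.ne'
  -- all `regSum χ₀ χ / χ₀(1)` are in the ideal
  have hall : ∀ χ : IrrCharacter G,
      MemLocalIdeal M (regSum p (χ₀ : G → ℂ) (χ : G → ℂ) / (χ₀ : G → ℂ) 1) := by
    intro χ
    by_cases hχ : χ ∈ B
    · obtain ⟨hone, hpos⟩ := Cfsg.Agent.Helper79.irr_one_eq χ
      have hχ1 : (χ : G → ℂ) 1 ≠ 0 := by
        rw [hone]; exact_mod_cast hpos.ne'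
      have hsame := sameBlock_of_mem hB hχ hχ₀
      have h1 := memLocalIdeal_omega_sub (M := M) χ.2 χ₀.2 hsame
        (isClassFunction_regConj p (isClassFunction_of_isIrrCharacter χ₀.2))
        (isRValued_regConj (M := M) (p := p) χ₀)
      rw [← regSum_div_eq_omega, ← regSum_div_eq_omega] at h1
      have h2 : MemLocalIdeal M (regSum p (χ : G → ℂ) (χ₀ : G → ℂ) / (χ : G → ℂ) 1) := by
        have := memLocalIdeal_add h1 hcon
        rwa [sub_add_cancel] at this
      have hR : MemLocalRing M ((charDegree (χ : G → ℂ) : ℂ) / (charDegree (χ₀ : G → ℂ) : ℂ)) := by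
        apply memLocalRing_natCast_div hM _ _ hpos₀.ne'
        rw [hht]
        exact Cfsg.Agent.Helper74.DO.minVal_le (p := p) hχ
      have := memLocalIdeal_mul_right h2 hR
      rw [regSum_comm p χ₀ χ]
      convert this using 1
      rw [hone, hone₀]
      have h3 : (charDegree (χ : G → ℂ) : ℂ) ≠ 0 := by exact_mod_cast hpos.ne'
      have h4 : (charDegree (χ₀ : G → ℂ) : ℂ) ≠ 0 := by exact_mod_cast hpos₀.ne'
      field_simp
    · have hns : ¬ SameBlock M (χ₀ : G → ℂ) (χ : G → ℂ) := fun h =>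
        hχ (Cfsg.Agent.Helper77.mem_of_sameBlock hB hχ₀ h)
      have := sum_regular_eq_zero_of_not_sameBlock hM χ₀ χ hns
      unfold regSum
      rw [this, zero_div]
      exact memLocalIdeal_zero hpr.ne_top
  -- the key identity
  have hkey := sum_regSum_mul_avg (p := p) χ₀ g₀ hreg P hPp hPc
  have hsum : MemLocalIdeal M (∑ χ : IrrCharacter G,
      regSum p (χ₀ : G → ℂ) (χ : G → ℂ) / (χ₀ : G → ℂ) 1 *
        ((Nat.card P : ℂ)⁻¹ * ∑ u : P, (χ : G → ℂ) ((u : G) * g₀))) := by
    apply memLocalIdeal_sum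
    intro χ _
    apply memLocalIdeal_mul_right (hall χ)
    exact Cfsg.Agent.Helper74.DO.memLocalRing_of_isIntegral
      (isIntegral_avg (Cfsg.Agent.Helper78.IsIrrCharacter.isCharacter χ.2) P g₀ hPc)
  have hsum' : ∑ χ : IrrCharacter G,
      regSum p (χ₀ : G → ℂ) (χ : G → ℂ) / (χ₀ : G → ℂ) 1 *
        ((Nat.card P : ℂ)⁻¹ * ∑ u : P, (χ : G → ℂ) ((u : G) * g₀)) =
      (Nat.card P : ℂ)⁻¹ * ((Nat.card G : ℂ) * (χ₀ : G → ℂ) g₀) / (χ₀ : G → ℂ) 1 := by
    rw [← hkey, Finset.sum_div]
    refine Finset.sum_congr rfl fun χ _ => ?_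
    ring
  rw [hsum'] at hsum
  apply hg₀.2.2 χ₀ hχ₀
  have hCcard : Nat.card C ≠ 0 := Nat.card_pos.ne'
  have hR : MemLocalRing M ((Nat.card P : ℂ) / (Nat.card C : ℂ)) := by
    apply memLocalRing_natCast_div hM _ _ hCcard
    rw [hPcard, Nat.factorization_pow, Finsupp.smul_apply, hp.factorization_self]
    simp
  have := memLocalIdeal_mul_left hR hsum
  convert this using 1
  unfold centralChar
  have hidx : (Nat.card G : ℂ) = (Nat.card C : ℂ) * (C.index : ℂ) := by
    rw [← Nat.cast_mul, Subgroup.card_mul_index]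
  have hPne : (Nat.card P : ℂ) ≠ 0 := by
    have : 0 < Nat.card P := Nat.card_pos
    exact_mod_cast this.ne'
  have hCne : (Nat.card C : ℂ) ≠ 0 := by exact_mod_cast hCcard
  rw [hidx]
  field_simp
  rw [mul_comm]


open scoped Classical in
/-- Symmetry of `regSum` for functions with `f x⁻¹ = conj (f x)`. -/
theorem regSum_comm' (p : ℕ) {χ ψ : G → ℂ} (hχ : ∀ x, χ x⁻¹ = conj (χ x))
    (hψ : ∀ x, ψ x⁻¹ = conj (ψ x)) : regSum p χ ψ = regSum p ψ χ := by
  unfold regSum
  refine Finset.sum_nbij' (fun x => x⁻¹) (fun x => x⁻¹) ?_ ?_ ?_ ?_ ?_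
  · intro x hx
    simp only [Finset.mem_filter, Finset.mem_univ, true_and] at hx ⊢
    rwa [orderOf_inv]
  · intro x hx
    simp only [Finset.mem_filter, Finset.mem_univ, true_and] at hx ⊢
    rwa [orderOf_inv]
  · intro x _; simp
  · intro x _; simp
  · intro x _
    rw [hχ, hψ, Complex.conj_conj, mul_comm]

/-- If `b^G = B`, `χ ∈ B` has height zero and `ψ ∈ b`, then
`∑_{h ∈ H p-regular} ψ(h) conj χ(h) / ψ(1)` is a unit of the local ring. -/
theorem not_memLocalIdeal_regSum_of_induced (hM : IsPModular p M) (H : Subgroup G) [Fintype H]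
    {b : Set (IrrCharacter H)} {B : Set (IrrCharacter G)} (hind : IsInducedBlock M H b B)
    {χ : IrrCharacter G} (hχ : χ ∈ B)
    (hht : (charDegree (χ : G → ℂ)).factorization p = Cfsg.Agent.Helper74.DO.minVal p B)
    {ψ : IrrCharacter H} (hψ : ψ ∈ b) :
    ¬ MemLocalIdeal M
      (regSum p (ψ : H → ℂ) (fun h : H => (χ : G → ℂ) h) / (ψ : H → ℂ) 1) := by
  classical
  haveI hpr := isPrime_of_isPModular hM
  have hA := not_memLocalIdeal_regSum_self hM hind.2.1 hχ hht
  have hcong := omega_restr_congr_of_isInducedBlock H hind hψ hχ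
    (isClassFunction_regConj p (isClassFunction_of_isIrrCharacter χ.2))
    (isRValued_regConj (M := M) (p := p) χ)
  rw [regSum_div_eq_omega] at hA ⊢
  intro hcon
  apply hA
  have h1 : restr H (fun g : G => if p ∣ orderOf g then 0 else conj ((χ : G → ℂ) g)) =
      (fun h : H => if p ∣ orderOf h then 0 else conj ((χ : G → ℂ) h)) := by
    funext h
    unfold restr
    simp only [Subgroup.orderOf_coe]
  rw [h1] at hcong
  have := memLocalIdeal_sub hcon hcong
  rwa [sub_sub_cancel] at this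

end main

end Cfsg.Agent.Helper16
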