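import Mathlib
import Cfsg.Prelude.Def_Blocks
import Cfsg.Agent.Lib.Helper16.Osima
import Cfsg.Agent.Lib.Helper16.DefectNum
import Cfsg.Agent.Lib.Helper16.GreenSylow
import Cfsg.Agent.Lib.Helper3.CharDecomp
import Cfsg.Agent.Lib.Helper3.CharComplete
import Cfsg.Agent.Lib.Helper77.CentralChar
import Cfsg.Agent.Lib.Helper74.DefectOrder
import Cfsg.Agent.Lib.Helper74.BrauerFeit4
import Cfsg.Agent.Lib.Helper76.CD2Basic
import Cfsg.Agent.Lib.Helper81.CharClifford
import Cfsg.Agent.Lib.Helper79.Integrality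
import Cfsg.Agent.S0169
import Cfsg.Agent.Lib.Helper16.NormalSub
import Cfsg.Agent.Lib.Helper77.FMT

/-!
# Reynolds' theorem: a normal defect group is abelian iff all heights are zero (helper16)
-/

set_option autoImplicit false
set_option linter.unusedSectionVars false
set_option linter.unusedVariables false
set_option linter.style.haveILetI false

namespace Cfsg.Agent.Helper16.Reynolds

open Cfsg Cfsg.Agent.Helper16 Cfsg.Agent.Helper77 Cfsg.Agent.Helper78
open scoped ComplexConjugate

universe u

/-! ### Values at central elements -/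

section central

variable {H : Type u} [Group H] [Fintype H]

/-- an irreducible character at a central element is its degree times an algebraic integer -/
theorem irr_apply_center (ψ : IrrCharacter H) (g : H) (hg : g ∈ Subgroup.center H) :
    ∃ w : ℂ, IsIntegral ℤ w ∧ (ψ : H → ℂ) g = (charDegree (ψ : H → ℂ) : ℂ) * w := by
  refine ⟨centralChar (ψ : H → ℂ) g, centralChar_isIntegral ψ.2 g, ?_⟩
  have htop : Subgroup.centralizer ({g} : Set H) = ⊤ := by
    rw [Subgroup.centralizer_eq_top_iff_subset]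
    intro y hy
    rw [Set.mem_singleton_iff.1 hy]
    exact hg
  have h1 := (Cfsg.Agent.Helper79.irr_one_eq ψ)
  have hne : (charDegree (ψ : H → ℂ) : ℂ) ≠ 0 := by exact_mod_cast h1.2.ne'
  unfold centralChar
  rw [htop, Subgroup.index_top, h1.1, Nat.cast_one, one_mul]
  field_simp

/-- a character `χ` of `H` at a central element `g` is `t` times an algebraic integer, as soon as
`t` divides the degrees of the irreducible constituents of `χ ∘ ι` -/
theorem apply_center_eq_mul {P₀ : Type u} [Group P₀] [Fintype P₀] (ι : P₀ →* H) (g : H)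
    (hg : g ∈ Subgroup.center H) {χ : H → ℂ} (hχ : IsCharacter H χ) (t : ℕ)
    (ht : ∀ φ : IrrCharacter P₀, classInner (fun x : P₀ => χ (ι x)) (φ : P₀ → ℂ) ≠ 0 →
      t ∣ charDegree (φ : P₀ → ℂ)) :
    ∃ z : ℂ, IsIntegral ℤ z ∧ χ g = (t : ℂ) * z := by
  classical
  have hdec := Cfsg.Agent.Helper3.isCharacter_eq_sum_irrMult hχ
  -- restriction of a character along `ι`
  have hres : ∀ {ψ : H → ℂ}, IsCharacter H ψ → IsCharacter P₀ (fun x : P₀ => ψ (ι x)) := by
    intro ψ hψ
    obtain ⟨k, ρ, rfl⟩ := hψ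
    exact ⟨k, ρ.comp ι, rfl⟩
  -- `t` divides the degrees of the constituents of `χ`
  have hdvd : ∀ ψ : IrrCharacter H, Cfsg.Agent.Helper3.irrMult χ ψ ≠ 0 →
      t ∣ charDegree (ψ : H → ℂ) := by
    intro ψ hψ0
    have hψc := hres (Cfsg.Agent.Helper3.isCharacter_of_isIrrCharacter ψ.2)
    have hdec2 := Cfsg.Agent.Helper3.isCharacter_eq_sum_irrMult hψc
    have h1 : ((charDegree (ψ : H → ℂ) : ℕ) : ℂ) =
        ((∑ φ : IrrCharacter P₀, Cfsg.Agent.Helper3.irrMult (fun x : P₀ => (ψ : H → ℂ) (ι x)) φ *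
          charDegree (φ : P₀ → ℂ) : ℕ) : ℂ) := by
      rw [← (Cfsg.Agent.Helper79.irr_one_eq ψ).1]
      have h2 := congrFun hdec2 1
      rw [map_one] at h2
      rw [h2, Finset.sum_apply, Nat.cast_sum]
      refine Finset.sum_congr rfl fun φ _ => ?_
      rw [Pi.smul_apply, smul_eq_mul, (Cfsg.Agent.Helper79.irr_one_eq φ).1, Nat.cast_mul]
    have h1' : charDegree (ψ : H → ℂ) =
        ∑ φ : IrrCharacter P₀, Cfsg.Agent.Helper3.irrMult (fun x : P₀ => (ψ : H → ℂ) (ι x)) φ *
          charDegree (φ : P₀ → ℂ) := by exact_mod_cast h1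
    rw [h1']
    apply Finset.dvd_sum
    intro φ _
    by_cases hφ0 : Cfsg.Agent.Helper3.irrMult (fun x : P₀ => (ψ : H → ℂ) (ι x)) φ = 0
    · rw [hφ0, zero_mul]; exact dvd_zero _
    · apply Dvd.dvd.mul_left
      apply ht φ
      -- the multiplicity of `φ` in `χ ∘ ι` is positive
      have h3 : (fun x : P₀ => χ (ι x)) = ∑ ψ' : IrrCharacter H,
          (Cfsg.Agent.Helper3.irrMult χ ψ' : ℂ) • (fun x : P₀ => (ψ' : H → ℂ) (ι x)) := by
        funext x
        have := congrFun hdec (ι x)
        rw [this, Finset.sum_apply, Finset.sum_apply]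
        rfl
      rw [h3, classInner_sum_left]
      have h4 : ∀ ψ' : IrrCharacter H,
          classInner ((Cfsg.Agent.Helper3.irrMult χ ψ' : ℂ) • (fun x : P₀ => (ψ' : H → ℂ) (ι x)))
            (φ : P₀ → ℂ) = ((Cfsg.Agent.Helper3.irrMult χ ψ' *
              Cfsg.Agent.Helper3.irrMult (fun x : P₀ => (ψ' : H → ℂ) (ι x)) φ : ℕ) : ℂ) := by
        intro ψ'
        rw [classInner_smul_left, Cfsg.Agent.Helper3.irrMult_spec
          (hres (Cfsg.Agent.Helper3.isCharacter_of_isIrrCharacter ψ'.2)) φ, Nat.cast_mul]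
      rw [Finset.sum_congr rfl (fun ψ' _ => h4 ψ'), ← Nat.cast_sum]
      have hpos : 0 < ∑ ψ' : IrrCharacter H, Cfsg.Agent.Helper3.irrMult χ ψ' *
          Cfsg.Agent.Helper3.irrMult (fun x : P₀ => (ψ' : H → ℂ) (ι x)) φ := by
        apply Finset.sum_pos'
        · intro _ _; exact Nat.zero_le _
        · exact ⟨ψ, Finset.mem_univ _, Nat.mul_pos (Nat.pos_of_ne_zero hψ0)
            (Nat.pos_of_ne_zero hφ0)⟩
      exact_mod_cast hpos.ne'
  -- the algebraic integer
  choose w hwint hw using fun ψ : IrrCharacter H => irr_apply_center ψ g hg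
  refine ⟨∑ ψ : IrrCharacter H, (Cfsg.Agent.Helper3.irrMult χ ψ : ℂ) *
    (((charDegree (ψ : H → ℂ) / t : ℕ) : ℂ) * w ψ), ?_, ?_⟩
  · apply IsIntegral.sum
    intro ψ _
    apply IsIntegral.mul
    · exact isIntegral_natCast _
    · apply IsIntegral.mul
      · exact isIntegral_natCast _
      · exact hwint ψ
  · have h5 := congrFun hdec g
    rw [h5, Finset.sum_apply, Finset.mul_sum]
    refine Finset.sum_congr rfl fun ψ _ => ?_
    rw [Pi.smul_apply, smul_eq_mul]
    by_cases hψ0 : Cfsg.Agent.Helper3.irrMult χ ψ = 0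
    · rw [hψ0]; simp
    · obtain ⟨c, hc⟩ := hdvd ψ hψ0
      rw [hw ψ, hc]
      rcases Nat.eq_zero_or_pos t with ht0 | ht0
      · rw [ht0]; simp
      · rw [Nat.mul_div_cancel_left c ht0]
        push_cast
        ring

end central


/-! ### Characters of the block over a given character of a `p`-subgroup -/

section overchar

variable {G : Type u} [Group G] [Fintype G] {p : ℕ} [Fact p.Prime] {M : Ideal AlgInt}

/-- every irreducible character of a `p`-subgroup lies under some member of the block -/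
theorem exists_over (hM : IsPModular p M) (P : Subgroup G) [Fintype P] (hP : IsPGroup p P)
    {B : Set (IrrCharacter G)} (hB : IsPBlock M B) (ϑ : IrrCharacter P) :
    ∃ χ ∈ B, classInner (fun x : P => (χ : G → ℂ) x) (ϑ : P → ℂ) ≠ 0 := by
  classical
  by_contra hcon
  push Not at hcon
  have hp : p.Prime := Fact.out
  have h1 : ∑ x : P, blockCoeff B (x : G) * (ϑ : P → ℂ) x =
      blockCoeff B 1 * (ϑ : P → ℂ) 1 := by
    rw [Finset.sum_eq_single (1 : P)]
    · rfl
    · intro x _ hx1
      have hsing : p ∣ orderOf (x : G) := by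
        obtain ⟨k, hk⟩ := hP x
        have hk' : (x : G) ^ p ^ k = 1 := by
          have := congrArg Subtype.val hk
          simpa using this
        obtain ⟨j, _, hj⟩ := (Nat.dvd_prime_pow hp).1 (orderOf_dvd_of_pow_eq_one hk')
        rcases Nat.eq_zero_or_pos j with h0 | h0
        · rw [h0, pow_zero, orderOf_eq_one_iff] at hj
          exact absurd (Subtype.ext hj) hx1
        · rw [hj]
          exact dvd_pow_self p h0.ne'
      rw [blockCoeff_eq_zero_of_singular hM hB _ hsing, zero_mul]
    · intro h; exact absurd (Finset.mem_univ _) h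
  have h2 : ∑ x : P, blockCoeff B (x : G) * (ϑ : P → ℂ) x = 0 := by
    simp only [blockCoeff_eq_sum]
    have : ∀ x : P, (Nat.card G : ℂ)⁻¹ * (∑ ψ ∈ (Set.toFinite B).toFinset,
        (ψ : G → ℂ) 1 * conj ((ψ : G → ℂ) (x : G))) * (ϑ : P → ℂ) x =
        (Nat.card G : ℂ)⁻¹ * ∑ ψ ∈ (Set.toFinite B).toFinset,
          (ψ : G → ℂ) 1 * (conj ((ψ : G → ℂ) (x : G)) * (ϑ : P → ℂ) x) := by
      intro x
      rw [mul_assoc, Finset.sum_mul]
      congr 1
      refine Finset.sum_congr rfl fun ψ _ => ?_
      ring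
    rw [Finset.sum_congr rfl (fun x _ => this x), ← Finset.mul_sum, Finset.sum_comm]
    have hz : ∀ ψ ∈ (Set.toFinite B).toFinset,
        ∑ x : P, (ψ : G → ℂ) 1 * (conj ((ψ : G → ℂ) (x : G)) * (ϑ : P → ℂ) x) = 0 := by
      intro ψ hψ
      have h3 := hcon ψ ((Set.Finite.mem_toFinset _).1 hψ)
      unfold classInner at h3
      have hPne : (Nat.card P : ℂ)⁻¹ ≠ 0 := by
        apply inv_ne_zero
        exact_mod_cast Nat.card_pos.ne'
      have h4 := (mul_eq_zero.1 h3).resolve_left hPne
      have h5 : ∑ x : P, conj ((ψ : G → ℂ) (x : G)) * (ϑ : P → ℂ) x =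
          conj (∑ x : P, (ψ : G → ℂ) (x : G) * conj ((ϑ : P → ℂ) x)) := by
        rw [map_sum]
        refine Finset.sum_congr rfl fun x _ => ?_
        rw [map_mul, Complex.conj_conj]
      rw [← Finset.mul_sum, h5, h4, map_zero, mul_zero]
    rw [Finset.sum_eq_zero hz, mul_zero]
  have h3 := h1.symm.trans h2
  rcases mul_eq_zero.1 h3 with h | h
  · exact Cfsg.Agent.Helper16.GreenSylow.blockCoeff_one_ne_zero hM hB h
  · exact irr_apply_one_ne_zero ϑ.2 h

end overchar


/-! ### Reynolds' theorem -/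

section main

variable {G : Type u} [Group G] [Finite G] {p : ℕ} [Fact p.Prime] {M : Ideal AlgInt}

open Cfsg.Agent.Helper74.DO Cfsg.Agent.Helper74.BF in
/-- **Reynolds' theorem.** -/
theorem reynolds (hM : IsPModular p M) {B : Set (IrrCharacter G)} (hB : IsPBlock M B)
    (P : Subgroup G) [hPn : P.Normal] (hP : IsDefectGroup p M B P) :
    (∀ a ∈ P, ∀ c ∈ P, a * c = c * a) ↔ ∀ χ ∈ B, blockHeight p B (χ : G → ℂ) = 0 := by
  classical
  letI : Fintype G := Fintype.ofFinite G
  letI : Fintype P := Fintype.ofFinite P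
  haveI := isPrime_of_isPModular hM
  have hp : p.Prime := Fact.out
  have hBne : B.Nonempty := nonempty_of_isPBlock hB
  have hcard : Nat.card P = p ^ blockDefect p B := card_defectGroup hM hB P hP
  have hG0 : Nat.card G ≠ 0 := Nat.card_pos.ne'
  have hminle : minVal p B ≤ (Nat.card G).factorization p := minVal_le_card hBne
  have hdef : blockDefect p B = (Nat.card G).factorization p - minVal p B := blockDefect_eq B
  constructor
  · -- abelian ⇒ heights zero, by Itô's theorem
    intro hab χ hχ
    have hdvd : charDegree (χ : G → ℂ) ∣ P.index := by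
      obtain ⟨n, ρ, hirr, hχρ⟩ := χ.2
      haveI := hirr
      have h1 := Cfsg.Agent.S0169.result ρ P hab
      have h2 : charDegree (χ : G → ℂ) = Module.finrank ℂ (Fin n → ℂ) := by
        unfold charDegree
        rw [← hχρ, Representation.char_one]
        simp
      rw [h2]
      exact h1
    have hidx0 : P.index ≠ 0 := Subgroup.index_ne_zero_of_finite
    have hd0 : charDegree (χ : G → ℂ) ≠ 0 := (Cfsg.Agent.Helper79.irr_one_eq χ).2.ne'
    have h3 : (charDegree (χ : G → ℂ)).factorization p ≤ P.index.factorization p :=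
      (Nat.factorization_le_iff_dvd hd0 hidx0).2 hdvd p
    have h4 : (Nat.card G).factorization p = P.index.factorization p + blockDefect p B := by
      rw [← Subgroup.index_mul_card P, Nat.factorization_mul hidx0 Nat.card_pos.ne', hcard]
      simp [Nat.Prime.factorization_pow hp]
    rw [blockHeight_eq]
    have := minVal_le (p := p) hχ
    omega
  · -- heights zero ⇒ abelian
    intro hht
    by_contra hnab
    -- a nonlinear character of `P`
    have hex : ∃ ϑ : IrrCharacter P, charDegree (ϑ : P → ℂ) ≠ 1 := by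
      by_contra hall
      push Not at hall
      apply hnab
      intro a ha c hc
      have := Cfsg.Agent.Helper76.CD2.comm_of_all_linear hall ⟨a, ha⟩ ⟨c, hc⟩
      exact congrArg Subtype.val this
    obtain ⟨ϑ, hϑ1⟩ := hex
    have hϑdvd : charDegree (ϑ : P → ℂ) ∣ Nat.card P := Cfsg.Agent.Helper79.irr_degree_dvd_card ϑ
    rw [hcard] at hϑdvd
    obtain ⟨j, _, hj⟩ := (Nat.dvd_prime_pow hp).1 hϑdvd
    have hj1 : 1 ≤ j := by
      rcases Nat.eq_zero_or_pos j with h0 | h0
      · rw [h0, pow_zero] at hj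
        exact absurd hj hϑ1
      · exact h0
    have hPp : IsPGroup p P := isPGroup_of_isDefectGroup hP
    obtain ⟨χ, hχB, hne⟩ := exists_over hM P hPp hB ϑ
    obtain ⟨g, hdc, P₀, hPeq⟩ := hP
    -- `P` centralizes `g`
    have hPH : P ≤ Subgroup.centralizer ({g} : Set G) := by
      intro x hx
      rw [hPeq] at hx
      obtain ⟨x', _, rfl⟩ := Subgroup.mem_map.1 hx
      exact x'.2
    letI : Fintype (Subgroup.centralizer ({g} : Set G)) := Fintype.ofFinite _
    have hgH : g ∈ Subgroup.centralizer ({g} : Set G) := by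
      rw [Subgroup.mem_centralizer_iff]
      intro y hy
      rw [Set.mem_singleton_iff.1 hy]
    have hgcen : (⟨g, hgH⟩ : Subgroup.centralizer ({g} : Set G)) ∈
        Subgroup.center (Subgroup.centralizer ({g} : Set G)) := by
      rw [Subgroup.mem_center_iff]
      intro c
      apply Subtype.ext
      have := (Subgroup.mem_centralizer_iff.1 c.2) g (Set.mem_singleton g)
      exact this.symm
    have hχH : IsCharacter (Subgroup.centralizer ({g} : Set G))
        (fun h : Subgroup.centralizer ({g} : Set G) => (χ : G → ℂ) h) :=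
      Cfsg.Agent.Helper16.isCharacter_restrict _
        (Cfsg.Agent.Helper3.isCharacter_of_isIrrCharacter χ.2)
    have ht : ∀ φ : IrrCharacter P,
        classInner (fun x : P => (fun h : Subgroup.centralizer ({g} : Set G) => (χ : G → ℂ) h)
          (Subgroup.inclusion hPH x)) (φ : P → ℂ) ≠ 0 →
        charDegree (ϑ : P → ℂ) ∣ charDegree (φ : P → ℂ) := by
      intro φ hφ
      have hφ' : classInner (fun x : P => (χ : G → ℂ) x) (φ : P → ℂ) ≠ 0 := hφ
      have hconj : ∃ g₁ : G, (φ : P → ℂ) = Cfsg.Agent.Helper81.conjFun P hPn (ϑ : P → ℂ) g₁ := by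
        by_contra hnc
        exact hφ' (Cfsg.Agent.Helper81.clifford_not_conj P hPn χ.2 ϑ.2 φ.2 hne hnc)
      obtain ⟨g₁, hg₁⟩ := hconj
      have h0 : (⟨g₁ * ((1 : P) : G) * g₁⁻¹, hPn.conj_mem _ (1 : P).2 g₁⟩ : P) = 1 := by
        apply Subtype.ext
        simp
      have h1 : (φ : P → ℂ) 1 = (ϑ : P → ℂ) 1 := by
        rw [hg₁, Cfsg.Agent.Helper81.conjFun_apply, h0]
      have h2 : charDegree (φ : P → ℂ) = charDegree (ϑ : P → ℂ) := by
        unfold charDegree
        rw [h1]
      rw [h2]
    obtain ⟨z, hz, hχg⟩ := apply_center_eq_mul (Subgroup.inclusion hPH) ⟨g, hgH⟩ hgcen hχH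
      (charDegree (ϑ : P → ℂ)) ht
    have hχg' : (χ : G → ℂ) g = (charDegree (ϑ : P → ℂ) : ℂ) * z := hχg
    -- valuations
    have hC0 : (Subgroup.centralizer ({g} : Set G)).index ≠ 0 := Subgroup.index_ne_zero_of_finite
    have hϑ0 : charDegree (ϑ : P → ℂ) ≠ 0 := (Cfsg.Agent.Helper79.irr_one_eq ϑ).2.ne'
    have hd0 : charDegree (χ : G → ℂ) ≠ 0 := (Cfsg.Agent.Helper79.irr_one_eq χ).2.ne'
    have hdefg := defect_of_isDefectClass hM hB hdc
    have h4 : (Nat.card G).factorization p =
        (Subgroup.centralizer ({g} : Set G)).index.factorization p + blockDefect p B := by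
      have h := Nat.factorization_mul hC0
        (Nat.card_pos.ne' : Nat.card (Subgroup.centralizer ({g} : Set G)) ≠ 0)
      rw [Subgroup.index_mul_card] at h
      have h' := congrArg (fun f => f p) h
      simp only [Finsupp.add_apply] at h'
      rw [h', hdefg]
    have h5 : ((Subgroup.centralizer ({g} : Set G)).index * charDegree (ϑ : P → ℂ)).factorization p
        = (Subgroup.centralizer ({g} : Set G)).index.factorization p + j := by
      rw [Nat.factorization_mul hC0 hϑ0, hj]
      simp [Nat.Prime.factorization_pow hp]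
    have h6 : (charDegree (χ : G → ℂ)).factorization p = minVal p B := by
      have h7 := hht χ hχB
      rw [blockHeight_eq] at h7
      have h8 := minVal_le (p := p) hχB
      omega
    have hlt : (charDegree (χ : G → ℂ)).factorization p <
        ((Subgroup.centralizer ({g} : Set G)).index * charDegree (ϑ : P → ℂ)).factorization p := by
      rw [h5, h6]
      omega
    have hmem := memLocalIdeal_nat_mul_div hM
      ((Subgroup.centralizer ({g} : Set G)).index * charDegree (ϑ : P → ℂ))
      (charDegree (χ : G → ℂ)) (Nat.mul_ne_zero hC0 hϑ0) hd0 z hz hlt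
    apply hdc.2.2 χ hχB
    have heq : centralChar (χ : G → ℂ) g =
        (((Subgroup.centralizer ({g} : Set G)).index * charDegree (ϑ : P → ℂ) : ℕ) : ℂ) * z /
          (charDegree (χ : G → ℂ) : ℂ) := by
      unfold centralChar
      rw [hχg', (Cfsg.Agent.Helper79.irr_one_eq χ).1]
      push_cast
      ring
    rw [heq]
    exact hmem

end main

end Cfsg.Agent.Helper16.Reynolds
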