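import Mathlib
import Cfsg.Agent.Lib.Helper62.SLN0

/-!
# SLN project (S2332, helper62's server): pieces G3, G3d, G3e (helper16)

Conjugation of the unipotent radical `U` and of the Levi factor by `lEl A` and `dEl a A`.
-/

set_option autoImplicit false

namespace Cfsg.Agent.Helper16.SLN

open Matrix Module Cfsg.Agent.Helper93.U2 Cfsg.Agent.Helper62.SLN

variable {F : Type*} [Field F] {κ : Type} [Fintype κ] [DecidableEq κ]

/-- piece G3 -/
theorem lEl_conj_uEl (A : SpecialLinearGroup κ F) (u : κ → F) :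
    lEl A * uEl u * (lEl A)⁻¹ = uEl (vecMul u (A⁻¹ : SpecialLinearGroup κ F).1) := by
  rw [mul_inv_eq_iff_eq_mul]
  have h1 : (A⁻¹ : SpecialLinearGroup κ F).1 * A.1 = 1 := by
    have h0 : ((A⁻¹ * A : SpecialLinearGroup κ F) : Matrix κ κ F) = 1 := by
      rw [inv_mul_cancel]; rfl
    rwa [Matrix.SpecialLinearGroup.coe_mul] at h0
  have h2 : replicateRow Unit (vecMul u (A⁻¹ : SpecialLinearGroup κ F).1) * A.1 =
      replicateRow Unit u := by
    rw [← replicateRow_vecMul, vecMul_vecMul, h1, vecMul_one]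
  have key : ((lEl A * uEl u : SpecialLinearGroup (Unit ⊕ κ) F) : Matrix (Unit ⊕ κ) (Unit ⊕ κ) F) =
      ↑(uEl (vecMul u (A⁻¹ : SpecialLinearGroup κ F).1) * lEl A) := by
    rw [Matrix.SpecialLinearGroup.coe_mul, Matrix.SpecialLinearGroup.coe_mul, uEl_val, uEl_val, lEl_val,
      fromBlocks_multiply, fromBlocks_multiply, h2]
    simp
  exact Subtype.ext key


/-- piece G3d -/
theorem dEl_conj_uEl (a : F) (A : Matrix κ κ F) (h : a * A.det = 1) (u : κ → F) :
    dEl a A * uEl u * (dEl a A)⁻¹ = uEl (a • vecMul u A⁻¹) := by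
  rw [mul_inv_eq_iff_eq_mul]
  have hdet : IsUnit A.det := isUnit_iff_ne_zero.2 (right_ne_zero_of_mul_eq_one h)
  have h1 : A⁻¹ * A = 1 := Matrix.nonsing_inv_mul A hdet
  have h2 : replicateRow Unit (a • vecMul u A⁻¹) * A =
      (a • (1 : Matrix Unit Unit F)) * replicateRow Unit u := by
    rw [← replicateRow_vecMul, smul_vecMul, vecMul_vecMul, h1, vecMul_one, Matrix.smul_mul,
      Matrix.one_mul, replicateRow_smul]
  have key : ((dEl a A * uEl u : SpecialLinearGroup (Unit ⊕ κ) F) :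
      Matrix (Unit ⊕ κ) (Unit ⊕ κ) F) = ↑(uEl (a • vecMul u A⁻¹) * dEl a A) := by
    rw [Matrix.SpecialLinearGroup.coe_mul, Matrix.SpecialLinearGroup.coe_mul, dEl_val a A h,
      uEl_val, uEl_val, fromBlocks_multiply, fromBlocks_multiply, h2]
    simp
  exact Subtype.ext key

/-- auxiliary: the inverse of `dEl a A` -/
theorem dEl_inv (a : F) (A : Matrix κ κ F) (h : a * A.det = 1) :
    (dEl a A)⁻¹ = dEl a⁻¹ A⁻¹ ∧ a⁻¹ * (A⁻¹).det = 1 := by
  have hdet : IsUnit A.det := isUnit_iff_ne_zero.2 (right_ne_zero_of_mul_eq_one h)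
  have ha : a ≠ 0 := left_ne_zero_of_mul_eq_one h
  have h' : a⁻¹ * (A⁻¹).det = 1 := by
    rw [Matrix.det_nonsing_inv, Ring.inverse_eq_inv', ← mul_inv, h, inv_one]
  refine ⟨?_, h'⟩
  apply inv_eq_of_mul_eq_one_right
  have key : ((dEl a A * dEl a⁻¹ A⁻¹ : SpecialLinearGroup (Unit ⊕ κ) F) :
      Matrix (Unit ⊕ κ) (Unit ⊕ κ) F) = ↑(1 : SpecialLinearGroup (Unit ⊕ κ) F) := by
    rw [Matrix.SpecialLinearGroup.coe_mul, dEl_val a A h, dEl_val a⁻¹ A⁻¹ h', fromBlocks_multiply,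
      Matrix.mul_nonsing_inv A hdet]
    simp [ha]
  exact Subtype.ext key

/-- piece G3e : `dEl a A` normalises the Levi factor -/
theorem dEl_conj_lEl (a : F) (A : Matrix κ κ F) (h : a * A.det = 1) (B : SpecialLinearGroup κ F) :
    ((dEl a A * lEl B * (dEl a A)⁻¹ : SpecialLinearGroup (Unit ⊕ κ) F) :
      Matrix (Unit ⊕ κ) (Unit ⊕ κ) F) = fromBlocks 1 0 0 (A * B.1 * A⁻¹) := by
  obtain ⟨hinv, h'⟩ := dEl_inv a A h
  have ha : a ≠ 0 := left_ne_zero_of_mul_eq_one h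
  rw [hinv, Matrix.SpecialLinearGroup.coe_mul, Matrix.SpecialLinearGroup.coe_mul, dEl_val a A h,
    dEl_val a⁻¹ A⁻¹ h', lEl_val, fromBlocks_multiply, fromBlocks_multiply]
  simp [ha]

end Cfsg.Agent.Helper16.SLN
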