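import Mathlib
import Cfsg.Agent.Lib.Helper98.SPE0

/-!
# SPE project (S2333), pieces G5a G5b G5c G5d G6 (group level statements about `aEl`, `lEl`),
with own copies of the matrix facts G1-G4.
-/

set_option autoImplicit false

namespace Cfsg.Agent.Helper16.SPE

open Matrix Cfsg.Agent.Helper93.U2 Cfsg.Agent.Helper98.SPE

section GRP

variable {F : Type*} [Field F] {n : ℕ}

/-- own copy of G1 -/
theorem h16_aMat_mem (S : Matrix (Fin n) (Fin n) F) (hS : Sᵀ = S) :
    aMat S ∈ Matrix.symplecticGroup (Fin n) F := by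
  rw [SymplecticGroup.mem_iff]
  unfold Cfsg.Agent.Helper98.SPE.aMat Matrix.J
  rw [Matrix.fromBlocks_transpose, Matrix.fromBlocks_multiply, Matrix.fromBlocks_multiply]
  simp only [Matrix.transpose_one, Matrix.transpose_zero, Matrix.one_mul, Matrix.mul_one,
    Matrix.mul_zero, Matrix.zero_mul, add_zero, zero_add, Matrix.mul_neg, Matrix.neg_mul, hS]
  congr 1 <;> simp

/-- own copy of G2 -/
theorem h16_aMat_add (S T : Matrix (Fin n) (Fin n) F) : aMat (S + T) = aMat S * aMat T := by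
  unfold Cfsg.Agent.Helper98.SPE.aMat
  rw [Matrix.fromBlocks_multiply]
  simp [add_comm]

/-- own copy of G3 -/
theorem h16_lMat_mem (g g' : Matrix (Fin n) (Fin n) F) (h : g * g' = 1) :
    lMat g g' ∈ Matrix.symplecticGroup (Fin n) F := by
  have h' : g'ᵀ * gᵀ = 1 := by
    rw [← Matrix.transpose_mul, h, Matrix.transpose_one]
  rw [SymplecticGroup.mem_iff]
  unfold Cfsg.Agent.Helper98.SPE.lMat Matrix.J
  rw [Matrix.fromBlocks_transpose, Matrix.fromBlocks_multiply, Matrix.fromBlocks_multiply]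
  simp only [Matrix.transpose_zero, Matrix.transpose_transpose, Matrix.mul_zero, Matrix.zero_mul,
    add_zero, zero_add, Matrix.mul_neg, Matrix.neg_mul, Matrix.mul_one, h, h']
  simp

/-- own copy of G4 -/
theorem h16_lMat_mul_aMat (g g' S : Matrix (Fin n) (Fin n) F) (h : g * g' = 1) :
    lMat g g' * aMat S = aMat (g * S * gᵀ) * lMat g g' := by
  have h2 : g' * g = 1 := mul_eq_one_comm.mp h
  have h' : gᵀ * g'ᵀ = 1 := by
    rw [← Matrix.transpose_mul, h2, Matrix.transpose_one]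
  unfold Cfsg.Agent.Helper98.SPE.lMat Cfsg.Agent.Helper98.SPE.aMat
  rw [Matrix.fromBlocks_multiply, Matrix.fromBlocks_multiply]
  simp only [Matrix.mul_one, Matrix.mul_zero, Matrix.zero_mul, add_zero, zero_add,
    Matrix.one_mul, Matrix.mul_assoc, h']

/-- piece G5a (uses G1; `spOf_val`). -/
theorem aEl_val (a : ↥(symSub F n)) :
    ((aEl a : ↥(Matrix.symplecticGroup (Fin n) F)) : Matrix (Fin n ⊕ Fin n) (Fin n ⊕ Fin n) F)
      = aMat a.1 := by
  unfold Cfsg.Agent.Helper98.SPE.aEl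
  exact spOf_val _ (h16_aMat_mem a.1 a.2)

/-- piece G5b (uses G3; `spOf_val`, `Units.mul_inv`). -/
theorem lEl_val (g : GL (Fin n) F) :
    ((lEl g : ↥(Matrix.symplecticGroup (Fin n) F)) : Matrix (Fin n ⊕ Fin n) (Fin n ⊕ Fin n) F)
      = lMat (g : Matrix (Fin n) (Fin n) F) ((g⁻¹ : GL (Fin n) F) : Matrix (Fin n) (Fin n) F) := by
  unfold Cfsg.Agent.Helper98.SPE.lEl
  apply spOf_val
  apply h16_lMat_mem
  rw [← Units.val_mul, mul_inv_cancel, Units.val_one]

/-- piece G5c (uses G5a, G2). `Subtype.ext`. -/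
theorem aEl_add (a b : ↥(symSub F n)) :
    aEl (a + b) = (aEl a * aEl b : ↥(Matrix.symplecticGroup (Fin n) F)) := by
  apply Subtype.ext
  rw [Submonoid.coe_mul, aEl_val, aEl_val, aEl_val, AddSubgroup.coe_add, h16_aMat_add]

/-- piece G5d (uses G5a, G5b, G4). -/
theorem lEl_conj (g : GL (Fin n) F) (a : ↥(symSub F n)) :
    (lEl g * aEl a * (lEl g)⁻¹ : ↥(Matrix.symplecticGroup (Fin n) F)) =
      aEl (congA (g : Matrix (Fin n) (Fin n) F) a) := by
  rw [mul_inv_eq_iff_eq_mul]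
  apply Subtype.ext
  rw [Submonoid.coe_mul, Submonoid.coe_mul, aEl_val, aEl_val, lEl_val, congA_val]
  apply h16_lMat_mul_aMat
  rw [← Units.val_mul, mul_inv_cancel, Units.val_one]

/-- piece G6 (uses G5a). `⟨J, Matrix.J_mem⟩` does not commute with `aEl a`. -/
theorem aEl_not_mem_center (a : ↥(symSub F n)) (ha : a ≠ 0) :
    aEl a ∉ Subgroup.center ↥(Matrix.symplecticGroup (Fin n) F) := by
  intro hc
  apply ha
  rw [Subgroup.mem_center_iff] at hc
  have h1 := hc ⟨Matrix.J (Fin n) F, SymplecticGroup.J_mem (Fin n) F⟩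
  have h2 := congrArg Subtype.val h1
  rw [Submonoid.coe_mul, Submonoid.coe_mul, aEl_val] at h2
  change Matrix.J (Fin n) F * aMat a.1 = aMat a.1 * Matrix.J (Fin n) F at h2
  unfold Cfsg.Agent.Helper98.SPE.aMat Matrix.J at h2
  rw [Matrix.fromBlocks_multiply, Matrix.fromBlocks_multiply] at h2
  have h3 := (Matrix.fromBlocks_inj.mp h2).1
  apply Subtype.ext
  simp only [Matrix.mul_zero, Matrix.mul_one, add_zero, zero_add] at h3
  rw [← h3]
  rfl

end GRP

end Cfsg.Agent.Helper16.SPE
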