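import Mathlib
import Cfsg.Agent.Lib.Helper98.SPE0
import Cfsg.Agent.S0270

/-!
# SPE project (S2333), piece G7: normal subgroups of `Sp_{2n}(F)` are central or everything
(copy of the body of `Cfsg.Agent.S0270.main`).
-/

set_option autoImplicit false

namespace Cfsg.Agent.Helper16.SPE

open Matrix Cfsg.Agent.Helper93.U2 Cfsg.Agent.Helper98.SPE
open scoped LinearAlgebra.Projectivization Pointwise

section GRP

variable {F : Type*} [Field F] {n : ℕ}

/-- piece G7. -/
theorem normal_le_center_or_eq_top [Fintype F] (hn : 2 ≤ n) (h : n = 2 → 3 ≤ Fintype.card F)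
    (N : Subgroup ↥(Matrix.symplecticGroup (Fin n) F)) (hN : N.Normal) :
    N ≤ Subgroup.center ↥(Matrix.symplecticGroup (Fin n) F) ∨ N = ⊤ := by
  have hperf : commutator (Matrix.symplecticGroup (Fin n) F) = ⊤ := by
    apply Cfsg.Agent.S0269.main n
    by_cases h3 : 3 ≤ n
    · exact Or.inl h3
    · have hm2 : n = 2 := by omega
      exact Or.inr (Or.inl ⟨hm2, h hm2⟩)
  have hprim := Cfsg.Agent.S0270.sp_preprimitive (F := F) (m := n) (by omega)
  by_cases hfix : MulAction.fixedPoints N (ℙ F (Fin n ⊕ Fin n → F)) = Set.univ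
  · exact Or.inl (Cfsg.Agent.S0270.le_center_of_fixes N hfix)
  · right
    have := (Cfsg.Agent.S0270.iwasawa (F := F) (m := n)).commutator_le N hfix
    rw [hperf] at this
    exact eq_top_iff.mpr this

end GRP

end Cfsg.Agent.Helper16.SPE
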