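import Mathlib
import Cfsg.Agent.Lib.Helper2.SS0
import Cfsg.Agent.Lib.Helper2.SRC0
import Cfsg.Agent.Lib.Helper12.SSY1
import Cfsg.Agent.Lib.Helper12.SSY3
import Cfsg.Agent.Lib.Helper58.SSG1

/-!
# SS server (helper2, S2411), piece (Y12b): the seed in characteristic 2
-/

set_option autoImplicit false

namespace Cfsg.Agent.Helper16.SS

open Matrix Cfsg Cfsg.Agent.Helper13 Cfsg.Agent.Helper84.SpRoot Cfsg.Agent.Helper5.SpAut
open Cfsg.Agent.Helper2.SR Cfsg.Agent.Helper2.SS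

section Y
variable {F : Type*} [Field F] {m : ℕ}

/-- (Y12b) characteristic 2.  `v = sympT e_1 1 (d) = d + e_1` and `v + e_0 = y d` (Y4, `t = 1`) are in
the orbit; G1 with `c = lam = 1` gives `v ∈ QQ`, and `ω v e_1 = ω d e_1 = 1`.  Uses Y2 Y3 Y4 G1. -/
theorem seed_char_two {H : Subgroup (Matrix.symplecticGroup (Fin (m + 2)) F)} {ξ : F}
    (h2 : (2 : F) = 0) (hc : cEl m F ∈ H) (hy : yEl 1 1 ξ ∈ H)
    (hκ : sympT (be (m := m) 0) 1 ∈ H) :
    ∃ w0 ∈ QQ H (be (m := m) 0), Cfsg.sympForm (m + 2) F w0 (be 1) ≠ 0 := by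
  have hneg : (-1 : F) = 1 := by
    have : (1 : F) + 1 = 0 := by rw [one_add_one_eq_two, h2]
    exact neg_eq_of_add_eq_zero_left this
  obtain ⟨hcE, -, -, -⟩ := Cfsg.Agent.Helper12.SS.c_act (F := F) (m := m)
  have hc01 : (cEl m F).val *ᵥ be 0 = be 1 := hcE 0 1 (by simp)
  obtain ⟨-, hy1, -⟩ := Cfsg.Agent.Helper12.SS.y_act (m := m) (1 : F) 1 ξ
  have hyd := Cfsg.Agent.Helper12.SS.y_d (m := m) (1 : F) 1 ξ 1 (by ring)
  have horb : ∀ h ∈ H, sympT (h.val *ᵥ be (m := m) 0) (1 : F) ∈ H := by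
    intro h hh
    rw [← conj_sympT]
    exact H.mul_mem (H.mul_mem hh hκ) (H.inv_mem hh)
  have hT1 : sympT (be (m := m) 1) (1 : F) ∈ H := by
    have := horb _ hc
    rwa [hc01] at this
  have hde1 : Cfsg.sympForm (m + 2) F (dV (m := m) (1 : F) 1 ξ) (be 1) = -1 := by
    rw [(form_basis _ 1).1]
    simp [dV, be, bf]
  have hde0 : Cfsg.sympForm (m + 2) F (dV (m := m) (1 : F) 1 ξ) (be 0) = 0 := by
    rw [(form_basis _ 0).1]
    simp [dV, be, bf]
  have he10 : Cfsg.sympForm (m + 2) F (be (m := m) 1) (be 0) = 0 :=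
    Cfsg.Agent.Helper12.SS.h12_ee 1 0
  have he11 : Cfsg.sympForm (m + 2) F (be (m := m) 1) (be 1) = 0 :=
    Cfsg.Agent.Helper12.SS.h12_ee 1 1
  -- `v = d + e_1` is in the orbit
  have hv1 : (sympT (be (m := m) 1) (1 : F) * yEl 1 1 ξ * cEl m F).val *ᵥ be 0 =
      dV (m := m) (1 : F) 1 ξ + be 1 := by
    rw [mul_act, mul_act, hc01, hy1, sympT_act, hde1, one_mul, hneg, one_smul]
  have hTv : sympT (dV (m := m) (1 : F) 1 ξ + be 1) (1 : F) ∈ H := by
    have := horb _ (H.mul_mem (H.mul_mem hT1 hy) hc)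
    rwa [hv1] at this
  -- `v + e_0 = y d` is in the orbit
  have hv2 : (yEl (m := m) (1 : F) 1 ξ * yEl 1 1 ξ * cEl m F).val *ᵥ be 0 =
      (dV (m := m) (1 : F) 1 ξ + be 1) + (1 : F) • be 0 := by
    rw [mul_act, mul_act, hc01, hy1, hyd]
    have h21 : (2 : F) - 1 = 1 := by ring
    rw [h21, one_smul, one_smul, sub_eq_add_neg, ← neg_one_smul F (be (m := m) 1), hneg, one_smul]
  have hTv2 : sympT ((dV (m := m) (1 : F) 1 ξ + be 1) + (1 : F) • be 0) (1 : F) ∈ H := by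
    have := horb _ (H.mul_mem (H.mul_mem hy hy) hc)
    rwa [hv2] at this
  have hv0 : Cfsg.sympForm (m + 2) F (dV (m := m) (1 : F) 1 ξ + be 1) (be 0) = 0 := by
    rw [sympForm_add_left, hde0, he10, add_zero]
  have hQ := Cfsg.Agent.Helper58.SS.seed_gen (H := H) (e0 := be (m := m) 0)
    (v := dV (m := m) (1 : F) 1 ξ + be 1) (c := 1) (lam := 1) hv0 hTv2 hTv
  rw [one_mul, one_smul] at hQ
  refine ⟨_, hQ, ?_⟩
  rw [sympForm_add_left, hde1, he11, add_zero]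
  exact neg_ne_zero.2 one_ne_zero

end Y

end Cfsg.Agent.Helper16.SS
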