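import Mathlib
import Cfsg.Agent.Lib.Helper87.PsuA
import Cfsg.Agent.Lib.Helper87.PsuB0

/-!
# SUO project (S2282), concrete block: the regular unipotent element of `SU_n(q)`, `n ≥ 5` odd,
as a product of Eichler elements along a hyperbolic basis (helper16).  Definitions only.

`u = s0 * s1 * R`, `s0 = E(b_0, b_(n-2), 0)`, `s1 = E(b_1, w1, a1)` with the ANISOTROPIC
`w1 = [b_(n-3)] + τ d`, `R = s_2 ⋯ s_(m-1)`, `s_j = E(b_j, b_(n-2-j), a_j)`.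
-/

set_option autoImplicit false
set_option linter.unusedSectionVars false
set_option linter.unusedVariables false

namespace Cfsg.Agent.Helper16.SUOC

open Matrix Cfsg Cfsg.Agent.Helper13 Cfsg.Agent.Helper87.PsuA Cfsg.Agent.Helper87.PsuB0

variable {F : Type*} [Field F] [Fintype F] {q n : ℕ}

/-- index `0` -/
def i0 (hn5 : 5 ≤ n) : Fin n := ⟨0, by omega⟩
/-- index `1` -/
def i1 (hn5 : 5 ≤ n) : Fin n := ⟨1, by omega⟩
/-- index `n - 3` -/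
def iC (hn5 : 5 ≤ n) : Fin n := ⟨n - 3, by omega⟩
/-- index `n - 2` -/
def iA (hn5 : 5 ≤ n) : Fin n := ⟨n - 2, by omega⟩
/-- index `n - 1` -/
def iB (hn5 : 5 ≤ n) : Fin n := ⟨n - 1, by omega⟩
/-- the middle index `(n - 1) / 2` (for odd `n`) -/
def iM (hn5 : 5 ≤ n) : Fin n := ⟨n / 2, by omega⟩

variable (hF : Fintype.card F = q ^ 2) (b : Fin n → Fin n → F)

/-- `s0 = E(b_0, b_(n-2), 0)` -/
noncomputable def s0 (hn5 : 5 ≤ n) : ↥(Cfsg.SU n F q) := eich hF (b (i0 hn5)) (b (iA hn5)) 0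

/-- `w1 = [b_(n-3) if n ≠ 5] + τ b_m` -/
def w1 (hn5 : 5 ≤ n) (τ : F) : Fin n → F :=
  (if n = 5 then 0 else b (iC hn5)) + τ • b (iM hn5)

/-- `s1 = E(b_1, w1, a1)` -/
noncomputable def s1 (hn5 : 5 ≤ n) (τ a1 : F) : ↥(Cfsg.SU n F q) :=
  eich hF (b (i1 hn5)) (w1 b hn5 τ) a1

/-- `s_j = E(b_j, b_(n-2-j), a_j)` for `2 ≤ j ≤ (n-3)/2`, `a_j = α0` for the last one, else `0`;
`1` for other `j` -/
noncomputable def sj (α0 : F) (j : ℕ) : ↥(Cfsg.SU n F q) :=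
  if h : 2 ≤ j ∧ 2 * j + 3 ≤ n then
    eich hF (b ⟨j, by omega⟩) (b ⟨n - 2 - j, by omega⟩) (if 2 * j + 3 = n then α0 else 0)
  else 1

/-- `Rk k = s_2 * s_3 * ⋯ * s_(k+1)` -/
noncomputable def Rk (α0 : F) : ℕ → ↥(Cfsg.SU n F q)
  | 0 => 1
  | k + 1 => Rk α0 k * sj hF b α0 (k + 2)

/-- the regular unipotent element -/
noncomputable def uEl (hn5 : 5 ≤ n) (τ a1 α0 : F) : ↥(Cfsg.SU n F q) :=
  s0 hF b hn5 * s1 hF b hn5 τ a1 * Rk hF b α0 n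

end Cfsg.Agent.Helper16.SUOC
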