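import Mathlib
import Cfsg.Agent.S0074

/-!
# S0983 exercise order 4800, CASE 96, piece (F) (helper16)

If `P` is an abelian Sylow `p`-subgroup of a perfect finite group `G` and `|N_G(P) : P| = 2`, then
every element of `N_G(P)` outside `P` inverts `P` (focal subgroup theorem for abelian Sylow
subgroups, `S0074`).
-/

set_option autoImplicit false

namespace Cfsg.Agent.Helper16.SV4800

open scoped commutatorElement

/-- The purely group-theoretic part: `Q` abelian, of index `2` in `N`, normalized by `N`, and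
contained in the derived subgroup of `N`; then every element of `N` outside `Q` inverts `Q`. -/
theorem inverts_of_le_commutator {G : Type*} [Group G] (Q N : Subgroup G)
    (hnorm : ∀ g ∈ N, ∀ z ∈ Q, g * z * g⁻¹ ∈ Q)
    (hab : ∀ x ∈ Q, ∀ y ∈ Q, x * y = y * x)
    (hidx : Q.relIndex N = 2) (hfoc : Q ≤ ⁅N, N⁆) :
    ∀ g ∈ N, g ∉ Q → ∀ x ∈ Q, g * x * g⁻¹ = x⁻¹ := by
  intro g hgN hgQ
  have hidx' : (Q.subgroupOf N).index = 2 := hidx
  -- products of two elements of `N` outside `Q`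
  have hmul : ∀ a ∈ N, ∀ b ∈ N, a ∉ Q → b ∉ Q → a * b ∈ Q := by
    intro a ha b hb haQ hbQ
    have h := (Subgroup.mul_mem_iff_of_index_two hidx' (a := (⟨a, ha⟩ : ↥N))
      (b := (⟨b, hb⟩ : ↥N))).2
      (by rw [Subgroup.mem_subgroupOf, Subgroup.mem_subgroupOf]; exact iff_of_false haQ hbQ)
    rw [Subgroup.mem_subgroupOf] at h
    exact h
  have hinvQ : ∀ a, a ∉ Q → a⁻¹ ∉ Q := fun a ha h => ha (by simpa using Q.inv_mem h)
  -- conjugation by any element of `N` outside `Q` agrees with conjugation by `g` on `Q`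
  have hconj : ∀ h ∈ N, h ∉ Q → ∀ z ∈ Q, h * z * h⁻¹ = g * z * g⁻¹ := by
    intro h hh hhQ z hz
    have hy : h * g⁻¹ ∈ Q := hmul h hh g⁻¹ (N.inv_mem hgN) hhQ (hinvQ g hgQ)
    have hw : g * z * g⁻¹ ∈ Q := hnorm g hgN z hz
    have hc := hab (h * g⁻¹) hy (g * z * g⁻¹) hw
    calc h * z * h⁻¹ = (h * g⁻¹) * (g * z * g⁻¹) * (h * g⁻¹)⁻¹ := by group
      _ = (g * z * g⁻¹) * (h * g⁻¹) * (h * g⁻¹)⁻¹ := by rw [hc]
      _ = g * z * g⁻¹ := by group
  have hgg : g * g ∈ Q := hmul g hgN g hgN hgQ hgQ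
  -- the subgroup of elements of `Q` inverted by `g`
  let I : Subgroup G :=
    { carrier := {y | y ∈ Q ∧ g * y * g⁻¹ = y⁻¹}
      one_mem' := ⟨Q.one_mem, by group⟩
      mul_mem' := by
        rintro a b ⟨ha, ha'⟩ ⟨hb, hb'⟩
        refine ⟨Q.mul_mem ha hb, ?_⟩
        calc g * (a * b) * g⁻¹ = (g * a * g⁻¹) * (g * b * g⁻¹) := by group
          _ = a⁻¹ * b⁻¹ := by rw [ha', hb']
          _ = (b * a)⁻¹ := by group
          _ = (a * b)⁻¹ := by rw [hab b hb a ha]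
      inv_mem' := by
        rintro a ⟨ha, ha'⟩
        refine ⟨Q.inv_mem ha, ?_⟩
        calc g * a⁻¹ * g⁻¹ = (g * a * g⁻¹)⁻¹ := by group
          _ = a⁻¹⁻¹ := by rw [ha'] }
  have hI : ∀ y, y ∈ I ↔ (y ∈ Q ∧ g * y * g⁻¹ = y⁻¹) := fun y => Iff.rfl
  -- the key elements
  have hkey : ∀ x ∈ Q, ∀ h ∈ N, h ∉ Q → x * h * x⁻¹ * h⁻¹ ∈ I := by
    intro x hx h hh hhQ
    have h1 : x * h * x⁻¹ * h⁻¹ = x * (g * x⁻¹ * g⁻¹) := by
      rw [← hconj h hh hhQ x⁻¹ (Q.inv_mem hx)]; group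
    rw [h1, hI]
    have hw : g * x⁻¹ * g⁻¹ ∈ Q := hnorm g hgN x⁻¹ (Q.inv_mem hx)
    have hw' : g * x * g⁻¹ ∈ Q := hnorm g hgN x hx
    refine ⟨Q.mul_mem hx hw, ?_⟩
    have hc1 : (g * g) * x⁻¹ = x⁻¹ * (g * g) := hab _ hgg _ (Q.inv_mem hx)
    calc g * (x * (g * x⁻¹ * g⁻¹)) * g⁻¹
        = (g * x * g⁻¹) * ((g * g) * x⁻¹ * (g * g)⁻¹) := by group
      _ = (g * x * g⁻¹) * (x⁻¹ * (g * g) * (g * g)⁻¹) := by rw [hc1]
      _ = (g * x * g⁻¹) * x⁻¹ := by group
      _ = (x * (g * x⁻¹ * g⁻¹))⁻¹ := by group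
  -- the derived subgroup of `N` lies in `I`
  have hle : ⁅N, N⁆ ≤ I := by
    rw [Subgroup.commutator_le]
    intro a ha b hb
    rw [commutatorElement_def]
    by_cases haQ : a ∈ Q
    · by_cases hbQ : b ∈ Q
      · have : a * b * a⁻¹ * b⁻¹ = 1 := by
          rw [hab a haQ b hbQ]; group
        rw [this]; exact I.one_mem
      · exact hkey a haQ b hb hbQ
    · by_cases hbQ : b ∈ Q
      · have h1 := I.inv_mem (hkey b hbQ a ha haQ)
        have : (b * a * b⁻¹ * a⁻¹)⁻¹ = a * b * a⁻¹ * b⁻¹ := by group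
        rw [this] at h1
        exact h1
      · have hy : b * a⁻¹ ∈ Q := hmul b hb a⁻¹ (N.inv_mem ha) hbQ (hinvQ a haQ)
        have h1 := I.inv_mem (hkey (b * a⁻¹) hy a ha haQ)
        have : ((b * a⁻¹) * a * (b * a⁻¹)⁻¹ * a⁻¹)⁻¹ = a * b * a⁻¹ * b⁻¹ := by group
        rw [this] at h1
        exact h1
  intro x hx
  exact ((hI x).1 (hle (hfoc hx))).2

/-- (F) If `P` is an abelian Sylow `p`-subgroup of a perfect finite group and `|N_G(P) : P| = 2`,
every element of `N_G(P)` outside `P` inverts `P`. -/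
theorem inverts_of_relIndex_two {G : Type*} [Group G] [Finite G] {p : ℕ} [Fact p.Prime]
    (P : Sylow p G)
    (hab : ∀ x ∈ (P : Subgroup G), ∀ y ∈ (P : Subgroup G), x * y = y * x)
    (hperf : commutator G = ⊤)
    (hidx : (P : Subgroup G).relIndex (Subgroup.normalizer ((P : Subgroup G) : Set G)) = 2) :
    ∀ g ∈ Subgroup.normalizer ((P : Subgroup G) : Set G), g ∉ (P : Subgroup G) →
      ∀ x ∈ (P : Subgroup G), g * x * g⁻¹ = x⁻¹ := by
  have hcomm : IsMulCommutative ↥(P : Subgroup G) :=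
    ⟨⟨fun a b => Subtype.ext (hab a.1 a.2 b.1 b.2)⟩⟩
  have h74 := Cfsg.Agent.S0074.result P hcomm
  rw [hperf, top_inf_eq] at h74
  have hfoc : (P : Subgroup G) ≤ ⁅Subgroup.normalizer ((P : Subgroup G) : Set G),
      Subgroup.normalizer ((P : Subgroup G) : Set G)⁆ := by
    intro x hx
    have h1 : x ∈ ⁅Subgroup.normalizer (P : Set G),
        Subgroup.normalizer (P : Set G)⁆ ⊓ (P : Subgroup G) := by
      rw [← h74]; exact hx
    exact h1.1
  apply inverts_of_le_commutator (P : Subgroup G) (Subgroup.normalizer ((P : Subgroup G) : Set G))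
    ?_ hab hidx hfoc
  intro g hg z hz
  exact (Subgroup.mem_normalizer_iff.1 hg z).1 hz

end Cfsg.Agent.Helper16.SV4800
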