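import Mathlib
import Cfsg.Agent.S1017
import Cfsg.Agent.Lib.Helper22.Ord7920D

/-!
# S0983 exercise order 4800, CASE 96, piece (K) (helper16)

A subgroup of order `75` or `150` of a finite group contains at most one Sylow `5`-subgroup of
order `25`.  Also: the number of Sylow `p`-subgroups of `G` inside a subgroup `H` containing one of
them is `≡ 1 mod p` (helper85's `card_sylow_le_mod` without the superfluous hypothesis `|P| = p`).
-/

set_option autoImplicit false

namespace Cfsg.Agent.Helper16.SV4800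

open MulAction

variable {G : Type*} [Group G] [Finite G]

/-- The number of Sylow `p`-subgroups of `G` inside a subgroup `H` containing one of them is
`≡ 1 mod p`. -/
theorem card_sylow_le_modEq (p : ℕ) [Fact p.Prime] (P : Sylow p G)
    (H : Subgroup G) (hPH : (P : Subgroup G) ≤ H) :
    Nat.card {Q : Sylow p G // (Q : Subgroup G) ≤ H} ≡ 1 [MOD p] := by
  classical
  let X : SubMulAction (P : Subgroup G) (Sylow p G) :=
    { carrier := {Q | (Q : Subgroup G) ≤ H}
      smul_mem' := by
        rintro ⟨g, hg⟩ Q hQ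
        show ((⟨g, hg⟩ : (P : Subgroup G)) • Q : Sylow p G).1 ≤ H
        intro x hx
        have hx' : x ∈ (g • Q : Sylow p G).1 := hx
        rw [Sylow.coe_subgroup_smul] at hx'
        obtain ⟨s, hs, rfl⟩ := (Subgroup.mem_smul_pointwise_iff_exists _ _ _).mp hx'
        have h1 : s ∈ H := hQ hs
        have hgH : g ∈ H := hPH hg
        have h3 : MulAut.conj g • s = g * s * g⁻¹ := rfl
        rw [h3]
        exact H.mul_mem (H.mul_mem hgH h1) (H.inv_mem hgH) }
  have hmod := P.2.card_modEq_card_fixedPoints ↥X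
  have e1 : Nat.card ↥X = Nat.card {Q : Sylow p G // (Q : Subgroup G) ≤ H} := rfl
  have hfix : ∀ x : ↥X, x ∈ fixedPoints (P : Subgroup G) ↥X ↔ x = ⟨P, hPH⟩ := by
    intro x
    constructor
    · intro hx
      have h1 : (x : Sylow p G) ∈ fixedPoints (P : Subgroup G) (Sylow p G) := by
        intro g
        have := hx g
        exact congrArg (fun t : ↥X => (t : Sylow p G)) this
      have h2 : (P : Subgroup G) ≤ (x : Sylow p G) := P.2.sylow_mem_fixedPoints_iff.mp h1
      have h3 : ((x : Sylow p G) : Subgroup G) = P := P.3 (x : Sylow p G).2 h2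
      apply Subtype.ext
      exact Sylow.ext h3
    · rintro rfl g
      apply Subtype.ext
      show g • P = P
      have : P ∈ fixedPoints (P : Subgroup G) (Sylow p G) :=
        P.2.sylow_mem_fixedPoints_iff.mpr le_rfl
      exact this g
  have e2 : Nat.card (fixedPoints (P : Subgroup G) ↥X) = 1 := by
    rw [Nat.card_eq_one_iff_unique]
    refine ⟨⟨?_⟩, ⟨⟨⟨P, hPH⟩, (hfix _).2 rfl⟩⟩⟩
    rintro ⟨a, ha⟩ ⟨b, hb⟩
    apply Subtype.ext
    exact ((hfix a).1 ha).trans ((hfix b).1 hb).symm
  rw [e1, e2] at hmod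
  exact hmod

/-- A subgroup of order `75` contains at most one Sylow `5`-subgroup of order `25`. -/
theorem sylow_unique_of_card_75 (C : Subgroup G) (hC : Nat.card C = 75) (P R : Sylow 5 G)
    (hP : Nat.card (P : Subgroup G) = 25) (hPC : (P : Subgroup G) ≤ C)
    (hRC : (R : Subgroup G) ≤ C) : P = R := by
  have : Fact (Nat.Prime 5) := ⟨by norm_num⟩
  have h1 := Cfsg.Agent.S1017.card_eq_card_mul C P hPC
  have h2 := card_sylow_le_modEq 5 P C hPC
  have h3 : 25 ∣ Nat.card ↥(Subgroup.normalizer ((P : Subgroup G) : Set G) ⊓ C) := by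
    rw [← hP]
    exact Subgroup.card_dvd_of_le (le_inf Subgroup.le_normalizer hPC)
  have hn : Nat.card {Q : Sylow 5 G // (Q : Subgroup G) ≤ C} = 1 := by
    obtain ⟨k, hk⟩ := h3
    rw [hC, hk] at h1
    rw [Nat.ModEq] at h2
    generalize Nat.card {Q : Sylow 5 G // (Q : Subgroup G) ≤ C} = n at h1 h2
    have h4 : n * k = 3 := by nlinarith
    have h5 : n ∣ 3 := ⟨k, h4.symm⟩
    have h6 : n ≤ 3 := Nat.le_of_dvd (by norm_num) h5
    interval_cases n <;> omega
  have h4 : (⟨P, hPC⟩ : {Q : Sylow 5 G // (Q : Subgroup G) ≤ C}) = ⟨R, hRC⟩ := by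
    rw [Nat.card_eq_one_iff_unique] at hn
    exact hn.1.elim _ _
  exact congrArg Subtype.val h4

/-- (K) A subgroup of order `150` or `75` contains at most one Sylow `5`-subgroup of order `25`. -/
theorem sylow_unique_of_card_150 (C : Subgroup G)
    (hC : Nat.card C = 150 ∨ Nat.card C = 75) (P R : Sylow 5 G)
    (hP : Nat.card (P : Subgroup G) = 25) (hPC : (P : Subgroup G) ≤ C)
    (hRC : (R : Subgroup G) ≤ C) : P = R := by
  have : Fact (Nat.Prime 5) := ⟨by norm_num⟩
  have : Fact (Nat.Prime 2) := ⟨by norm_num⟩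
  rcases hC with hC | hC
  swap
  · exact sylow_unique_of_card_75 C hC P R hP hPC hRC
  -- an involution of `C` acts on `C` by `75` transpositions
  obtain ⟨z, hz⟩ := exists_prime_orderOf_dvd_card' (G := ↥C) 2 (by rw [hC]; norm_num)
  have hz1 : z ≠ 1 := by
    intro h
    rw [h, orderOf_one] at hz
    norm_num at hz
  have hzz : z * z = 1 := by
    rw [← pow_two, ← hz]
    exact pow_orderOf_eq_one z
  have hfix : Nat.card (fixedBy ↥C z) = 0 := by
    have hempty : IsEmpty (fixedBy ↥C z) := by
      refine ⟨fun x => ?_⟩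
      have hx := x.2
      rw [mem_fixedBy, smul_eq_mul] at hx
      exact hz1 (mul_eq_right.mp hx)
    exact Nat.card_eq_zero.2 (Or.inl hempty)
  obtain ⟨H, hH⟩ := Cfsg.Agent.Helper22.Ord7920.exists_index_two_of_odd_swaps (G := ↥C) (X := ↥C) z hzz
    (by rw [hfix, hC]; decide)
  have hHc : Nat.card H = 75 := by
    have := H.card_mul_index
    rw [hH, hC] at this
    omega
  have hmapc : Nat.card ↥(H.map C.subtype) = 75 := by
    rw [← hHc]
    exact (Nat.card_congr (H.equivMapOfInjective C.subtype C.subtype_injective).toEquiv).symm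
  -- elements of odd order of `C` lie in `H`
  have hodd : ∀ (S : Sylow 5 G), (S : Subgroup G) ≤ C → Nat.card (S : Subgroup G) = 25 →
      (S : Subgroup G) ≤ H.map C.subtype := by
    intro S hSC hS x hx
    have hx25 : x ^ 25 = 1 := by
      have h1 : (⟨x, hx⟩ : ↥(S : Subgroup G)) ^ Nat.card ↥(S : Subgroup G) = 1 := pow_card_eq_one'
      rw [hS] at h1
      have h2 := congrArg (fun t : ↥(S : Subgroup G) => (t : G)) h1
      simpa using h2
    let x' : ↥C := ⟨x, hSC hx⟩
    have hx'25 : x' ^ 25 = 1 := by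
      apply Subtype.ext
      simpa using hx25
    have hx' : x' = x' ^ 13 * x' ^ 13 := by
      rw [← pow_add]
      calc x' = x' ^ 25 * x' := by rw [hx'25, one_mul]
        _ = x' ^ (13 + 13) := by rw [← pow_succ]
    have hmem : x' ∈ H := by
      rw [hx']
      exact Subgroup.mul_self_mem_of_index_two hH _
    exact ⟨x', hmem, rfl⟩
  have hcardR : Nat.card (R : Subgroup G) = 25 := by
    rw [← hP]
    exact Cfsg.Agent.S1017.sylow_card_all P R
  exact sylow_unique_of_card_75 (H.map C.subtype) hmapc P R hP (hodd P hPC hP) (hodd R hRC hcardR)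

end Cfsg.Agent.Helper16.SV4800
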