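import Mathlib
import Cfsg.Agent.S1017
import Cfsg.Agent.Lib.Helper73.N4800Base
import Cfsg.Agent.Lib.Helper17.SylowInter
import Cfsg.Agent.Lib.Helper17.SylowInter2
import Cfsg.Agent.Lib.Helper17.FamilyCount
import Cfsg.Agent.Lib.Helper16.SV4800F
import Cfsg.Agent.Lib.Helper16.SV4800K

/-!
# S0983 exercise order 4800, CASE `n_5 = 96` (helper16)

`N = N_G(P)` has order `50` and inverts `P` (piece (F)); for an intersection `D = P ⊓ R` of order
`5` we get `N ≤ L = N_G(D)`, `|L| = 300`, `|C_G(D)| ∈ {150, 75}`, and `P, R ≤ C_G(D)` contradicts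
piece (K).
-/

set_option autoImplicit false

namespace Cfsg.Agent.Helper16.SV4800

open Cfsg.Agent.Helper17 Cfsg.Agent.Helper73.N4800

open scoped commutatorElement

universe u

variable {G : Type u} [Group G] [Finite G]

omit [Finite G] in
/-- a nonabelian simple group is perfect -/
theorem commutator_eq_top_of_simple [IsSimpleGroup G] (hna : ¬ IsMulCommutative G) :
    commutator G = ⊤ := by
  have hn : (commutator G).Normal := inferInstance
  rcases hn.eq_bot_or_eq_top with h | h
  · exfalso
    apply hna
    refine ⟨⟨fun a b => ?_⟩⟩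
    have h1 : ⁅a, b⁆ ∈ commutator G := by
      rw [commutator_def]
      exact Subgroup.commutator_mem_commutator (Subgroup.mem_top a) (Subgroup.mem_top b)
    rw [h, Subgroup.mem_bot] at h1
    exact commutatorElement_eq_one_iff_mul_comm.1 h1
  · exact h

/-- CASE `n_5 = 96` of order `4800`. -/
theorem false_of_ninetysix [IsSimpleGroup G] (hG : Nat.card G = 4800)
    (h96 : Nat.card (Sylow 5 G) = 96) : False := by
  have hp5 : Fact (Nat.Prime 5) := ⟨by norm_num⟩
  have hna := not_comm hG
  obtain ⟨P⟩ : Nonempty (Sylow 5 G) := inferInstance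
  have hP25 := card_sylow_five hG P
  have hN50 := card_normalizer_five hG h96 P
  have habS : ∀ S : Sylow 5 G, ∀ x ∈ (S : Subgroup G), ∀ y ∈ (S : Subgroup G), x * y = y * x := by
    intro S x hx y hy
    have h1 := sylow_five_le_centralizer hG S hx
    rw [Subgroup.mem_centralizer_iff] at h1
    exact (h1 y hy).symm
  have hab := habS P
  set N : Subgroup G := Subgroup.normalizer ((P : Subgroup G) : Set G) with hNdef
  have hPN : (P : Subgroup G) ≤ N := Subgroup.le_normalizer
  have hidx : (P : Subgroup G).relIndex N = 2 := by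
    have h := card_inf_mul_relIndex (P : Subgroup G) N
    rw [inf_of_le_left hPN, hP25, hN50] at h
    omega
  have hinv := inverts_of_relIndex_two P hab (commutator_eq_top_of_simple hna) hidx
  -- a Sylow subgroup meeting `P` in order `5`
  have hmod : ¬ Nat.card (Sylow 5 G) ≡ 1 [MOD 5 ^ 2] := by
    rw [h96]; decide
  obtain ⟨R, hPR, hidxR⟩ := exists_sylow_large_inter 5 2 hmod P
  have hR25 := card_sylow_five hG R
  change (R : Subgroup G).relIndex (P : Subgroup G) ≤ 5 ^ (2 - 1) at hidxR
  have hrel := card_inf_mul_relIndex (R : Subgroup G) (P : Subgroup G)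
  rw [hP25] at hrel
  set D : Subgroup G := (P : Subgroup G) ⊓ (R : Subgroup G) with hD
  have hDP : D ≤ (P : Subgroup G) := inf_le_left
  have hDR : D ≤ (R : Subgroup G) := inf_le_right
  have hDne : D ≠ (P : Subgroup G) := by
    intro h
    apply hPR
    have hle : (P : Subgroup G) ≤ (R : Subgroup G) := by rw [← h]; exact hDR
    exact Sylow.ext (Subgroup.eq_of_le_of_card_ge hle (by rw [hP25, hR25]))
  have hcD : Nat.card D = 5 := by
    rw [inf_comm] at hrel
    have hdvd : Nat.card D ∣ 25 := ⟨_, hrel.symm⟩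
    have hle : Nat.card D ≤ 25 := Nat.le_of_dvd (by norm_num) hdvd
    have hne25 : Nat.card D ≠ 25 := by
      intro h
      apply hDne
      exact Subgroup.eq_of_le_of_card_ge hDP (by rw [hP25, h])
    have hrle : (R : Subgroup G).relIndex (P : Subgroup G) ≤ 5 := by simpa using hidxR
    generalize (R : Subgroup G).relIndex (P : Subgroup G) = r at hrel hrle
    generalize Nat.card D = d at hrel hdvd hle hne25
    interval_cases r <;> omega
  -- `N ≤ L = N_G(D)`
  have hpres : ∀ g ∈ N, ∀ y ∈ D, g * y * g⁻¹ ∈ D := by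
    intro g hg y hy
    by_cases hgP : g ∈ (P : Subgroup G)
    · have : g * y * g⁻¹ = y := by
        rw [hab g hgP y (hDP hy)]; group
      rw [this]; exact hy
    · rw [hinv g hg hgP y (hDP hy)]
      exact D.inv_mem hy
  set L : Subgroup G := Subgroup.normalizer (D : Set G) with hLdef
  have hNL : N ≤ L := by
    intro g hg
    rw [hLdef, Subgroup.mem_normalizer_iff]
    intro y
    constructor
    · exact hpres g hg y
    · intro h
      have h1 := hpres g⁻¹ (N.inv_mem hg) _ h
      have h2 : g⁻¹ * (g * y * g⁻¹) * g⁻¹⁻¹ = y := by group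
      rwa [h2] at h1
  have hPL : (P : Subgroup G) ≤ L := hPN.trans hNL
  have hC : ∀ S : Sylow 5 G, D ≤ (S : Subgroup G) →
      (S : Subgroup G) ≤ Subgroup.centralizer (D : Set G) := by
    intro S hDS x hx
    rw [Subgroup.mem_centralizer_iff]
    intro y hy
    exact habS S y (hDS hy) x hx
  have hCL : Subgroup.centralizer (D : Set G) ≤ L := Subgroup.centralizer_le_normalizer _
  have hRL : (R : Subgroup G) ≤ L := (hC R hDR).trans hCL
  have hLtop : L ≠ ⊤ := by
    intro htop
    have hnorm : D.Normal := Subgroup.normalizer_eq_top_iff.1 htop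
    exact normal_card_absurd D hnorm (by rw [hcD]; norm_num) (by rw [hcD, hG]; norm_num)
  have hL480 := card_le_of_ne_top hG L hLtop
  -- `|L| = 300`
  have hcount := Cfsg.Agent.S1017.card_eq_card_mul L P hPL
  have hmod1 := card_sylow_le_modEq 5 P L hPL
  have hNinf : N ⊓ L = N := inf_of_le_left hNL
  rw [← hNdef, hNinf, hN50] at hcount
  have hge2 : Nat.card {Q : Sylow 5 G // (Q : Subgroup G) ≤ L} ≠ 1 := by
    intro h1
    rw [Nat.card_eq_one_iff_unique] at h1
    have := h1.1.elim (⟨P, hPL⟩ : {Q : Sylow 5 G // (Q : Subgroup G) ≤ L}) ⟨R, hRL⟩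
    exact hPR (congrArg Subtype.val this)
  have hL300 : Nat.card L = 300 := by
    rw [Nat.ModEq] at hmod1
    generalize Nat.card {Q : Sylow 5 G // (Q : Subgroup G) ≤ L} = n at hcount hmod1 hge2
    have hn : n ≤ 9 := by omega
    interval_cases n <;> omega
  -- the centralizer of `D`
  have he := relIndex_centralizer_dvd D hcD
  have hce := card_centralizer_mul_relIndex D
  rw [← hLdef, hL300] at hce
  have hne1 : (Subgroup.centralizer (D : Set G)).relIndex L ≠ 1 := by
    intro h1
    rw [Subgroup.relIndex_eq_one] at h1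
    -- an element of `N` outside `P`
    have hex : ∃ t ∈ N, t ∉ (P : Subgroup G) := by
      by_contra hcon
      push Not at hcon
      have hle : N ≤ (P : Subgroup G) := hcon
      have := Subgroup.card_le_of_le hle
      rw [hN50, hP25] at this
      omega
    obtain ⟨t, htN, htP⟩ := hex
    have htC : t ∈ Subgroup.centralizer (D : Set G) := h1 (hNL htN)
    -- a nontrivial element of `D`
    have hD1 : D ≠ ⊥ := by
      intro h; rw [h, Subgroup.card_bot] at hcD; norm_num at hcD
    obtain ⟨d, hd, hd1⟩ := (Subgroup.ne_bot_iff_exists_ne_one.1 hD1 |> fun ⟨x, hx⟩ =>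
      (⟨x.1, x.2, fun h => hx (Subtype.ext h)⟩ : ∃ d, d ∈ D ∧ d ≠ 1))
    have h2 := hinv t htN htP d (hDP hd)
    rw [Subgroup.mem_centralizer_iff] at htC
    have h3 : d * t = t * d := htC d hd
    have h4 : t * d * t⁻¹ = d := by rw [← h3]; group
    rw [h4] at h2
    have hd2 : d * d = 1 := by
      calc d * d = d * d⁻¹ := by rw [← h2]
        _ = 1 := mul_inv_cancel d
    have hd5 : d ^ 5 = 1 := by
      have h5 : (⟨d, hd⟩ : ↥D) ^ Nat.card ↥D = 1 := pow_card_eq_one'
      rw [hcD] at h5
      have := congrArg (fun t : ↥D => (t : G)) h5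
      simpa using this
    apply hd1
    calc d = d ^ 5 * ((d * d)⁻¹ * (d * d)⁻¹) := by group
      _ = 1 := by rw [hd5, hd2]; group
  have hcard : Nat.card (Subgroup.centralizer (D : Set G)) = 150 ∨
      Nat.card (Subgroup.centralizer (D : Set G)) = 75 := by
    have he4 : (Subgroup.centralizer (D : Set G)).relIndex L ∣ 4 := by simpa using he
    have hle4 : (Subgroup.centralizer (D : Set G)).relIndex L ≤ 4 := Nat.le_of_dvd (by norm_num) he4
    generalize (Subgroup.centralizer (D : Set G)).relIndex L = e at hce hne1 he4 hle4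
    generalize Nat.card (Subgroup.centralizer (D : Set G)) = c at hce
    interval_cases e <;> omega
  exact hPR (sylow_unique_of_card_150 _ hcard P R hP25 (hC P hDP) (hC R hDR))

end Cfsg.Agent.Helper16.SV4800
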