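import Mathlib
import Cfsg.Agent.S1017
import Cfsg.Agent.Lib.Helper73.N4800Base
import Cfsg.Agent.Lib.Helper17.Sieve
import Cfsg.Agent.Lib.Helper17.SylowInter
import Cfsg.Agent.Lib.Helper17.SylowInter2
import Cfsg.Agent.Lib.Helper75.FixKill
import Cfsg.Agent.Lib.Helper16.SV4800K
import Cfsg.Agent.Lib.Helper16.SV4800C96

/-!
# S0983 exercise order 4800 (helper16): CASE `n_5 = 16` and the final statement

CASE 16: `|N(P)| = 300`; for `R ≠ P` with `D = P ⊓ R` of order `5`, the two-point stabilizer
`K = N(P) ⊓ N(R)` has order `≥ 20` and meets `P` in `D`; `P` and `K` lie in `H = N(P) ⊓ N_G(D)`, so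
`|H| ≥ 100`, `|N_G(D)| ≥ 600` and `N_G(D)` has index `≤ 8`: impossible.
-/

set_option autoImplicit false

namespace Cfsg.Agent.Helper16.SV4800

open Cfsg.Agent.Helper17 Cfsg.Agent.Helper73.N4800 MulAction

universe u

variable {G : Type u} [Group G] [Finite G]

/-- the two-point stabilizer `N(P) ⊓ N(R)` is large when there are few Sylow subgroups -/
theorem card_normalizer_le_mul {p : ℕ} [Fact p.Prime] (P R : Sylow p G) (hPR : P ≠ R) :
    Nat.card ↥(Subgroup.normalizer ((P : Subgroup G) : Set G)) ≤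
      (Nat.card (Sylow p G) - 1) *
        Nat.card ↥(Subgroup.normalizer ((R : Subgroup G) : Set G) ⊓
          Subgroup.normalizer ((P : Subgroup G) : Set G)) := by
  set N : Subgroup G := Subgroup.normalizer ((P : Subgroup G) : Set G) with hN
  have h1 := Subgroup.card_eq_card_quotient_mul_card_subgroup (stabilizer ↥N R)
  have h2 : Nat.card (↥N ⧸ stabilizer ↥N R) = Nat.card (orbit ↥N R) :=
    (Nat.card_congr (orbitEquivQuotientStabilizer ↥N R)).symm
  have h4 : Nat.card (stabilizer ↥N R) =
      Nat.card ↥(Subgroup.normalizer ((R : Subgroup G) : Set G) ⊓ N) := by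
    apply Nat.card_congr
    refine ⟨fun h => ⟨(h.1 : G), ?_, h.1.2⟩, fun y => ⟨⟨y.1, y.2.2⟩, ?_⟩, ?_, ?_⟩
    · have := h.2
      rw [mem_stabilizer_iff] at this
      exact Sylow.smul_eq_iff_mem_normalizer.mp this
    · rw [mem_stabilizer_iff]
      exact Sylow.smul_eq_iff_mem_normalizer.mpr y.2.1
    · intro h; rfl
    · intro y; rfl
  have h3 : Nat.card (orbit ↥N R) ≤ Nat.card (Sylow p G) - 1 := by
    rw [← card_ne_subtype P]
    apply Nat.card_le_card_of_injective
      (fun x : orbit ↥N R => (⟨x.1, ?_⟩ : {Q : Sylow p G // Q ≠ P}))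
    · intro a b hab
      apply Subtype.ext
      exact congrArg (fun t : {Q : Sylow p G // Q ≠ P} => (t : Sylow p G)) hab
    · obtain ⟨n, hn⟩ := x.2
      intro hxP
      apply hPR
      have h5 : (n : G) • R = P := by rw [← hxP, ← hn]; rfl
      have h6 : (n : G)⁻¹ • P = P :=
        Sylow.smul_eq_iff_mem_normalizer.mpr (N.inv_mem n.2)
      rw [← h6, ← h5, inv_smul_smul]
  rw [h1, h2, h4]
  exact Nat.mul_le_mul_right _ h3

/-- CASE `n_5 = 16` of order `4800`. -/
theorem false_of_sixteen [IsSimpleGroup G] (hG : Nat.card G = 4800)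
    (h16 : Nat.card (Sylow 5 G) = 16) : False := by
  have hp5 : Fact (Nat.Prime 5) := ⟨by norm_num⟩
  obtain ⟨P⟩ : Nonempty (Sylow 5 G) := inferInstance
  have hP25 := card_sylow_five hG P
  have hN300 : Nat.card (Subgroup.normalizer ((P : Subgroup G) : Set G)) = 300 := by
    have h := card_normalizer_mul_sylow_count P
    rw [h16, hG] at h
    omega
  have habS : ∀ S : Sylow 5 G, ∀ x ∈ (S : Subgroup G), ∀ y ∈ (S : Subgroup G), x * y = y * x := by
    intro S x hx y hy
    have h1 := sylow_five_le_centralizer hG S hx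
    rw [Subgroup.mem_centralizer_iff] at h1
    exact (h1 y hy).symm
  set N : Subgroup G := Subgroup.normalizer ((P : Subgroup G) : Set G) with hNdef
  have hPN : (P : Subgroup G) ≤ N := Subgroup.le_normalizer
  -- a Sylow subgroup meeting `P` in order `5`
  have hmod : ¬ Nat.card (Sylow 5 G) ≡ 1 [MOD 5 ^ 2] := by
    rw [h16]; decide
  obtain ⟨R, hPR, hidxR⟩ := exists_sylow_large_inter 5 2 hmod P
  have hR25 := card_sylow_five hG R
  change (R : Subgroup G).relIndex (P : Subgroup G) ≤ 5 ^ (2 - 1) at hidxR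
  have hrel := card_inf_mul_relIndex (R : Subgroup G) (P : Subgroup G)
  rw [hP25] at hrel
  set D : Subgroup G := (P : Subgroup G) ⊓ (R : Subgroup G) with hD
  have hDP : D ≤ (P : Subgroup G) := inf_le_left
  have hDR : D ≤ (R : Subgroup G) := inf_le_right
  have hDne : D ≠ (P : Subgroup G) := by
    intro h
    apply hPR
    have hle : (P : Subgroup G) ≤ (R : Subgroup G) := by rw [← h]; exact hDR
    exact Sylow.ext (Subgroup.eq_of_le_of_card_ge hle (by rw [hP25, hR25]))
  have hcD : Nat.card D = 5 := by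
    rw [inf_comm] at hrel
    have hdvd : Nat.card D ∣ 25 := ⟨_, hrel.symm⟩
    have hle : Nat.card D ≤ 25 := Nat.le_of_dvd (by norm_num) hdvd
    have hne25 : Nat.card D ≠ 25 := by
      intro h
      apply hDne
      exact Subgroup.eq_of_le_of_card_ge hDP (by rw [hP25, h])
    have hrle : (R : Subgroup G).relIndex (P : Subgroup G) ≤ 5 := by simpa using hidxR
    generalize (R : Subgroup G).relIndex (P : Subgroup G) = r at hrel hrle
    generalize Nat.card D = d at hrel hdvd hle hne25
    interval_cases r <;> omega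
  set L : Subgroup G := Subgroup.normalizer (D : Set G) with hLdef
  -- abelian Sylow subgroups containing `D` normalize `D`
  have hSL : ∀ S : Sylow 5 G, D ≤ (S : Subgroup G) → (S : Subgroup G) ≤ L := by
    intro S hDS g hg
    rw [hLdef, Subgroup.mem_normalizer_iff]
    intro y
    constructor
    · intro hy
      have : g * y * g⁻¹ = y := by rw [habS S g hg y (hDS hy)]; group
      rw [this]; exact hy
    · intro hy
      have h1 : g⁻¹ * (g * y * g⁻¹) = (g * y * g⁻¹) * g⁻¹ :=
        habS S _ ((S : Subgroup G).inv_mem hg) _ (hDS hy)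
      have h2 : y = g * y * g⁻¹ := by
        calc y = g⁻¹ * (g * y * g⁻¹) * g := by group
          _ = (g * y * g⁻¹) * g⁻¹ * g := by rw [h1]
          _ = g * y * g⁻¹ := by group
      rw [h2]; exact hy
  have hPL : (P : Subgroup G) ≤ L := hSL P hDP
  have hRL : (R : Subgroup G) ≤ L := hSL R hDR
  -- the two-point stabilizer
  set K : Subgroup G := Subgroup.normalizer ((R : Subgroup G) : Set G) ⊓ N with hKdef
  have hKL : K ≤ L := by
    intro g hg
    rw [hLdef, Subgroup.mem_normalizer_iff]
    intro y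
    have h1 := (Subgroup.mem_normalizer_iff.1 hg.1) y
    have h2 := (Subgroup.mem_normalizer_iff.1 hg.2) y
    rw [hD, Subgroup.mem_inf, Subgroup.mem_inf, h1, h2]
  have hKN : K ≤ N := inf_le_right
  have hK20 : 300 ≤ 15 * Nat.card K := by
    have h := card_normalizer_le_mul P R hPR
    rw [h16] at h
    rw [← hNdef, hN300] at h
    exact h
  -- `P ⊓ K = D`
  have hPK : (P : Subgroup G) ⊓ K = D := by
    have h1 := P.2.inf_normalizer_sylow R
    apply le_antisymm
    · intro x hx
      have h2 : x ∈ (P : Subgroup G) ⊓ Subgroup.normalizer (R : Set G) := ⟨hx.1, hx.2.1⟩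
      rw [h1] at h2
      exact h2
    · intro x hx
      exact ⟨hDP hx, Subgroup.le_normalizer (hDR hx), hPN (hDP hx)⟩
  have hcK := card_inf_mul_relIndex (P : Subgroup G) K
  rw [hPK, hcD] at hcK
  -- `H = N ⊓ L` contains `P` and `K`
  have hPH : (P : Subgroup G) ≤ N ⊓ L := le_inf hPN hPL
  have hKH : K ≤ N ⊓ L := le_inf hKN hKL
  have hcH := card_inf_mul_relIndex (P : Subgroup G) (N ⊓ L)
  rw [inf_of_le_left hPH, hP25] at hcH
  have hHpos : 0 < Nat.card ↥(N ⊓ L) := Nat.card_pos
  have hrel0 : (P : Subgroup G).relIndex (N ⊓ L) ≠ 0 := by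
    intro h0
    rw [h0] at hcH
    omega
  have hrelle := Subgroup.relIndex_le_of_le_right hKH hrel0
  have hH100 : 100 ≤ Nat.card ↥(N ⊓ L) := by omega
  -- `L` is a proper subgroup
  have hLtop : L ≠ ⊤ := by
    intro htop
    have hnorm : D.Normal := Subgroup.normalizer_eq_top_iff.1 htop
    exact normal_card_absurd D hnorm (by rw [hcD]; norm_num) (by rw [hcD, hG]; norm_num)
  have hL480 := card_le_of_ne_top hG L hLtop
  have hcount := Cfsg.Agent.S1017.card_eq_card_mul L P hPL
  have hmod1 := card_sylow_le_modEq 5 P L hPL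
  rw [← hNdef] at hcount
  have hge2 : Nat.card {Q : Sylow 5 G // (Q : Subgroup G) ≤ L} ≠ 1 := by
    intro h1
    rw [Nat.card_eq_one_iff_unique] at h1
    have := h1.1.elim (⟨P, hPL⟩ : {Q : Sylow 5 G // (Q : Subgroup G) ≤ L}) ⟨R, hRL⟩
    exact hPR (congrArg Subtype.val this)
  rw [Nat.ModEq] at hmod1
  have hn6 : 6 ≤ Nat.card {Q : Sylow 5 G // (Q : Subgroup G) ≤ L} := by omega
  have := Nat.mul_le_mul hn6 hH100
  omega

/-- **No simple group of order 4800** (helper17's sieve shape). -/
theorem no_4800.{v} : Cfsg.Agent.Helper17.Sieve.NoSimple.{v} 4800 := by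
  intro G _ _ _ hna hG
  have hp5 : Fact (Nat.Prime 5) := ⟨by norm_num⟩
  have hn : Nat.card G = 5 ^ 2 * 192 := by rw [hG]; norm_num
  obtain ⟨hd1, hd2⟩ := sylow_count (G := G) (p := 5) hn (by norm_num)
  have hnb := Cfsg.Agent.Helper75.FixKill.not_bad hna 5 2 192 (by norm_num) (by norm_num) hn
    (by norm_num)
  have hle : Nat.card (Sylow 5 G) ≤ 192 := Nat.le_of_dvd (by norm_num) hd1
  have hcases : Nat.card (Sylow 5 G) = 16 ∨ Nat.card (Sylow 5 G) = 96 := by
    generalize Nat.card (Sylow 5 G) = d at hd1 hd2 hnb hle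
    have h6 : d ≠ 6 := by
      rintro rfl
      apply hnb
      unfold Cfsg.Agent.Helper17.Sieve.Bad
      decide
    have h1 : d ≠ 1 := by
      rintro rfl
      apply hnb
      unfold Cfsg.Agent.Helper17.Sieve.Bad
      decide
    clear hnb
    interval_cases d <;> omega
  rcases hcases with h | h
  · exact false_of_sixteen hG h
  · exact false_of_ninetysix hG h

end Cfsg.Agent.Helper16.SV4800
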