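import Mathlib
import Cfsg.Agent.Lib.Helper93.U30
import Cfsg.Agent.Lib.Helper16.U3O6Core
import Cfsg.Agent.Lib.Helper40.U3O2a
import Cfsg.Agent.Lib.Helper10.U3O2b

/-!
# U3 project (S2334), piece O6b
-/

set_option autoImplicit false

namespace Cfsg.Agent.Helper16.U3

open Matrix Cfsg.Agent.Helper13 Cfsg.Agent.Helper93.U2 Cfsg.Agent.Helper93.U3

section GRP

variable {F : Type*} [Field F] [Fintype F] {q : ℕ} (hF : Fintype.card F = q ^ 2)

/-- piece O6b (uses B2 of U2, O2a, O2b) -/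
theorem lElO_val {n m : ℕ} (fr : FrameO hF n m) (E : Matrix (Fin m) (Fin m) F) (hE : E * E = 0) :
    (((lElO hF fr E : ↥(Cfsg.SU n F q)) : Matrix.SpecialLinearGroup (Fin n) F) :
      Matrix (Fin n) (Fin n) F) = lMatO hF fr E :=
  h16_lElO_val_of hF fr E (Cfsg.Agent.Helper10.U3.lMatO_det hF fr E hE)
    (Cfsg.Agent.Helper40.U3.lMatO_unitary hF fr E hE)

end GRP

end Cfsg.Agent.Helper16.U3
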