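import Mathlib
import Cfsg.Agent.Lib.Helper93.U30
import Cfsg.Agent.Lib.Helper16.U3O6Core
import Cfsg.Agent.Lib.Helper70.U3T1
import Cfsg.Agent.Lib.Helper70.U3T2

/-!
# U3 project (S2334), piece O6d
-/

set_option autoImplicit false

namespace Cfsg.Agent.Helper16.U3

open Matrix Cfsg.Agent.Helper13 Cfsg.Agent.Helper93.U2 Cfsg.Agent.Helper93.U3

section GRP

variable {F : Type*} [Field F] [Fintype F] {q : ℕ} (hF : Fintype.card F = q ^ 2)

include hF in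
/-- `μ = t^q t⁻¹` has norm one -/
theorem h16_mu_norm (t : F) (ht : t ≠ 0) : (t ^ q * t⁻¹) ^ q * (t ^ q * t⁻¹) = 1 := by
  have hqq : t ^ q ^ 2 = t := by
    rw [← hF]
    exact FiniteField.pow_card t
  have h1 : (t ^ q) ^ q = t := by
    rw [← pow_mul, ← sq]
    exact hqq
  rw [mul_pow, h1, inv_pow]
  have htq : t ^ q ≠ 0 := pow_ne_zero _ ht
  field_simp

/-- piece O6d (uses B2 of U2, T1, T2) -/
theorem hEl_val {n : ℕ} (fr : FrameO hF n 1) (t : F) (ht : t ≠ 0) :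
    (((hEl hF fr t (t ^ q * t⁻¹) : ↥(Cfsg.SU n F q)) : Matrix.SpecialLinearGroup (Fin n) F) :
      Matrix (Fin n) (Fin n) F) = hMat hF fr t (t ^ q * t⁻¹) :=
  h16_hEl_val_of hF fr t (t ^ q * t⁻¹) (Cfsg.Agent.Helper70.U3.hMat_det hF fr t ht)
    (Cfsg.Agent.Helper70.U3.hMat_unitary hF fr t (t ^ q * t⁻¹) ht (h16_mu_norm hF t ht))

end GRP

end Cfsg.Agent.Helper16.U3
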