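import Mathlib
import Cfsg.Agent.Lib.Helper93.U30
import Cfsg.Agent.Lib.Helper16.U3O6Core
import Cfsg.Agent.Lib.Helper16.U3O6b
import Cfsg.Agent.Lib.Helper16.U3O6e
import Cfsg.Agent.Lib.Helper40.U3O3

/-!
# U3 project (S2334), piece O6g
-/

set_option autoImplicit false

namespace Cfsg.Agent.Helper16.U3

open Matrix Cfsg.Agent.Helper13 Cfsg.Agent.Helper93.U2 Cfsg.Agent.Helper93.U3

section GRP

variable {F : Type*} [Field F] [Fintype F] {q : ℕ} (hF : Fintype.card F = q ^ 2)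

/-- piece O6g (uses O6a, O6b, O3) -/
theorem lElO_conj {n m : ℕ} (fr : FrameO hF n m) (ε : F) (hε : ε ^ q = -ε)
    (E : Matrix (Fin m) (Fin m) F) (hE : E * E = 0) (a : ↥(hermSub hF m)) :
    (lElO hF fr E * aElO hF fr ε a * (lElO hF fr E)⁻¹ : ↥(Cfsg.SU n F q)) =
      aElO hF fr ε (congH hF (1 + E) a) :=
  h16_lElO_conj_of hF fr ε E (h16_aElO_val hF fr ε hε) (lElO_val hF fr E hE)
    (fun H => Cfsg.Agent.Helper40.U3.lMatO_mul_aMatO hF fr ε E H hE) a

end GRP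

end Cfsg.Agent.Helper16.U3
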