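import Mathlib
import Cfsg.Agent.Lib.Helper93.U30
import Cfsg.Agent.Lib.Helper16.U3O6Core
import Cfsg.Agent.Lib.Helper16.U3O6d
import Cfsg.Agent.Lib.Helper16.U3O6e
import Cfsg.Agent.Lib.Helper70.U3T3

/-!
# U3 project (S2334), piece O6j
-/

set_option autoImplicit false

namespace Cfsg.Agent.Helper16.U3

open Matrix Cfsg.Agent.Helper13 Cfsg.Agent.Helper93.U2 Cfsg.Agent.Helper93.U3

section GRP

variable {F : Type*} [Field F] [Fintype F] {q : ℕ} (hF : Fintype.card F = q ^ 2)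

/-- piece O6j (uses O6a, O6d, T3) -/
theorem hEl_conj {n : ℕ} (fr : FrameO hF n 1) (ε : F) (hε : ε ^ q = -ε) (t : F) (ht : t ≠ 0)
    (a : ↥(hermSub hF 1)) :
    (hEl hF fr t (t ^ q * t⁻¹) * aElO hF fr ε a * (hEl hF fr t (t ^ q * t⁻¹))⁻¹ :
      ↥(Cfsg.SU n F q)) = aElO hF fr ε (congH hF (t • (1 : Matrix (Fin 1) (Fin 1) F)) a) :=
  h16_hEl_conj_of hF fr ε t (t ^ q * t⁻¹) (h16_aElO_val hF fr ε hε) (hEl_val hF fr t ht)
    (fun H => Cfsg.Agent.Helper70.U3.hMat_mul_aMatO hF fr t (t ^ q * t⁻¹) ε ht H) a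

end GRP

end Cfsg.Agent.Helper16.U3
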