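import Cfsg.Agent.Lib.Helper93.USfA

set_option autoImplicit false
set_option linter.unusedSectionVars false
set_option linter.unusedVariables false
set_option linter.unusedSimpArgs false

/-!
# A subfield containing the fixed points of `σ` in `F₀` and one more fixed point
contains every fixed point of `σ` (piece P1 for helper93's unitary subfield row).
-/

namespace Cfsg.Agent.Helper16.USfP1

open Cfsg.Agent.Helper93.SubfL.USf

open Cfsg.Agent.Helper93.SubfL.SpSf (subfield_top_of)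

section P1

variable {F : Type*} [Field F] {σ : F ≃+* F}

/-- the subfield `k^σ + μ₀ k^σ` -/
def khat (σ : F ≃+* F) (k : Subfield F) (μ₀ : F) (hinv : ∀ a : F, σ (σ a) = a)
    (hτ : μ₀ + σ μ₀ ∈ k) (hν : μ₀ * σ μ₀ ∈ k) : Subfield F where
  carrier := {x | ∃ a b : F, a ∈ k ∧ b ∈ k ∧ σ a = a ∧ σ b = b ∧ x = a + μ₀ * b}
  mul_mem' := by
    rintro x y ⟨a, b, ha, hb, hσa, hσb, rfl⟩ ⟨a', b', ha', hb', hσa', hσb', rfl⟩
    have hστ : σ (μ₀ + σ μ₀) = μ₀ + σ μ₀ := by rw [map_add, hinv]; ring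
    have hσν : σ (μ₀ * σ μ₀) = μ₀ * σ μ₀ := by rw [map_mul, hinv]; ring
    refine ⟨a * a' - (μ₀ * σ μ₀) * (b * b'), a * b' + a' * b + (μ₀ + σ μ₀) * (b * b'),
      k.sub_mem (k.mul_mem ha ha') (k.mul_mem hν (k.mul_mem hb hb')),
      k.add_mem (k.add_mem (k.mul_mem ha hb') (k.mul_mem ha' hb))
        (k.mul_mem hτ (k.mul_mem hb hb')), ?_, ?_, ?_⟩
    · simp only [map_sub, map_add, map_mul, hinv, hσa, hσa', hσb, hσb']
      ring
    · simp only [map_sub, map_add, map_mul, hinv, hσa, hσa', hσb, hσb']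
      ring
    · ring
  one_mem' := ⟨1, 0, k.one_mem, k.zero_mem, map_one σ, map_zero σ, by ring⟩
  add_mem' := by
    rintro x y ⟨a, b, ha, hb, hσa, hσb, rfl⟩ ⟨a', b', ha', hb', hσa', hσb', rfl⟩
    refine ⟨a + a', b + b', k.add_mem ha ha', k.add_mem hb hb', ?_, ?_, by ring⟩
    · rw [map_add, hσa, hσa']
    · rw [map_add, hσb, hσb']
  zero_mem' := ⟨0, 0, k.zero_mem, k.zero_mem, map_zero σ, map_zero σ, by ring⟩
  neg_mem' := by
    rintro x ⟨a, b, ha, hb, hσa, hσb, rfl⟩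
    refine ⟨-a, -b, k.neg_mem ha, k.neg_mem hb, ?_, ?_, by ring⟩
    · rw [map_neg, hσa]
    · rw [map_neg, hσb]
  inv_mem' := by
    rintro x ⟨a, b, ha, hb, hσa, hσb, rfl⟩
    have hστ : σ (μ₀ + σ μ₀) = μ₀ + σ μ₀ := by rw [map_add, hinv]; ring
    have hσν : σ (μ₀ * σ μ₀) = μ₀ * σ μ₀ := by rw [map_mul, hinv]; ring
    by_cases hx : a + μ₀ * b = 0
    · rw [hx, inv_zero]
      exact ⟨0, 0, k.zero_mem, k.zero_mem, map_zero σ, map_zero σ, by ring⟩
    · -- the norm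
      have hσx : σ (a + μ₀ * b) = a + σ μ₀ * b := by rw [map_add, map_mul, hσa, hσb]
      have hσx0 : a + σ μ₀ * b ≠ 0 := by
        rw [← hσx]
        intro h
        apply hx
        have := congrArg σ h
        rwa [hinv, map_zero] at this
      set D : F := a * a + (μ₀ + σ μ₀) * (a * b) + (μ₀ * σ μ₀) * (b * b) with hD
      have hDeq : D = (a + μ₀ * b) * (a + σ μ₀ * b) := by rw [hD]; ring
      have hD0 : D ≠ 0 := by rw [hDeq]; exact mul_ne_zero hx hσx0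
      have hDk : D ∈ k :=
        k.add_mem (k.add_mem (k.mul_mem ha ha) (k.mul_mem hτ (k.mul_mem ha hb)))
          (k.mul_mem hν (k.mul_mem hb hb))
      have hσD : σ D = D := by
        rw [hD]
        simp only [map_sub, map_add, map_mul, hinv, hσa, hσb]
        ring
      refine ⟨(a + (μ₀ + σ μ₀) * b) / D, (-b) / D,
        k.div_mem (k.add_mem ha (k.mul_mem hτ hb)) hDk, k.div_mem (k.neg_mem hb) hDk, ?_, ?_, ?_⟩
      · rw [map_div₀, hσD]
        congr 1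
        simp only [map_sub, map_add, map_mul, hinv, hσa, hσb]
        ring
      · rw [map_div₀, map_neg, hσb, hσD]
      · rw [inv_eq_iff_eq_inv, ← one_div, eq_div_iff]
        · field_simp
          rw [hDeq]
          ring
        · intro h
          have h1 : (a + (μ₀ + σ μ₀) * b) / D + μ₀ * (-b / D) = (a + σ μ₀ * b) / D := by
            field_simp
            ring
          rw [h1, div_eq_zero_iff] at h
          rcases h with h | h
          · exact hσx0 h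
          · exact hD0 h

theorem mem_khat (k : Subfield F) (μ₀ : F) (hinv : ∀ a : F, σ (σ a) = a)
    (hτ : μ₀ + σ μ₀ ∈ k) (hν : μ₀ * σ μ₀ ∈ k) (x : F) :
    x ∈ khat σ k μ₀ hinv hτ hν ↔
      ∃ a b : F, a ∈ k ∧ b ∈ k ∧ σ a = a ∧ σ b = b ∧ x = a + μ₀ * b := Iff.rfl

end P1

theorem fix_le_of {F : Type*} [Field F] [Fintype F] {σ : F ≃+* F} {F₀ : Subfield F}
    (hst : SigSt σ F₀) {r : ℕ} (hr : r.Prime) (hcard : Fintype.card F = Nat.card F₀ ^ r)
    (k : Subfield F) (hk : ∀ x ∈ F₀, σ x = x → x ∈ k) {ζ : F} (hζk : ζ ∈ k) (hζσ : σ ζ = ζ)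
    (hζ : ζ ∉ F₀) : ∀ z : F, σ z = z → z ∈ k := by
  obtain ⟨μ₀, hμ, hne⟩ := hst.mov
  have hτ : μ₀ + σ μ₀ ∈ k := by
    apply hk _ (F₀.add_mem hμ (hst.stab _ hμ))
    rw [map_add, hst.inv]; ring
  have hν : μ₀ * σ μ₀ ∈ k := by
    apply hk _ (F₀.mul_mem hμ (hst.stab _ hμ))
    rw [map_mul, hst.inv]; ring
  have hle : ∀ c ∈ F₀, c ∈ khat σ k μ₀ hst.inv hτ hν := by
    intro c hc
    obtain ⟨a, b, hσa, hσb, hx, hF⟩ := hst.decomp hne c
    obtain ⟨haF, hbF⟩ := hF hμ hc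
    exact ⟨a, b, hk a haF hσa, hk b hbF hσb, hσa, hσb, hx⟩
  have hζh : ζ ∈ khat σ k μ₀ hst.inv hτ hν :=
    ⟨ζ, 0, hζk, k.zero_mem, hζσ, map_zero σ, by ring⟩
  have htop := subfield_top_of hr hcard (khat σ k μ₀ hst.inv hτ hν) hle hζh hζ
  intro z hz
  obtain ⟨a, b, ha, hb, hσa, hσb, hzab⟩ := htop z
  have h1 : σ z = a + σ μ₀ * b := by rw [hzab, map_add, map_mul, hσa, hσb]
  have h2 : (μ₀ - σ μ₀) * b = 0 := by
    have : a + μ₀ * b = a + σ μ₀ * b := by rw [← hzab, ← h1, hz]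
    linear_combination this
  have hd : μ₀ - σ μ₀ ≠ 0 := sub_ne_zero.2 (Ne.symm hne)
  have hb0 : b = 0 := by
    rcases mul_eq_zero.mp h2 with h | h
    · exact absurd h hd
    · exact h
  rw [hzab, hb0, mul_zero, add_zero]
  exact ha

end Cfsg.Agent.Helper16.USfP1
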